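import Cfsg.Agent.Lib.OddOrder.Nilpotent
import Mathlib.GroupTheory.PGroup
import Mathlib.GroupTheory.SpecificGroups.Cyclic
import Mathlib.RingTheory.ZMod.UnitsCyclic
import Mathlib.Algebra.Field.ZMod
import Mathlib.Tactic.NormNum.Prime

/-!
Prime-power groups all whose abelian subgroups are cyclic, and their automorphisms of large prime-power order.
-/

set_option autoImplicit false
set_option linter.style.haveILetI false

namespace Cfsg.Agent.AbCyc

/-- All abelian subgroups are cyclic. -/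
def AbCyclic (G : Type*) [Group G] : Prop := ∀ A : Subgroup G, IsMulCommutative A → IsCyclic A

variable {G : Type*} [Group G]

lemma AbCyclic.subgroup (h : AbCyclic G) (H : Subgroup G) : AbCyclic H := by
  intro A hA
  haveI : IsMulCommutative (A.map H.subtype) := by
    refine ⟨⟨fun a b => Subtype.ext ?_⟩⟩
    obtain ⟨x, hx, ha⟩ := a.2
    obtain ⟨y, hy, hb⟩ := b.2
    change (a : G) * b = b * a
    rw [← ha, ← hb, ← map_mul, ← map_mul]
    exact congrArg _ (congrArg Subtype.val (mul_comm' (⟨x, hx⟩ : A) ⟨y, hy⟩))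
  have := h (A.map H.subtype) inferInstance
  exact (A.equivMapOfInjective H.subtype H.subtype_injective).symm.isCyclic.1 this

lemma mem_zpowers_of_commute [Finite G] (h : AbCyclic G) {a b : G} (hab : Commute a b) {r : ℕ}
    (hr : r.Prime) (ha : orderOf a = r) (hb : orderOf b = r) : b ∈ Subgroup.zpowers a := by
  set A := Subgroup.closure ({a, b} : Set G)
  have hA : IsMulCommutative A := by
    refine Subgroup.isMulCommutative_closure ?_
    rintro x (rfl | rfl) y (rfl | rfl)
    · rfl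
    · exact hab.eq
    · exact hab.eq.symm
    · rfl
  haveI := h A hA
  let a' : A := ⟨a, Subgroup.subset_closure (Set.mem_insert _ _)⟩
  let b' : A := ⟨b, Subgroup.subset_closure (Set.mem_insert_of_mem _ rfl)⟩
  have e : b' ∈ Subgroup.zpowers a' := by
    classical
    haveI : Fintype A := Fintype.ofFinite A
    have ha' : orderOf a' = r := (Subgroup.orderOf_coe a').symm.trans ha
    have hb' : orderOf b' = r := (Subgroup.orderOf_coe b').symm.trans hb
    have heq : (Finset.univ.filter fun x : A => x ∈ Subgroup.zpowers a') =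
        Finset.univ.filter fun x : A => x ^ r = 1 := by
      refine Finset.eq_of_subset_of_card_le (fun x hx => ?_) ?_
      · simp only [Finset.mem_filter, Finset.mem_univ, true_and] at hx ⊢
        exact orderOf_dvd_iff_pow_eq_one.1 (ha' ▸ orderOf_dvd_of_mem_zpowers hx)
      · refine (IsCyclic.card_pow_eq_one_le hr.pos).trans_eq ?_
        rw [← Fintype.card_subtype, ← Nat.card_eq_fintype_card, ← ha', ← Nat.card_zpowers a']
    have := (Finset.ext_iff.1 heq b').2 (by simp [← hb', pow_orderOf_eq_one])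
    simpa using this
  obtain ⟨k, hk⟩ := Subgroup.mem_zpowers_iff.1 e
  exact ⟨k, by simpa [a', b'] using congrArg Subtype.val hk⟩

lemma conj_pow_exp {a g : G} {i : ℕ} (h : g * a * g⁻¹ = a ^ i) (m : ℕ) :
    g ^ m * a * (g ^ m)⁻¹ = a ^ (i ^ m) := by
  induction m with
  | zero => simp
  | succ m ih =>
    rw [pow_succ', show g * g ^ m * a * (g * g ^ m)⁻¹ = g * (g ^ m * a * (g ^ m)⁻¹) * g⁻¹ by group,
      ih, ← conj_pow, h, ← pow_mul, pow_succ', mul_comm]

lemma mul_pow_exp {a g : G} {i : ℕ} (h : g * a * g⁻¹ = a ^ i) (k m : ℕ) :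
    (g * a ^ k) ^ m = a ^ (k * ∑ t ∈ Finset.range m, i ^ (t + 1)) * g ^ m := by
  induction m with
  | zero => simp
  | succ m ih =>
    rw [pow_succ (g * a ^ k) m, ih, Finset.sum_range_succ, Nat.mul_add k, pow_add a]
    have h1 : g ^ (m + 1) * a ^ k = a ^ (k * i ^ (m + 1)) * g ^ (m + 1) := by
      rw [mul_comm k, pow_mul, ← conj_pow_exp h (m + 1), conj_pow]
      group
    calc a ^ (k * ∑ t ∈ Finset.range m, i ^ (t + 1)) * g ^ m * (g * a ^ k)
        = a ^ (k * ∑ t ∈ Finset.range m, i ^ (t + 1)) * (g ^ (m + 1) * a ^ k) := by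
          rw [pow_succ]; group
      _ = _ := by rw [h1, mul_assoc]

lemma exists_exp [Finite G] {A : Subgroup G} [A.Normal] {a : G} (ha : Subgroup.zpowers a = A) (g : G) :
    ∃ i : ℕ, i < orderOf a ∧ g * a * g⁻¹ = a ^ i := by
  have hm : g * a * g⁻¹ ∈ A := ‹A.Normal›.conj_mem a (ha ▸ Subgroup.mem_zpowers a) g
  rw [← ha] at hm
  obtain ⟨i, hi⟩ := mem_powers_iff_mem_zpowers.2 hm
  exact ⟨i % orderOf a, Nat.mod_lt _ (orderOf_pos a), by rw [pow_mod_orderOf]; exact hi.symm⟩

lemma exp_pow_eq_one {a g : G} {i m N : ℕ} (hN : orderOf a = N) (h : g * a * g⁻¹ = a ^ i)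
    (hm : g ^ m * a = a * g ^ m) : (i : ZMod N) ^ m = 1 := by
  have := conj_pow_exp h m
  rw [hm, mul_inv_cancel_right] at this
  have h' : a ^ 1 = a ^ (i ^ m) := by rw [pow_one]; exact this
  rw [pow_inj_mod, hN, ← ZMod.natCast_eq_natCast_iff'] at h'
  push_cast at h'
  exact h'.symm

lemma commute_pow_of_exp {a g : G} {i M N : ℕ} (hN : orderOf a = N) (h : g * a * g⁻¹ = a ^ i)
    (hM : (i : ZMod N) * M = M) : Commute g (a ^ M) := by
  have h1 : g * a ^ M * g⁻¹ = a ^ M := by
    rw [← conj_pow, h, ← pow_mul, pow_inj_mod, hN, ← ZMod.natCast_eq_natCast_iff', Nat.cast_mul, hM]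
  exact mul_inv_eq_iff_eq_mul.1 h1

/-- Odd primes: the group is cyclic. -/
lemma odd_case [Finite G] (hab : AbCyclic G) {r : ℕ} [hr : Fact r.Prime] (hr2 : r ≠ 2)
    {A : Subgroup G} [A.Normal] {a : G} (ha : Subgroup.zpowers a = A) {n : ℕ} (hn : orderOf a = r ^ n)
    (hcent : Subgroup.centralizer (A : Set G) = A) {g : G} (hg : g ∉ A) (hgr : g ^ r ∈ A) : False := by
  obtain ⟨i, hiN, hi⟩ := exists_exp ha g
  have haA : a ∈ A := ha ▸ Subgroup.mem_zpowers a
  have hcom : g ^ r * a = a * g ^ r :=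
    ((Subgroup.mem_centralizer_iff.1 (hcent.symm ▸ hgr : g ^ r ∈ Subgroup.centralizer (A : Set G))) a haA).symm
  have hne : (i : ZMod (r ^ n)) ≠ 1 := by
    intro h1
    apply hg
    rw [← hcent, Subgroup.mem_centralizer_iff]
    intro x hx
    rw [← ha] at hx
    obtain ⟨k, rfl⟩ := Subgroup.mem_zpowers_iff.1 hx
    have : g * a * g⁻¹ = a := by
      rw [hi]
      conv_rhs => rw [← pow_one a]
      rw [pow_inj_mod, hn, ← ZMod.natCast_eq_natCast_iff', h1, Nat.cast_one]
    exact ((show Commute g a from mul_inv_eq_iff_eq_mul.1 this).zpow_right k).eq.symm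
  have hir := exp_pow_eq_one hn hi hcom
  obtain ⟨n, rfl⟩ : ∃ m, n = m + 2 := by
    refine ⟨n - 2, ?_⟩
    by_contra hlt
    rcases (show n = 0 ∨ n = 1 by omega) with rfl | rfl
    · haveI : Subsingleton (ZMod (r ^ 0)) := by rw [pow_zero]; infer_instance
      exact hne (Subsingleton.elim _ _)
    · apply hne
      have h' : ((i : ZMod r)) ^ r = 1 := by
        rw [pow_one] at hir; exact hir
      rw [ZMod.pow_card] at h'
      rw [pow_one]; exact h'
  set N := r ^ (n + 2) with hNdef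
  set M := r ^ (n + 1) with hMdef
  have hNM : N = r * M := by rw [hNdef, hMdef, pow_succ', ]
  have hM2 : ((M : ZMod N)) * M = 0 := by
    rw [← Nat.cast_mul, ZMod.natCast_eq_zero_iff, hNdef, hMdef, ← pow_add]
    exact pow_dvd_pow r (by omega)
  have hrM : (r : ZMod N) * M = 0 := by rw [← Nat.cast_mul, ← hNM, ZMod.natCast_self]
  have hpowj : ∀ j t : ℕ, ((1 : ZMod N) + j * M) ^ t = 1 + t * j * M := by
    intro j t
    induction t with
    | zero => simp
    | succ t ih =>
      rw [pow_succ, ih]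
      push_cast
      linear_combination (t : ZMod N) * (j : ZMod N) * (j : ZMod N) * hM2
  haveI : NeZero N := ⟨(pow_pos hr.out.pos _).ne'⟩
  obtain ⟨j, hjr, hj⟩ : ∃ j < r, (i : ZMod N) = 1 + j * M := by
    classical
    haveI : IsCyclic (ZMod N)ˣ := ZMod.isCyclic_units_of_prime_pow r hr.out hr2 (n + 2)
    have hone : ∀ j : ℕ, ((1 : ZMod N) + j * M) ^ r = 1 := fun j => by
      rw [hpowj]; linear_combination (j : ZMod N) * hrM
    let f : Fin r → (ZMod N)ˣ := fun j =>
      Units.ofPowEqOne _ r (hone j.1) hr.out.ne_zero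
    have hf : Function.Injective f := by
      intro x y hxy
      have := congrArg Units.val hxy
      simp only [f, Units.val_ofPowEqOne] at this
      have h2 : ((x.1 * M : ℕ) : ZMod N) = ((y.1 * M : ℕ) : ZMod N) := by push_cast; exact add_left_cancel this
      rw [ZMod.natCast_eq_natCast_iff', hNM, Nat.mul_mod_mul_right, Nat.mul_mod_mul_right,
        Nat.mod_eq_of_lt x.2, Nat.mod_eq_of_lt y.2] at h2
      exact Fin.ext (Nat.eq_of_mul_eq_mul_right (pow_pos hr.out.pos _) h2)
    let u : (ZMod N)ˣ := Units.ofPowEqOne _ r hir hr.out.ne_zero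
    have hmem : ∀ j, f j ∈ (Finset.univ.filter fun v : (ZMod N)ˣ => v ^ r = 1) := fun j => by
      simp only [Finset.mem_filter, Finset.mem_univ, true_and, f, Units.pow_ofPowEqOne]
    have heq : (Finset.univ.image f) = Finset.univ.filter fun v : (ZMod N)ˣ => v ^ r = 1 := by
      refine Finset.eq_of_subset_of_card_le (fun v hv => ?_) ?_
      · obtain ⟨j, -, rfl⟩ := Finset.mem_image.1 hv; exact hmem j
      · rw [Finset.card_image_of_injective _ hf, Finset.card_univ, Fintype.card_fin]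
        exact IsCyclic.card_pow_eq_one_le hr.out.pos
    have : u ∈ Finset.univ.image f := by
      rw [heq]; simp only [Finset.mem_filter, Finset.mem_univ, true_and, u, Units.pow_ofPowEqOne]
    obtain ⟨j, -, hju⟩ := Finset.mem_image.1 this
    refine ⟨j, j.2, ?_⟩
    have := congrArg Units.val hju
    simpa [f, u, eq_comm] using this
  obtain ⟨l, hlN, hl⟩ : ∃ l < N, g ^ r = a ^ l := by
    rw [← ha] at hgr
    obtain ⟨l, hl⟩ := mem_powers_iff_mem_zpowers.2 hgr
    exact ⟨l % N, Nat.mod_lt _ (pow_pos hr.out.pos _), by rw [← hn, pow_mod_orderOf]; exact hl.symm⟩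
  obtain ⟨l', rfl⟩ : r ∣ l := by
    have h1 : g * (g ^ r) * g⁻¹ = g ^ r := by group
    rw [hl, ← conj_pow, hi, ← pow_mul, pow_inj_mod, hn, ← ZMod.natCast_eq_natCast_iff', Nat.cast_mul, hj] at h1
    have h2 : ((j * l * M : ℕ) : ZMod N) = 0 := by push_cast; linear_combination h1
    rw [ZMod.natCast_eq_zero_iff, hNM] at h2
    rcases hr.out.dvd_mul.1 ((Nat.mul_dvd_mul_iff_right (pow_pos hr.out.pos _)).1 h2) with h | h
    · have := Nat.eq_zero_of_dvd_of_lt h hjr
      subst this
      exact absurd (by rw [hj]; simp) hne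
    · exact h
  set k := N - l' with hk
  have hsum : ((∑ t ∈ Finset.range r, i ^ (t + 1) : ℕ) : ZMod N) = r := by
    push_cast
    simp_rw [hj, hpowj]
    rw [Finset.sum_add_distrib, Finset.sum_const, Finset.card_range, nsmul_eq_mul, mul_one,
      ← Finset.sum_mul, ← Finset.sum_mul]
    suffices ((∑ t ∈ Finset.range r, (((t + 1 : ℕ)) : ZMod N)) * (M : ZMod N)) = 0 by
      linear_combination (j : ZMod N) * this
    rw [← Nat.cast_sum, ← Nat.cast_mul, ZMod.natCast_eq_zero_iff, hNM]
    refine mul_dvd_mul_right ?_ _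
    have hs : (∑ t ∈ Finset.range r, (t + 1)) * 2 = r * (r + 1) := by
      have := Finset.sum_range_id_mul_two (r + 1)
      rw [Finset.sum_range_succ'] at this
      simpa [mul_comm, add_comm] using this
    refine ((Nat.coprime_primes hr.out Nat.prime_two).2 hr2).dvd_of_dvd_mul_right ?_
    rw [hs]; exact dvd_mul_right _ _
  have hto : (g * a ^ k) ^ r = 1 := by
    rw [mul_pow_exp hi, hl, ← pow_add, ← orderOf_dvd_iff_pow_eq_one, hn, ← ZMod.natCast_eq_zero_iff,
      Nat.cast_add, Nat.cast_mul, Nat.cast_mul, hsum]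
    have hl' : l' ≤ N := le_trans (Nat.le_mul_of_pos_left l' hr.out.pos) hlN.le
    rw [hk, Nat.cast_sub hl', ZMod.natCast_self]
    ring
  have htA : g * a ^ k ∉ A := fun h => hg (by
    simpa using A.mul_mem h (A.inv_mem (A.pow_mem haA k)))
  have hto' : orderOf (g * a ^ k) = r := orderOf_eq_prime hto fun h => htA (h ▸ A.one_mem)
  have hz : orderOf (a ^ M) = r := by
    rw [orderOf_pow_of_dvd (pow_pos hr.out.pos _).ne' (hn ▸ pow_dvd_pow r (by omega)), hn, hNM,
      Nat.mul_div_cancel _ (pow_pos hr.out.pos _)]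
  have hcz : Commute (a ^ M) (g * a ^ k) := by
    refine ((commute_pow_of_exp hn hi ?_).symm).mul_right (Commute.pow_pow_self a M k)
    rw [hj]
    linear_combination (j : ZMod N) * hM2
  have := mem_zpowers_of_commute hab hcz hr.out hz hto'
  exact htA (Subgroup.zpowers_le.2 (A.pow_mem haA M) this)

/-- The prime two: elements outside act by inversion and square to the involution. -/
lemma two_case [Finite G] (hab : AbCyclic G)
    {A : Subgroup G} [A.Normal] {a : G} (ha : Subgroup.zpowers a = A) {n : ℕ} (hn : orderOf a = 2 ^ n)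
    (hcent : Subgroup.centralizer (A : Set G) = A) {g : G} (hg : g ∉ A) (hgr : g ^ 2 ∈ A) :
    2 ≤ n ∧ g * a * g⁻¹ = a⁻¹ ∧ g ^ 2 = a ^ (2 ^ (n - 1)) := by
  obtain ⟨i, hiN, hi⟩ := exists_exp ha g
  have haA : a ∈ A := ha ▸ Subgroup.mem_zpowers a
  have hcom : g ^ 2 * a = a * g ^ 2 :=
    ((Subgroup.mem_centralizer_iff.1 (hcent.symm ▸ hgr : g ^ 2 ∈ Subgroup.centralizer (A : Set G))) a haA).symm
  have hne : i ≠ 1 % 2 ^ n := by
    intro h1
    apply hg
    rw [← hcent, Subgroup.mem_centralizer_iff]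
    intro x hx
    rw [← ha] at hx
    obtain ⟨k, rfl⟩ := Subgroup.mem_zpowers_iff.1 hx
    have : g * a * g⁻¹ = a := by
      rw [hi, h1, ← hn, pow_mod_orderOf, pow_one]
    exact ((show Commute g a from mul_inv_eq_iff_eq_mul.1 this).zpow_right k).eq.symm
  have hi2 : i * i % 2 ^ n = 1 % 2 ^ n := by
    have := exp_pow_eq_one hn hi hcom
    rw [← ZMod.natCast_eq_natCast_iff', Nat.cast_mul, Nat.cast_one, ← pow_two]
    exact this
  rw [hn] at hiN
  obtain ⟨n, rfl⟩ : ∃ m, n = m + 2 := by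
    refine ⟨n - 2, ?_⟩
    by_contra hlt
    rcases (show n = 0 ∨ n = 1 by omega) with rfl | rfl <;>
      (have : i < 2 := (by norm_num at hiN ⊢; omega); interval_cases i <;> simp_all)
  set m := 2 ^ n with hm
  have hNm : 2 ^ (n + 2) = 4 * m := by rw [hm, pow_add]; ring
  have hM : 2 ^ (n + 2 - 1) = 2 * m := by rw [show n + 2 - 1 = n + 1 by omega, pow_succ, hm]; ring
  have hm0 : 0 < m := pow_pos (by norm_num) n
  rw [hNm] at hiN hi2 hne
  rw [Nat.one_mod_eq_one.2 (by omega)] at hne hi2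
  obtain ⟨u, rfl⟩ : ∃ u, i = 2 * u + 1 := by
    rcases Nat.even_or_odd i with ⟨v, rfl⟩ | ⟨v, rfl⟩
    · exfalso
      have h := Nat.mod_add_div ((v + v) * (v + v)) (4 * m)
      rw [hi2] at h
      have : 4 ∣ (v + v) * (v + v) := ⟨v * v, by ring⟩
      obtain ⟨w, hw⟩ := this
      rw [hw, mul_assoc] at h
      omega
    · exact ⟨v, rfl⟩
  have hu : m ∣ u * (u + 1) := by
    have h := Nat.mod_add_div ((2 * u + 1) * (2 * u + 1)) (4 * m)
    rw [hi2] at h
    exact ⟨(2 * u + 1) * (2 * u + 1) / (4 * m), by nlinarith⟩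
  have hu' : m ∣ u ∨ m ∣ u + 1 := by
    rcases Nat.even_or_odd u with ⟨v, hv⟩ | ⟨v, hv⟩
    · left
      exact ((Nat.Coprime.pow_left n (Nat.prime_two.coprime_iff_not_dvd.2
        (by omega : ¬ 2 ∣ u + 1)))).dvd_of_dvd_mul_right hu
    · right
      exact ((Nat.Coprime.pow_left n (Nat.prime_two.coprime_iff_not_dvd.2
        (by omega : ¬ 2 ∣ u)))).dvd_of_dvd_mul_left hu
  obtain ⟨l, hlN, hl⟩ : ∃ l < 4 * m, g ^ 2 = a ^ l := by
    rw [← ha] at hgr
    obtain ⟨l, hl⟩ := mem_powers_iff_mem_zpowers.2 hgr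
    exact ⟨l % (4 * m), Nat.mod_lt _ (by omega), by rw [← hNm, ← hn, pow_mod_orderOf]; exact hl.symm⟩
  have hfix : (2 * u + 1) * l % (4 * m) = l % (4 * m) := by
    have h1 : g * (g ^ 2) * g⁻¹ = g ^ 2 := by group
    rw [hl, ← conj_pow, hi, ← pow_mul, pow_inj_mod, hn, hNm] at h1
    exact h1
  have hz : orderOf (a ^ (2 * m)) = 2 := by
    rw [orderOf_pow_of_dvd (by omega) (by rw [hn, hNm]; exact ⟨2, by ring⟩), hn, hNm,
      show 4 * m = 2 * (2 * m) by ring, Nat.mul_div_cancel _ (by omega)]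
  have hcg : Commute g (a ^ (2 * m)) := by
    refine commute_pow_of_exp hn hi ?_
    rw [hNm, ← Nat.cast_mul, ZMod.natCast_eq_natCast_iff',
      show (2 * u + 1) * (2 * m) = 2 * m + 4 * m * u by ring, Nat.add_mul_mod_self_left]
  have hnoinv : ∀ k, (2 * u + 1) * k + l + k ≠ 0 → ((2 * u + 1) * k + l + k) % (4 * m) = 0 → False := by
    intro k _ hk
    set t := g * a ^ k with ht
    have ht2 : t ^ 2 = 1 := by
      rw [ht, pow_two, show g * a ^ k * (g * a ^ k) = (g * a ^ k * g⁻¹) * g ^ 2 * a ^ k by group, ← conj_pow,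
        hi, ← pow_mul, hl, ← pow_add, ← pow_add, ← orderOf_dvd_iff_pow_eq_one, hn, hNm]
      exact Nat.dvd_of_mod_eq_zero hk
    have htA : t ∉ A := fun h => hg (by simpa [ht] using A.mul_mem h (A.inv_mem (A.pow_mem haA k)))
    have := mem_zpowers_of_commute hab (hcg.symm.mul_right (Commute.pow_pow_self a _ k))
      Nat.prime_two hz (orderOf_eq_prime ht2 fun h => htA (by rw [ht, h]; exact A.one_mem))
    exact htA (Subgroup.zpowers_le.2 (A.pow_mem haA _) this)
  have hl0 : l ≠ 0 := by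
    rintro rfl
    have hg2 : orderOf g = 2 := orderOf_eq_prime (by rw [hl, pow_zero]) fun h => hg (h ▸ A.one_mem)
    exact hg (Subgroup.zpowers_le.2 (A.pow_mem haA _)
      (mem_zpowers_of_commute hab hcg.symm Nat.prime_two hz hg2))
  have hcases : u = m ∨ u + 1 = m ∨ u + 1 = 2 * m := by
    rcases hu' with ⟨c, hc⟩ | ⟨c, hc⟩ <;> rcases c with _ | _ | _ | c
    all_goals first | omega | (exfalso; nlinarith)
  have hmeven : 1 < m → ∃ h, m = 2 * h := by
    intro hm1
    rcases Nat.eq_zero_or_pos n with hn0 | hn0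
    · rw [hm, hn0, pow_zero] at hm1; omega
    · exact ⟨2 ^ (n - 1), by rw [← pow_succ', hm, Nat.sub_add_cancel hn0]⟩
  rcases hcases with h | h | h
  · by_cases hm1 : m = 1
    · subst h
      rw [hm1] at hfix hlN hiN
      refine ⟨by omega, ?_, ?_⟩
      · rw [hi, eq_inv_iff_mul_eq_one, ← pow_succ, ← orderOf_dvd_iff_pow_eq_one, hn, hNm, hm1]
      · rw [hl, hM, hm1]
        congr 1
        interval_cases l <;> first | rfl | (exact absurd rfl hl0) | (norm_num at hfix)
    exfalso
    obtain ⟨h', hh'⟩ := hmeven (by omega)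
    subst h
    -- `l` is even and `m + 1` is odd
    obtain ⟨v, rfl⟩ : 2 ∣ l := by
      have h1 : (2 * m * l) % (4 * m) = 0 := by
        have e := Nat.sub_mod_eq_zero_of_mod_eq hfix
        rwa [show (2 * m + 1) * l - l = 2 * m * l by rw [add_mul, one_mul, Nat.add_sub_cancel]] at e
      obtain ⟨c, hc⟩ := Nat.dvd_of_mod_eq_zero h1
      exact ⟨c, by nlinarith⟩
    obtain ⟨k, hk⟩ : ∃ k, ((m + 1) * k + v) % (2 * m) = 0 := by
      have hcop : Nat.Coprime (m + 1) (2 * m) := by
        rw [show 2 * m = 2 ^ (n + 1) by rw [hm, pow_succ']]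
        refine Nat.Coprime.pow_right _ ?_
        rw [Nat.coprime_comm, Nat.prime_two.coprime_iff_not_dvd]
        omega
      haveI : NeZero (2 * m) := ⟨by omega⟩
      refine ⟨(-(v : ZMod (2 * m)) * ((m + 1 : ℕ) : ZMod (2 * m))⁻¹).val, ?_⟩
      rw [← Nat.dvd_iff_mod_eq_zero, ← ZMod.natCast_eq_zero_iff, Nat.cast_add, Nat.cast_mul,
        ZMod.natCast_zmod_val]
      have hu := ZMod.inv_mul_of_unit _ ((ZMod.isUnit_iff_coprime _ _).2 hcop)
      linear_combination (-(v : ZMod (2 * m))) * hu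
    refine hnoinv k (by omega) ?_
    rw [show (2 * m + 1) * k + 2 * v + k = 2 * ((m + 1) * k + v) by ring,
      show 4 * m = 2 * (2 * m) by ring, Nat.mul_mod_mul_left, hk]
  · by_cases hm1 : m = 1
    · exact absurd (by omega : 2 * u + 1 = 1) hne
    exfalso
    obtain ⟨h', hh'⟩ := hmeven (by omega)
    have hlm : l = 2 * m := by
      have h1 : (2 * u * l) % (4 * m) = 0 := by
        have e := Nat.sub_mod_eq_zero_of_mod_eq hfix
        rwa [show (2 * u + 1) * l - l = 2 * u * l by rw [add_mul, one_mul, Nat.add_sub_cancel]] at e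
      obtain ⟨c, hc⟩ := Nat.dvd_of_mod_eq_zero h1
      have h2 : 2 * m ∣ u * l := ⟨c, by nlinarith⟩
      have hcop : Nat.Coprime (2 * m) u := by
        rw [show 2 * m = 2 ^ (n + 1) by rw [hm, pow_succ']]
        refine Nat.Coprime.pow_left _ ?_
        rw [Nat.prime_two.coprime_iff_not_dvd]
        omega
      obtain ⟨d, hd⟩ := hcop.dvd_of_dvd_mul_left h2
      rcases d with _ | _ | d
      · omega
      · omega
      · nlinarith
    refine hnoinv 1 (by omega) ?_
    rw [show (2 * u + 1) * 1 + l + 1 = 4 * m by omega, Nat.mod_self]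
  · refine ⟨by omega, ?_, ?_⟩
    · rw [hi, eq_inv_iff_mul_eq_one, ← pow_succ, ← orderOf_dvd_iff_pow_eq_one, hn, hNm]
      exact ⟨1, by omega⟩
    · rw [hl, hM]
      congr 1
      have h1 : (2 * u * l) % (4 * m) = 0 := by
        have e := Nat.sub_mod_eq_zero_of_mod_eq hfix
        rwa [show (2 * u + 1) * l - l = 2 * u * l by rw [add_mul, one_mul, Nat.add_sub_cancel]] at e
      rw [show 2 * u = 4 * m - 2 by omega] at h1
      obtain ⟨c, hc⟩ := Nat.dvd_of_mod_eq_zero h1
      have h2 : 4 * m * l = 4 * m * c + 2 * l := by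
        have : (4 * m - 2) * l + 2 * l = 4 * m * l := by rw [← add_mul, Nat.sub_add_cancel (by omega)]
        rw [hc] at this
        exact this.symm
      obtain ⟨d, hd⟩ : 2 * m ∣ l := ⟨l - c, by
        have e : 4 * m * (l - c) = 2 * l := by rw [Nat.mul_sub]; omega
        have : 4 * m * (l - c) = 2 * (2 * m * (l - c)) := by ring
        omega⟩
      rcases d with _ | _ | d
      · omega
      · omega
      · nlinarith

/-- A prime-power group all whose abelian subgroups are cyclic is cyclic, or has a cyclic subgroup of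
index two outside which all elements have order four. -/
theorem structure_of_pGroup [Finite G] (hab : AbCyclic G) {r : ℕ} [hr : Fact r.Prime] (hP : IsPGroup r G) :
    IsCyclic G ∨ (r = 2 ∧ ∃ A : Subgroup G, A.Normal ∧ IsCyclic A ∧ A.index = 2 ∧
      4 ≤ Nat.card A ∧ (∀ g, g ∉ A → orderOf g = 4) ∧
      ∀ g, orderOf g = 2 → g ∈ A) := by
  classical
  haveI : Group.IsNilpotent G := hP.isNilpotent
  obtain ⟨A, hAn, hAc, hcent⟩ := Cfsg.Agent.OddOrder.Nilp.exists_normal_abelian_self_centralizing (G := G)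
  haveI := hAn
  haveI hAcyc := hab A hAc
  by_cases htop : A = ⊤
  · subst htop
    exact Or.inl (Subgroup.topEquiv.isCyclic.1 hAcyc)
  obtain ⟨a', ha'⟩ := IsCyclic.exists_generator (α := A)
  set a : G := (a' : G) with hadef
  have ha : Subgroup.zpowers a = A := by
    refine le_antisymm (Subgroup.zpowers_le.2 a'.2) fun x hx => ?_
    obtain ⟨k, hk⟩ := Subgroup.mem_zpowers_iff.1 (ha' ⟨x, hx⟩)
    exact ⟨k, by simpa [hadef] using congrArg Subtype.val hk⟩
  obtain ⟨n, hn⟩ := IsPGroup.iff_orderOf.1 hP a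
  -- some element outside has its `r`-th power inside
  have hdown : ∀ g : G, g ∉ A → ∃ j : ℕ, g ^ (r ^ j) ∉ A ∧ (g ^ (r ^ j)) ^ r ∈ A := by
    intro g hg
    have hex : ∃ j, g ^ (r ^ j) ∈ A := by
      obtain ⟨k, hk⟩ := hP g
      exact ⟨k, by rw [hk]; exact A.one_mem⟩
    have hpos : Nat.find hex ≠ 0 := by
      intro h
      have := Nat.find_spec hex
      rw [h, pow_zero, pow_one] at this
      exact hg this
    refine ⟨Nat.find hex - 1, Nat.find_min hex (by omega), ?_⟩
    rw [← pow_mul, ← pow_succ, Nat.sub_add_cancel (by omega)]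
    exact Nat.find_spec hex
  by_cases hr2 : r = 2
  swap
  · exfalso
    obtain ⟨g, hg⟩ : ∃ g, g ∉ A := by
      by_contra! h
      exact htop (eq_top_iff.2 fun x _ => h x)
    obtain ⟨j, hj1, hj2⟩ := hdown g hg
    exact odd_case hab hr2 ha hn hcent hj1 hj2
  subst hr2
  have hsq : ∀ g : G, g ∉ A → g ^ 2 ∈ A := by
    intro g hg
    by_contra hg2
    obtain ⟨j, hj1, hj2⟩ := hdown g hg
    have hj0 : j ≠ 0 := by
      rintro rfl
      rw [pow_zero, pow_one] at hj2
      exact hg2 hj2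
    obtain ⟨hn2, hinv, -⟩ := two_case hab ha hn hcent hj1 hj2
    obtain ⟨i, -, hi⟩ := exists_exp ha g
    have h1 := conj_pow_exp hi (2 ^ j)
    rw [hinv] at h1
    have h2 : a ^ (i ^ (2 ^ j) + 1) = 1 := by rw [pow_succ, ← h1, inv_mul_cancel]
    rw [← orderOf_dvd_iff_pow_eq_one, hn] at h2
    have h4 : 4 ∣ i ^ (2 ^ j) + 1 := dvd_trans (show (2 : ℕ) ^ 2 ∣ 2 ^ n from pow_dvd_pow 2 hn2) h2
    obtain ⟨w, hw⟩ : ∃ w, i ^ (2 ^ j) = w * w := by
      obtain ⟨j', rfl⟩ := Nat.exists_eq_succ_of_ne_zero hj0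
      exact ⟨i ^ (2 ^ j'), by rw [← pow_add, pow_succ, mul_two]⟩
    rw [hw] at h4
    rcases Nat.even_or_odd w with ⟨v, rfl⟩ | ⟨v, rfl⟩
    · obtain ⟨c, hc⟩ := h4
      have : (v + v) * (v + v) = 4 * (v * v) := by ring
      omega
    · obtain ⟨c, hc⟩ := h4
      have : (2 * v + 1) * (2 * v + 1) = 4 * (v * v + v) + 1 := by ring
      omega
  have hall : ∀ g : G, g ∉ A → 2 ≤ n ∧ g * a * g⁻¹ = a⁻¹ ∧ g ^ 2 = a ^ (2 ^ (n - 1)) :=
    fun g hg => two_case hab ha hn hcent hg (hsq g hg)
  obtain ⟨g₀, hg₀⟩ : ∃ g, g ∉ A := by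
    by_contra! h
    exact htop (eq_top_iff.2 fun x _ => h x)
  have hn2 := (hall g₀ hg₀).1
  have hidx : A.index = 2 := by
    rw [Subgroup.index_eq_two_iff]
    refine ⟨g₀, fun b => ?_⟩
    by_cases hb : b ∈ A
    · refine Or.inr ⟨hb, fun h => hg₀ ?_⟩
      simpa using A.mul_mem (A.inv_mem hb) h
    · refine Or.inl ⟨?_, hb⟩
      rw [← hcent, Subgroup.mem_centralizer_iff]
      intro x hx
      rw [← ha] at hx
      obtain ⟨k, rfl⟩ := Subgroup.mem_zpowers_iff.1 hx
      have h1 := (hall g₀ hg₀).2.1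
      have h2 := (hall b hb).2.1
      have : b * g₀ * a * (b * g₀)⁻¹ = a := by
        rw [show b * g₀ * a * (b * g₀)⁻¹ = b * (g₀ * a * g₀⁻¹) * b⁻¹ by group, h1,
          show b * a⁻¹ * b⁻¹ = (b * a * b⁻¹)⁻¹ by group, h2, inv_inv]
      exact ((show Commute (b * g₀) a from mul_inv_eq_iff_eq_mul.1 this).zpow_right k).eq.symm
  have hz : orderOf (a ^ (2 ^ (n - 1))) = 2 := by
    have e : (2 : ℕ) ^ n = 2 * 2 ^ (n - 1) := by rw [← pow_succ', Nat.sub_add_cancel (by omega)]
    rw [orderOf_pow_of_dvd (by positivity) (hn ▸ pow_dvd_pow 2 (Nat.sub_le n 1)), hn, e,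
      Nat.mul_div_cancel _ (by positivity)]
  refine Or.inr ⟨rfl, A, hAn, hAcyc, hidx, ?_, fun g hg => ?_, fun g hg2 => ?_⟩
  · rw [← ha, Nat.card_zpowers, hn]
    calc 4 = 2 ^ 2 := by norm_num
      _ ≤ 2 ^ n := Nat.pow_le_pow_right (by norm_num) hn2
  · haveI : Fact (Nat.Prime 2) := ⟨Nat.prime_two⟩
    refine (orderOf_eq_prime_pow (p := 2) (n := 1) ?_ ?_).trans (by norm_num)
    · rw [pow_one, (hall g hg).2.2]
      intro h
      rw [h, orderOf_one] at hz
      norm_num at hz
    · rw [pow_succ, pow_one, pow_mul, (hall g hg).2.2]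
      exact orderOf_dvd_iff_pow_eq_one.1 hz.dvd
  · by_contra hg
    have h := (hall g hg).2.2
    rw [orderOf_dvd_iff_pow_eq_one.1 hg2.dvd] at h
    rw [← h, orderOf_one] at hz
    norm_num at hz

lemma coprime_totient {r s n : ℕ} (hr : r.Prime) (hs : s.Prime) (hrs : r < s) :
    Nat.Coprime s (r ^ n).totient := by
  rw [hs.coprime_iff_not_dvd]
  intro hd
  rcases Nat.eq_zero_or_pos n with rfl | hn
  · simp only [pow_zero, Nat.totient_one, Nat.dvd_one] at hd
    exact hs.ne_one hd
  rw [Nat.totient_prime_pow hr hn] at hd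
  rcases hs.dvd_mul.1 hd with h | h
  · exact (ne_of_lt hrs) ((Nat.prime_dvd_prime_iff_eq hs hr).1 (hs.dvd_of_dvd_pow h)).symm
  · have := Nat.le_of_dvd (by have := hr.two_le; omega) h
    omega

/-- An automorphism of `s`-power order, `s ≥ 5` a prime above `r`, of an `r`-group all whose abelian subgroups
are cyclic is trivial. -/
theorem aut_trivial [Finite G] (hab : AbCyclic G) {r : ℕ} [hr : Fact r.Prime] (hP : IsPGroup r G)
    {s : ℕ} (hs : s.Prime) (hs5 : 5 ≤ s) (hrs : r < s) (σ : MulAut G) {k : ℕ} (hσ : σ ^ s ^ k = 1) :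
    σ = 1 := by
  have hcyc : ∀ (H : Type _) [Group H] [Finite H] [IsCyclic H] (m : ℕ), Nat.card H = r ^ m →
      ∀ τ : MulAut H, τ ^ s ^ k = 1 → τ = 1 := by
    intro H _ _ _ m hm τ hτ
    rw [← orderOf_eq_one_iff]
    refine Nat.eq_one_of_dvd_coprimes ((coprime_totient (n := m) hr.out hs hrs).pow_left k)
      (orderOf_dvd_of_pow_eq_one hτ) ?_
    rw [← hm, ← IsCyclic.card_mulAut]
    exact orderOf_dvd_natCard τ
  obtain ⟨m, hm⟩ := IsPGroup.iff_card.1 hP
  rcases structure_of_pGroup hab hP with hc | ⟨rfl, A, hAn, hAc, hidx, hA4, hout, hinv⟩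
  · haveI := hc
    exact hcyc G m hm σ hσ
  haveI : Fact s.Prime := ⟨hs⟩
  have hcardA := Subgroup.card_mul_index A
  rw [hidx] at hcardA
  by_cases hbig : 4 < Nat.card A
  · -- `A` is invariant
    obtain ⟨a', ha'⟩ := IsCyclic.exists_generator (α := A)
    have hao : orderOf (a' : G) = Nat.card A := by
      rw [Subgroup.orderOf_coe, orderOf_eq_card_of_forall_mem_zpowers ha']
    have hσA : ∀ x : G, x ∈ A → σ x ∈ A := by
      have h0 : σ (a' : G) ∈ A := by
        by_contra h
        have := hout _ h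
        rw [MulEquiv.orderOf_eq, hao] at this
        omega
      intro x hx
      obtain ⟨j, hj⟩ := Subgroup.mem_zpowers_iff.1 (ha' ⟨x, hx⟩)
      have : x = (a' : G) ^ j := by rw [← Subgroup.coe_zpow, hj]
      rw [this, map_zpow]
      exact A.zpow_mem h0 j
    let τ : MulAut A := MulEquiv.ofBijective
      ((σ.toMonoidHom.comp A.subtype).codRestrict A fun x => hσA x x.2)
      (Finite.injective_iff_bijective.1 fun x y h => Subtype.ext (σ.injective (congrArg Subtype.val h)))
    have hτn : ∀ (j : ℕ) (x : A), (((τ ^ j) x : A) : G) = (σ ^ j) (x : G) := by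
      intro j
      induction j with
      | zero => intro x; rfl
      | succ j ih =>
        intro x
        rw [pow_succ', pow_succ', MulAut.mul_apply, MulAut.mul_apply, ← ih]
        rfl
    have hτ : τ = 1 := by
      obtain ⟨mA, -, hmA⟩ := (Nat.dvd_prime_pow hr.out).1 (hm ▸ A.card_subgroup_dvd_card)
      refine hcyc A mA hmA τ (MulEquiv.ext fun x => Subtype.ext ?_)
      rw [hτn, hσ]; rfl
    have hfixA : ∀ x ∈ A, σ x = x := fun x hx =>
      congrArg Subtype.val (DFunLike.congr_fun hτ (⟨x, hx⟩ : A))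
    ext g
    by_cases hg : g ∈ A
    · exact hfixA g hg
    have hσg : σ g ∉ A := fun h => hg (by
      have h2 := hfixA _ h
      rw [σ.injective h2] at h
      exact h)
    have hb : g⁻¹ * σ g ∈ A := by
      rw [Subgroup.mul_mem_iff_of_index_two hidx]
      exact iff_of_false (fun h => hg (by simpa using A.inv_mem h)) hσg
    have hpow : ∀ j : ℕ, (σ ^ j) g = g * (g⁻¹ * σ g) ^ j := by
      intro j
      induction j with
      | zero => simp
      | succ j ih =>
        rw [pow_succ' σ, MulAut.mul_apply, ih, map_mul, hfixA _ (A.pow_mem hb j), pow_succ', ← mul_assoc,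
          ← mul_assoc, mul_inv_cancel, one_mul]
    have h1 := hpow (s ^ k)
    rw [hσ, MulAut.one_apply, eq_comm, mul_eq_left] at h1
    obtain ⟨j, hj⟩ := hP (g⁻¹ * σ g)
    have h2 : g⁻¹ * σ g = 1 := orderOf_eq_one_iff.1 (Nat.eq_one_of_dvd_coprimes
      (((Nat.coprime_primes hs Nat.prime_two).2 (by omega)).pow k j)
      (orderOf_dvd_of_pow_eq_one h1) (orderOf_dvd_of_pow_eq_one hj))
    rw [MulAut.one_apply]
    exact (inv_mul_eq_one.1 h2).symm
  · -- eight elements
    have hG8 : Nat.card G = 8 := by omega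
    let F : Subgroup G :=
      { carrier := {g | σ g = g}
        one_mem' := map_one σ
        mul_mem' := fun {x y} (hx : σ x = x) (hy : σ y = y) => show σ (x * y) = x * y by rw [map_mul, hx, hy]
        inv_mem' := fun {x} (hx : σ x = x) => show σ x⁻¹ = x⁻¹ by rw [map_inv, hx] }
    have hSp : IsPGroup s (Subgroup.zpowers σ) := by
      obtain ⟨j, -, hj⟩ := (Nat.dvd_prime_pow hs).1 (orderOf_dvd_of_pow_eq_one hσ)
      exact IsPGroup.of_card (n := j) (by rw [Nat.card_zpowers, hj])
    have hmod := hSp.card_modEq_card_fixedPoints G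
    have hF : Nat.card (MulAction.fixedPoints (Subgroup.zpowers σ) G) = Nat.card F := by
      refine Nat.card_congr (Equiv.subtypeEquivRight fun g => ⟨fun h => h ⟨σ, Subgroup.mem_zpowers σ⟩, ?_⟩)
      intro h τ
      have : σ ∈ MulAction.stabilizer (MulAut G) g := h
      exact (Subgroup.zpowers_le.2 this) τ.2
    rw [hG8, hF] at hmod
    obtain ⟨t, ht⟩ := exists_prime_orderOf_dvd_card' (G := G) 2 (by rw [hG8]; norm_num)
    obtain ⟨t', ht'⟩ := exists_prime_orderOf_dvd_card' (G := A) 2 (by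
      rw [show Nat.card A = 4 by omega]; norm_num)
    have htA : t ∈ A := hinv t ht
    have htfix : σ t = t := by
      have h1 : σ t ∈ A := hinv _ ((MulEquiv.orderOf_eq σ t).trans ht)
      have hc : Commute t (σ t) := by
        obtain ⟨a', ha'⟩ := IsCyclic.exists_generator (α := A)
        obtain ⟨i, hi⟩ := Subgroup.mem_zpowers_iff.1 (ha' ⟨t, htA⟩)
        obtain ⟨j, hj⟩ := Subgroup.mem_zpowers_iff.1 (ha' ⟨σ t, h1⟩)
        have := ((Commute.refl a').zpow_zpow i j).eq
        rw [hi, hj] at this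
        exact congrArg Subtype.val this
      have := mem_zpowers_of_commute hab hc Nat.prime_two ht ((MulEquiv.orderOf_eq σ t).trans ht)
      obtain ⟨i, hi⟩ := mem_powers_iff_mem_zpowers.2 this
      simp only at hi
      rw [← hi, ← pow_mod_orderOf, ht]
      rcases Nat.mod_two_eq_zero_or_one i with h | h
      · exfalso
        rw [← pow_mod_orderOf, ht, h, pow_zero, eq_comm, MulEquiv.map_eq_one_iff] at hi
        rw [hi, orderOf_one] at ht
        norm_num at ht
      · rw [h, pow_one]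
    have h2F : 2 ∣ Nat.card F := ht ▸ Subgroup.orderOf_dvd_natCard F htfix
    have hFd : Nat.card F ∣ 8 := hG8 ▸ F.card_subgroup_dvd_card
    have hF8 : Nat.card F = 8 := by
      have hle := Nat.le_of_dvd (by norm_num) hFd
      have hd := (Nat.modEq_iff_dvd' hle).1 hmod.symm
      interval_cases hc : Nat.card F
      all_goals first
        | rfl
        | (norm_num at hFd; done)
        | (norm_num at h2F; done)
        | (exfalso; have := Nat.le_of_dvd (by norm_num) hd; revert hd hs; interval_cases s <;> norm_num)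
    have := Subgroup.eq_top_of_card_eq F (hF8.trans hG8.symm)
    ext g
    exact (this ▸ Subgroup.mem_top g : g ∈ F)

end Cfsg.Agent.AbCyc
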