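import Cfsg.Agent.Lib.Char.FrobeniusKernel
import Cfsg.Agent.Lib.PLocal.FixedPointFree
import Cfsg.Agent.Lib.Solvable.Fitting
import Cfsg.Agent.Lib.Solvable.Coprime
import Cfsg.Agent.Lib.FGStruct.AbelianCyclic

/-!
Basic data of a Frobenius group (kernel, complement), derived without further hypotheses.
-/

set_option autoImplicit false
set_option linter.style.haveILetI false

namespace Cfsg.Agent.FrobData

variable {G : Type*} [Group G] [Finite G]

/-- A normal subgroup with a malnormal complement, both nontrivial. -/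
structure FData (K H : Subgroup G) : Prop where
  normal : K.Normal
  compl : Subgroup.IsComplement' K H
  mal : Cfsg.Agent.Char.Malnormal H
  kne : K ≠ ⊥
  hne : H ≠ ⊥

theorem exists_data {C : Subgroup G} (hC : Cfsg.IsFrobeniusComplement C) : ∃ K, FData K C := by
  have hmal := Cfsg.Agent.Char.malnormal_of_isFrobeniusComplement hC
  obtain ⟨K, hKn, -, hc, -⟩ := Cfsg.Agent.Char.exists_frobenius_kernel hmal
  refine ⟨K, hKn, hc, hmal, ?_, hC.1⟩
  rintro rfl
  exact hC.2.1 (Subgroup.isComplement'_bot_left.1 hc)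

namespace FData

variable {K H : Subgroup G}

lemma inf_eq_bot (h : FData K H) : K ⊓ H = ⊥ := h.compl.disjoint.eq_bot

lemma eq_one_of_mem (h : FData K H) {g : G} (h1 : g ∈ K) (h2 : g ∈ H) : g = 1 := by
  have : g ∈ K ⊓ H := ⟨h1, h2⟩
  rwa [h.inf_eq_bot, Subgroup.mem_bot] at this

lemma fpf (h : FData K H) {a k : G} (ha : a ∈ H) (ha1 : a ≠ 1) (hk : k ∈ K) (hc : a * k = k * a) :
    k = 1 := by
  refine h.eq_one_of_mem hk ?_
  by_contra hkH
  refine ha1 (h.mal k hkH a ha ?_)
  rw [← hc, mul_inv_cancel_right]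
  exact ha

lemma isFrobeniusComplement (h : FData K H) : Cfsg.IsFrobeniusComplement H := by
  refine ⟨h.hne, fun htop => h.kne ?_, fun g hg => ?_⟩
  · subst htop
    exact Subgroup.isComplement'_top_right.1 h.compl
  · rw [eq_bot_iff]
    rintro x ⟨hx, hxg⟩
    obtain ⟨y, hy, rfl⟩ := hxg
    have hy' : g * y * g⁻¹ ∈ H := hx
    rw [Subgroup.mem_bot, h.mal g hg y hy hy']
    exact map_one (MulAut.conj g)

lemma coprime (h : FData K H) : Nat.Coprime (Nat.card K) (Nat.card H) := by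
  haveI := h.normal
  refine Nat.coprime_of_dvd fun r hr hrK hrH => ?_
  haveI := Fact.mk hr
  obtain ⟨a, ha⟩ := exists_prime_orderOf_dvd_card' (G := H) r hrH
  have ha' : orderOf (a : G) = r := (Subgroup.orderOf_coe a).trans ha
  let P := Subgroup.zpowers (a : G)
  have hP : IsPGroup r P := IsPGroup.of_card (n := 1) (by rw [Nat.card_zpowers, ha', pow_one])
  letI act : MulAction P K := MulAction.compHom K ((MulAut.conjNormal (H := K)).comp P.subtype)
  obtain ⟨k, hk, hk1⟩ := hP.exists_fixed_point_of_prime_dvd_card_of_fixed_point K hrK (a := 1)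
    (fun g => map_one (MulAut.conjNormal (H := K) (g : G)))
  have hc : (a : G) * k * (a : G)⁻¹ = k := congrArg Subtype.val (hk ⟨a, Subgroup.mem_zpowers _⟩)
  refine hk1 (Subtype.ext (h.fpf a.2 ?_ k.2 (mul_inv_eq_iff_eq_mul.1 hc)).symm)
  intro h1
  rw [h1, orderOf_one] at ha'
  exact hr.ne_one ha'.symm

lemma decomp (h : FData K H) (g : G) :
    g ∈ K ∨ ∃ k ∈ K, ∃ a ∈ H, a ≠ 1 ∧ g = k * a * k⁻¹ := by
  classical
  let f : K × H → G := fun x => if x.2 = 1 then (x.1 : G) else x.1 * x.2 * (x.1 : G)⁻¹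
  have hmix : ∀ (k k' : K) (a : H), a ≠ 1 → (k : G) ≠ k' * a * (k' : G)⁻¹ := by
    intro k k' a ha heq
    apply ha
    refine Subtype.ext (h.eq_one_of_mem ?_ a.2)
    have : (a : G) = (k' : G)⁻¹ * k * k' := by rw [heq]; group
    rw [this]
    exact K.mul_mem (K.mul_mem (K.inv_mem k'.2) k.2) k'.2
  have hf : Function.Injective f := by
    rintro ⟨k, a⟩ ⟨k', a'⟩ hxy
    simp only [f] at hxy
    by_cases ha : a = 1 <;> by_cases ha' : a' = 1
    · rw [if_pos ha, if_pos ha'] at hxy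
      rw [ha, ha', Subtype.ext hxy]
    · rw [if_pos ha, if_neg ha'] at hxy
      exact absurd hxy (hmix k k' a' ha')
    · rw [if_neg ha, if_pos ha'] at hxy
      exact absurd hxy.symm (hmix k' k a ha)
    · rw [if_neg ha, if_neg ha'] at hxy
      have hw : (a' : G) = ((k' : G)⁻¹ * k) * a * ((k' : G)⁻¹ * k)⁻¹ := by
        rw [show ((k' : G)⁻¹ * k) * a * ((k' : G)⁻¹ * k)⁻¹ = (k' : G)⁻¹ * ((k : G) * a * (k : G)⁻¹) * k' by group,
          hxy]
        group
      have hmem : (k' : G)⁻¹ * k ∈ H := by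
        by_contra hn
        exact ha (Subtype.ext (h.mal _ hn a a.2 (hw ▸ a'.2)))
      have hkk : (k : G) = k' :=
        (inv_mul_eq_one.1 (h.eq_one_of_mem (K.mul_mem (K.inv_mem k'.2) k.2) hmem)).symm
      rw [hkk] at hxy
      exact Prod.ext (Subtype.ext hkk) (Subtype.ext (mul_left_cancel (mul_right_cancel hxy)))
  obtain ⟨⟨k, a⟩, rfl⟩ := (hf.bijective_of_nat_card_le
    (by rw [Nat.card_prod]; exact h.compl.card_mul_card.ge)).2 g
  simp only [f]
  by_cases ha : a = 1
  · rw [if_pos ha]; exact Or.inl k.2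
  · rw [if_neg ha]
    exact Or.inr ⟨k, k.2, a, a.2, fun h1 => ha (Subtype.ext h1), rfl⟩

lemma orderOf_dvd (h : FData K H) (g : G) :
    orderOf g ∣ Nat.card K ∨ orderOf g ∣ Nat.card H := by
  rcases h.decomp g with hg | ⟨k, -, a, ha, -, rfl⟩
  · exact Or.inl (Subgroup.orderOf_dvd_natCard _ hg)
  · right
    rw [← MulAut.conj_apply, MulEquiv.orderOf_eq]
    exact Subgroup.orderOf_dvd_natCard _ ha

lemma mem_iff (h : FData K H) (g : G) : g ∈ K ↔ orderOf g ∣ Nat.card K := by
  refine ⟨fun hg => Subgroup.orderOf_dvd_natCard _ hg, fun hg => ?_⟩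
  rcases h.decomp g with hK | ⟨k, -, a, ha, ha1, rfl⟩
  · exact hK
  · exfalso
    rw [← MulAut.conj_apply, MulEquiv.orderOf_eq] at hg
    exact ha1 (orderOf_eq_one_iff.1
      (Nat.eq_one_of_dvd_coprimes h.coprime hg (Subgroup.orderOf_dvd_natCard _ ha)))

/-- Elements of a given order dividing the order of the complement: `|K|` times those in the complement. -/
lemma card_orderOf (h : FData K H) {d : ℕ} (hd : d ∣ Nat.card H) (hd1 : d ≠ 1) :
    Nat.card {g : G // orderOf g = d} = Nat.card K * Nat.card {a : H // orderOf a = d} := by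
  rw [← Nat.card_prod]
  symm
  let f : K × {a : H // orderOf a = d} → {g : G // orderOf g = d} := fun x =>
    ⟨x.1 * (x.2.1 : G) * (x.1 : G)⁻¹, by
      rw [← MulAut.conj_apply, MulEquiv.orderOf_eq, Subgroup.orderOf_coe]; exact x.2.2⟩
  refine Nat.card_eq_of_bijective f ⟨?_, ?_⟩
  · rintro ⟨k, a⟩ ⟨k', a'⟩ hxy
    have hxy' : (k : G) * (a.1 : G) * (k : G)⁻¹ = k' * (a'.1 : G) * (k' : G)⁻¹ := congrArg Subtype.val hxy
    have ha1 : (a.1 : G) ≠ 1 := fun h1 => hd1 (by rw [← a.2, ← Subgroup.orderOf_coe, h1, orderOf_one])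
    have hw : (a'.1 : G) = ((k' : G)⁻¹ * k) * (a.1 : G) * ((k' : G)⁻¹ * k)⁻¹ := by
      rw [show ((k' : G)⁻¹ * k) * (a.1 : G) * ((k' : G)⁻¹ * k)⁻¹ =
        (k' : G)⁻¹ * ((k : G) * (a.1 : G) * (k : G)⁻¹) * k' by group, hxy']
      group
    have hmem : (k' : G)⁻¹ * k ∈ H := by
      by_contra hn
      exact ha1 (h.mal _ hn _ a.1.2 (hw ▸ a'.1.2))
    have hkk : (k : G) = k' :=
      (inv_mul_eq_one.1 (h.eq_one_of_mem (K.mul_mem (K.inv_mem k'.2) k.2) hmem)).symm
    rw [hkk] at hxy'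
    exact Prod.ext (Subtype.ext hkk) (Subtype.ext (Subtype.ext (mul_left_cancel (mul_right_cancel hxy'))))
  · rintro ⟨g, hg⟩
    rcases h.decomp g with hK | ⟨k, hk, a, ha, -, rfl⟩
    · exfalso
      exact hd1 (Nat.eq_one_of_dvd_coprimes h.coprime (hg ▸ Subgroup.orderOf_dvd_natCard _ hK) hd)
    · refine ⟨⟨⟨k, hk⟩, ⟨⟨a, ha⟩, ?_⟩⟩, rfl⟩
      rw [← Subgroup.orderOf_coe]
      rwa [← MulAut.conj_apply, MulEquiv.orderOf_eq] at hg

/-- Thompson: the kernel is nilpotent. -/
lemma isNilpotent (h : FData K H) : Group.IsNilpotent K := by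
  haveI := h.normal
  obtain ⟨r, hr, hrd⟩ := Nat.exists_prime_and_dvd (H.one_lt_card_iff_ne_bot.2 h.hne).ne'
  haveI := Fact.mk hr
  obtain ⟨a, ha⟩ := exists_prime_orderOf_dvd_card' (G := H) r hrd
  have ha' : orderOf (a : G) = r := (Subgroup.orderOf_coe a).trans ha
  refine Cfsg.Agent.FixedPointFreeThompson.isNilpotent_of_conj K hr (a : G) (ha' ▸ pow_orderOf_eq_one _)
    fun x hx hc => h.fpf a.2 ?_ hx hc
  intro h1
  rw [h1, orderOf_one] at ha'
  exact hr.ne_one ha'.symm

lemma abCyclic (h : FData K H) : Cfsg.Agent.AbCyc.AbCyclic H := by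
  intro A hA
  haveI := h.normal
  haveI : IsMulCommutative (A.map H.subtype) := by
    refine ⟨⟨fun a b => Subtype.ext ?_⟩⟩
    obtain ⟨x, hx, hxa⟩ := a.2
    obtain ⟨y, hy, hyb⟩ := b.2
    change (a : G) * b = b * a
    rw [← hxa, ← hyb, ← map_mul, ← map_mul]
    exact congrArg _ (congrArg Subtype.val (mul_comm' (⟨x, hx⟩ : A) ⟨y, hy⟩))
  have hcyc : IsCyclic (A.map H.subtype) := by
    by_contra hn
    apply h.kne
    rw [← Cfsg.Agent.CoprimeAct.generated_by_centralizers (A := A.map H.subtype) (K := K) hn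
      Subgroup.le_normalizer_of_normal
      (h.coprime.symm.coprime_dvd_left (Subgroup.card_dvd_of_le (Subgroup.map_subtype_le A)))]
    rw [eq_bot_iff]
    refine iSup₂_le fun a ha x hx => ?_
    rw [Subgroup.mem_bot]
    exact h.fpf (Subgroup.map_subtype_le A ha.1) ha.2 hx.1
      (Subgroup.mem_centralizer_singleton_iff.1 hx.2).symm
  exact (A.equivMapOfInjective H.subtype H.subtype_injective).symm.isCyclic.1 hcyc

lemma isSolvable_iff (h : FData K H) : Group.IsSolvable G ↔ Group.IsSolvable H := by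
  refine ⟨fun hG => ?_, fun hH => ?_⟩
  · haveI := hG
    infer_instance
  · haveI := h.normal
    haveI := h.isNilpotent
    haveI : Group.IsSolvable (G ⧸ K) :=
      solvable_of_surjective (f := (h.compl.symm.QuotientMulEquiv).symm.toMonoidHom)
        (h.compl.symm.QuotientMulEquiv).symm.surjective
    exact solvable_of_ker_le_range K.subtype (QuotientGroup.mk' K)
      (by rw [QuotientGroup.ker_mk', Subgroup.range_subtype])

end FData

end Cfsg.Agent.FrobData
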