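import Mathlib.GroupTheory.Sylow
import Mathlib.GroupTheory.PGroup
import Mathlib.GroupTheory.SpecificGroups.Cyclic
import Mathlib.GroupTheory.GroupAction.Quotient
import Mathlib.Algebra.Group.Action.Pointwise.Finset
import Mathlib.Data.Finset.Powerset

/-!
# Wielandt's count of subgroups of prime-power order

* `card_subgroups_modEq_one`: the number of subgroups of order `p ^ β` is `1` mod `p`.
* `card_normal_subgroups_modEq_one`: the same for normal subgroups of a `p`-group.
-/

set_option autoImplicit false
set_option linter.style.haveILetI false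

open scoped Pointwise
open MulAction

universe u

namespace Cfsg.Agent.SubgroupCount

variable {G : Type u} [Group G] [DecidableEq G]

/-- A free action divides. -/
lemma card_dvd_of_free {H X : Type*} [Group H] [MulAction H X] [Finite X]
    (h : ∀ x : X, stabilizer H x = ⊥) : Nat.card H ∣ Nat.card X := by
  have e : X ≃ Quotient (orbitRel H X) × H := selfEquivOrbitsQuotientProd h
  rw [Nat.card_congr e, Nat.card_prod]
  exact dvd_mul_left _ _

/-- The order of the left stabiliser of a finite set divides its size. -/
lemma card_stabilizer_dvd [Finite G] (s : Finset G) :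
    Nat.card (stabilizer G s) ∣ s.card := by
  letI : MulAction (stabilizer G s) s :=
    { smul := fun g x => ⟨(g : G) * (x : G), by
        have h := Finset.smul_mem_smul_finset (a := (g : G)) x.2
        rw [smul_eq_mul] at h
        rwa [show (g : G) • s = s from g.2] at h⟩
      one_smul := fun x => Subtype.ext (one_mul _)
      mul_smul := fun a b x => Subtype.ext (mul_assoc _ _ _) }
  have hfree : ∀ x : s, stabilizer (stabilizer G s) x = ⊥ := by
    intro x
    rw [Subgroup.eq_bot_iff_forall]
    intro g hg
    have h : (g : G) * (x : G) = x := congrArg Subtype.val (mem_stabilizer_iff.1 hg)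
    exact Subtype.ext (mul_eq_right.1 h)
  have h := card_dvd_of_free hfree
  rwa [Nat.card_eq_fintype_card (α := s), Fintype.card_coe] at h

/-- A set whose stabiliser has as many elements as the set is a right coset of it. -/
lemma mem_iff_of_card_stabilizer [Finite G] {s : Finset G}
    (hs : Nat.card (stabilizer G s) = s.card) {x : G} (hx : x ∈ s) (y : G) :
    y ∈ s ↔ y * x⁻¹ ∈ stabilizer G s := by
  classical
  have := Fintype.ofFinite G
  have hsub : ∀ g ∈ stabilizer G s, g * x ∈ s := by
    intro g hg
    have h := Finset.smul_mem_smul_finset (a := g) hx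
    rwa [smul_eq_mul, show g • s = s from hg] at h
  let T := (Finset.univ.filter fun g => g ∈ stabilizer G s).image (fun g => g * x)
  have hT : T ⊆ s := by
    intro z hz
    obtain ⟨g, hg, rfl⟩ := Finset.mem_image.1 hz
    exact hsub g (Finset.mem_filter.1 hg).2
  have hTs : T = s := by
    refine Finset.eq_of_subset_of_card_le hT ?_
    rw [Finset.card_image_of_injective _ (fun a b hab => mul_right_cancel hab), ← hs,
      Nat.card_eq_fintype_card, Fintype.card_subtype]
  refine ⟨fun hy => ?_, fun hy => by simpa using hsub _ hy⟩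
  rw [← hTs] at hy
  obtain ⟨g, hg, rfl⟩ := Finset.mem_image.1 hy
  simpa using (Finset.mem_filter.1 hg).2

/-- Pairs (coset-type set, point) are pairs (subgroup, point). -/
lemma card_good_mul [Finite G] (k : ℕ) :
    Nat.card {s : Finset G // s.card = k ∧ Nat.card (stabilizer G s) = k} * k =
      Nat.card {H : Subgroup G // Nat.card H = k} * Nat.card G := by
  classical
  have := Fintype.ofFinite G
  let e : (Σ s : {s : Finset G // s.card = k ∧ Nat.card (stabilizer G s) = k}, {x : G // x ∈ s.1}) ≃
      {H : Subgroup G // Nat.card H = k} × G := by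
    refine Equiv.ofBijective (fun w => (⟨stabilizer G w.1.1, w.1.2.2⟩, w.2.1)) ⟨?_, ?_⟩
    · rintro ⟨⟨s, hs⟩, x, hx⟩ ⟨⟨t, ht⟩, y, hy⟩ h
      simp only [Prod.mk.injEq, Subtype.mk.injEq] at h
      obtain ⟨hH, rfl⟩ := h
      have hst : s = t := by
        ext z
        rw [mem_iff_of_card_stabilizer (hs.2.trans hs.1.symm) hx z,
          mem_iff_of_card_stabilizer (ht.2.trans ht.1.symm) hy z, hH]
      subst hst
      rfl
    · rintro ⟨⟨H, hH⟩, x⟩
      let s : Finset G := Finset.univ.filter (fun z => z * x⁻¹ ∈ H)
      have hs : s.card = k := by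
        rw [← hH, ← Fintype.card_subtype, ← Nat.card_eq_fintype_card]
        exact Nat.card_congr
          { toFun := fun z => ⟨z.1 * x⁻¹, z.2⟩
            invFun := fun h => ⟨h.1 * x, by simpa using h.2⟩
            left_inv := fun z => Subtype.ext (by simp)
            right_inv := fun h => Subtype.ext (by simp) }
      have hst : stabilizer G s = H := by
        ext g
        rw [mem_stabilizer_iff]
        constructor
        · intro hg
          have hxs : x ∈ s := by simp [s, H.one_mem]
          have h := Finset.smul_mem_smul_finset (a := g) hxs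
          rw [hg] at h
          simpa [s] using h
        · intro hg
          ext z
          rw [← Finset.inv_smul_mem_iff]
          simp [s, mul_assoc, H.mul_mem_cancel_left (H.inv_mem hg)]
      exact ⟨⟨⟨s, hs, by rw [hst, hH]⟩, x, by simp [s, H.one_mem]⟩,
        Prod.ext (Subtype.ext hst) rfl⟩
  have h := Nat.card_congr e
  rw [Nat.card_prod, Nat.card_sigma] at h
  rw [← h, Finset.sum_congr rfl (g := fun _ => k) (fun s _ => ?_)]
  · rw [Finset.sum_const, Finset.card_univ, smul_eq_mul, ← Nat.card_eq_fintype_card]
  · rw [Nat.card_eq_fintype_card, Fintype.card_coe]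
    exact s.2.1

omit [DecidableEq G] in
/-- The total number of `p ^ β`-sets in terms of the number of subgroups. -/
lemma choose_modEq [Finite G] (p β N : ℕ) (hp : p.Prime) (hN : Nat.card G = p ^ β * N) :
    Nat.choose (Nat.card G) (p ^ β) ≡ Nat.card {H : Subgroup G // Nat.card H = p ^ β} * N [MOD p * N] := by
  classical
  have := Fintype.ofFinite G
  set k := p ^ β with hk
  have hk0 : 0 < k := pow_pos hp.pos β
  have htot : Nat.choose (Nat.card G) k =
      Nat.card {s : Finset G // s.card = k ∧ Nat.card (stabilizer G s) = k} +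
      Nat.card {s : Finset G // s.card = k ∧ Nat.card (stabilizer G s) ≠ k} := by
    rw [Nat.card_eq_fintype_card, Nat.card_eq_fintype_card, Nat.card_eq_fintype_card,
      Fintype.card_subtype, Fintype.card_subtype]
    rw [← Finset.card_univ (α := G), ← Finset.card_powersetCard, ← Finset.card_union_of_disjoint]
    · congr 1
      ext s
      simp only [Finset.mem_union, Finset.mem_filter, Finset.mem_powersetCard, Finset.mem_univ,
        true_and, Finset.subset_univ]
      tauto
    · rw [Finset.disjoint_filter]
      exact fun s _ h h' => h'.2 h.2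
  have hgood : Nat.card {s : Finset G // s.card = k ∧ Nat.card (stabilizer G s) = k} =
      Nat.card {H : Subgroup G // Nat.card H = k} * N := by
    have h := card_good_mul (G := G) k
    rw [hN] at h
    exact Nat.eq_of_mul_eq_mul_right hk0 (h.trans (by ring))
  have hbad : p * N ∣ Nat.card {s : Finset G // s.card = k ∧ Nat.card (stabilizer G s) ≠ k} := by
    letI : MulAction G {s : Finset G // s.card = k ∧ Nat.card (stabilizer G s) ≠ k} :=
      { smul := fun g s => ⟨g • s.1, by
          refine ⟨(Finset.card_smul_finset g s.1).trans s.2.1, ?_⟩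
          rw [stabilizer_smul_eq_stabilizer_map_conj]
          rw [Subgroup.card_map_of_injective (MulEquiv.injective _)]
          exact s.2.2⟩
        one_smul := fun s => Subtype.ext (one_smul G _)
        mul_smul := fun a b s => Subtype.ext (mul_smul a b _) }
    rw [Nat.card_congr (selfEquivSigmaOrbitsQuotientStabilizer G _)]
    haveI : Finite (orbitRel.Quotient G {s : Finset G // s.card = k ∧ Nat.card (stabilizer G s) ≠ k}) :=
      Finite.of_surjective _ Quotient.mk''_surjective
    haveI := Fintype.ofFinite (orbitRel.Quotient G {s : Finset G // s.card = k ∧ Nat.card (stabilizer G s) ≠ k})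
    rw [Nat.card_sigma]
    refine Finset.dvd_sum fun ω _ => ?_
    have hst : stabilizer G ω.out = stabilizer G ω.out.1 := by
      ext g
      simp only [mem_stabilizer_iff]
      exact Subtype.ext_iff
    rw [hst, ← Subgroup.index_eq_card]
    obtain ⟨j, hj, hjc⟩ := (Nat.dvd_prime_pow hp).1 (ω.out.2.1 ▸ card_stabilizer_dvd ω.out.1)
    have hjβ : j ≠ β := fun h => ω.out.2.2 (by rw [hjc, h])
    have hmul := (stabilizer G ω.out.1).card_mul_index
    rw [hjc, hN] at hmul
    have hp' : k = p ^ j * (p ^ (β - j - 1) * p) := by
      rw [hk, ← pow_succ, ← pow_add]; congr 1; omega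
    have hidx : (stabilizer G ω.out.1).index = p ^ (β - j - 1) * (p * N) :=
      Nat.eq_of_mul_eq_mul_left (pow_pos hp.pos j) (hmul.trans (by rw [hp']; ring))
    rw [hidx]
    exact dvd_mul_left _ _
  rw [htot, hgood]
  simpa using (Nat.modEq_zero_iff_dvd.2 hbad).add_left
    (Nat.card {H : Subgroup G // Nat.card H = k} * N)

omit [DecidableEq G] in
/-- A cyclic group has exactly one subgroup of each order dividing its order. -/
lemma card_subgroups_cyclic [Finite G] [IsCyclic G] {p β : ℕ} (hp : p.Prime)
    (hdiv : p ^ β ∣ Nat.card G) : Nat.card {H : Subgroup G // Nat.card H = p ^ β} = 1 := by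
  classical
  have := Fintype.ofFinite G
  have := Fact.mk hp
  have hk0 : 0 < p ^ β := pow_pos hp.pos β
  have key : ∀ H : Subgroup G, Nat.card H = p ^ β →
      (Finset.univ.filter fun x : G => x ∈ H) = Finset.univ.filter fun x : G => x ^ p ^ β = 1 := by
    intro H hH
    refine Finset.eq_of_subset_of_card_le (fun x hx => ?_) ?_
    · refine Finset.mem_filter.2 ⟨Finset.mem_univ _, ?_⟩
      have h := pow_card_eq_one' (G := H) (x := ⟨x, (Finset.mem_filter.1 hx).2⟩)
      rw [hH] at h
      simpa using congrArg Subtype.val h
    · refine (IsCyclic.card_pow_eq_one_le hk0).trans ?_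
      rw [← hH, Nat.card_eq_fintype_card, Fintype.card_subtype]
  rw [Nat.card_eq_one_iff_unique]
  refine ⟨⟨fun H K => Subtype.ext (SetLike.ext fun x => ?_)⟩, ?_⟩
  · have h := (key H.1 H.2).trans (key K.1 K.2).symm
    simpa using Finset.ext_iff.1 h x
  · obtain ⟨K, hK⟩ := Sylow.exists_subgroup_card_pow_prime p hdiv
    exact ⟨⟨K, hK⟩⟩

omit [DecidableEq G] in
/-- **Wielandt**: the number of subgroups of order `p ^ β` is `1` mod `p`. -/
theorem card_subgroups_modEq_one [Finite G] (p β : ℕ) (hp : p.Prime) (hdiv : p ^ β ∣ Nat.card G) :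
    Nat.card {H : Subgroup G // Nat.card H = p ^ β} ≡ 1 [MOD p] := by
  classical
  obtain ⟨N, hN⟩ := hdiv
  have hN0 : N ≠ 0 := fun h => Nat.card_pos.ne' (by rw [hN, h, mul_zero])
  haveI : NeZero (Nat.card G) := ⟨Nat.card_pos.ne'⟩
  have hC : Nat.card (Multiplicative (ZMod (Nat.card G))) = Nat.card G := by
    rw [show Nat.card (Multiplicative (ZMod (Nat.card G))) = Nat.card (ZMod (Nat.card G)) from
      Nat.card_congr Multiplicative.toAdd, Nat.card_zmod]
  haveI : Finite (Multiplicative (ZMod (Nat.card G))) :=
    Finite.of_equiv _ Multiplicative.ofAdd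
  have h1 := choose_modEq (G := G) p β N hp hN
  have h2 := choose_modEq (G := Multiplicative (ZMod (Nat.card G))) p β N hp (hC.trans hN)
  rw [card_subgroups_cyclic hp ⟨N, hC.trans hN⟩, hC] at h2
  exact Nat.ModEq.mul_right_cancel' hN0 (h1.symm.trans h2)

omit [DecidableEq G] in
/-- In a `p`-group the number of normal subgroups of each order is `1` mod `p`. -/
theorem card_normal_subgroups_modEq_one [Finite G] (p s : ℕ) (hp : p.Prime) (hG : IsPGroup p G)
    (hdiv : p ^ s ∣ Nat.card G) :
    Nat.card {H : Subgroup G // H.Normal ∧ Nat.card H = p ^ s} ≡ 1 [MOD p] := by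
  classical
  have := Fact.mk hp
  letI : MulAction G {H : Subgroup G // Nat.card H = p ^ s} :=
    { smul := fun g H => ⟨MulAut.conj g • H.1,
        (Nat.card_congr (Subgroup.equivSMul (MulAut.conj g) H.1).toEquiv).symm.trans H.2⟩
      one_smul := fun H => Subtype.ext (by show MulAut.conj (1 : G) • H.1 = H.1; rw [map_one, one_smul])
      mul_smul := fun a b H => Subtype.ext (by
        show MulAut.conj (a * b) • H.1 = MulAut.conj a • MulAut.conj b • H.1
        rw [map_mul, mul_smul]) }
  have e : {H : Subgroup G // H.Normal ∧ Nat.card H = p ^ s} ≃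
      fixedPoints G {H : Subgroup G // Nat.card H = p ^ s} :=
    { toFun := fun H => ⟨⟨H.1, H.2.2⟩, fun g => Subtype.ext (by
        show MulAut.conj g • H.1 = H.1
        ext x
        rw [Subgroup.mem_pointwise_smul_iff_inv_smul_mem]
        constructor
        · intro hx; simpa [MulAut.smul_def, mul_assoc] using H.2.1.conj_mem _ hx g
        · intro hx; simpa [MulAut.smul_def] using H.2.1.conj_mem _ hx g⁻¹)⟩
      invFun := fun H => ⟨H.1.1, ⟨fun x hx g => by
        have h : MulAut.conj g • H.1.1 = H.1.1 := congrArg Subtype.val (H.2 g)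
        have h' := Subgroup.smul_mem_pointwise_smul x (MulAut.conj g) H.1.1 hx
        rw [h] at h'
        exact h'⟩, H.1.2⟩
      left_inv := fun _ => rfl
      right_inv := fun _ => rfl }
  rw [Nat.card_congr e]
  exact (hG.card_modEq_card_fixedPoints _).symm.trans (card_subgroups_modEq_one p s hp hdiv)

omit [DecidableEq G] in
/-- An abelian `p`-group with at most `p` solutions of `x ^ p = 1` is cyclic. -/
theorem isCyclic_of_card_le [Finite G] {p : ℕ} (hp : p.Prime) (hG : IsPGroup p G)
    (hc : ∀ a b : G, a * b = b * a) (h1 : Nat.card {x : G // x ^ p = 1} ≤ p) : IsCyclic G := by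
  classical
  have := Fintype.ofFinite G
  have := Fact.mk hp
  have hle : ∀ i : ℕ, (Finset.univ.filter fun x : G => x ^ p ^ i = 1).card ≤ p ^ i := by
    intro i
    induction i with
    | zero =>
      rw [pow_zero, Finset.card_le_one]
      intro a ha b hb
      have ha' := (Finset.mem_filter.1 ha).2
      have hb' := (Finset.mem_filter.1 hb).2
      rw [pow_one] at ha' hb'
      rw [ha', hb']
    | succ i ih =>
      rw [pow_succ']
      refine (Finset.card_le_mul_card_image (f := fun x : G => x ^ p) _ p ?_).trans ?_
      · intro y hy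
        obtain ⟨x₀, -, hx₀⟩ := Finset.mem_image.1 hy
        rw [Nat.card_eq_fintype_card, Fintype.card_subtype] at h1
        refine le_trans (Finset.card_le_card_of_injOn (fun x => x * x₀⁻¹) ?_ ?_) h1
        · intro x hx
          refine Finset.mem_filter.2 ⟨Finset.mem_univ _, ?_⟩
          rw [(show Commute x x₀⁻¹ from hc _ _).mul_pow, (Finset.mem_filter.1 hx).2, inv_pow, hx₀,
            mul_inv_cancel]
        · intro a _ b _ h
          exact mul_right_cancel h
      · refine Nat.mul_le_mul_left _ (le_trans (Finset.card_le_card ?_) ih)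
        intro y hy
        obtain ⟨x, hx, rfl⟩ := Finset.mem_image.1 hy
        refine Finset.mem_filter.2 ⟨Finset.mem_univ _, ?_⟩
        rw [← pow_mul]
        exact (Finset.mem_filter.1 hx).2
  refine isCyclic_of_card_pow_eq_one_le fun n hn => ?_
  obtain ⟨m, hm⟩ := IsPGroup.iff_card.1 hG
  obtain ⟨j, -, hj⟩ := (Nat.dvd_prime_pow hp).1 (Nat.gcd_dvd_right n (p ^ m))
  refine le_trans (le_trans (Finset.card_le_card ?_) (hle j))
    (Nat.le_of_dvd hn (hj ▸ Nat.gcd_dvd_left n (p ^ m)))
  intro x hx
  refine Finset.mem_filter.2 ⟨Finset.mem_univ _, ?_⟩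
  rw [← hj]
  exact pow_gcd_eq_one.2 ⟨(Finset.mem_filter.1 hx).2, hm ▸ pow_card_eq_one'⟩

end Cfsg.Agent.SubgroupCount
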