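import Mathlib.GroupTheory.GroupAction.Jordan
import Mathlib.GroupTheory.Sylow
import Mathlib.GroupTheory.Perm.Cycle.Type
import Mathlib.GroupTheory.SpecificGroups.Alternating
import Mathlib.Data.Nat.Prime.Factorial

/-!
Jordan's theorem on primitive groups with a cycle of prime length fixing at least three points, and
the centraliser trick behind it.
-/

set_option autoImplicit false
set_option linter.style.haveILetI false

namespace Cfsg.Agent.JordanCycle

open MulAction Equiv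
open scoped Pointwise

variable {α : Type*} [Fintype α] [DecidableEq α]

/-- The elements of `G` fixing `s` pointwise. -/
def fixOn (G : Subgroup (Perm α)) (s : Set α) : Subgroup (Perm α) :=
  G ⊓ fixingSubgroup (Perm α) s

omit [Fintype α] [DecidableEq α] in
lemma mem_fixOn {G : Subgroup (Perm α)} {s : Set α} {g : Perm α} :
    g ∈ fixOn G s ↔ g ∈ G ∧ ∀ z ∈ s, g z = z := by
  simp [fixOn, mem_fixingSubgroup_iff]

omit [Fintype α] in
lemma exists_agree {G : Subgroup (Perm α)} {s : Finset α}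
    (hG : IsMultiplyPretransitive G α s.card) (σ : Perm α) :
    ∃ h ∈ G, ∀ z ∈ s, h z = σ z := by
  let x : Fin s.card ↪ α := s.equivFin.symm.toEmbedding.trans (Function.Embedding.subtype _)
  obtain ⟨⟨h, hh⟩, he⟩ := MulAction.exists_smul_eq G x (x.trans σ.toEmbedding)
  refine ⟨h, hh, fun z hz => ?_⟩
  have := DFunLike.congr_fun he (s.equivFin ⟨z, hz⟩)
  simpa [x, Function.Embedding.smul_apply, Subgroup.smul_def] using this

/-- If `u` of prime order `r` fixes `s` and `r ^ 2` does not divide the order of the pointwise stabiliser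
of `s`, and `G` is `|s|`-transitive, then every commutator of permutations stabilising `s` is realised on
`s` by an element of `G` commuting with `u`. -/
theorem exists_commute_agree {G : Subgroup (Perm α)} {s : Finset α}
    (hG : IsMultiplyPretransitive G α s.card) {u : Perm α} {r : ℕ} (hr : r.Prime)
    (hu : orderOf u = r) (hus : u ∈ fixOn G s) (hsyl : ¬ r ^ 2 ∣ Nat.card (fixOn G s))
    (σ₁ σ₂ : Perm α) (h1 : ∀ z ∈ s, σ₁ z ∈ s) (h2 : ∀ z ∈ s, σ₂ z ∈ s) :
    ∃ c ∈ G, c * u = u * c ∧ ∀ z ∈ s, c z = (σ₁ * σ₂ * σ₁⁻¹ * σ₂⁻¹) z := by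
  haveI : Fact r.Prime := ⟨hr⟩
  set F := fixOn G (s : Set α) with hF
  have hinv : ∀ (σ : Perm α), (∀ z ∈ s, σ z ∈ s) → ∀ z ∈ s, σ⁻¹ z ∈ s := by
    intro σ h z hz
    have him : s.image σ = s := Finset.eq_of_subset_of_card_le
      (Finset.image_subset_iff.2 h) (Finset.card_image_of_injective _ σ.injective).ge
    rw [← him] at hz
    obtain ⟨w, hw, rfl⟩ := Finset.mem_image.1 hz
    simpa using hw
  have key : ∀ σ : Perm α, (∀ z ∈ s, σ z ∈ s) →
      ∃ n ∈ G, (∀ z ∈ s, n z = σ z) ∧ ∃ i : ℕ, n * u * n⁻¹ = u ^ i := by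
    intro σ hσ
    obtain ⟨h, hh, hagree⟩ := exists_agree hG σ
    have hhinv : ∀ z ∈ s, h⁻¹ z = σ⁻¹ z := by
      intro z hz
      apply h.injective
      rw [← Perm.mul_apply, mul_inv_cancel, Perm.one_apply, hagree _ (hinv σ hσ z hz)]
      simp
    have huF : h * u * h⁻¹ ∈ F := by
      rw [hF, mem_fixOn]
      refine ⟨G.mul_mem (G.mul_mem hh (mem_fixOn.1 hus).1) (G.inv_mem hh), fun z hz => ?_⟩
      simp only [Perm.mul_apply]
      rw [hhinv z hz, (mem_fixOn.1 hus).2 _ (hinv σ hσ z hz), hagree _ (hinv σ hσ z hz)]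
      simp
    let u₁ : F := ⟨u, hus⟩
    let u₂ : F := ⟨h * u * h⁻¹, huF⟩
    have ho1 : orderOf u₁ = r := by rw [← Subgroup.orderOf_coe]; exact hu
    have ho2 : orderOf u₂ = r := by
      rw [← Subgroup.orderOf_coe]
      change orderOf (h * u * h⁻¹) = r
      rw [← MulAut.conj_apply, MulEquiv.orderOf_eq, hu]
    have hfac : (Nat.card F).factorization r = 1 := by
      refine le_antisymm ?_ ?_
      · by_contra hlt
        exact hsyl ((hr.pow_dvd_iff_le_factorization Nat.card_pos.ne').2 (by omega))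
      · exact hr.factorization_pos_of_dvd Nat.card_pos.ne' (ho1 ▸ orderOf_dvd_natCard u₁)
    obtain ⟨f, hf⟩ := MulAction.exists_smul_eq F
      (Sylow.ofCard (Subgroup.zpowers u₂) (by rw [Nat.card_zpowers, ho2, hfac, pow_one]))
      (Sylow.ofCard (Subgroup.zpowers u₁) (by rw [Nat.card_zpowers, ho1, hfac, pow_one]))
    have hmem : f * u₂ * f⁻¹ ∈ Subgroup.zpowers u₁ := by
      have h' := congrArg (fun P : Sylow r F => (P : Subgroup F)) hf
      simp only [Sylow.coe_subgroup_smul, Sylow.coe_ofCard] at h'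
      rw [← h']
      exact ⟨u₂, Subgroup.mem_zpowers _, rfl⟩
    obtain ⟨i, hi⟩ := mem_powers_iff_mem_zpowers.2 hmem
    refine ⟨(f : Perm α) * h, G.mul_mem (mem_fixOn.1 f.2).1 hh, fun z hz => ?_, i, ?_⟩
    · rw [Perm.mul_apply, hagree z hz, (mem_fixOn.1 f.2).2 _ (hσ z hz)]
    · have := congrArg Subtype.val hi
      simp only [u₁, u₂, Subgroup.coe_mul, SubmonoidClass.coe_pow, Subgroup.coe_inv] at this
      rw [this]; group
  obtain ⟨n₁, hn₁, ha₁, i, hi⟩ := key σ₁ h1
  obtain ⟨n₂, hn₂, ha₂, j, hj⟩ := key σ₂ h2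
  have e12 : (n₁ * n₂) * u * (n₁ * n₂)⁻¹ = u ^ (i * j) := by
    rw [show (n₁ * n₂) * u * (n₁ * n₂)⁻¹ = n₁ * (n₂ * u * n₂⁻¹) * n₁⁻¹ by group, hj, ← conj_pow, hi,
      ← pow_mul]
  have e21 : (n₂ * n₁) * u * (n₂ * n₁)⁻¹ = u ^ (i * j) := by
    rw [show (n₂ * n₁) * u * (n₂ * n₁)⁻¹ = n₂ * (n₁ * u * n₁⁻¹) * n₂⁻¹ by group, hi, ← conj_pow, hj,
      ← pow_mul, mul_comm]
  refine ⟨n₁ * n₂ * n₁⁻¹ * n₂⁻¹, ?_, ?_, fun z hz => ?_⟩
  · exact G.mul_mem (G.mul_mem (G.mul_mem hn₁ hn₂) (G.inv_mem hn₁)) (G.inv_mem hn₂)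
  · have e : n₁ * n₂ * u * (n₁ * n₂)⁻¹ = n₂ * n₁ * u * (n₂ * n₁)⁻¹ := e12.trans e21.symm
    have : (n₂ * n₁)⁻¹ * (n₁ * n₂) * u * ((n₂ * n₁)⁻¹ * (n₁ * n₂))⁻¹ = u := by
      rw [show (n₂ * n₁)⁻¹ * (n₁ * n₂) * u * ((n₂ * n₁)⁻¹ * (n₁ * n₂))⁻¹ =
        (n₂ * n₁)⁻¹ * (n₁ * n₂ * u * (n₁ * n₂)⁻¹) * (n₂ * n₁) by group, e]
      group
    -- conjugating the commutator by an element fixing `u` up to the same power
    have hk : u ^ (i * j) = (n₁ * n₂) * u * (n₁ * n₂)⁻¹ := e12.symm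
    have hcomm : (n₁ * n₂ * n₁⁻¹ * n₂⁻¹) * u ^ (i * j) * (n₁ * n₂ * n₁⁻¹ * n₂⁻¹)⁻¹ = u ^ (i * j) := by
      nth_rw 1 [← e21]
      rw [show n₁ * n₂ * n₁⁻¹ * n₂⁻¹ * (n₂ * n₁ * u * (n₂ * n₁)⁻¹) * (n₁ * n₂ * n₁⁻¹ * n₂⁻¹)⁻¹ =
        (n₁ * n₂) * u * (n₁ * n₂)⁻¹ by group, e12]
    have hord : orderOf (u ^ (i * j)) = r := by
      rw [← e12, ← MulAut.conj_apply, MulEquiv.orderOf_eq, hu]
    obtain ⟨m, hm⟩ : ∃ m : ℕ, (u ^ (i * j)) ^ m = u := by
      refine exists_pow_eq_self_of_coprime ?_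
      rw [hu, Nat.coprime_comm, hr.coprime_iff_not_dvd]
      intro hd
      rw [← hu] at hd
      rw [orderOf_dvd_iff_pow_eq_one.1 hd, orderOf_one] at hord
      exact hr.ne_one hord.symm
    have := congrArg (· ^ m) hcomm
    simp only [conj_pow, hm] at this
    exact mul_inv_eq_iff_eq_mul.1 this
  · have hb₁ : ∀ w ∈ s, n₁⁻¹ w = σ₁⁻¹ w := by
      intro w hw
      apply n₁.injective
      rw [← Perm.mul_apply, mul_inv_cancel, Perm.one_apply, ha₁ _ (hinv σ₁ h1 w hw)]
      simp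
    have hb₂ : ∀ w ∈ s, n₂⁻¹ w = σ₂⁻¹ w := by
      intro w hw
      apply n₂.injective
      rw [← Perm.mul_apply, mul_inv_cancel, Perm.one_apply, ha₂ _ (hinv σ₂ h2 w hw)]
      simp
    simp only [Perm.mul_apply]
    have w1 := hinv σ₂ h2 z hz
    have w2 := hinv σ₁ h1 _ w1
    rw [hb₂ z hz, hb₁ _ w1, ha₂ _ w2, ha₁ _ (h2 _ w2)]

lemma isThreeCycle_commutator_swap {a b c : α} (ab : a ≠ b) (ac : a ≠ c) (bc : b ≠ c) :
    Perm.IsThreeCycle (swap a b * swap a c * (swap a b)⁻¹ * (swap a c)⁻¹) := by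
  rw [swap_inv, swap_inv, mul_assoc]
  exact (Perm.isThreeCycle_swap_mul_swap_same ab ac bc).isThreeCycle_sq

lemma isThreeCycle_pow {t : Perm α} (ht : t.IsThreeCycle) {n : ℕ} (hn : ¬ 3 ∣ n) :
    (t ^ n).IsThreeCycle := by
  rw [← pow_mod_orderOf, ht.orderOf]
  rcases (show n % 3 = 1 ∨ n % 3 = 2 by omega) with h | h
  · rwa [h, pow_one]
  · rw [h, pow_two]; exact ht.isThreeCycle_sq

lemma card_fixOn_dvd (G : Subgroup (Perm α)) (S : Finset α) :
    Nat.card (fixOn G ((S : Set α)ᶜ)) ∣ S.card.factorial := by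
  have h : fixOn G ((S : Set α)ᶜ) ≤ (Perm.ofSubtype (p := fun z => z ∈ S)).range := by
    intro g hg
    have hfix : ∀ z, g z ≠ z → z ∈ S := fun z hz => by
      by_contra hc
      exact hz ((mem_fixOn.1 hg).2 z hc)
    have hiff : ∀ z, g z ∈ S ↔ z ∈ S := fun z => by
      by_cases hz : g z = z
      · rw [hz]
      · exact ⟨fun _ => hfix z hz, fun _ => hfix _ fun h => hz (g.injective h)⟩
    exact ⟨g.subtypePerm hiff, Perm.ofSubtype_subtypePerm hiff hfix⟩
  refine (Subgroup.card_dvd_of_le h).trans ?_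
  rw [← Nat.card_congr (MonoidHom.ofInjective Perm.ofSubtype_injective).toEquiv, Nat.card_perm,
    Nat.card_eq_fintype_card, Fintype.card_coe]

lemma multiplyPretransitive_of_cycle {G : Subgroup (Perm α)} (hG : IsPreprimitive G α) {p : ℕ}
    (hp : p.Prime) {g : Perm α} (hgc : g.IsCycle) (hgp : g.support.card = p) (hg : g ∈ G)
    (hpn : p < Fintype.card α) :
    IsMultiplyPretransitive G α (Fintype.card α - p + 1) := by
  have htr := Perm.isPretransitive_of_isCycle_mem hgc hg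
  have hprim : IsPreprimitive (fixingSubgroup G (g.support : Set α)ᶜ)
      (SubMulAction.ofFixingSubgroup G (g.support : Set α)ᶜ) := by
    apply IsPreprimitive.of_prime_card
    convert hp
    classical
    rw [Nat.card_eq_fintype_card, Fintype.card_subtype, ← hgp]
    apply congr_arg
    ext x
    simp [SubMulAction.mem_ofFixingSubgroup_iff]
  obtain ⟨n, hn⟩ : ∃ n, Fintype.card α - p = n + 1 := ⟨Fintype.card α - p - 1, by omega⟩
  have hsn : (g.support : Set α)ᶜ.ncard = n + 1 := by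
    rw [← Finset.coe_compl, Set.ncard_coe_finset, Finset.card_compl, hgp, hn]
  have hp2 := hp.two_le
  have := hG.isMultiplyPreprimitive hsn (by rw [Nat.card_eq_fintype_card]; omega) hprim
  rw [hn]
  exact IsMultiplyPreprimitive.isMultiplyPretransitive ..

/-- Jordan's theorem. -/
theorem alternatingGroup_le_of_prime_cycle {G : Subgroup (Perm α)} (hG : IsPreprimitive G α) {p : ℕ}
    (hp : p.Prime) (hpn : p + 3 ≤ Fintype.card α) {g : Perm α} (hgc : g.IsCycle)
    (hgp : g.support.card = p) (hg : g ∈ G) : alternatingGroup α ≤ G := by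
  by_cases hp3 : p = 3
  · subst hp3
    exact Perm.alternatingGroup_le_of_isPreprimitive_of_isThreeCycle_mem hG
      (_root_.card_support_eq_three_iff.1 hgp) hg
  set s : Finset α := g.supportᶜ with hs
  have hscard : s.card = Fintype.card α - p := by rw [hs, Finset.card_compl, hgp]
  have hmt : IsMultiplyPretransitive G α s.card := by
    haveI := multiplyPretransitive_of_cycle hG hp hgc hgp hg (by omega)
    rw [hscard]
    exact isMultiplyPretransitive_of_le (Nat.le_succ _)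
      (by rw [Nat.card_eq_fintype_card]; have := hp.two_le; omega)
  obtain ⟨a, b, c, ha, hb, hc, ab, ac, bc⟩ := Finset.two_lt_card_iff.1 (show 2 < s.card by omega)
  have hgs : g ∈ fixOn G (s : Set α) := mem_fixOn.2 ⟨hg, fun z hz => by
    simpa [hs, Perm.notMem_support] using hz⟩
  have hsyl : ¬ p ^ 2 ∣ Nat.card (fixOn G (s : Set α)) := by
    intro h
    have h' := h.trans (by simpa [hs, hgp] using card_fixOn_dvd G g.support)
    obtain ⟨m, rfl⟩ : ∃ m, p = m + 1 := ⟨p - 1, by have := hp.two_le; omega⟩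
    rw [pow_two, Nat.factorial_succ] at h'
    have := (Nat.mul_dvd_mul_iff_left (Nat.succ_pos m)).1 h'
    rw [hp.dvd_factorial] at this
    omega
  have hswap : ∀ u v : α, u ∈ s → v ∈ s → ∀ z ∈ s, swap u v z ∈ s := by
    intro u v hu hv z hz
    rw [swap_apply_def]
    split_ifs <;> assumption
  obtain ⟨d, hd, hdu, hdz⟩ := exists_commute_agree hmt hp
    (hgc.orderOf.trans hgp) hgs hsyl (swap a b) (swap a c) (hswap a b ha hb) (hswap a c ha hc)
  set t := swap a b * swap a c * (swap a b)⁻¹ * (swap a c)⁻¹ with ht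
  have htS : ∀ z, z ∉ s → t z = z := by
    intro z hz
    have hne : ∀ w ∈ s, z ≠ w := fun w hw h => hz (h ▸ hw)
    simp [ht, swap_apply_of_ne_of_ne (hne a ha) (hne b hb), swap_apply_of_ne_of_ne (hne a ha) (hne c hc)]
  -- powers of `d` on `s`
  have hts : ∀ z ∈ s, t z ∈ s := by
    intro z hz
    simp only [ht, Perm.mul_apply, swap_inv]
    exact hswap a b ha hb _ (hswap a c ha hc _ (hswap a b ha hb _ (hswap a c ha hc z hz)))
  have hpow : ∀ n : ℕ, ∀ z ∈ s, (d ^ n) z = (t ^ n) z ∧ (t ^ n) z ∈ s := by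
    intro n
    induction n with
    | zero => intro z hz; exact ⟨rfl, hz⟩
    | succ n ih =>
      intro z hz
      obtain ⟨h1, h2⟩ := ih z hz
      rw [pow_succ', pow_succ', Perm.mul_apply, Perm.mul_apply, h1, hdz _ h2]
      exact ⟨rfl, hts _ h2⟩
  have hdp : d ^ p = t ^ p := by
    ext z
    by_cases hz : z ∈ s
    · exact (hpow p z hz).1
    · have hg0 : g z ≠ z := by simpa [hs, Perm.mem_support] using hz
      have htn : (t ^ p) z = z := Perm.pow_apply_eq_self_of_apply_eq_self (htS z hz) p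
      have hdz' : d z ∉ s := by
        intro hin
        apply hg0
        apply d.injective
        rw [← Perm.mul_apply, hdu, Perm.mul_apply]
        exact (mem_fixOn.1 hgs).2 _ hin
      have hd0 : g (d z) ≠ d z := by simpa [hs, Perm.mem_support] using hdz'
      obtain ⟨i, hi⟩ := hgc.sameCycle hg0 hd0
      have hcom : Commute d (g ^ i) := (show Commute d g from hdu).zpow_right i
      have hk : ∀ n : ℕ, (d ^ n) z = ((g ^ i) ^ n) z := by
        intro n
        induction n with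
        | zero => rfl
        | succ n ih =>
          rw [pow_succ', Perm.mul_apply, ih, ← Perm.mul_apply, (hcom.pow_right n).eq, Perm.mul_apply,
            ← hi, pow_succ, Perm.mul_apply]
      rw [hk, htn, ← zpow_natCast, ← zpow_mul, mul_comm, zpow_mul, zpow_natCast, ← hgp,
        ← hgc.orderOf, pow_orderOf_eq_one, one_zpow, Perm.one_apply]
  refine Perm.alternatingGroup_le_of_isPreprimitive_of_isThreeCycle_mem hG (g := t ^ p) ?_
    (hdp ▸ G.pow_mem hd p)
  exact isThreeCycle_pow (isThreeCycle_commutator_swap ab ac bc)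
    fun h => hp3 ((Nat.prime_dvd_prime_iff_eq Nat.prime_three hp).1 h).symm

end Cfsg.Agent.JordanCycle
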