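import Cfsg.Agent.Lib.Recog.Derangements
import Mathlib.GroupTheory.Perm.Centralizer
import Mathlib.GroupTheory.SpecificGroups.Cyclic
import Mathlib.GroupTheory.Sylow
import Mathlib.Data.Int.GCD
import Mathlib.FieldTheory.Finite.Basic

/-!
# Frobenius' counting theorem and class counting

* `dvd_card_pow_eq_one`: Frobenius' theorem.
* `dvd_card_dvd_orderOf`: elements of order a multiple of `n`.
* `card_classes_le`: number of classes of elements all whose order primes lie in a finite set.
* `eq_top_of_conj_cover`: a proper subgroup's conjugates do not cover the group.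
-/

set_option autoImplicit false
set_option linter.style.haveILetI false

universe u

namespace Cfsg.Agent.Counting

variable {G : Type u} [Group G]

/-- Conjugates of a proper subgroup do not cover a finite group. -/
theorem eq_top_of_conj_cover [Finite G] (H : Subgroup G)
    (h : ∀ g : G, ∃ x : G, x⁻¹ * g * x ∈ H) : H = ⊤ := by
  classical
  have hD : ∀ g : G, (∀ ω : G ⧸ H, g • ω ≠ ω) → g ∈ (⊥ : Subgroup G) := by
    intro g hg
    obtain ⟨x, hx⟩ := h g
    refine absurd ?_ (hg (QuotientGroup.mk x))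
    show (QuotientGroup.mk (g * x) : G ⧸ H) = QuotientGroup.mk x
    rw [eq_comm, QuotientGroup.eq]
    simpa [mul_assoc] using hx
  obtain ⟨ht, -⟩ := Derange.main (⊥ : Subgroup G) hD
  rw [eq_top_iff]
  intro g _
  obtain ⟨⟨d, hd⟩, hdg⟩ := ht.exists_smul_eq (QuotientGroup.mk (1 : G) : G ⧸ H) (QuotientGroup.mk g)
  rw [Subgroup.mem_bot] at hd
  subst hd
  have h1 : (QuotientGroup.mk (1 * 1) : G ⧸ H) = QuotientGroup.mk g := hdg
  rw [one_mul, QuotientGroup.eq] at h1
  simpa using h1

/-- An exponent picking out the `P`-part. -/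
lemma exists_part_exponent {P r : ℕ} (hP : 1 < P) (hco : Nat.Coprime P r) :
    ∃ c t : ℕ, r * c = P * t + 1 := by
  obtain ⟨c, -, hc⟩ := Nat.exists_mul_mod_eq_one_of_coprime hco.symm hP
  exact ⟨c, r * c / P, by have := Nat.div_add_mod (r * c) P; omega⟩

/-- Splitting an element along coprime exponents. -/
lemma split {P r c t : ℕ} (hc : r * c = P * t + 1) {g : G} (hg : g ^ (P * r) = 1) :
    (g ^ (r * c)) ^ P = 1 ∧ ((g⁻¹) ^ (P * t)) ^ r = 1 ∧ g ^ (r * c) * (g⁻¹) ^ (P * t) = g := by
  refine ⟨?_, ?_, ?_⟩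
  · rw [← pow_mul, show r * c * P = P * r * c by ring, pow_mul, hg, one_pow]
  · rw [← pow_mul, show P * t * r = P * r * t by ring, pow_mul, inv_pow, hg, inv_one, one_pow]
  · rw [inv_pow, hc, pow_succ', mul_assoc, mul_inv_cancel, mul_one]

lemma mem_centralizer_singleton {u v : G} : v ∈ Subgroup.centralizer ({u} : Set G) ↔ u * v = v * u := by
  simp only [Subgroup.mem_centralizer_iff, Set.mem_singleton_iff, forall_eq]

lemma card_carrier_mul [Finite G] (g : G) :
    Nat.card (ConjClasses.mk g).carrier * Nat.card (Subgroup.centralizer ({g} : Set G)) = Nat.card G := by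
  classical
  have := Fintype.ofFinite G
  rw [Subgroup.nat_card_centralizer_nat_card_stabilizer]
  have h := MulAction.card_orbit_mul_card_stabilizer_eq_card_group (ConjAct G) g
  have hG : Nat.card (ConjAct G) = Nat.card G := Nat.card_congr ConjAct.ofConjAct.toEquiv
  rw [← ConjAct.orbit_eq_carrier_conjClasses, ← hG]
  simpa only [Nat.card_eq_fintype_card] using h

/-- The divisibility by the `p`-part: elements generating the same cyclic subgroup. -/
lemma pow_dvd_card [Finite G] (p a r : ℕ) (hp : p.Prime) :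
    p ^ a ∣ Nat.card {x : G // x ^ (p ^ (a + 1) * r) = 1 ∧ x ^ (p ^ a * r) ≠ 1} := by
  classical
  have := Fintype.ofFinite G
  rw [Nat.card_eq_fintype_card, Fintype.card_subtype,
    Finset.card_eq_sum_card_image (fun x : G => Subgroup.zpowers x)]
  refine Finset.dvd_sum fun C hC => ?_
  obtain ⟨x, hx, hxC⟩ := Finset.mem_image.1 hC
  obtain ⟨hx1, hx2⟩ := (Finset.mem_filter.1 hx).2
  have hdvd : p ^ (a + 1) ∣ orderOf x := by
    obtain ⟨o1, o2, h1, h2, ho⟩ := exists_dvd_and_dvd_of_dvd_mul (orderOf_dvd_of_pow_eq_one hx1)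
    obtain ⟨j, hj, rfl⟩ := (Nat.dvd_prime_pow hp).1 h1
    rcases Nat.lt_or_ge j (a + 1) with hlt | hge
    · refine absurd (orderOf_dvd_iff_pow_eq_one.1 ?_) hx2
      rw [ho]
      exact Nat.mul_dvd_mul (Nat.pow_dvd_pow p (by omega)) h2
    · rw [ho]
      exact Dvd.dvd.mul_right (Nat.pow_dvd_pow p hge) _
  have hfib : ((Finset.univ.filter
      (fun x : G => x ^ (p ^ (a + 1) * r) = 1 ∧ x ^ (p ^ a * r) ≠ 1)).filter
      (fun y => Subgroup.zpowers y = C)).card =
      (Finset.univ.filter (fun y : Subgroup.zpowers x => orderOf y = orderOf x)).card := by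
    symm
    refine Finset.card_bij (fun y _ => (y : G)) ?_ ?_ ?_
    · intro y hy
      have hy' : orderOf (y : G) = orderOf x := by
        rw [Subgroup.orderOf_coe]; exact (Finset.mem_filter.1 hy).2
      refine Finset.mem_filter.2 ⟨Finset.mem_filter.2 ⟨Finset.mem_univ _, ?_, ?_⟩, ?_⟩
      · rw [← orderOf_dvd_iff_pow_eq_one, hy', orderOf_dvd_iff_pow_eq_one]; exact hx1
      · rw [ne_eq, ← orderOf_dvd_iff_pow_eq_one, hy', orderOf_dvd_iff_pow_eq_one]; exact hx2
      · rw [← hxC]
        exact Subgroup.eq_of_le_of_card_ge (Subgroup.zpowers_le.2 y.2)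
          (by rw [Nat.card_zpowers, Nat.card_zpowers, hy'])
    · intro y₁ _ y₂ _ h
      exact Subtype.ext h
    · intro y hy
      have hyC := (Finset.mem_filter.1 hy).2
      have hyx : Subgroup.zpowers y = Subgroup.zpowers x := hyC.trans hxC.symm
      refine ⟨⟨y, hyx ▸ Subgroup.mem_zpowers y⟩, Finset.mem_filter.2 ⟨Finset.mem_univ _, ?_⟩, rfl⟩
      rw [Subgroup.orderOf_mk, ← Nat.card_zpowers, hyx, Nat.card_zpowers]
  rw [hfib, IsCyclic.card_orderOf_eq_totient (α := Subgroup.zpowers x)
    (by rw [← Nat.card_eq_fintype_card, Nat.card_zpowers])]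
  refine dvd_trans ?_ (Nat.totient_dvd_of_dvd hdvd)
  rw [Nat.totient_prime_pow_succ hp]
  exact Dvd.intro _ rfl

/-- Elements of `C(u)` of order dividing `r` versus those in the quotient by `⟨u⟩`. -/
lemma card_centralizer_pow [Finite G] {u : G} {P r : ℕ} (hu : orderOf u = P) (hP : 1 < P)
    (hco : Nat.Coprime P r)
    (IH : ∀ (Q : Type u) [Group Q] [Finite Q] (d : ℕ), Nat.card Q < Nat.card G → d ∣ Nat.card Q →
      d ∣ Nat.card {q : Q // q ^ d = 1}) :
    Nat.gcd r (Nat.card (Subgroup.centralizer ({u} : Set G))) ∣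
      Nat.card {v : G // u * v = v * u ∧ v ^ r = 1} := by
  classical
  obtain ⟨c, t, hc⟩ := exists_part_exponent hP hco
  have huC : u ∈ Subgroup.centralizer ({u} : Set G) := mem_centralizer_singleton.2 rfl
  set C := Subgroup.centralizer ({u} : Set G) with hC
  set u' : C := ⟨u, huC⟩ with hu'
  haveI hn : (Subgroup.zpowers u').Normal := by
    refine ⟨fun y hy g => ?_⟩
    obtain ⟨i, rfl⟩ := Subgroup.mem_zpowers_iff.1 hy
    have hcomm : Commute u' g := Subtype.ext (mem_centralizer_singleton.1 g.2)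
    rw [((hcomm.zpow_left i).eq).symm, mul_assoc, mul_inv_cancel, mul_one]
    exact hy
  set Q := C ⧸ Subgroup.zpowers u' with hQ
  have hcard : Nat.card C = Nat.card Q * P := by
    rw [Subgroup.card_eq_card_quotient_mul_card_subgroup (Subgroup.zpowers u'), Nat.card_zpowers,
      hu', Subgroup.orderOf_mk, hu]
  have hlt : Nat.card Q < Nat.card G := by
    have h1 : Nat.card C ≤ Nat.card G :=
      Nat.card_le_card_of_injective Subtype.val Subtype.val_injective
    have h2 : 0 < Nat.card Q := Nat.card_pos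
    rw [hcard] at h1
    nlinarith
  have hgcd : Nat.gcd r (Nat.card C) = Nat.gcd r (Nat.card Q) := by
    rw [hcard, Nat.Coprime.gcd_mul_right_cancel_right _ hco]
  rw [hgcd]
  have hIH := IH Q (Nat.gcd r (Nat.card Q)) hlt (Nat.gcd_dvd_right _ _)
  refine dvd_trans hIH (dvd_of_eq (Nat.card_congr ?_).symm)
  refine Equiv.ofBijective (fun v => ⟨QuotientGroup.mk' (Subgroup.zpowers u')
    ⟨v.1, mem_centralizer_singleton.2 v.2.1⟩, ?_⟩) ⟨?_, ?_⟩
  · refine pow_gcd_eq_one.2 ⟨?_, pow_card_eq_one'⟩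
    rw [← map_pow, show (⟨v.1, mem_centralizer_singleton.2 v.2.1⟩ : C) ^ r = 1 from
      Subtype.ext (by simpa using v.2.2), map_one]
  · rintro ⟨v₁, hv₁, hv₁'⟩ ⟨v₂, hv₂, hv₂'⟩ h
    have h' := congrArg Subtype.val h
    simp only [QuotientGroup.mk'_apply] at h'
    obtain ⟨i, hi⟩ := Subgroup.mem_zpowers_iff.1 (QuotientGroup.eq.1 h')
    have hi' : u ^ i = v₁⁻¹ * v₂ := by simpa [hu'] using congrArg Subtype.val hi
    have hv : Commute u v₁ := hv₁
    have h3 : v₂ = v₁ * u ^ i := by rw [hi', mul_inv_cancel_left]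
    have h4 : (u ^ i) ^ r = 1 := by
      have := hv₂'
      rw [h3, ((hv.zpow_left i).symm).mul_pow, hv₁', one_mul] at this
      exact this
    have h5 : (u ^ i) ^ P = 1 := by
      rw [← zpow_natCast, ← zpow_mul, mul_comm, zpow_mul, zpow_natCast, ← hu, pow_orderOf_eq_one,
        one_zpow]
    have h6 := pow_gcd_eq_one.2 ⟨h4, h5⟩
    rw [Nat.Coprime.gcd_eq_one hco.symm, pow_one] at h6
    exact Subtype.ext (by simp [h3, h6])
  · rintro ⟨q, hq⟩
    obtain ⟨y, rfl⟩ := QuotientGroup.mk'_surjective (Subgroup.zpowers u') q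
    have hyr : y ^ r ∈ Subgroup.zpowers u' := by
      rw [← QuotientGroup.eq_one_iff, QuotientGroup.mk_pow]
      exact (pow_gcd_eq_one.1 hq).1
    obtain ⟨i, hi⟩ := Subgroup.mem_zpowers_iff.1 hyr
    have hy : Commute u (y : G) := mem_centralizer_singleton.1 y.2
    have hi' : u ^ i = (y : G) ^ r := by simpa [hu'] using congrArg Subtype.val hi
    have hv : ((y : G) * (u ^ i)⁻¹ ^ c) ^ r = 1 := by
      rw [(((hy.zpow_left i).inv_left.pow_left c).symm).mul_pow, ← hi', ← pow_mul, mul_comm c r, hc,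
        pow_succ', ← mul_assoc, mul_inv_cancel, one_mul, pow_mul]
      rw [inv_pow, ← zpow_natCast (u ^ i) P, ← zpow_mul, mul_comm i, zpow_mul, zpow_natCast, ← hu,
        pow_orderOf_eq_one, one_zpow, inv_one, one_pow]
    have hcom : u * ((y : G) * (u ^ i)⁻¹ ^ c) = ((y : G) * (u ^ i)⁻¹ ^ c) * u :=
      (hy.mul_right (((Commute.refl u).zpow_right i).inv_right.pow_right c)).eq
    refine ⟨⟨_, hcom, hv⟩, Subtype.ext ?_⟩
    simp only [QuotientGroup.mk'_apply]
    refine QuotientGroup.eq.2 ?_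
    refine Subgroup.mem_zpowers_iff.2 ⟨i * (c : ℤ), Subtype.ext ?_⟩
    simp only [hu', Subgroup.coe_zpow, Subgroup.coe_mul, Subgroup.coe_inv, mul_inv_rev,
      inv_pow, inv_inv]
    rw [zpow_mul, zpow_natCast, mul_assoc, inv_mul_cancel, mul_one]

/-- The divisibility by the `p'`-part: elements with prescribed `p`-part. -/
lemma coprime_dvd_card [Finite G] (p a r : ℕ) (hp : p.Prime) (hr : ¬ p ∣ r) (hrG : r ∣ Nat.card G)
    (IH : ∀ (Q : Type u) [Group Q] [Finite Q] (d : ℕ), Nat.card Q < Nat.card G → d ∣ Nat.card Q →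
      d ∣ Nat.card {q : Q // q ^ d = 1}) :
    r ∣ Nat.card {x : G // x ^ (p ^ (a + 1) * r) = 1 ∧ x ^ (p ^ a * r) ≠ 1} := by
  classical
  have := Fintype.ofFinite G
  have := Fact.mk hp
  have hco : Nat.Coprime (p ^ (a + 1)) r := (hp.coprime_iff_not_dvd.2 hr).pow_left _
  have hP : 1 < p ^ (a + 1) := Nat.one_lt_pow (by omega) hp.one_lt
  obtain ⟨c, t, hc⟩ := exists_part_exponent hP hco
  let e : (Σ u : {u : G // orderOf u = p ^ (a + 1)},
      {v : G // (u : G) * v = v * (u : G) ∧ v ^ r = 1}) ≃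
      {x : G // x ^ (p ^ (a + 1) * r) = 1 ∧ x ^ (p ^ a * r) ≠ 1} := by
    refine Equiv.ofBijective (fun w => ⟨(w.1 : G) * (w.2 : G), ?_, ?_⟩) ⟨?_, ?_⟩
    · rw [(show Commute (w.1 : G) w.2 from w.2.2.1).mul_pow, pow_mul, pow_mul', w.2.2.2, one_pow,
        mul_one, orderOf_dvd_iff_pow_eq_one.1 (dvd_of_eq w.1.2), one_pow]
    · intro hbad
      rw [(show Commute (w.1 : G) w.2 from w.2.2.1).mul_pow, pow_mul' (w.2 : G), w.2.2.2, one_pow,
        mul_one, ← orderOf_dvd_iff_pow_eq_one, w.1.2] at hbad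
      have := (Nat.pow_dvd_pow_iff_le_right hp.one_lt).1 (hco.dvd_of_dvd_mul_right hbad)
      omega
    · rintro ⟨⟨u₁, hu₁⟩, ⟨v₁, hv₁, hv₁'⟩⟩ ⟨⟨u₂, hu₂⟩, ⟨v₂, hv₂, hv₂'⟩⟩ h
      simp only [Subtype.mk.injEq] at h
      have key : ∀ u v : G, orderOf u = p ^ (a + 1) → u * v = v * u → v ^ r = 1 →
          (u * v) ^ (r * c) = u := by
        intro u v hu huv hv
        rw [(show Commute u v from huv).mul_pow, pow_mul v, hv, one_pow, mul_one, hc, pow_succ,
          pow_mul, ← hu, pow_orderOf_eq_one, one_pow, one_mul]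
      have hu : u₁ = u₂ := by rw [← key u₁ v₁ hu₁ hv₁ hv₁', ← key u₂ v₂ hu₂ hv₂ hv₂', h]
      subst hu
      have hv : v₁ = v₂ := mul_left_cancel h
      subst hv
      rfl
    · rintro ⟨x, hx1, hx2⟩
      obtain ⟨s1, s2, s3⟩ := split hc hx1
      have hcomm : Commute (x ^ (r * c)) (x⁻¹ ^ (p ^ (a + 1) * t)) :=
        ((Commute.refl x).inv_right).pow_pow _ _
      have hord : orderOf (x ^ (r * c)) = p ^ (a + 1) := by
        refine orderOf_eq_prime_pow (fun hbad => hx2 ?_) s1
        rw [← s3, hcomm.mul_pow, pow_mul, hbad, one_pow, one_mul, pow_mul', s2, one_pow]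
      exact ⟨⟨⟨_, hord⟩, ⟨_, hcomm.eq, s2⟩⟩, Subtype.ext s3⟩
  have : Finite (ConjClasses G) := Finite.of_surjective _ ConjClasses.mk_surjective
  have := Fintype.ofFinite (ConjClasses G)
  rw [← Nat.card_congr e, Nat.card_sigma, Finset.sum_congr rfl (g := fun u : {u : G // orderOf u = p ^ (a + 1)} =>
    (fun K : ConjClasses G => Nat.card {v : G // K.out * v = v * K.out ∧ v ^ r = 1})
      (ConjClasses.mk (u : G))) fun u _ => ?_]
  · rw [← Finset.sum_fiberwise' (Finset.univ : Finset {u : G // orderOf u = p ^ (a + 1)})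
      (fun u => ConjClasses.mk (u : G))
      (fun K : ConjClasses G => Nat.card {v : G // K.out * v = v * K.out ∧ v ^ r = 1})]
    refine Finset.dvd_sum fun K _ => ?_
    rw [Finset.sum_const, smul_eq_mul]
    by_cases hne : (Finset.univ.filter
        fun u : {u : G // orderOf u = p ^ (a + 1)} => ConjClasses.mk (u : G) = K) = ∅
    · rw [hne, Finset.card_empty, zero_mul]; exact dvd_zero _
    obtain ⟨u₀, hu₀⟩ := Finset.nonempty_iff_ne_empty.2 hne
    have hu₀K := (Finset.mem_filter.1 hu₀).2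
    have hout : ConjClasses.mk K.out = K := Quotient.out_eq K
    have hord : ∀ g : G, ConjClasses.mk g = K → orderOf g = p ^ (a + 1) := by
      intro g hg
      obtain ⟨x, hx⟩ := isConj_iff.1 (ConjClasses.mk_eq_mk_iff_isConj.1 (hu₀K.trans hg.symm))
      rw [← hx, show x * (u₀ : G) * x⁻¹ = MulAut.conj x (u₀ : G) from rfl, MulEquiv.orderOf_eq]
      exact u₀.2
    have hk : (Finset.univ.filter
        fun u : {u : G // orderOf u = p ^ (a + 1)} => ConjClasses.mk (u : G) = K).card =
        Nat.card (ConjClasses.mk K.out).carrier := by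
      rw [hout, ← Fintype.card_subtype, ← Nat.card_eq_fintype_card]
      exact Nat.card_congr
        { toFun := fun u => ⟨u.1.1, ConjClasses.mem_carrier_iff_mk_eq.2 u.2⟩
          invFun := fun g => ⟨⟨g.1, hord g.1 (ConjClasses.mem_carrier_iff_mk_eq.1 g.2)⟩,
            ConjClasses.mem_carrier_iff_mk_eq.1 g.2⟩
          left_inv := fun _ => rfl
          right_inv := fun _ => rfl }
    have hd := card_centralizer_pow (u := K.out) (hord _ hout) hP hco IH
    rw [hk]
    refine dvd_trans ?_ (Nat.mul_dvd_mul_left _ hd)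
    rw [← Nat.gcd_mul_left]
    refine Nat.dvd_gcd (dvd_mul_left r _) ?_
    rw [card_carrier_mul]
    exact hrG
  · obtain ⟨x, hx⟩ := isConj_iff.1
      (ConjClasses.mk_eq_mk_iff_isConj.1 (Quotient.out_eq (ConjClasses.mk (u : G))))
    dsimp only
    generalize (ConjClasses.mk (u : G)).out = o at hx ⊢
    refine Nat.card_congr ((MulAut.conj x).toEquiv.subtypeEquiv fun v => ?_).symm
    show _ ↔ (u : G) * (x * v * x⁻¹) = x * v * x⁻¹ * (u : G) ∧ (x * v * x⁻¹) ^ r = 1
    rw [conj_pow, ← hx, conj_eq_one_iff, conj_mul, conj_mul, mul_left_inj, mul_right_inj]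

/-- **Frobenius' theorem**: if `m` divides `|G|` then `m` divides `#{g | g ^ m = 1}`. -/
theorem dvd_card_pow_eq_one [Finite G] (m : ℕ) (hm : m ∣ Nat.card G) :
    m ∣ Nat.card {g : G // g ^ m = 1} := by
  suffices h : ∀ (n : ℕ) (G : Type u) [Group G] [Finite G], Nat.card G = n → ∀ k m : ℕ, m * k = n →
      m ∣ Nat.card {g : G // g ^ m = 1} by
    obtain ⟨k, hk⟩ := hm
    exact h _ G rfl k m hk.symm
  intro n
  induction n using Nat.strong_induction_on with
  | _ n IH =>
    intro G _ _ hn k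
    induction k using Nat.strong_induction_on with
    | _ k IHk =>
      intro m hmk
      have hn0 : n ≠ 0 := by rw [← hn]; exact Nat.card_pos.ne'
      by_cases hk1 : k = 1
      · subst hk1
        rw [mul_one] at hmk
        subst hmk
        rw [← hn]
        refine dvd_of_eq (Nat.card_congr ?_).symm
        exact Equiv.subtypeUnivEquiv fun g => pow_card_eq_one'
      have hk0 : k ≠ 0 := fun h => hn0 (by rw [← hmk, h, mul_zero])
      have hm0 : m ≠ 0 := fun h => hn0 (by rw [← hmk, h, zero_mul])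
      obtain ⟨p, hp, k', rfl⟩ : ∃ p, p.Prime ∧ p ∣ k :=
        ⟨k.minFac, Nat.minFac_prime hk1, Nat.minFac_dvd k⟩
      have hk' : k' < p * k' := by
        have : k' ≠ 0 := fun h => hk0 (by rw [h, mul_zero])
        have := hp.two_le
        nlinarith [Nat.pos_of_ne_zero ‹k' ≠ 0›]
      have h1 := IHk k' hk' (m * p) (by rw [← hmk]; ring)
      obtain ⟨a, r, hr, rfl⟩ := Nat.exists_eq_pow_mul_and_not_dvd hm0 p hp.ne_one
      have IH' : ∀ (Q : Type u) [Group Q] [Finite Q] (d : ℕ), Nat.card Q < Nat.card G →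
          d ∣ Nat.card Q → d ∣ Nat.card {q : Q // q ^ d = 1} := by
        intro Q _ _ d hlt hd
        obtain ⟨k'', hk''⟩ := hd
        exact IH (Nat.card Q) (hn ▸ hlt) Q rfl k'' d hk''.symm
      have hrG : r ∣ Nat.card G := by
        rw [hn, ← hmk]
        exact Dvd.dvd.mul_right (dvd_mul_left r _) _
      have h2 : p ^ a * r ∣ Nat.card {x : G // x ^ (p ^ (a + 1) * r) = 1 ∧ x ^ (p ^ a * r) ≠ 1} :=
        ((hp.coprime_iff_not_dvd.2 hr).pow_left a).mul_dvd_of_dvd_of_dvd (pow_dvd_card p a r hp)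
          (coprime_dvd_card p a r hp hr hrG IH')
      have hsum : Nat.card {g : G // g ^ (p ^ a * r) = 1} +
          Nat.card {x : G // x ^ (p ^ (a + 1) * r) = 1 ∧ x ^ (p ^ a * r) ≠ 1} =
          Nat.card {g : G // g ^ (p ^ a * r * p) = 1} := by
        classical
        have := Fintype.ofFinite G
        simp only [Nat.card_eq_fintype_card, Fintype.card_subtype]
        rw [← Finset.card_union_of_disjoint]
        · congr 1
          ext x
          simp only [Finset.mem_union, Finset.mem_filter, Finset.mem_univ, true_and]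
          rw [show p ^ (a + 1) * r = p ^ a * r * p by rw [pow_succ]; ring]
          constructor
          · rintro (h | h)
            · rw [pow_mul, h, one_pow]
            · exact h.1
          · intro h
            by_cases hx : x ^ (p ^ a * r) = 1
            · exact Or.inl hx
            · exact Or.inr ⟨h, hx⟩
        · rw [Finset.disjoint_filter]
          exact fun x _ h h' => h'.2 h
      exact (Nat.dvd_add_left h2).1 (hsum ▸ (dvd_mul_right _ p).trans h1)

/-- Elements with order a multiple of `n` among the solutions of `x ^ M = 1`. -/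
theorem dvd_card_dvd_orderOf [Finite G] (n : ℕ) (hn : 0 < n) :
    ∀ M : ℕ, M ∣ Nat.card G → ∀ r : ℕ, r ∣ M → Nat.Coprime r n →
      r ∣ Nat.card {g : G // g ^ M = 1 ∧ n ∣ orderOf g} := by
  induction n using Nat.strong_induction_on with
  | _ n IH =>
    intro M hM r hrM hrn
    classical
    have := Fintype.ofFinite G
    by_cases h1 : n = 1
    · subst h1
      refine dvd_trans hrM (dvd_trans (dvd_card_pow_eq_one M hM) (dvd_of_eq ?_))
      exact Nat.card_congr (Equiv.subtypeEquivRight fun g => by simp)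
    obtain ⟨p, hp, hpn⟩ : ∃ p, p.Prime ∧ p ∣ n := ⟨n.minFac, Nat.minFac_prime h1, Nat.minFac_dvd n⟩
    obtain ⟨a, n', hn', rfl⟩ := Nat.exists_eq_pow_mul_and_not_dvd hn.ne' p hp.ne_one
    have ha : a ≠ 0 := fun h => hn' (by simpa [h] using hpn)
    have hn'0 : 0 < n' := Nat.pos_of_ne_zero fun h => hn' (h ▸ dvd_zero p)
    have hlt : n' < p ^ a * n' := lt_mul_of_one_lt_left hn'0 (Nat.one_lt_pow ha hp.one_lt)
    have hrp : Nat.Coprime r p :=
      Nat.Coprime.coprime_dvd_right (Dvd.dvd.mul_right (dvd_pow_self p ha) _) hrn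
    have hrn' : Nat.Coprime r n' := Nat.Coprime.coprime_dvd_right (dvd_mul_left _ _) hrn
    have hM0 : M ≠ 0 := fun h => Nat.card_pos.ne' (Nat.eq_zero_of_zero_dvd (h ▸ hM))
    obtain ⟨v, w, hw, rfl⟩ := Nat.exists_eq_pow_mul_and_not_dvd hM0 p hp.ne_one
    by_cases hav : v < a
    · have : IsEmpty {g : G // g ^ (p ^ v * w) = 1 ∧ p ^ a * n' ∣ orderOf g} := by
        refine ⟨fun g => ?_⟩
        have h3 : p ^ a ∣ p ^ v * w :=
          ((Dvd.intro n' rfl).trans g.2.2).trans (orderOf_dvd_of_pow_eq_one g.2.1)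
        have := (Nat.pow_dvd_pow_iff_le_right hp.one_lt).1
          (((hp.coprime_iff_not_dvd.2 hw).pow_left a).dvd_of_dvd_mul_right h3)
        omega
      rw [Nat.card_of_isEmpty]
      exact dvd_zero r
    have hM' : p ^ (a - 1) * w ∣ p ^ v * w := Nat.mul_dvd_mul_right (Nat.pow_dvd_pow p (by omega)) w
    have hrw : r ∣ p ^ (a - 1) * w :=
      ((Nat.Coprime.pow_right v hrp).dvd_of_dvd_mul_left hrM).trans (dvd_mul_left _ _)
    have hA := IH n' hlt hn'0 (p ^ v * w) hM r hrM hrn'
    have hB := IH n' hlt hn'0 (p ^ (a - 1) * w) (hM'.trans hM) r hrw hrn'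
    have hsum : Nat.card {g : G // g ^ (p ^ v * w) = 1 ∧ p ^ a * n' ∣ orderOf g} +
        Nat.card {g : G // g ^ (p ^ (a - 1) * w) = 1 ∧ n' ∣ orderOf g} =
        Nat.card {g : G // g ^ (p ^ v * w) = 1 ∧ n' ∣ orderOf g} := by
      simp only [Nat.card_eq_fintype_card, Fintype.card_subtype]
      rw [← Finset.card_union_of_disjoint]
      · congr 1
        ext x
        simp only [Finset.mem_union, Finset.mem_filter, Finset.mem_univ, true_and]
        constructor
        · rintro (⟨h, h'⟩ | ⟨h, h'⟩)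
          · exact ⟨h, (dvd_mul_left _ _).trans h'⟩
          · exact ⟨orderOf_dvd_iff_pow_eq_one.1 ((orderOf_dvd_of_pow_eq_one h).trans hM'), h'⟩
        · rintro ⟨h, h'⟩
          obtain ⟨o1, o2, h1, h2, ho⟩ := exists_dvd_and_dvd_of_dvd_mul (orderOf_dvd_of_pow_eq_one h)
          obtain ⟨j, hj, rfl⟩ := (Nat.dvd_prime_pow hp).1 h1
          by_cases hja : a ≤ j
          · refine Or.inl ⟨h, Nat.Coprime.mul_dvd_of_dvd_of_dvd
              ((hp.coprime_iff_not_dvd.2 hn').pow_left a) ?_ h'⟩
            rw [ho]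
            exact Dvd.dvd.mul_right (Nat.pow_dvd_pow p hja) _
          · refine Or.inr ⟨orderOf_dvd_iff_pow_eq_one.1 ?_, h'⟩
            rw [ho]
            exact Nat.mul_dvd_mul (Nat.pow_dvd_pow p (by omega)) h2
      · rw [Finset.disjoint_filter]
        rintro x _ ⟨-, h⟩ ⟨h', -⟩
        have h3 : p ^ a ∣ p ^ (a - 1) * w := ((Dvd.intro n' rfl).trans h).trans (orderOf_dvd_of_pow_eq_one h')
        have := (Nat.pow_dvd_pow_iff_le_right hp.one_lt).1
          (((hp.coprime_iff_not_dvd.2 hw).pow_left a).dvd_of_dvd_mul_right h3)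
        omega
    rw [← hsum] at hA
    exact (Nat.dvd_add_left hB).1 hA

/-- Classes of elements whose orders involve only primes of `S`. -/
theorem card_classes_le (S : Finset ℕ) (hS : ∀ q ∈ S, q.Prime) :
    ∀ (G : Type u) [Group G] [Finite G],
      Nat.card {C : ConjClasses G // ∃ g : G, ConjClasses.mk g = C ∧
        ∀ q : ℕ, q.Prime → q ∣ orderOf g → q ∈ S} ≤ ∏ q ∈ S, q ^ (Nat.card G).factorization q := by
  induction S using Finset.induction with
  | empty =>
    intro G _ _
    haveI : Finite (ConjClasses G) := Finite.of_surjective _ ConjClasses.mk_surjective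
    rw [Finset.prod_empty, Finite.card_le_one_iff_subsingleton]
    refine ⟨fun ⟨C, g, hg, hgS⟩ ⟨C', g', hg', hgS'⟩ => Subtype.ext ?_⟩
    have key : ∀ x : G, (∀ q : ℕ, q.Prime → q ∣ orderOf x → q ∈ (∅ : Finset ℕ)) → x = 1 := by
      intro x hx
      by_contra hne
      exact Finset.notMem_empty _ (hx _ (Nat.minFac_prime (mt orderOf_eq_one_iff.1 hne))
        (Nat.minFac_dvd _))
    show C = C'
    rw [← hg, ← hg', key g hgS, key g' hgS']
  | @insert p T hpT ih =>
    intro G _ _
    classical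
    have := Fintype.ofFinite G
    haveI : Finite (ConjClasses G) := Finite.of_surjective _ ConjClasses.mk_surjective
    have hp := hS p (Finset.mem_insert_self p T)
    have := Fact.mk hp
    have ih' := ih (fun q hq => hS q (Finset.mem_insert_of_mem hq))
    let U := {C : ConjClasses G // ∃ g : G, ConjClasses.mk g = C ∧ ∃ j : ℕ, g ^ p ^ j = 1}
    have hU : Nat.card U ≤ p ^ (Nat.card G).factorization p := by
      obtain ⟨P⟩ : Nonempty (Sylow p G) := inferInstance
      rw [← P.card_eq_multiplicity]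
      refine Nat.card_le_card_of_surjective (α := P) (fun x => (⟨ConjClasses.mk (x : G), x, rfl, ?_⟩ : U)) ?_
      · obtain ⟨j, hj⟩ := P.isPGroup' x
        exact ⟨j, by simpa using congrArg Subtype.val hj⟩
      · rintro ⟨C, g, rfl, j, hj⟩
        have hpg : IsPGroup p (Subgroup.zpowers g) := by
          refine IsPGroup.of_card_dvd_pow (n := j) ?_
          rw [Nat.card_zpowers]
          exact orderOf_dvd_of_pow_eq_one hj
        obtain ⟨P', hP'⟩ := hpg.exists_le_sylow
        obtain ⟨x, hx⟩ := MulAction.exists_smul_eq G P' P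
        refine ⟨⟨x * g * x⁻¹, ?_⟩, Subtype.ext ?_⟩
        · rw [← hx, Sylow.coe_subgroup_smul]
          exact Subgroup.mem_pointwise_smul_iff_inv_smul_mem.2
            (by simpa [MulAut.smul_def, mul_assoc] using hP' (Subgroup.mem_zpowers g))
        · exact ConjClasses.mk_eq_mk_iff_isConj.2 (isConj_iff.2 ⟨x⁻¹, by group⟩)
    let W : U → Type u := fun C => {D : ConjClasses (Subgroup.centralizer ({C.1.out} : Set G)) //
      ∃ g, ConjClasses.mk g = D ∧ ∀ q : ℕ, q.Prime → q ∣ orderOf g → q ∈ T}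
    have hW : ∀ C : U, Nat.card (W C) ≤ ∏ q ∈ T, q ^ (Nat.card G).factorization q := by
      intro C
      refine (ih' (Subgroup.centralizer ({C.1.out} : Set G))).trans (Finset.prod_le_prod' fun q hq => ?_)
      exact Nat.pow_le_pow_right (hS q (Finset.mem_insert_of_mem hq)).pos
        ((Nat.factorization_le_iff_dvd Nat.card_pos.ne' Nat.card_pos.ne').2
          (Subgroup.card_subgroup_dvd_card _) q)
    let f : (Σ C : U, W C) → ConjClasses G := fun w =>
      ConjClasses.mk (w.1.1.out * (w.2.1.out : Subgroup.centralizer ({w.1.1.out} : Set G)))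
    haveI : Fintype U := Fintype.ofFinite U
    haveI : ∀ C : U, Finite (ConjClasses (Subgroup.centralizer ({C.1.out} : Set G))) :=
      fun C => Finite.of_surjective _ ConjClasses.mk_surjective
    haveI : ∀ C : U, Finite (W C) := fun C => Subtype.finite
    haveI : Finite (Set.range f) := Set.finite_coe_iff.2 (Set.finite_range f)
    have hle : Nat.card {C : ConjClasses G // ∃ g : G, ConjClasses.mk g = C ∧
        ∀ q : ℕ, q.Prime → q ∣ orderOf g → q ∈ insert p T} ≤ Nat.card (Σ C : U, W C) := by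
      refine (Nat.card_le_card_of_injective
        (fun C => (⟨C.1, ?_⟩ : Set.range f)) ?_).trans
        (Nat.card_le_card_of_surjective _ Set.rangeFactorization_surjective)
      · obtain ⟨g, hgC, hg⟩ := C.2
        obtain ⟨j, r, hr, ho⟩ := Nat.exists_eq_pow_mul_and_not_dvd (orderOf_pos g).ne' p hp.ne_one
        obtain ⟨u, v, huv, huc, hu, hv⟩ : ∃ u v : G, u * v = g ∧ Commute u v ∧ u ^ p ^ (j + 1) = 1 ∧
            v ^ r = 1 := by
          have hco : Nat.Coprime (p ^ (j + 1)) r := (hp.coprime_iff_not_dvd.2 hr).pow_left _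
          obtain ⟨c, t, hc⟩ := exists_part_exponent (Nat.one_lt_pow (by omega) hp.one_lt) hco
          obtain ⟨s1, s2, s3⟩ := split (g := g) hc (by
            rw [show p ^ (j + 1) * r = p ^ j * r * p by ring, pow_mul, ← ho, pow_orderOf_eq_one, one_pow])
          exact ⟨_, _, s3, ((Commute.refl g).inv_right).pow_pow _ _, s1, s2⟩
        let CU : U := ⟨ConjClasses.mk u, u, rfl, j + 1, hu⟩
        obtain ⟨x, hx⟩ := isConj_iff.1 (ConjClasses.mk_eq_mk_iff_isConj.1
          (Quotient.out_eq CU.1).symm)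
        have hv' : x * v * x⁻¹ ∈ Subgroup.centralizer ({CU.1.out} : Set G) := by
          rw [mem_centralizer_singleton, ← hx, conj_mul, conj_mul, huc.eq]
        let v' : Subgroup.centralizer ({CU.1.out} : Set G) := ⟨x * v * x⁻¹, hv'⟩
        let DW : W CU := ⟨ConjClasses.mk v', v', rfl, fun q hq hqv => by
          rw [Subgroup.orderOf_mk, show x * v * x⁻¹ = MulAut.conj x v from rfl,
            MulEquiv.orderOf_eq] at hqv
          have hqr : q ∣ r := hqv.trans (orderOf_dvd_of_pow_eq_one hv)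
          rcases Finset.mem_insert.1 (hg q hq (by rw [ho]; exact hqr.mul_left _)) with h | h
          · exact absurd (h ▸ hqr) hr
          · exact h⟩
        obtain ⟨y, hy⟩ := isConj_iff.1 (ConjClasses.mk_eq_mk_iff_isConj.1
          (Quotient.out_eq DW.1).symm)
        refine ⟨⟨CU, DW⟩, ?_⟩
        show ConjClasses.mk (CU.1.out * ((DW.1.out : Subgroup.centralizer ({CU.1.out} : Set G)) : G)) = C.1
        have hy' : (y : G) * (x * v * x⁻¹) * (y : G)⁻¹ = (DW.1.out : G) := by
          have := congrArg Subtype.val hy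
          simpa [v'] using this
        have hyc : (y : G) * CU.1.out * (y : G)⁻¹ = CU.1.out := by
          rw [← mem_centralizer_singleton.1 y.2, mul_inv_cancel_right]
        rw [← hgC, ConjClasses.mk_eq_mk_iff_isConj, isConj_comm, isConj_iff]
        refine ⟨y * x, ?_⟩
        calc (y : G) * x * g * ((y : G) * x)⁻¹
            = (y : G) * (x * u * x⁻¹) * (y : G)⁻¹ * ((y : G) * (x * v * x⁻¹) * (y : G)⁻¹) := by
              rw [← huv]; group
          _ = _ := by rw [hx, hyc, hy']
      · intro C C' h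
        exact Subtype.ext (Subtype.mk.inj h)
    refine hle.trans ?_
    rw [Finset.prod_insert hpT, Nat.card_sigma]
    refine (Finset.sum_le_sum fun C _ => hW C).trans ?_
    rw [Finset.sum_const, Finset.card_univ, smul_eq_mul, ← Nat.card_eq_fintype_card]
    exact Nat.mul_le_mul_right _ hU

end Cfsg.Agent.Counting
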