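import Mathlib
import Cfsg.Agent.Lib.CN.Main
import Cfsg.Agent.Lib.BrauerSuzuki.Main
import Cfsg.Agent.Lib.Char.Burnside
import Cfsg.Agent.Lib.Transfer.Basic
import Cfsg.Agent.Lib.AnisoQuad.TwoGroup
import Cfsg.Agent.Lib.PLocal.ThompsonNPC

/-!
Finite groups in which the elements outside a normal subgroup have prime power order.
-/

set_option autoImplicit false
set_option linter.style.haveILetI false
set_option linter.unusedSectionVars false

namespace Cfsg.Agent.OutsidePP

universe u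

variable {G : Type u} [Group G]

/-- All elements outside `N` have prime power order. -/
def PP (N : Subgroup G) : Prop := ∀ x : G, x ∉ N → IsPrimePow (orderOf x)

theorem exists_prime (N : Subgroup G) (h : PP N) {x : G} (hx : x ∉ N) :
    ∃ q k : ℕ, q.Prime ∧ 0 < k ∧ orderOf x = q ^ k := by
  obtain ⟨q, k, hq, hk, he⟩ := h x hx
  exact ⟨q, k, Nat.prime_iff.2 hq, hk, he.symm⟩

theorem eq_one_of_commute [Finite G] {N : Subgroup G} (h : PP N) {x m : G} (hx : x ∉ N) (hm : m ∈ N)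
    (hc : Commute x m) (hcop : (orderOf x).Coprime (orderOf m)) : m = 1 := by
  obtain ⟨q, k, hq, hk, he⟩ := exists_prime N h hx
  have hxm : x * m ∉ N := fun hh => hx ((N.mul_mem_cancel_right hm).1 hh)
  obtain ⟨s, j, hs, hj, hse⟩ := exists_prime N h hxm
  rw [hc.orderOf_mul_eq_mul_orderOf_of_coprime hcop] at hse
  have hsq : q = s :=
    (Nat.prime_dvd_prime_iff_eq hq hs).1 (hq.dvd_of_dvd_pow (hse ▸ dvd_mul_of_dvd_left (he ▸ dvd_pow_self q hk.ne') _))
  by_contra hm1
  obtain ⟨t, ht, htd⟩ := Nat.exists_prime_and_dvd (mt orderOf_eq_one_iff.1 hm1)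
  have hts : t = s := (Nat.prime_dvd_prime_iff_eq ht hs).1 (ht.dvd_of_dvd_pow (hse ▸ dvd_mul_of_dvd_right htd _))
  exact ht.ne_one (Nat.eq_one_of_dvd_coprimes hcop (by rw [he, hts, ← hsq]; exact dvd_pow_self q hk.ne') htd)

theorem order_of_image [Finite G] {H : Type*} [Group H] {N : Subgroup G} (h : PP N) (f : G →* H) {x : G}
    (hx : x ∉ N) (hfx : f x ≠ 1) : IsPrimePow (orderOf (f x)) := by
  obtain ⟨q, k, hq, hk, he⟩ := exists_prime N h hx
  obtain ⟨j, -, hj⟩ := (Nat.dvd_prime_pow hq).1 (he ▸ orderOf_map_dvd f x)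
  refine ⟨q, j, Nat.prime_iff.1 hq, Nat.pos_of_ne_zero fun h0 => hfx ?_, hj.symm⟩
  rw [← orderOf_eq_one_iff, hj, h0, pow_zero]

theorem pp_map [Finite G] {H : Type*} [Group H] {N : Subgroup G} (h : PP N) (f : G →* H)
    (hf : Function.Surjective f) : PP (N.map f) := by
  intro y hy
  obtain ⟨x, rfl⟩ := hf y
  exact order_of_image h f (fun hx => hy ⟨x, hx, rfl⟩) fun h1 => hy (h1 ▸ (N.map f).one_mem)

theorem pp_quotient [Finite G] (N : Subgroup G) [N.Normal] (h : PP N) : PP (⊥ : Subgroup (G ⧸ N)) := by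
  have := pp_map h (QuotientGroup.mk' N) (QuotientGroup.mk'_surjective N)
  rwa [QuotientGroup.map_mk'_self] at this

theorem centralizer_isPGroup [Finite G] (h : PP (⊥ : Subgroup G)) {x : G} (hx : x ≠ 1) :
    ∃ p : ℕ, p.Prime ∧ IsPGroup p ↥(Subgroup.centralizer ({x} : Set G)) := by
  obtain ⟨q, k, hq, hk, he⟩ := exists_prime ⊥ h (by simpa using hx)
  refine ⟨q, hq, ?_⟩
  haveI := Fact.mk hq
  rw [PBasic.isPGroup_iff_forall_coprime]
  rintro ⟨m, hm⟩ hcop
  rw [Subgroup.orderOf_mk] at hcop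
  refine Subtype.ext ?_
  by_contra hm1
  have hcm : Commute x m := (Subgroup.mem_centralizer_singleton_iff.1 hm).symm
  have hco : (orderOf x).Coprime (orderOf m) := by rw [he]; exact hcop.symm.pow_left k
  have hxm : x * m ≠ 1 := fun e => by
    have h1 := hcm.orderOf_mul_eq_mul_orderOf_of_coprime hco
    rw [e, orderOf_one, he, eq_comm, mul_eq_one] at h1
    exact absurd h1.1 (Nat.one_lt_pow hk.ne' hq.one_lt).ne'
  obtain ⟨s, j, hs, hj, hse⟩ := exists_prime ⊥ h (by simpa using hxm)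
  rw [hcm.orderOf_mul_eq_mul_orderOf_of_coprime hco] at hse
  obtain ⟨t, ht, htd⟩ := Nat.exists_prime_and_dvd (mt orderOf_eq_one_iff.1 hm1)
  have hts : t = s := (Nat.prime_dvd_prime_iff_eq ht hs).1 (ht.dvd_of_dvd_pow (hse ▸ dvd_mul_of_dvd_right htd _))
  have hqs : q = s :=
    (Nat.prime_dvd_prime_iff_eq hq hs).1 (hq.dvd_of_dvd_pow (hse ▸ dvd_mul_of_dvd_left (he ▸ dvd_pow_self q hk.ne') _))
  exact ht.ne_one (Nat.eq_one_of_dvd_coprimes hcop htd (dvd_of_eq (hts.trans hqs.symm)))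

theorem solvable_of_odd [Finite G] (h : PP (⊥ : Subgroup G)) (hodd : Odd (Nat.card G)) :
    Group.IsSolvable G := by
  refine CN.solvable _ G rfl hodd fun g hg => ?_
  obtain ⟨p, hp, hP⟩ := centralizer_isPGroup h hg
  haveI := Fact.mk hp
  exact hP.isNilpotent

theorem pp_subgroup {K : Subgroup G} (h : PP (⊥ : Subgroup G)) : PP (⊥ : Subgroup ↥K) := by
  intro x hx
  rw [← Subgroup.orderOf_coe]
  exact h _ (by simpa using hx)

theorem exists_four [Finite G] (h : PP (⊥ : Subgroup G)) (hns : ¬ Group.IsSolvable G) :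
    ∃ a b : G, orderOf a = 2 ∧ orderOf b = 2 ∧ Commute a b ∧ a ≠ b := by
  classical
  haveI : Fact (Nat.Prime 2) := ⟨Nat.prime_two⟩
  by_contra hne
  have hR : BrauerSuzuki.RankOne G := fun a b ha hb hc => by_contra fun hab => hne ⟨a, b, ha, hb, hc, hab⟩
  have h2 : 2 ∣ Nat.card G := by
    by_contra h2
    exact hns (solvable_of_odd h (Nat.odd_iff.2 (Nat.two_dvd_ne_zero.1 h2)))
  obtain ⟨z, hz⟩ := exists_prime_orderOf_dvd_card' 2 h2
  haveI : Fintype G := Fintype.ofFinite G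
  have hZ := BrauerSuzuki.inZStar G hR z hz
  set O := Cfsg.pPrimeCore 2 G with hO
  haveI : O.Normal := FittingCores.pPrimeCore_normal 2
  have hOcop : (Nat.card O).Coprime 2 := PBasic.pPrimeCore_coprime 2 G
  have hOsol : Group.IsSolvable ↥O := solvable_of_odd (pp_subgroup h) (Nat.coprime_two_right.1 hOcop)
  have hqsol : Group.IsSolvable (G ⧸ O) := by
    refine AnisoQuad.isSolvable_of_odd_trivial fun y hy => ?_
    obtain ⟨g, rfl⟩ := QuotientGroup.mk_surjective y
    by_contra hy1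
    have hcomm : Commute (z : G ⧸ O) (g : G ⧸ O) := by
      have h1 : ((g * z * g⁻¹ * z⁻¹ : G) : G ⧸ O) = 1 := (QuotientGroup.eq_one_iff _).2 (hZ g)
      rw [QuotientGroup.mk_mul, QuotientGroup.mk_mul, QuotientGroup.mk_mul, QuotientGroup.mk_inv,
        QuotientGroup.mk_inv, mul_inv_eq_one] at h1
      exact (mul_inv_eq_iff_eq_mul.1 h1).symm
    have hzO : z ∉ O := fun hzO => by
      have h1 : (orderOf z).Coprime 2 := PBasic.coprime_orderOf_of_mem hOcop hzO
      rw [hz] at h1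
      norm_num at h1
    have hoz : orderOf (z : G ⧸ O) = 2 := orderOf_eq_prime
      (by rw [← QuotientGroup.mk_pow, ← hz, pow_orderOf_eq_one, QuotientGroup.mk_one])
      (by rwa [Ne, QuotientGroup.eq_one_iff])
    have hq : PP (⊥ : Subgroup (G ⧸ O)) := by
      intro w hw
      obtain ⟨v, rfl⟩ := QuotientGroup.mk_surjective w
      have hv : v ∉ (⊥ : Subgroup G) := fun hv => hw (by
        rw [Subgroup.mem_bot.1 hv, QuotientGroup.mk_one]; exact Subgroup.one_mem _)
      exact order_of_image h (QuotientGroup.mk' O) hv (by simpa using hw)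
    obtain ⟨p, hp, hP⟩ := centralizer_isPGroup hq (x := (z : G ⧸ O)) (by
      intro e; rw [e, orderOf_one] at hoz; omega)
    haveI := Fact.mk hp
    have hmem : ∀ w : G ⧸ O, Commute (z : G ⧸ O) w → ∃ k, orderOf w = p ^ k := by
      intro w hw
      obtain ⟨k, hk⟩ := IsPGroup.iff_orderOf.1 hP ⟨w, Subgroup.mem_centralizer_singleton_iff.2 hw.symm⟩
      exact ⟨k, by rwa [Subgroup.orderOf_mk] at hk⟩
    obtain ⟨i, hi⟩ := hmem _ (Commute.refl _)
    rw [hoz] at hi
    have hp2 : p = 2 := ((Nat.prime_dvd_prime_iff_eq Nat.prime_two hp).1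
      (Nat.prime_two.dvd_of_dvd_pow (n := i) (hi ▸ dvd_refl 2))).symm
    obtain ⟨j, hj⟩ := hmem _ hcomm
    rw [hp2] at hj
    rcases Nat.eq_zero_or_pos j with rfl | hj0
    · exact hy1 (orderOf_eq_one_iff.1 hj)
    · rw [hj] at hy
      exact (Nat.not_even_iff_odd.2 hy) (Nat.even_pow.2 ⟨even_two, hj0.ne'⟩)
  haveI := hOsol
  haveI := hqsol
  exact hns (Group.isSolvable_of_ker_le_range O.subtype (QuotientGroup.mk' O)
    (by rw [QuotientGroup.ker_mk', Subgroup.range_subtype]))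

theorem exists_odd_prime [Finite G] (hns : ¬ Group.IsSolvable G) (r : ℕ) (hr : r.Prime) :
    ∃ p : ℕ, p.Prime ∧ p ∣ Nat.card G ∧ p ≠ 2 ∧ p ≠ r := by
  by_contra hne
  push Not at hne
  refine hns (Char.isSolvable_of_card_pq 2 r Nat.prime_two hr _ G rfl ?_)
  have h0 : Nat.card G ≠ 0 := Nat.card_pos.ne'
  by_cases hr2 : r = 2
  · refine ⟨(Nat.card G).primeFactorsList.length, 0, ?_⟩
    rw [pow_zero, mul_one]
    refine Nat.eq_prime_pow_of_unique_prime_dvd h0 fun {d} hd hdG => ?_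
    by_contra h2
    exact h2 ((hne d hd hdG h2).trans hr2)
  · obtain ⟨a, m, hm, hGm⟩ := Nat.exists_eq_pow_mul_and_not_dvd h0 2 (by norm_num)
    refine ⟨a, m.primeFactorsList.length, ?_⟩
    rw [hGm]
    congr 1
    refine Nat.eq_prime_pow_of_unique_prime_dvd (fun h => h0 (by rw [hGm, h, mul_zero])) fun {d} hd hdm => ?_
    exact hne d hd (hGm ▸ dvd_mul_of_dvd_right hdm _) fun h => hm (h ▸ hdm)

/-! ### a fixed-point-free action on an abelian group -/

/-- `x` acting without fixed points on a group `A` and every `z x` without fixed points on `V`. -/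
theorem kernel_trivial {K : Type*} [Group K] {V : Type*} [CommGroup V] [Finite V] (A : Subgroup K) [Finite ↥A]
    (hA : ∀ a ∈ A, ∀ b ∈ A, a * b = b * a) (ρ : K →* MulAut V) {p : ℕ} (hp : p.Prime) {x : K} (hx : x ^ p = 1)
    (hnorm : ∀ a ∈ A, x * a * x⁻¹ ∈ A) (hfix : ∀ a ∈ A, x * a = a * x → a = 1)
    (hV : ∀ a ∈ A, ∀ v : V, ρ (a * x) v = v → v = 1) (hcop : (Nat.card ↥A).Coprime (Nat.card V)) :
    ∀ a ∈ A, ρ a = 1 := by
  classical
  haveI := Fintype.ofFinite ↥A
  set c : ℕ → ↥A → ↥A := fun i => Nat.rec id (fun _ f a => ⟨x * (f a : K) * x⁻¹, hnorm _ (f a).2⟩) i with hc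
  have hcx : ∀ (i : ℕ) (a : ↥A), (c i a : K) = x ^ i * (a : K) * (x ^ i)⁻¹ := by
    intro i
    induction i with
    | zero => intro a; show (a : K) = _; simp
    | succ i ih => intro a; show x * (c i a : K) * x⁻¹ = _; rw [ih, pow_succ']; group
  set Nf : ℕ → ↥A → ↥A := fun i => Nat.rec (fun _ => 1) (fun i f a => f a * c i a) i with hNf
  have hN0 : ∀ a, Nf 0 a = 1 := fun a => rfl
  have hNs : ∀ i a, Nf (i + 1) a = Nf i a * c i a := fun i a => rfl
  have hcomm : ∀ a b : ↥A, a * b = b * a := fun a b => Subtype.ext (hA _ a.2 _ b.2)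
  letI : CommGroup ↥A := { (inferInstance : Group ↥A) with mul_comm := hcomm }
  have hc1 : ∀ (i : ℕ) (a b : ↥A), c i (a * b) = c i a * c i b := by
    intro i a b
    refine Subtype.ext ?_
    rw [Subgroup.coe_mul, hcx, hcx, hcx, Subgroup.coe_mul]
    group
  have hpow : ∀ (i : ℕ) (a : ↥A), ((a : K) * x) ^ i = (Nf i a : K) * x ^ i := by
    intro i
    induction i with
    | zero => intro a; simp [hN0]
    | succ i ih => intro a; rw [pow_succ, ih, hNs, Subgroup.coe_mul, hcx, pow_succ]; group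
  have hshift : ∀ (i : ℕ) (a : ↥A), (Nf (i + 1) a : K) = (a : K) * (x * (Nf i a : K) * x⁻¹) := by
    intro i a
    have h1 := hpow (i + 1) a
    rw [pow_succ', hpow i a, pow_succ'] at h1
    calc (Nf (i + 1) a : K) = (Nf (i + 1) a : K) * (x * x ^ i) * (x * x ^ i)⁻¹ := by group
      _ = (a : K) * x * ((Nf i a : K) * x ^ i) * (x * x ^ i)⁻¹ := by rw [← h1]
      _ = _ := by group
  have hfix' : ∀ (i : ℕ) (a : ↥A), 0 < i → i < p → c i a = a → a = 1 := by
    intro i a hi hip ha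
    refine Subtype.ext (hfix _ a.2 ?_)
    have h1 : Commute (x ^ i) (a : K) := mul_inv_eq_iff_eq_mul.1 (by rw [← hcx]; exact congrArg Subtype.val ha)
    have hox : orderOf x ∣ p := orderOf_dvd_of_pow_eq_one hx
    rcases (Nat.dvd_prime hp).1 hox with ho | ho
    · rw [orderOf_eq_one_iff.1 ho, one_mul, mul_one]
    · obtain ⟨j, hj⟩ := exists_pow_eq_self_of_coprime (x := x) (n := i) (by
        rw [ho]; exact (Nat.coprime_of_lt_prime hi.ne' hip hp).symm)
      have h2 := h1.pow_left j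
      rw [hj] at h2
      exact h2.eq
  have hNp : ∀ a : ↥A, Nf p a = 1 := by
    intro a
    refine Subtype.ext (hfix _ (Nf p a).2 ?_)
    have h1 : (Nf (p + 1) a : K) = (Nf p a : K) * (a : K) := by
      rw [hNs, Subgroup.coe_mul, hcx, hx, inv_one, mul_one, one_mul]
    rw [hshift, hA _ (Nf p a).2 _ a.2, mul_right_inj] at h1
    exact mul_inv_eq_iff_eq_mul.1 h1
  have hNmul : ∀ (i : ℕ) (a b : ↥A), Nf i (a * b) = Nf i a * Nf i b := by
    intro i a b
    induction i with
    | zero => simp [hN0]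
    | succ i ih => rw [hNs, hNs, hNs, ih, hc1]; exact mul_mul_mul_comm _ _ _ _
  have hNinj : ∀ i, 0 < i → i < p → Function.Injective (Nf i) := by
    intro i hi hip a b hab
    have h1 : Nf i (a * b⁻¹) = 1 := by
      have := hNmul i (a * b⁻¹) b
      rw [inv_mul_cancel_right, hab] at this
      exact right_eq_mul.1 this
    have h2 : c i (a * b⁻¹) = a * b⁻¹ := by
      refine Subtype.ext ?_
      have h3 := hshift i (a * b⁻¹)
      rw [h1, hNs, h1, one_mul] at h3
      simpa using h3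
    exact mul_inv_eq_one.1 (hfix' i _ hi hip h2)
  intro a ha
  refine MulEquiv.ext fun v => ?_
  set S : V → V := fun w => ∏ b : ↥A, ρ (b : K) w with hS
  have hSfix : ∀ w, ρ a (S w) = S w := by
    intro w
    show ρ a (∏ b : ↥A, ρ (b : K) w) = ∏ b : ↥A, ρ (b : K) w
    rw [map_prod]
    exact Fintype.prod_equiv (Equiv.mulLeft ⟨a, ha⟩) _ _ fun b => by
      show ρ a (ρ (b : K) w) = ρ (a * (b : K)) w
      rw [map_mul, MulAut.mul_apply]
  have htot : ∏ b : ↥A, ∏ i ∈ Finset.range p, ρ (((b : K) * x) ^ i) v = 1 := by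
    refine Finset.prod_eq_one fun b _ => hV _ b.2 _ ?_
    rw [map_prod]
    have hshift' : ∀ i, ρ ((b : K) * x) (ρ (((b : K) * x) ^ i) v) = ρ (((b : K) * x) ^ (i + 1)) v := by
      intro i; rw [pow_succ']; simp only [map_mul, MulAut.mul_apply]
    rw [Finset.prod_congr rfl fun i _ => hshift' i]
    have hpp : ρ (((b : K) * x) ^ p) v = ρ (((b : K) * x) ^ 0) v := by
      rw [hpow, hNp, hx, Subgroup.coe_one, one_mul, pow_zero]
    have h1 := Finset.prod_range_succ' (fun i => ρ (((b : K) * x) ^ i) v) p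
    rw [Finset.prod_range_succ, hpp] at h1
    exact mul_right_cancel h1.symm
  rw [Finset.prod_comm] at htot
  obtain ⟨q, hq⟩ : ∃ q, p = q + 1 := ⟨p - 1, (Nat.succ_pred_eq_of_pos hp.pos).symm⟩
  rw [hq, Finset.prod_range_succ'] at htot
  have hterm : ∀ i ∈ Finset.range q, ∏ b : ↥A, ρ (((b : K) * x) ^ (i + 1)) v = S (ρ (x ^ (i + 1)) v) := by
    intro i hi
    rw [Finset.mem_range] at hi
    have hbij : Function.Bijective (Nf (i + 1)) :=
      Finite.injective_iff_bijective.1 (hNinj (i + 1) (by omega) (by omega))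
    refine Fintype.prod_bijective _ hbij _ _ fun b => ?_
    rw [hpow, map_mul, MulAut.mul_apply]
  rw [Finset.prod_congr rfl hterm] at htot
  simp only [pow_zero, map_one, MulAut.one_apply, Finset.prod_const, Finset.card_univ] at htot
  have h1 : ρ a (v ^ Fintype.card ↥A) = v ^ Fintype.card ↥A := by
    rw [eq_inv_of_mul_eq_one_right htot, map_inv, map_prod, Finset.prod_congr rfl fun i _ => hSfix _]
  rw [map_pow, ← Nat.card_eq_fintype_card] at h1
  rw [MulAut.one_apply]
  exact (powCoprime hcop.symm).injective h1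

end Cfsg.Agent.OutsidePP
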