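import Mathlib
import Cfsg.Agent.Lib.Solvable.Coprime

/-!
A bound for the fixed points of the elements of a `p`-group acting coprimely.
-/

set_option autoImplicit false
set_option linter.style.haveILetI false

namespace Cfsg.Agent.CoprimeFixBound

universe u

open scoped Classical

noncomputable local instance instFintypeOfFinite {α : Type*} [Finite α] : Fintype α :=
  Fintype.ofFinite α

/-- Fixed points of `a * b ^ j`, `j < p`, are independent when `b` is fixed-point-free of order
`p`. -/
lemma prod_fix_le {V : Type u} [CommGroup V] [Finite V] {p : ℕ} [Fact p.Prime] (a b : MulAut V)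
    (hab : Commute a b) (hb : b ^ p = 1) (hfpf : ∀ v, b v = v → v = 1) :
    ∏ j : Fin p, Nat.card {v : V // (a * b ^ (j : ℕ)) v = v} ≤ Nat.card V := by
  have hpr := (Fact.out : p.Prime)
  have hcomm : ∀ i j : ℕ, Commute (a * b ^ i) (a * b ^ j) := fun i j =>
    (((Commute.refl a).mul_right (hab.pow_right j)).mul_left
      ((hab.symm.pow_left i).mul_right ((Commute.refl b).pow_pow i j)))
  have hne : ∀ m : ℕ, ¬ p ∣ m → ∀ v, (b ^ m) v = v → v = 1 := by
    intro m hm v hv
    apply hfpf
    have hcop : Nat.Coprime m p := (hpr.coprime_iff_not_dvd.2 hm).symm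
    obtain ⟨k, hk⟩ : ∃ k, m * k % p = 1 := by
      obtain ⟨x, hx⟩ := ((ZMod.isUnit_iff_coprime m p).2 hcop).exists_right_inv
      refine ⟨x.val, ?_⟩
      have h' : (((m * x.val : ℕ)) : ZMod p) = ((1 : ℕ) : ZMod p) := by
        push_cast; rw [ZMod.natCast_zmod_val, hx]
      have := (ZMod.natCast_eq_natCast_iff' _ _ p).1 h'
      rwa [Nat.mod_eq_of_lt hpr.one_lt] at this
    have hbk : (b ^ m) ^ k = b := by
      rw [← pow_mul, pow_eq_pow_mod _ hb, hk, pow_one]
    have hfix : ∀ k : ℕ, ((b ^ m) ^ k) v = v := by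
      intro k
      induction k with
      | zero => rfl
      | succ k ih => rw [pow_succ, MulAut.mul_apply, hv, ih]
    have := hfix k
    rwa [hbk] at this
  have key : ∀ (s : Finset (Fin p)) (v : Fin p → V),
      (∀ i ∈ s, (a * b ^ (i : ℕ)) (v i) = v i) → ∏ i ∈ s, v i = 1 → ∀ i ∈ s, v i = 1 := by
    intro s
    induction s using Finset.induction_on with
    | empty => intro v _ _ i hi; exact absurd hi (Finset.notMem_empty i)
    | insert j s hj ih =>
      intro v hv hprod
      set c := a * b ^ (j : ℕ) with hc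
      have h1 : ∏ i ∈ s, c (v i) * (v i)⁻¹ = 1 := by
        have h2 : ∏ i ∈ insert j s, c (v i) * (v i)⁻¹ = 1 := by
          rw [Finset.prod_mul_distrib, Finset.prod_inv_distrib, ← map_prod, hprod, map_one,
            inv_one, one_mul]
        rwa [Finset.prod_insert hj, hv j (Finset.mem_insert_self _ _), mul_inv_cancel,
          one_mul] at h2
      have h3 := ih (fun i => c (v i) * (v i)⁻¹) (fun i hi => by
        have hvi := hv i (Finset.mem_insert_of_mem hi)
        rw [map_mul, map_inv, hvi, ← MulAut.mul_apply, (hcomm i j).eq, MulAut.mul_apply, hvi]) h1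
      have h4 : ∀ i ∈ s, v i = 1 := by
        intro i hi
        have h5 : c (v i) = v i := mul_inv_eq_one.1 (h3 i hi)
        have h6 : (a * b ^ (i : ℕ)) (v i) = v i := hv i (Finset.mem_insert_of_mem hi)
        have hij : (i : ℕ) ≠ (j : ℕ) := fun e => hj (Fin.ext e ▸ hi)
        have h7 : (b ^ (i : ℕ)) (v i) = (b ^ (j : ℕ)) (v i) := by
          apply a.injective
          rw [← MulAut.mul_apply, ← MulAut.mul_apply, h6, ← hc, h5]
        rcases lt_or_gt_of_ne hij with hlt | hlt
        · refine hne ((j : ℕ) - i) (fun hd => ?_) _ ?_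
          · have := Nat.le_of_dvd (by omega) hd; omega
          · apply (b ^ (i : ℕ)).injective
            rw [← MulAut.mul_apply, ← pow_add, Nat.add_sub_of_le hlt.le, h7]
        · refine hne ((i : ℕ) - j) (fun hd => ?_) _ ?_
          · have := Nat.le_of_dvd (by omega) hd; omega
          · apply (b ^ (j : ℕ)).injective
            rw [← MulAut.mul_apply, ← pow_add, Nat.add_sub_of_le hlt.le, h7]
      intro i hi
      rcases Finset.mem_insert.1 hi with rfl | hi
      · rwa [Finset.prod_insert hj, Finset.prod_eq_one h4, mul_one] at hprod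
      · exact h4 i hi
  rw [← Nat.card_pi]
  refine Nat.card_le_card_of_injective
    (fun w : (∀ j : Fin p, {v : V // (a * b ^ (j : ℕ)) v = v}) => ∏ j : Fin p, (w j : V)) ?_
  intro w w' h
  funext j
  have h' : ∏ j : Fin p, ((w j : V) * ((w' j : V))⁻¹) = 1 := by
    rw [Finset.prod_mul_distrib, Finset.prod_inv_distrib]
    exact mul_inv_eq_one.2 h
  exact Subtype.ext (mul_inv_eq_one.1 (key Finset.univ (fun j => (w j : V) * (w' j : V)⁻¹)
    (fun i _ => by rw [map_mul, map_inv, (w i).2, (w' i).2]) h' j (Finset.mem_univ j)))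

variable {G : Type u} [Group G] [Finite G] {p : ℕ} [Fact p.Prime]

/-- The inequality for an abelian group. -/
lemma abelian_bound : ∀ (n : ℕ) (V P : Subgroup G), IsMulCommutative V → IsPGroup p P →
    P ≤ Subgroup.normalizer (V : Set G) → (Nat.card P).Coprime (Nat.card V) → Nat.card V ≤ n →
    (∏ x : P, Nat.card (V ⊓ Subgroup.centralizer (Subgroup.zpowers (x : G) : Set G) : Subgroup G)) ^ p ≤
      (Nat.card V * Nat.card (V ⊓ Subgroup.centralizer (P : Set G) : Subgroup G) ^ (p - 1)) ^
        Nat.card P := by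
  intro n
  induction n with
  | zero =>
    intro V P _ _ _ _ hn
    exact absurd hn (by have := Nat.card_pos (α := V); omega)
  | succ n ih =>
    intro V P hV hP hN hcop hn
    haveI := hV
    have hpr := (Fact.out : p.Prime)
    haveI := hP.isNilpotent
    set c := Nat.card (V ⊓ Subgroup.centralizer (P : Set G) : Subgroup G) with hc
    by_cases hfix : V ⊓ Subgroup.centralizer (P : Set G) = ⊥
    swap
    · -- split off the fixed points
      set C := V ⊓ Subgroup.centralizer (P : Set G) with hC
      set W := ⁅V, P⁆ with hW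
      have hWV : W ≤ V := CoprimeAct.commutator_le_left hN
      have hsup : ⁅V, P⁆ ⊔ C = V :=
        CoprimeAct.commutator_sup_centralizer hN hcop (Or.inl inferInstance)
      have hdisj : C ⊓ W = ⊥ := by
        rw [eq_bot_iff]
        intro x hx
        have := CoprimeAct.centralizer_inf_commutator_eq_bot (V := V) (A := P) hN hcop
        exact this.le hx
      have hWab : IsMulCommutative W := ⟨⟨fun x y => Subtype.ext (congrArg (fun v : V => (v : G))
        (mul_comm' (⟨x, hWV x.2⟩ : V) ⟨y, hWV y.2⟩))⟩⟩
      have hWN : P ≤ Subgroup.normalizer (W : Set G) := by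
        intro x hx
        rw [Subgroup.mem_normalizer_iff]
        have hmap : W.map (MulAut.conj x).toMonoidHom = W := by
          have e1 : V.map (MulAut.conj x).toMonoidHom = V := by
            ext y
            rw [Subgroup.mem_map_equiv, MulAut.conj_symm_apply,
              Subgroup.mem_normalizer_iff.1 (hN hx) (x⁻¹ * y * x)]
            simp [mul_assoc]
          have e2 : P.map (MulAut.conj x).toMonoidHom = P := by
            ext y
            rw [Subgroup.mem_map_equiv, MulAut.conj_symm_apply,
              Subgroup.mul_mem_cancel_right _ hx, Subgroup.mul_mem_cancel_left _ (inv_mem hx)]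
          rw [hW, Subgroup.map_commutator, e1, e2]
        intro y
        conv_rhs => rw [← hmap]
        rw [Subgroup.mem_map_equiv, MulAut.conj_symm_apply]
        simp [mul_assoc]
      have hmul : ∀ B : Subgroup G, B ≤ P →
          Nat.card (V ⊓ Subgroup.centralizer (B : Set G) : Subgroup G) =
            c * Nat.card (W ⊓ Subgroup.centralizer (B : Set G) : Subgroup G) := by
        intro B hB
        have hCB : C ≤ Subgroup.centralizer (B : Set G) :=
          inf_le_right.trans (Subgroup.centralizer_le hB)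
        rw [hc, ← Nat.card_prod]
        refine (Nat.card_eq_of_bijective (fun w : C × (W ⊓ Subgroup.centralizer (B : Set G) :
            Subgroup G) => (⟨(w.1 : G) * (w.2 : G), V.mul_mem w.1.2.1 (hWV w.2.2.1),
              Subgroup.mul_mem _ (hCB w.1.2) w.2.2.2⟩ :
              (V ⊓ Subgroup.centralizer (B : Set G) : Subgroup G))) ⟨?_, ?_⟩).symm
        · intro w w' h
          have h' : (w.1 : G) * w.2 = (w'.1 : G) * w'.2 := congrArg Subtype.val h
          have h2 : (w'.1 : G)⁻¹ * w.1 ∈ C ⊓ W := by
            refine ⟨C.mul_mem (C.inv_mem w'.1.2) w.1.2, ?_⟩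
            have : (w'.1 : G)⁻¹ * w.1 = (w'.2 : G) * (w.2 : G)⁻¹ := by
              rw [eq_mul_inv_iff_mul_eq, mul_assoc, h', inv_mul_cancel_left]
            rw [this]
            exact W.mul_mem w'.2.2.1 (W.inv_mem w.2.2.1)
          rw [hdisj, Subgroup.mem_bot, inv_mul_eq_one] at h2
          rw [← h2, mul_right_inj] at h'
          exact Prod.ext (Subtype.ext h2.symm) (Subtype.ext h')
        · rintro ⟨v, hv1, hv2⟩
          have hv' : v ∈ ⁅V, P⁆ ⊔ C := hsup.symm ▸ hv1
          have hWC : W ≤ Subgroup.normalizer (C : Set G) := by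
            refine le_trans ?_ (Subgroup.centralizer_le_normalizer _)
            intro a ha b hb
            exact congrArg (fun v : V => (v : G)) (mul_comm' (⟨b, hb.1⟩ : V) ⟨a, hWV ha⟩)
          rw [← hW, ← SetLike.mem_coe, Subgroup.coe_mul_of_left_le_normalizer_right W C hWC] at hv'
          obtain ⟨w, hw, k, hk, rfl⟩ := hv'
          refine ⟨(⟨k, hk⟩, ⟨w, hw, ?_⟩), Subtype.ext (congrArg (fun v : V => (v : G))
            (mul_comm' (⟨k, hk.1⟩ : V) ⟨w, hWV hw⟩))⟩
          exact (Subgroup.mul_mem_cancel_right _ (hCB hk)).1 hv2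
      have hW1 : Nat.card (W ⊓ Subgroup.centralizer (P : Set G) : Subgroup G) = 1 := by
        rw [Subgroup.card_eq_one]
        refine le_bot_iff.1 (le_trans ?_ hdisj.le)
        exact le_inf (inf_le_inf_right _ hWV) inf_le_left
      have hVc : Nat.card V = c * Nat.card W := by
        have h := hmul ⊥ bot_le
        have htop : ∀ X : Subgroup G, X ⊓ Subgroup.centralizer ((⊥ : Subgroup G) : Set G) = X :=
          fun X => inf_eq_left.2 fun x _ y hy => by
            rw [SetLike.mem_coe, Subgroup.mem_bot] at hy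
            rw [hy, one_mul, mul_one]
        rwa [htop, htop] at h
      have hlt : Nat.card W < Nat.card V := by
        rw [hVc]
        exact lt_mul_of_one_lt_left Nat.card_pos ((Subgroup.one_lt_card_iff_ne_bot _).2 hfix)
      have h := ih W P hWab hP hWN
        (hcop.coprime_dvd_right (Subgroup.card_dvd_of_le hWV)) (by omega)
      rw [hW1, one_pow, mul_one] at h
      rw [Finset.prod_congr rfl fun (x : P) _ => hmul (Subgroup.zpowers (x : G))
        (Subgroup.zpowers_le.2 x.2), Finset.prod_mul_distrib, Finset.prod_const, Finset.card_univ,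
        ← Nat.card_eq_fintype_card, mul_pow, hVc]
      calc (c ^ Nat.card P) ^ p * _ ≤ (c ^ Nat.card P) ^ p * Nat.card W ^ Nat.card P :=
            Nat.mul_le_mul_left _ h
        _ = _ := by
          rw [← pow_mul, mul_pow, mul_pow, ← pow_mul, mul_right_comm, ← pow_add]
          congr 2
          obtain ⟨j, rfl⟩ : ∃ j, p = j + 1 := ⟨p - 1, by have := hpr.one_le; omega⟩
          rw [Nat.add_sub_cancel]
          ring
    -- no common fixed point
    rw [show c = 1 by rw [hc, Subgroup.card_eq_one]; exact hfix, one_pow, mul_one]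
    by_cases hV0 : V = ⊥
    · have h1 : ∀ x : P, Nat.card (V ⊓ Subgroup.centralizer (Subgroup.zpowers (x : G) : Set G) :
          Subgroup G) = 1 := fun x => by rw [Subgroup.card_eq_one, hV0, bot_inf_eq]
      simp [h1, hV0]
    -- the action
    let χ : P →* MulAut V :=
      (MulAut.conjNormal (H := V.subgroupOf (Subgroup.normalizer (V : Set G)))).comp
        (Subgroup.inclusion hN) |> fun f => ((MulAut.congr
          (Subgroup.subgroupOfEquivOfLe (Subgroup.le_normalizer (H := V)))).toMonoidHom).comp f
    have hχ : ∀ (x : P) (v : V), (χ x v : G) = (x : G) * v * (x : G)⁻¹ := fun x v => rfl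
    have hfixiff : ∀ (x : P) (v : V), χ x v = v ↔
        (v : G) ∈ Subgroup.centralizer (Subgroup.zpowers (x : G) : Set G) := by
      intro x v
      rw [Subgroup.zpowers_eq_closure, Subgroup.centralizer_closure,
        Subgroup.mem_centralizer_singleton_iff, Subtype.ext_iff, hχ, mul_inv_eq_iff_eq_mul]
      exact eq_comm
    have hcardfix : ∀ x : P, Nat.card {v : V // χ x v = v} =
        Nat.card (V ⊓ Subgroup.centralizer (Subgroup.zpowers (x : G) : Set G) : Subgroup G) :=
      fun x => Nat.card_congr
        { toFun := fun v => ⟨(v.1 : G), v.1.2, (hfixiff x v.1).1 v.2⟩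
          invFun := fun v => ⟨⟨(v : G), v.2.1⟩, (hfixiff x ⟨(v : G), v.2.1⟩).2 v.2.2⟩
          left_inv := fun v => rfl
          right_inv := fun v => rfl }
    have hker : χ.ker ≠ ⊤ := by
      intro htop
      apply hV0
      rw [eq_bot_iff, ← hfix]
      intro v hv
      refine ⟨hv, fun x hx => ?_⟩
      have h1 : χ ⟨x, hx⟩ = 1 := MonoidHom.mem_ker.1 (htop ▸ Subgroup.mem_top _)
      have h2 : x * v * x⁻¹ = v := by
        rw [← show (χ ⟨x, hx⟩ ⟨v, hv⟩ : G) = x * v * x⁻¹ from hχ _ _, h1]; rfl
      exact mul_inv_eq_iff_eq_mul.1 h2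
    -- a central element of order `p` in the image
    have hrp : IsPGroup p χ.range := hP.of_surjective χ.rangeRestrict χ.rangeRestrict_surjective
    haveI : Nontrivial χ.range := by
      rw [Subgroup.nontrivial_iff_ne_bot]
      exact fun h => hker (MonoidHom.range_eq_bot_iff.1 h ▸ MonoidHom.ker_one)
    haveI := hrp.center_nontrivial
    obtain ⟨k, hk⟩ := IsPGroup.iff_card.1 (hrp.to_subgroup (Subgroup.center χ.range))
    have hk0 : k ≠ 0 := by
      rintro rfl
      rw [pow_zero] at hk
      exact absurd ((Nat.card_eq_one_iff_unique.1 hk).1) (not_subsingleton _)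
    obtain ⟨⟨⟨β, z, hzβ⟩, hβc⟩, hβo⟩ :=
      exists_prime_orderOf_dvd_card' (G := Subgroup.center χ.range) p (hk ▸ dvd_pow_self p hk0)
    have hβo' : orderOf β = p := by
      rw [← hβo, ← Subgroup.orderOf_coe, ← Subgroup.orderOf_coe]
    have hzcomm : ∀ x : P, Commute (χ x) (χ z) := fun x => by
      have := congrArg Subtype.val (Subgroup.mem_center_iff.1 hβc ⟨χ x, x, rfl⟩)
      show χ x * χ z = χ z * χ x
      rw [hzβ]; exact this
    by_cases hV1 : ∃ v : V, v ≠ 1 ∧ χ z v = v
    · -- reduce along `v ↦ [z, v]`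
      obtain ⟨v₁, hv₁, hzv₁⟩ := hV1
      letI : CommGroup V := { (inferInstance : Group V) with mul_comm := fun a b => mul_comm' a b }
      let φ : V →* V :=
        { toFun := fun v => χ z v * v⁻¹
          map_one' := by simp
          map_mul' := fun a b => by rw [map_mul, mul_inv]; exact mul_mul_mul_comm _ _ _ _ }
      set V0 := φ.ker.map V.subtype with hV0def
      set V1 := φ.range.map V.subtype with hV1def
      have heq : ∀ (x : P) (v : V), φ (χ x v) = χ x (φ v) := by
        intro x v
        show χ z (χ x v) * (χ x v)⁻¹ = χ x (χ z v * v⁻¹)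
        rw [map_mul, map_inv, ← MulAut.mul_apply, ← (hzcomm x).eq, MulAut.mul_apply]
      have hsub : ∀ (S : Subgroup V), (∀ (x : P) (v : V), v ∈ S → χ x v ∈ S) →
          P ≤ Subgroup.normalizer ((S.map V.subtype : Subgroup G) : Set G) := by
        intro S hS x hx
        rw [Subgroup.mem_normalizer_iff]
        intro y
        constructor
        · rintro ⟨v, hv, rfl⟩
          exact ⟨_, hS ⟨x, hx⟩ v hv, hχ _ _⟩
        · rintro ⟨v, hv, hvy⟩
          refine ⟨_, hS ⟨x, hx⟩⁻¹ v hv, ?_⟩
          show (χ ⟨x, hx⟩⁻¹ v : G) = y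
          rw [hχ]
          show x⁻¹ * (v : G) * x⁻¹⁻¹ = y
          rw [show (v : G) = x * y * x⁻¹ from hvy]; group
      have hn0 : P ≤ Subgroup.normalizer (V0 : Set G) := hsub _ fun x v hv => by
        rw [MonoidHom.mem_ker] at hv ⊢; rw [heq, hv, map_one]
      have hn1 : P ≤ Subgroup.normalizer (V1 : Set G) := hsub _ fun x v hv => by
        obtain ⟨u, rfl⟩ := hv; exact ⟨χ x u, heq x u⟩
      have hab : ∀ S : Subgroup V, IsMulCommutative (S.map V.subtype : Subgroup G) := fun S =>
        ⟨⟨fun a b => Subtype.ext (congrArg (fun v : V => (v : G))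
          (mul_comm' (⟨a, Subgroup.map_subtype_le S a.2⟩ : V) ⟨b, Subgroup.map_subtype_le S b.2⟩))⟩⟩
      have hc0 : Nat.card V0 = Nat.card φ.ker :=
        Subgroup.card_map_of_injective V.subtype_injective
      have hc1 : Nat.card V1 = Nat.card φ.range :=
        Subgroup.card_map_of_injective V.subtype_injective
      have hcV : Nat.card V0 * Nat.card V1 = Nat.card V := by
        rw [hc0, hc1, ← Subgroup.index_ker, Subgroup.card_mul_index]
      have h0big : 1 < Nat.card V0 := by
        rw [hc0, Subgroup.one_lt_card_iff_ne_bot]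
        intro h
        exact hv₁ (Subgroup.mem_bot.1 (h ▸ (show v₁ ∈ φ.ker by
          show χ z v₁ * v₁⁻¹ = 1
          rw [hzv₁, mul_inv_cancel])))
      have h1big : 1 < Nat.card V1 := by
        rw [hc1, Subgroup.one_lt_card_iff_ne_bot, Ne, MonoidHom.range_eq_bot_iff]
        intro h
        have : χ z = 1 := MulEquiv.ext fun v => by
          have := DFunLike.congr_fun h v
          exact mul_inv_eq_one.1 this
        rw [← hzβ] at hβo'
        rw [this, orderOf_one] at hβo'
        exact hpr.one_lt.ne hβo'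
      have hd0 := hcop.coprime_dvd_right (hcV ▸ dvd_mul_right _ _ : Nat.card V0 ∣ Nat.card V)
      have hd1 := hcop.coprime_dvd_right (hcV ▸ dvd_mul_left _ _ : Nat.card V1 ∣ Nat.card V)
      have hlt0 : Nat.card V0 ≤ n := by nlinarith
      have hlt1 : Nat.card V1 ≤ n := by nlinarith
      have htriv : ∀ S : Subgroup G, S ≤ V →
          Nat.card (S ⊓ Subgroup.centralizer (P : Set G) : Subgroup G) = 1 := fun S hS => by
        rw [Subgroup.card_eq_one, eq_bot_iff, ← hfix]
        exact inf_le_inf_right _ hS
      have e0 := ih V0 P (hab _) hP hn0 hd0 hlt0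
      have e1 := ih V1 P (hab _) hP hn1 hd1 hlt1
      rw [htriv _ (Subgroup.map_subtype_le _), one_pow, mul_one] at e0 e1
      have hle : ∀ x : P,
          Nat.card (V ⊓ Subgroup.centralizer (Subgroup.zpowers (x : G) : Set G) : Subgroup G) ≤
          Nat.card (V0 ⊓ Subgroup.centralizer (Subgroup.zpowers (x : G) : Set G) : Subgroup G) *
          Nat.card (V1 ⊓ Subgroup.centralizer (Subgroup.zpowers (x : G) : Set G) : Subgroup G) := by
        intro x
        set F : Subgroup V := (Subgroup.centralizer (Subgroup.zpowers (x : G) : Set G)).subgroupOf V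
          with hF
        have hmem : ∀ v : F, φ (v : V) ∈ φ.range ⊓ F := by
          intro v
          refine ⟨⟨_, rfl⟩, Subgroup.mem_subgroupOf.2 ((hfixiff x (φ (v : V))).1 ?_)⟩
          rw [← heq, (hfixiff x _).2 v.2]
        let g : F →* ↥(φ.range ⊓ F) := (φ.comp F.subtype).codRestrict _ hmem
        have e : Nat.card F ≤ Nat.card ↥(φ.ker ⊓ F) *
            Nat.card ↥(φ.range ⊓ F) := by
          rw [← Subgroup.card_mul_index g.ker, Subgroup.index_ker]
          refine Nat.mul_le_mul (Nat.card_le_card_of_injective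
            (fun v : g.ker => (⟨((v : F) : V), congrArg Subtype.val v.2, (v : F).2⟩ :
              ↥(φ.ker ⊓ F))) fun a b h =>
              Subtype.ext (Subtype.ext (congrArg (fun u : ↥(φ.ker ⊓ F) => (u : V)) h))) ?_
          exact Subgroup.card_le_card_group _
        rw [← Subgroup.card_map_of_injective V.subtype_injective,
          ← Subgroup.card_map_of_injective (K := φ.ker ⊓ F) V.subtype_injective,
          ← Subgroup.card_map_of_injective (K := φ.range ⊓ F) V.subtype_injective] at e
        have hmapF : F.map V.subtype =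
            V ⊓ Subgroup.centralizer (Subgroup.zpowers (x : G) : Set G) := by
          rw [hF, Subgroup.subgroupOf_map_subtype, inf_comm]
        have hmapS : ∀ S : Subgroup V, (S ⊓ F).map V.subtype =
            S.map V.subtype ⊓ Subgroup.centralizer (Subgroup.zpowers (x : G) : Set G) := by
          intro S
          rw [Subgroup.map_inf _ _ _ V.subtype_injective, hmapF, ← inf_assoc,
            inf_eq_left.2 (Subgroup.map_subtype_le S)]
        rwa [hmapF, hmapS, hmapS] at e
      calc _ ≤ (∏ x : P, Nat.card (V0 ⊓ Subgroup.centralizer (Subgroup.zpowers (x : G) : Set G) :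
              Subgroup G) *
            Nat.card (V1 ⊓ Subgroup.centralizer (Subgroup.zpowers (x : G) : Set G) :
              Subgroup G)) ^ p :=
            Nat.pow_le_pow_left (Finset.prod_le_prod' fun x _ => hle x) p
        _ ≤ Nat.card V0 ^ Nat.card P * Nat.card V1 ^ Nat.card P := by
            rw [Finset.prod_mul_distrib, mul_pow]; exact Nat.mul_le_mul e0 e1
        _ = _ := by rw [← mul_pow, hcV]
    -- fixed-point-free central element
    push Not at hV1
    letI : CommGroup V := { (inferInstance : Group V) with mul_comm := fun a b => mul_comm' a b }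
    have hb : χ z ^ p = 1 := by rw [hzβ, ← hβo', pow_orderOf_eq_one]
    have hfpf : ∀ v, χ z v = v → v = 1 := fun v hv => by_contra fun h => hV1 v h hv
    have hstep : ∀ x : P, ∏ j : Fin p, Nat.card {v : V // (χ (x * z ^ (j : ℕ))) v = v} ≤ Nat.card V := by
      intro x
      simp only [map_mul, map_pow]
      exact prod_fix_le (χ x) (χ z) (hzcomm x) hb hfpf
    calc (∏ x : P, Nat.card (V ⊓ Subgroup.centralizer (Subgroup.zpowers (x : G) : Set G) :
            Subgroup G)) ^ p
        = (∏ x : P, Nat.card {v : V // χ x v = v}) ^ p := by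
          rw [Finset.prod_congr rfl fun x _ => (hcardfix x).symm]
      _ = ∏ _j : Fin p, ∏ x : P, Nat.card {v : V // χ x v = v} := by
          rw [Finset.prod_const, Finset.card_univ, Fintype.card_eq_nat_card, Nat.card_fin]
      _ = ∏ j : Fin p, ∏ x : P, Nat.card {v : V // χ (x * z ^ (j : ℕ)) v = v} :=
          Finset.prod_congr rfl fun j _ => (Equiv.prod_comp (Equiv.mulRight (z ^ (j : ℕ)))
            (fun x : P => Nat.card {v : V // χ x v = v})).symm
      _ = ∏ x : P, ∏ j : Fin p, Nat.card {v : V // χ (x * z ^ (j : ℕ)) v = v} := Finset.prod_comm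
      _ ≤ ∏ _x : P, Nat.card V := Finset.prod_le_prod' fun x _ => hstep x
      _ = _ := by rw [Finset.prod_const, Finset.card_univ, ← Nat.card_eq_fintype_card]

omit [Fact p.Prime] in
lemma card_inf_eq_mul {G' : Type u} [Group G'] (f : G →* G') (X : Subgroup G) :
    Nat.card X = Nat.card (f.ker ⊓ X : Subgroup G) * Nat.card (X.map f) := by
  have h1 := Subgroup.card_mul_index (f.comp X.subtype).ker
  rw [Subgroup.index_ker, MonoidHom.range_comp, Subgroup.range_subtype] at h1
  rw [← h1, ← Subgroup.card_map_of_injective (K := (f.comp X.subtype).ker) X.subtype_injective]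
  rw [show (f.comp X.subtype).ker.map X.subtype = f.ker ⊓ X from ?_]
  ext y
  constructor
  · rintro ⟨v, hv, rfl⟩
    exact ⟨hv, v.2⟩
  · rintro ⟨hy, hyX⟩
    exact ⟨⟨y, hyX⟩, hy, rfl⟩

/-- The inequality for a group of prime power order. -/
lemma rGroup_bound {r : ℕ} [Fact r.Prime] : ∀ (n : ℕ) (G : Type u) [Group G] [Finite G]
    (K P : Subgroup G), K.Normal → IsPGroup r K → IsPGroup p P →
    (Nat.card P).Coprime (Nat.card K) → Nat.card K ≤ n →
    (∏ x : P, Nat.card (K ⊓ Subgroup.centralizer (Subgroup.zpowers (x : G) : Set G) : Subgroup G)) ^ p ≤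
      (Nat.card K * Nat.card (K ⊓ Subgroup.centralizer (P : Set G) : Subgroup G) ^ (p - 1)) ^
        Nat.card P := by
  intro n
  induction n with
  | zero =>
    intro G _ _ K P _ _ _ _ hn
    exact absurd hn (by have := Nat.card_pos (α := K); omega)
  | succ n ih =>
    intro G _ _ K P hK hKr hP hcop hn
    by_cases hab : IsMulCommutative K
    · exact abelian_bound (p := p) (n + 1) K P hab hP
        (Subgroup.normalizer_eq_top_iff.2 hK ▸ le_top) hcop hn
    set Z := (Subgroup.center K).map K.subtype with hZ
    haveI hZn : Z.Normal := FittingCores.normal_map_of_characteristic hK Subgroup.centerCharacteristic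
    have hZK : Z ≤ K := Subgroup.map_subtype_le _
    have hKnt : Nontrivial K := by
      by_contra h
      rw [not_nontrivial_iff_subsingleton] at h
      exact hab ⟨⟨fun a b => Subsingleton.elim _ _⟩⟩
    haveI := hKr.center_nontrivial
    have hZ1 : 1 < Nat.card Z := by
      rw [hZ, Subgroup.card_map_of_injective K.subtype_injective]
      exact Finite.one_lt_card
    have hZab : IsMulCommutative Z := ⟨⟨fun a b => by
      obtain ⟨a', ha', hae⟩ := a.2
      obtain ⟨b', hb', hbe⟩ := b.2
      apply Subtype.ext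
      show (a : G) * b = b * a
      rw [← hae, ← hbe]
      exact congrArg Subtype.val (Subgroup.mem_center_iff.1 hb' a')⟩⟩
    set f := QuotientGroup.mk' Z with hf
    have hcPK : ∀ B : Subgroup G, B ≤ P →
        Nat.card (K ⊓ Subgroup.centralizer (B : Set G) : Subgroup G) =
          Nat.card (Z ⊓ Subgroup.centralizer (B : Set G) : Subgroup G) *
            Nat.card (K.map f ⊓ Subgroup.centralizer ((B.map f : Subgroup (G ⧸ Z)) : Set (G ⧸ Z)) :
              Subgroup (G ⧸ Z)) := by
      intro B hB
      haveI := (hP.to_le hB).isNilpotent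
      rw [card_inf_eq_mul f (K ⊓ Subgroup.centralizer (B : Set G)),
        CoprimeAct.map_inf_centralizer f (Subgroup.normalizer_eq_top_iff.2 hK ▸ le_top)
          (hcop.coprime_dvd_left (Subgroup.card_dvd_of_le hB)) (Or.inl inferInstance),
        QuotientGroup.ker_mk', ← inf_assoc, inf_eq_left.2 hZK]
    have hKc : Nat.card K = Nat.card Z * Nat.card (K.map f) := by
      rw [card_inf_eq_mul f K, QuotientGroup.ker_mk', inf_eq_left.2 hZK]
    have hinj : Set.InjOn f P := by
      intro a ha b hb hab'
      have h1 : a⁻¹ * b ∈ Z := QuotientGroup.eq.1 hab'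
      have h2 : a⁻¹ * b ∈ P ⊓ K := ⟨P.mul_mem (P.inv_mem ha) hb, hZK h1⟩
      rw [(Subgroup.disjoint_of_coprime_natCard hcop).eq_bot, Subgroup.mem_bot, inv_mul_eq_one] at h2
      exact h2
    let e : P ≃ P.map f := Equiv.ofBijective (fun x => ⟨f x, ⟨x, x.2, rfl⟩⟩)
      ⟨fun a b h => Subtype.ext (hinj a.2 b.2 (congrArg Subtype.val h)),
        fun y => by obtain ⟨x, hx, hxy⟩ := y.2; exact ⟨⟨x, hx⟩, Subtype.ext hxy⟩⟩
    have hPc : Nat.card (P.map f) = Nat.card P := (Nat.card_congr e).symm
    have e1 := ih (G ⧸ Z) (K.map f) (P.map f) (hK.map f (QuotientGroup.mk'_surjective Z))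
      (hKr.map f) (hP.map f) (by
        rw [hPc]; exact hcop.coprime_dvd_right (hKc ▸ dvd_mul_left _ _))
      (by
        have := hn
        rw [hKc] at this
        have h1 : 2 * Nat.card (K.map f) ≤ n + 1 := le_trans (Nat.mul_le_mul_right _ hZ1) this
        omega)
    rw [hPc] at e1
    have e0 := abelian_bound (p := p) (Nat.card Z) Z P hZab hP
      (Subgroup.normalizer_eq_top_iff.2 hZn ▸ le_top)
      (hcop.coprime_dvd_right (hKc ▸ dvd_mul_right _ _)) le_rfl
    rw [Finset.prod_congr rfl fun (x : P) _ => hcPK (Subgroup.zpowers (x : G))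
      (Subgroup.zpowers_le.2 x.2), Finset.prod_mul_distrib, mul_pow, hcPK P le_rfl, hKc]
    refine (Nat.mul_le_mul e0 (le_trans (le_of_eq ?_) e1)).trans (le_of_eq ?_)
    · congr 1
      refine Finset.prod_equiv (M := ℕ) e (fun _ => by simp) fun x _ => ?_
      rw [MonoidHom.map_zpowers]
      rfl
    · rw [← mul_pow, mul_pow (Nat.card (Z ⊓ Subgroup.centralizer (P : Set G) : Subgroup G))]
      congr 1
      ring

/-- An invariant Sylow subgroup meets each centralizer in a Sylow subgroup of it. -/
lemma card_sylow_inf {r : ℕ} [Fact r.Prime] {K B : Subgroup G}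
    (hBK : B ≤ Subgroup.normalizer (K : Set G)) (hcop : (Nat.card B).Coprime (Nat.card K))
    (hB : Group.IsSolvable B) (R : Sylow r K)
    (hR : B ≤ Subgroup.normalizer (((R : Subgroup K).map K.subtype : Subgroup G) : Set G)) :
    Nat.card ((R : Subgroup K).map K.subtype ⊓ Subgroup.centralizer (B : Set G) : Subgroup G) =
      r ^ (Nat.card (K ⊓ Subgroup.centralizer (B : Set G) : Subgroup G)).factorization r := by
  set C := K ⊓ Subgroup.centralizer (B : Set G) with hC
  set R' := (R : Subgroup K).map K.subtype with hR'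
  obtain ⟨U⟩ := (inferInstance : Nonempty (Sylow r C))
  set U' := (U : Subgroup C).map C.subtype with hU'
  have hU'C : U' ≤ C := Subgroup.map_subtype_le _
  have hUB : B ≤ Subgroup.normalizer (U' : Set G) := by
    refine le_trans ?_ (Subgroup.centralizer_le_normalizer _)
    rw [Subgroup.le_centralizer_iff]
    exact hU'C.trans inf_le_right
  obtain ⟨Q, hUQ, hQ⟩ := CoprimeAct.exists_invariant_sylow_ge hBK hcop (Or.inl hB)
    (hU'C.trans inf_le_left) (U.isPGroup'.map _) hUB
  obtain ⟨c, hc, hcQ⟩ := CoprimeAct.invariant_sylow_conj hBK hcop (Or.inl hB) Q R hQ hR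
  obtain ⟨m, hm⟩ := IsPGroup.iff_card.1 ((R.isPGroup'.map K.subtype).to_le
    (inf_le_left : R' ⊓ Subgroup.centralizer (B : Set G) ≤ R'))
  refine le_antisymm (Nat.le_of_dvd (pow_pos (Fact.out : r.Prime).pos _) ?_) ?_
  · have hd : Nat.card (R' ⊓ Subgroup.centralizer (B : Set G) : Subgroup G) ∣ Nat.card C :=
      Subgroup.card_dvd_of_le (inf_le_inf_right _ (Subgroup.map_subtype_le _))
    rw [hm] at hd ⊢
    exact Nat.pow_dvd_pow r
      (((Fact.out : r.Prime).pow_dvd_iff_le_factorization Nat.card_pos.ne').1 hd)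
  · rw [← U.card_eq_multiplicity, ← Subgroup.card_map_of_injective C.subtype_injective,
      ← Subgroup.card_map_of_injective (f := (MulAut.conj (c : G)).toMonoidHom)
        (MulAut.conj (c : G)).injective]
    refine Subgroup.card_le_of_le ?_
    rintro _ ⟨u, hu, rfl⟩
    refine ⟨?_, ?_⟩
    · obtain ⟨q, hq, hqu⟩ := hUQ hu
      show _ ∈ (R : Subgroup K).map K.subtype
      rw [← hcQ]
      refine ⟨c * q * c⁻¹, ?_, ?_⟩
      · exact ⟨q, hq, rfl⟩
      · show (c : G) * (q : G) * (c : G)⁻¹ = (c : G) * u * (c : G)⁻¹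
        rw [show (q : G) = u from hqu]
    · exact Subgroup.mul_mem _ (Subgroup.mul_mem _ hc (hU'C hu).2) (Subgroup.inv_mem _ hc)

/-- The fixed-point bound for a `p`-group acting on a group of order prime to `p`. -/
theorem bound (K P : Subgroup G) (hP : IsPGroup p P) (hN : P ≤ Subgroup.normalizer (K : Set G))
    (hcop : (Nat.card P).Coprime (Nat.card K)) :
    (∏ x : P, Nat.card (K ⊓ Subgroup.centralizer (Subgroup.zpowers (x : G) : Set G) : Subgroup G)) ^ p ≤
      (Nat.card K * Nat.card (K ⊓ Subgroup.centralizer (P : Set G) : Subgroup G) ^ (p - 1)) ^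
        Nat.card P := by
  haveI := hP.isNilpotent
  have hex : ∀ r : (Nat.card K).primeFactors, ∃ S : Subgroup G, S ≤ K ∧
      P ≤ Subgroup.normalizer (S : Set G) ∧ IsPGroup r S ∧
      ∀ B : Subgroup G, B ≤ P → Nat.card (S ⊓ Subgroup.centralizer (B : Set G) : Subgroup G) =
        (r : ℕ) ^ (Nat.card (K ⊓ Subgroup.centralizer (B : Set G) : Subgroup G)).factorization r := by
    intro r
    haveI := Fact.mk (Nat.prime_of_mem_primeFactors r.2)
    obtain ⟨R, hR⟩ := CoprimeAct.exists_invariant_sylow hN hcop (Or.inl inferInstance) r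
    refine ⟨_, Subgroup.map_subtype_le _, hR, R.isPGroup'.map _, fun B hB => ?_⟩
    haveI := (hP.to_le hB).isNilpotent
    exact card_sylow_inf (hB.trans hN) (hcop.coprime_dvd_left (Subgroup.card_dvd_of_le hB))
      inferInstance R (hB.trans hR)
  choose S hSK hSN hSr hSc using hex
  have hprod : ∀ B : Subgroup G, B ≤ P →
      Nat.card (K ⊓ Subgroup.centralizer (B : Set G) : Subgroup G) =
        ∏ r : (Nat.card K).primeFactors,
          Nat.card (S r ⊓ Subgroup.centralizer (B : Set G) : Subgroup G) := by
    intro B hB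
    rw [Finset.prod_congr rfl fun r _ => hSc r B hB,
      Finset.prod_coe_sort (Nat.card K).primeFactors (fun r =>
        r ^ (Nat.card (K ⊓ Subgroup.centralizer (B : Set G) : Subgroup G)).factorization r)]
    conv_lhs => rw [Nat.prod_primeFactors_pow_factorization (Nat.card_pos
      (α := (K ⊓ Subgroup.centralizer (B : Set G) : Subgroup G))).ne']
    refine Finset.prod_subset (Nat.primeFactors_mono (Subgroup.card_dvd_of_le inf_le_left)
      Nat.card_pos.ne') fun r _ hr => ?_
    rw [← Nat.support_factorization, Finsupp.notMem_support_iff] at hr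
    rw [hr, pow_zero]
  have hKprod : Nat.card K = ∏ r : (Nat.card K).primeFactors, Nat.card (S r) := by
    have htop : ∀ X : Subgroup G, X ⊓ Subgroup.centralizer ((⊥ : Subgroup G) : Set G) = X :=
      fun X => inf_eq_left.2 fun x _ y hy => by
        rw [SetLike.mem_coe, Subgroup.mem_bot] at hy
        rw [hy, one_mul, mul_one]
    have h := hprod ⊥ bot_le
    rw [htop] at h
    simpa only [htop] using h
  have hloc : ∀ r : (Nat.card K).primeFactors,
      (∏ x : P, Nat.card (S r ⊓ Subgroup.centralizer (Subgroup.zpowers (x : G) : Set G) : Subgroup G)) ^ p ≤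
        (Nat.card (S r) * Nat.card (S r ⊓ Subgroup.centralizer (P : Set G) : Subgroup G) ^ (p - 1)) ^
          Nat.card P := by
    intro r
    haveI := Fact.mk (Nat.prime_of_mem_primeFactors r.2)
    set J := Subgroup.normalizer (S r : Set G) with hJ
    have e0 := rGroup_bound (p := p) (r := (r : ℕ)) _ J ((S r).subgroupOf J) (P.subgroupOf J)
      Subgroup.normal_in_normalizer (hSr r).comap_subtype hP.comap_subtype (by
        rw [Nat.card_congr (Subgroup.subgroupOfEquivOfLe (hSN r)).toEquiv,
          Nat.card_congr (Subgroup.subgroupOfEquivOfLe (Subgroup.le_normalizer (H := S r))).toEquiv]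
        exact hcop.coprime_dvd_right (Subgroup.card_dvd_of_le (hSK r))) le_rfl
    have hcB : ∀ B : Subgroup G, B ≤ J → Nat.card ((S r).subgroupOf J ⊓
        Subgroup.centralizer ((B.subgroupOf J : Subgroup J) : Set J) : Subgroup J) =
        Nat.card (S r ⊓ Subgroup.centralizer (B : Set G) : Subgroup G) := by
      intro B hB
      refine Nat.card_congr
        { toFun := fun v => ⟨((v : J) : G), v.2.1, fun b hb =>
            congrArg Subtype.val (v.2.2 (⟨b, hB hb⟩ : J) hb)⟩
          invFun := fun v => ⟨⟨(v : G), Subgroup.le_normalizer v.2.1⟩, v.2.1, fun b hb =>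
            Subtype.ext (v.2.2 (b : G) hb)⟩
          left_inv := fun v => rfl
          right_inv := fun v => rfl }
    rw [Nat.card_congr (Subgroup.subgroupOfEquivOfLe (Subgroup.le_normalizer (H := S r))).toEquiv,
      Nat.card_congr (Subgroup.subgroupOfEquivOfLe (hSN r)).toEquiv, hcB P (hSN r)] at e0
    refine le_trans (le_of_eq ?_) e0
    congr 1
    refine Finset.prod_equiv (M := ℕ) (Subgroup.subgroupOfEquivOfLe (hSN r)).symm.toEquiv (fun _ => by simp) fun x _ => ?_
    rw [← hcB _ (Subgroup.zpowers_le.2 (hSN r x.2))]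
    congr 3
    ext v
    rw [Subgroup.mem_inf, Subgroup.mem_inf]
    refine and_congr_right fun _ => ?_
    rw [Subgroup.mem_centralizer_iff, Subgroup.mem_centralizer_iff]
    constructor
    · intro h b hb
      refine h b ?_
      obtain ⟨i, hi⟩ := hb
      exact ⟨i, by rw [← hi]; rfl⟩
    · intro h b hb
      refine h b ?_
      obtain ⟨i, hi⟩ := hb
      exact ⟨i, Subtype.ext ((map_zpow J.subtype _ i).trans hi)⟩
  calc (∏ x : P, Nat.card (K ⊓ Subgroup.centralizer (Subgroup.zpowers (x : G) : Set G) : Subgroup G)) ^ p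
      = ∏ r : (Nat.card K).primeFactors,
          (∏ x : P, Nat.card (S r ⊓ Subgroup.centralizer (Subgroup.zpowers (x : G) : Set G) :
            Subgroup G)) ^ p := by
        rw [Finset.prod_congr rfl fun (x : P) _ => hprod (Subgroup.zpowers (x : G))
          (Subgroup.zpowers_le.2 x.2), Finset.prod_comm, Finset.prod_pow]
    _ ≤ ∏ r : (Nat.card K).primeFactors,
          (Nat.card (S r) * Nat.card (S r ⊓ Subgroup.centralizer (P : Set G) : Subgroup G) ^ (p - 1)) ^
            Nat.card P := Finset.prod_le_prod' fun r _ => hloc r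
    _ = _ := by
        rw [Finset.prod_pow, Finset.prod_mul_distrib, Finset.prod_pow, ← hKprod, ← hprod P le_rfl]

end Cfsg.Agent.CoprimeFixBound
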