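import Cfsg.Agent.Lib.FGStruct.SmallStructure

/-!
An abelian noncyclic group of order eight forces the 2-core of a minimal solvable overgroup to be a Sylow 2-subgroup.
-/

set_option autoImplicit false
set_option linter.style.haveILetI false
open scoped commutatorElement

namespace Cfsg.Agent.SmallTwo

variable {S : Type*} [Group S] [Finite S]

theorem eq_or_eq_of_card_two {F : Subgroup S} {z : S} (hz : z ∈ F) (hz1 : z ≠ 1) (h2 : Nat.card F ≤ 2) :
    ∀ f ∈ F, f = 1 ∨ f = z := by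
  intro f hf
  by_contra hc
  push Not at hc
  have hsub : ({1, z, f} : Set S) ⊆ (F : Set S) := by
    rintro w (rfl | rfl | rfl)
    exacts [one_mem _, hz, hf]
  have h := Set.ncard_le_ncard hsub (Set.toFinite _)
  rw [Set.ncard_insert_of_notMem (by simp [Ne.symm hz1, Ne.symm hc.1]), Set.ncard_pair (Ne.symm hc.2),
    ← Nat.card_coe_set_eq] at h
  have h' : 3 ≤ Nat.card F := h
  omega

theorem two_mul_card_le {H K : Subgroup S} (h : H < K) : 2 * Nat.card H ≤ Nat.card K := by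
  obtain ⟨m, hm⟩ := Subgroup.card_dvd_of_le h.le
  have hne : Nat.card H ≠ Nat.card K := fun e => h.ne (Subgroup.eq_of_le_of_card_ge h.le e.ge)
  rcases m with _ | _ | m
  · rw [mul_zero] at hm; exact absurd hm Nat.card_pos.ne'
  · rw [zero_add, mul_one] at hm; exact absurd hm.symm hne
  · rw [hm, mul_comm 2]; exact Nat.mul_le_mul_left _ (by omega)

/-- An element inducing an inner automorphism on a self-centralizing subgroup lies in it. -/
theorem q8_kernel {O : Subgroup S} (hCO : Subgroup.centralizer (O : Set S) ≤ O) {z i j s : S}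
    (hi : i ∈ O) (hj : j ∈ O) (hzi : i * z = z * i) (hzj : j * z = z * j)
    (hji : j * i * j⁻¹ = i * z) (hij : i * j * i⁻¹ = j * z)
    (hgen : ∀ c : S, c * i = i * c → c * j = j * c → ∀ w ∈ O, c * w = w * c)
    (hsi : s * i * s⁻¹ = i ∨ s * i * s⁻¹ = i * z) (hsj : s * j * s⁻¹ = j ∨ s * j * s⁻¹ = j * z) :
    s ∈ O := by
  obtain ⟨o, ho, hoi, hoj⟩ : ∃ o ∈ O, o * i * o⁻¹ = s * i * s⁻¹ ∧ o * j * o⁻¹ = s * j * s⁻¹ := by
    rcases hsi with a | a <;> rcases hsj with b | b <;> rw [a, b]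
    · exact ⟨1, one_mem _, by group, by group⟩
    · exact ⟨i, hi, by group, hij⟩
    · exact ⟨j, hj, hji, by group⟩
    · refine ⟨i * j, mul_mem hi hj, ?_, ?_⟩
      · calc i * j * i * (i * j)⁻¹ = i * (j * i * j⁻¹) * i⁻¹ := by group
          _ = i * (i * z) * i⁻¹ := by rw [hji]
          _ = i * z := by rw [hzi]; group; rw [← hzi]
      · calc i * j * j * (i * j)⁻¹ = i * j * i⁻¹ := by group
          _ = j * z := hij
  have key : ∀ x : S, o * x * o⁻¹ = s * x * s⁻¹ → o⁻¹ * s * x = x * (o⁻¹ * s) := fun x h => by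
    calc o⁻¹ * s * x = o⁻¹ * (s * x * s⁻¹) * s := by group
      _ = o⁻¹ * (o * x * o⁻¹) * s := by rw [h]
      _ = _ := by group
  have hc : o⁻¹ * s ∈ O := hCO (Subgroup.mem_centralizer_iff.2 fun w hw =>
    (hgen _ (key i hoi) (key j hoj) w hw).symm)
  rw [show s = o * (o⁻¹ * s) by group]
  exact mul_mem ho hc

/-- A one-involution group of order eight containing no abelian noncyclic group of order eight cannot be the
self-centralizing 2-core of a group with one. -/
theorem no_quaternion_core {O T A : Subgroup S} (hT : IsPGroup 2 T) (hOT : O ≤ T) (hAT : A ≤ T)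
    (hO : T ≤ Subgroup.normalizer (O : Set S)) (hCO : Subgroup.centralizer (O : Set S) ≤ O)
    (hA : IsMulCommutative A) (hAnc : ¬ IsCyclic A) (hA8 : Nat.card A = 8) (h8 : Nat.card O = 8) {z : S}
    (hz : z ∈ O) (hz1 : z ≠ 1) (hz2 : z * z = 1) (hzc : ∀ x ∈ O, x * z = z * x)
    (hcm : ∀ x ∈ O, ∀ y ∈ O, x * y * x⁻¹ * y⁻¹ ∈ ({1, z} : Set S))
    (hone : ∀ x ∈ O, x ≠ 1 → x ≠ z → x * x = z) {i₀ j₀ : S} (hi₀ : i₀ ∈ O) (hj₀ : j₀ ∈ O)
    (hij₀ : i₀ * j₀ ≠ j₀ * i₀) : False := by
  classical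
  haveI : Fact (Nat.Prime 2) := ⟨Nat.prime_two⟩
  obtain ⟨B, hBO, hB4, hBN, z', hz'B, hz'1, hz'2, hz'c, hBc⟩ := exists_four hT hOT hO (by rw [h8]; norm_num)
  have inv_mem_O : ∀ x ∈ O, x * x = 1 → x = 1 ∨ x = z := fun x hx h => by
    by_contra hc
    push Not at hc
    exact hz1 ((hone x hx hc.1 hc.2).symm.trans h)
  obtain rfl : z' = z := (inv_mem_O z' (hBO hz'B) hz'2).resolve_left hz'1
  obtain ⟨i, hiB, hi1, hiz⟩ : ∃ i ∈ B, i ≠ 1 ∧ i ≠ z' := by
    by_contra hc
    push Not at hc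
    have hsub : (B : Set S) ⊆ {1, z'} := fun w hw => by
      by_cases h : w = 1
      · exact Or.inl h
      · exact Or.inr (hc w hw h)
    have h := Set.ncard_le_ncard hsub (Set.toFinite _)
    rw [← Nat.card_coe_set_eq, Set.ncard_pair (Ne.symm hz1)] at h
    have h' : Nat.card B ≤ 2 := h
    omega
  have hiO := hBO hiB
  have hii : i * i = z' := hone i hiO hi1 hiz
  have hio : orderOf i = 4 := by
    refine orderOf_eq_prime_pow (p := 2) (n := 1) (fun h => hz1 ?_) ?_
    · rw [pow_one, pow_two, hii] at h; exact h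
    · rw [show 2 ^ (1 + 1) = 2 + 2 by norm_num, pow_add, pow_two, hii, hz2]
  have hBi : Subgroup.zpowers i = B := Subgroup.eq_of_le_of_card_ge (Subgroup.zpowers_le.2 hiB)
    (by rw [Nat.card_zpowers, hio, hB4])
  have hBcomm := comm_of_zpowers hBi
  have hcz : ∀ c ∈ Subgroup.zpowers z', c = 1 ∨ c = z' := fun c hc => by
    refine inv_mem_O c (Subgroup.zpowers_le.2 hz hc) ?_
    obtain ⟨n, rfl⟩ := hc
    rw [← (Commute.refl z').mul_zpow, hz2, one_zpow]
  obtain ⟨j, hj, hjB⟩ : ∃ j ∈ O, j ∉ B := by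
    refine SetLike.not_le_iff_exists.1 fun h => ?_
    have := Subgroup.card_le_of_le h
    omega
  have hsplit : ∀ w ∈ O, ∃ b ∈ B, w = b ∨ w = j * b := by
    let f : Bool × B → O := fun t =>
      ⟨(if t.1 then j else 1) * t.2, mul_mem (by split <;> [exact hj; exact one_mem O]) (hBO t.2.2)⟩
    have hinj : Function.Injective f := by
      rintro ⟨e, b⟩ ⟨e', b'⟩ h
      have h' := congrArg Subtype.val h
      cases e <;> cases e' <;> simp [f] at h'
      · exact Prod.ext rfl h'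
      · refine (hjB ?_).elim
        rw [eq_mul_inv_of_mul_eq h'.symm]
        exact mul_mem b.2 (inv_mem b'.2)
      · refine (hjB ?_).elim
        rw [eq_mul_inv_of_mul_eq h']
        exact mul_mem b'.2 (inv_mem b.2)
      · exact Prod.ext rfl h'
    have hbij := (Nat.bijective_iff_injective_and_card f).2 ⟨hinj, by
      rw [Nat.card_prod, hB4, h8, Nat.card_eq_fintype_card, Fintype.card_bool]⟩
    intro w hw
    obtain ⟨⟨e, b⟩, heb⟩ := hbij.2 ⟨w, hw⟩
    have h' := congrArg Subtype.val heb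
    refine ⟨b, b.2, ?_⟩
    cases e <;> simp [f] at h'
    · exact Or.inl h'.symm
    · exact Or.inr h'.symm
  have hgen : ∀ c : S, c * i = i * c → c * j = j * c → ∀ w ∈ O, c * w = w * c := by
    intro c hci hcj w hw
    obtain ⟨b, hb, h⟩ := hsplit w hw
    rw [← hBi] at hb
    obtain ⟨n, rfl⟩ := hb
    have hcb : Commute c (i ^ n) := (show Commute c i from hci).zpow_right n
    rcases h with rfl | rfl
    exacts [hcb.eq, ((show Commute c j from hcj).mul_right hcb).eq]
  have hji_ne : j * i ≠ i * j := fun e => hij₀ ((hgen i₀ ((hgen i rfl e.symm i₀ hi₀).symm)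
    ((hgen j e rfl i₀ hi₀).symm) j₀ hj₀))
  have hji : j * i * j⁻¹ = i * z' := by
    rcases hcm j hj i hiO with h | h
    · exact absurd (mul_inv_eq_iff_eq_mul.1 (mul_inv_eq_one.1 h)) hji_ne
    · rw [Set.mem_singleton_iff, mul_inv_eq_iff_eq_mul] at h; rw [h, hzc i hiO]
  have hij : i * j * i⁻¹ = j * z' := by
    rcases hcm i hiO j hj with h | h
    · exact absurd (mul_inv_eq_iff_eq_mul.1 (mul_inv_eq_one.1 h)).symm hji_ne
    · rw [Set.mem_singleton_iff, mul_inv_eq_iff_eq_mul] at h; rw [h, hzc j hj]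
  have hconjB : ∀ s ∈ T, ∀ b ∈ B, ∃ c, (c = 1 ∨ c = z') ∧ s * b * s⁻¹ = c * b := fun s hs b hb =>
    ⟨_, hcz _ (hBc b hb s hs), by group⟩
  have hj' : ∀ s ∈ T, ∃ b ∈ B, s * j * s⁻¹ = j * b := by
    intro s hs
    obtain ⟨b, hb, h⟩ := hsplit _ ((Subgroup.mem_normalizer_iff.1 (hO hs) j).1 hj)
    rcases h with h | h
    · exact (hjB ((Subgroup.mem_normalizer_iff.1 (hBN hs) j).2 (by rw [h]; exact hb))).elim
    · exact ⟨b, hb, h⟩
  have hker : ∀ s ∈ T, ∀ b, (b = 1 ∨ b = z') → s * j * s⁻¹ = j * b → s ∈ O := by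
    intro s hs b hb h
    refine q8_kernel hCO hiO hj (hzc i hiO) (hzc j hj) hji hij hgen ?_ ?_
    · obtain ⟨c, hc, e⟩ := hconjB s hs i hiB
      rcases hc with rfl | rfl
      · exact Or.inl (by rw [e, one_mul])
      · exact Or.inr (by rw [e, hzc i hiO])
    · rcases hb with rfl | rfl
      · exact Or.inl (by rw [h, mul_one])
      · exact Or.inr h
  have hsqB : ∀ b ∈ B, b ≠ 1 → b ≠ z' → b * b = z' := fun b hb h1 h2 => hone b (hBO hb) h1 h2
  have hmulB : ∀ b ∈ B, ∀ b' ∈ B, b * b = z' → b' * b' = z' → b * b' = 1 ∨ b * b' = z' := by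
    intro b hb b' hb' h h'
    refine inv_mem_O _ (mul_mem (hBO hb) (hBO hb')) ?_
    calc b * b' * (b * b') = b * (b' * b) * b' := by group
      _ = b * (b * b') * b' := by rw [hBcomm b' hb' b hb]
      _ = (b * b) * (b' * b') := by group
      _ = 1 := by rw [h, h', hz2]
  have hout : ∀ s ∈ T, s ∉ O → ∃ b ∈ B, b * b = z' ∧ s * j * s⁻¹ = j * b := by
    intro s hs hsO
    obtain ⟨b, hb, h⟩ := hj' s hs
    exact ⟨b, hb, hsqB b hb (fun e => hsO (hker s hs b (Or.inl e) h)) (fun e => hsO (hker s hs b (Or.inr e) h)), h⟩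
  have hidx2 : ∀ a ∈ T, ∀ a' ∈ T, a ∉ O → a' ∉ O → a * a' ∈ O := by
    intro a ha a' ha' haO ha'O
    obtain ⟨b, hb, hbb, h⟩ := hout a ha haO
    obtain ⟨b', hb', hbb', h'⟩ := hout a' ha' ha'O
    obtain ⟨c, hc, hab'⟩ := hconjB a ha b' hb'
    refine hker _ (mul_mem ha ha') (c * (b * b')) ?_ ?_
    · rcases hc with rfl | rfl <;> rcases hmulB b hb b' hb' hbb hbb' with e | e <;> rw [e]
      · exact Or.inl (one_mul 1)
      · exact Or.inr (one_mul _)
      · exact Or.inr (mul_one _)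
      · exact Or.inl hz2
    · have hcb : b * c = c * b := by
        rcases hc with rfl | rfl
        · simp
        · exact hzc b (hBO hb)
      calc a * a' * j * (a * a')⁻¹ = a * (a' * j * a'⁻¹) * a⁻¹ := by group
        _ = (a * j * a⁻¹) * (a * b' * a⁻¹) := by rw [h']; group
        _ = j * (b * c) * b' := by rw [h, hab']; group
        _ = _ := by rw [hcb]; group
  obtain ⟨a, ha, haO⟩ : ∃ a ∈ A, a ∉ O := by
    refine SetLike.not_le_iff_exists.1 fun h => hij₀ ?_
    rw [← Subgroup.eq_of_le_of_card_ge h (by rw [h8, hA8])] at hi₀ hj₀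
    exact comm_of hA hi₀ hj₀
  have hcardAO : 4 ≤ Nat.card ↥(A ⊓ O) := by
    have hmap : ∀ x : A, (if (x : S) ∈ O then (x : S) else a * x) ∈ A ⊓ O := fun x => by
      split
      · exact Subgroup.mem_inf.2 ⟨x.2, ‹_›⟩
      · exact Subgroup.mem_inf.2 ⟨mul_mem ha x.2, hidx2 a (hAT ha) x (hAT x.2) haO ‹_›⟩
    have hinj : Function.Injective fun x : A => (decide ((x : S) ∈ O), (⟨_, hmap x⟩ : ↥(A ⊓ O))) := by
      intro x y h
      obtain ⟨h1, h2⟩ := Prod.ext_iff.1 h
      have h2' := congrArg Subtype.val h2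
      simp only [decide_eq_decide] at h1
      simp only at h2'
      by_cases hx : (x : S) ∈ O
      · rw [if_pos hx, if_pos (h1.1 hx)] at h2'; exact Subtype.ext h2'
      · rw [if_neg hx, if_neg (fun hy => hx (h1.2 hy))] at h2'; exact Subtype.ext (mul_left_cancel h2')
    have := Nat.card_le_card_of_injective _ hinj
    rw [Nat.card_prod, hA8, Nat.card_eq_fintype_card (α := Bool), Fintype.card_bool] at this
    omega
  obtain ⟨v, hvA, hvO, hv1, hvz⟩ : ∃ v ∈ A, v ∈ O ∧ v ≠ 1 ∧ v ≠ z' := by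
    by_contra hc
    push Not at hc
    have hsub : ((A ⊓ O : Subgroup S) : Set S) ⊆ {1, z'} := fun w hw => by
      by_cases h : w = 1
      · exact Or.inl h
      · exact Or.inr (hc w hw.1 hw.2 h)
    have h := Set.ncard_le_ncard hsub (Set.toFinite _)
    rw [← Nat.card_coe_set_eq, Set.ncard_pair (Ne.symm hz1)] at h
    have h' : Nat.card ↥(A ⊓ O) ≤ 2 := h
    omega
  have hvv := hone v hvO hv1 hvz
  obtain ⟨t, htA, htO, ht2⟩ : ∃ t ∈ A, t ∉ O ∧ t * t = 1 := by
    by_cases h1 : a * a = 1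
    · exact ⟨a, ha, haO, h1⟩
    by_cases h2 : a * a = z'
    · refine ⟨a * v, mul_mem ha hvA, fun h => haO ((Subgroup.mul_mem_cancel_right _ hvO).1 h), ?_⟩
      calc a * v * (a * v) = a * (v * a) * v := by group
        _ = a * (a * v) * v := by rw [comm_of hA hvA ha]
        _ = (a * a) * (v * v) := by group
        _ = 1 := by rw [h2, hvv, hz2]
    exfalso
    have h4 := hone _ (hidx2 a (hAT ha) a (hAT ha) haO haO) h1 h2
    refine hAnc (isCyclic_of_orderOf_eq_card (⟨a, ha⟩ : A) ?_)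
    rw [← Subgroup.orderOf_coe, hA8, show (8 : ℕ) = 2 ^ (2 + 1) by norm_num]
    refine orderOf_eq_prime_pow (fun h => hz1 ?_) ?_
    · rw [show 2 ^ 2 = 2 + 2 by norm_num, pow_add, pow_two] at h
      exact h4.symm.trans h
    · rw [show 2 ^ (2 + 1) = (2 + 2) + (2 + 2) by norm_num, pow_add, pow_add, pow_two, h4, hz2]
  have htv : t * v * t⁻¹ = v := by rw [comm_of hA htA hvA, mul_inv_cancel_right]
  obtain ⟨b, hb, hbb, htj⟩ := hout t (hAT htA) htO
  obtain ⟨c, hc, htb⟩ := hconjB t (hAT htA) b hb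
  have hbc : b * c * b = 1 := by
    have h : t * (t * j * t⁻¹) * t⁻¹ = j := by
      calc t * (t * j * t⁻¹) * t⁻¹ = (t * t) * j * (t * t)⁻¹ := by group
        _ = j := by rw [ht2]; group
    have h' : j * (b * c * b) = j * 1 := by
      rw [mul_one]
      calc j * (b * c * b) = j * b * (c * b) := by group
        _ = (t * j * t⁻¹) * (t * b * t⁻¹) := by rw [htj, htb]
        _ = t * (j * b) * t⁻¹ := by group
        _ = t * (t * j * t⁻¹) * t⁻¹ := by rw [htj]
        _ = j := h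
    exact mul_left_cancel h'
  have hcz' : c = z' := by
    rcases hc with rfl | rfl
    · rw [mul_one, hbb] at hbc; exact absurd hbc hz1
    · rfl
  subst hcz'
  obtain ⟨b₀, hb₀, hv⟩ := hsplit v hvO
  rcases hv with rfl | rfl
  · have htz : t * c * t⁻¹ = c := by rw [hz'c t (hAT htA), mul_inv_cancel_right]
    have hbv : t * (b * v) * t⁻¹ = b * v := by
      rcases hmulB b hb v hb₀ hbb hvv with e | e <;> rw [e]
      · group
      · exact htz
    have h : c * b * v = b * v := by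
      rw [← htb]
      conv_lhs => rw [← htv]
      rw [← hbv]; group
    exact hz1 (mul_eq_right.1 ((mul_right_cancel h)))
  · obtain ⟨c₀, hc₀, htb₀⟩ := hconjB t (hAT htA) b₀ hb₀
    have hc₀B : c₀ ∈ B := by
      rcases hc₀ with rfl | rfl
      · exact one_mem B
      · exact hz'B
    have h : j * (b * c₀) * b₀ = j * b₀ := by
      calc j * (b * c₀) * b₀ = (t * j * t⁻¹) * (t * b₀ * t⁻¹) := by rw [htj, htb₀]; group
        _ = t * (j * b₀) * t⁻¹ := by group
        _ = j * b₀ := htv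
    have h' : b * c₀ = 1 := mul_eq_left.1 (mul_right_cancel h)
    have hbc₀ : b = c₀⁻¹ := eq_inv_of_mul_eq_one_left h'
    rcases hc₀ with rfl | rfl
    · rw [hbc₀, inv_one, one_mul] at hbb; exact hz1 hbb.symm
    · rw [hbc₀, inv_eq_of_mul_eq_one_right hz2, hz2] at hbb; exact hz1 hbb.symm

end Cfsg.Agent.SmallTwo
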