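import Cfsg.Agent.Lib.PLocal.FF.Structure
import Cfsg.Agent.Lib.Solvable.Coprime
import Cfsg.Agent.Lib.FGStruct.SmallQuat

/-!
Abelian offenders in characteristic two are elementary abelian.
-/

set_option autoImplicit false
set_option linter.style.haveILetI false
open scoped commutatorElement Pointwise

namespace Cfsg.Agent.AbOffender

open Cfsg.Agent.FF

variable {G : Type*} [Group G] [Finite G] {V H K : Subgroup G}

theorem sq_fix_plane [Fact (Nat.Prime 2)] (S : Setting 2 V H K) {a t : G} (ha : a ∈ H) (ht : Tv 2 V H t)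
    (hc : a * t = t * a) : ∀ r ∈ plane V K t, a * a * r * (a * a)⁻¹ = r := by
  obtain ⟨b, hbC, -, hplane, -, -, hcard, -⟩ := comp_spec S ht
  set P := plane V K t with hP
  have hle : line V t ≤ P := hplane ▸ le_sup_left
  have hct : a * t * a⁻¹ = t := by rw [hc, mul_inv_cancel_right]
  have hlinv : ∀ l, l ∈ line V t → a * l * a⁻¹ ∈ line V t := fun l hl => by
    rw [← hct, line_conj S ht.mem ha]
    exact ⟨l, hl, rfl⟩
  have hPinv : ∀ r ∈ P, a * r * a⁻¹ ∈ P := fun r hr => by
    rw [hP, ← hct, plane_conj S ha]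
    exact ⟨r, hr, rfl⟩
  have hlfix : ∀ l ∈ line V t, a * l * a⁻¹ = l := by
    intro l hl
    by_cases hl1 : l = 1
    · simp [hl1]
    rcases SmallTwo.eq_or_eq_of_card_two hl hl1 (card_line S ht).le _ (hlinv l hl) with h | h
    · exact absurd (conj_eq_one_iff.1 h) hl1
    · exact h
  have hidx : ((line V t).subgroupOf P).index = 2 := by
    have h1 := ((line V t).subgroupOf P).card_mul_index
    rw [Nat.card_congr (Subgroup.subgroupOfEquivOfLe hle).toEquiv, card_line S ht, hcard] at h1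
    omega
  intro r hr
  by_cases hrl : r ∈ line V t
  · rw [show a * a * r * (a * a)⁻¹ = a * (a * r * a⁻¹) * a⁻¹ by group, hlfix r hrl, hlfix r hrl]
  have hnl : a * r * a⁻¹ ∉ line V t := fun h => hrl (by
    have e' := hlfix _ h
    rwa [mul_left_cancel (mul_right_cancel e')] at h)
  have hm := (Subgroup.mul_mem_iff_of_index_two hidx (a := (⟨r, hr⟩ : P)⁻¹) (b := ⟨a * r * a⁻¹, hPinv r hr⟩)).2
    ⟨fun h => absurd (Subgroup.mem_subgroupOf.1 ((Subgroup.inv_mem_iff _).1 h)) hrl,
      fun h => absurd (Subgroup.mem_subgroupOf.1 h) hnl⟩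
  have hl : r⁻¹ * (a * r * a⁻¹) ∈ line V t := Subgroup.mem_subgroupOf.1 hm
  set l := r⁻¹ * (a * r * a⁻¹) with hldef
  have hll : l * l = 1 := by rw [← pow_two]; exact S.hV.2 l (line_le S ht.mem hl)
  calc a * a * r * (a * a)⁻¹ = a * (a * r * a⁻¹) * a⁻¹ := by group
    _ = a * (r * l) * a⁻¹ := by rw [hldef, mul_inv_cancel_left]
    _ = (a * r * a⁻¹) * (a * l * a⁻¹) := by group
    _ = (r * l) * l := by rw [hlfix l hl, hldef, mul_inv_cancel_left]
    _ = r := by rw [mul_assoc, hll, mul_one]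

/-- An element centralizing an offender and squaring into it is an involution. -/
theorem sq_eq_one_of_off [Fact (Nat.Prime 2)] (S : Setting 2 V H K) {E : Subgroup G} (hE : Off 2 V H E) {a : G}
    (ha : a ∈ H) (hc : ∀ e ∈ E, a * e = e * a) (hsq : a * a ∈ E) : a * a = 1 := by
  classical
  letI := Fintype.ofFinite G
  have key : ∀ s : Finset G, (∀ t ∈ s, t ∈ E ∧ Tv 2 V H t) → ∀ v ∈ V,
      ∃ w u, v = w * u ∧ a * a * w * (a * a)⁻¹ = w ∧ u ∈ V ∧ ∀ t ∈ s, t * u = u * t := by
    intro s
    induction s using Finset.induction_on with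
    | empty => exact fun _ v hv => ⟨1, v, (one_mul v).symm, by group, hv, by simp⟩
    | insert t s _ ih =>
      intro hs v hv
      obtain ⟨w, u, hvw, hw, hu, hus⟩ := ih (fun x hx => hs x (Finset.mem_insert_of_mem hx)) v hv
      obtain ⟨htE, ht⟩ := hs t (Finset.mem_insert_self t s)
      obtain ⟨-, hsup⟩ := plane_complement S ht
      have hu₀ : u ∈ (plane V K t : Set G) * ((V ⊓ Subgroup.centralizer (comp K t : Set G) : Subgroup G) : Set G) := by
        rw [← Subgroup.coe_mul_of_right_le_normalizer_left _ _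
          (((inf_le_left : V ⊓ Subgroup.centralizer (comp K t : Set G) ≤ V).trans
            (le_centralizer_of_ea S.hV (plane_le S ht))).trans (Subgroup.centralizer_le_normalizer _)), hsup]
        exact hu
      obtain ⟨r, hr, u', hu', rfl⟩ := Set.mem_mul.1 hu₀
      refine ⟨w * r, u', by rw [hvw, mul_assoc], ?_, hu'.1, fun t' ht' => ?_⟩
      · rw [show a * a * (w * r) * (a * a)⁻¹ = (a * a * w * (a * a)⁻¹) * (a * a * r * (a * a)⁻¹) by group,
          hw, sq_fix_plane S ha ht (hc t htE) r hr]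
      · rcases Finset.mem_insert.1 ht' with rfl | ht's
        · exact Subgroup.mem_centralizer_iff.1 hu'.2 _ (self_mem_comp K _)
        · have htT := (hs t' (Finset.mem_insert_of_mem ht's)).2
          by_cases he : comp K t = comp K t'
          · exact Subgroup.mem_centralizer_iff.1 hu'.2 _ (he ▸ self_mem_comp K t')
          · have hrt : r * t' = t' * r :=
              Subgroup.mem_centralizer_singleton_iff.1 (plane_le_centralizer S ht htT he hr)
            have h := (show Commute t' r from hrt.symm).inv_right.mul_right (hus t' ht's)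
            rwa [inv_mul_cancel_left] at h
  refine S.eq_one_of_fix (mul_mem ha ha) fun v hv => ?_
  obtain ⟨w, u, hvw, hw, hu, hus⟩ := key (Finset.univ.filter fun t => t ∈ E ∧ Tv 2 V H t)
    (fun t ht => (Finset.mem_filter.1 ht).2) v hv
  have hE' : E ≤ Subgroup.centralizer ({u} : Set G) := by
    rw [Off.eq_closure S hE, Subgroup.closure_le]
    exact fun t ht => Subgroup.mem_centralizer_singleton_iff.2
      (hus t (Finset.mem_filter.2 ⟨Finset.mem_univ t, ht⟩))
  have hau := Subgroup.mem_centralizer_singleton_iff.1 (hE' hsq)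
  rw [hvw, show a * a * (w * u) * (a * a)⁻¹ = (a * a * w * (a * a)⁻¹) * (a * a * u * (a * a)⁻¹) by group,
    hw, hau, mul_inv_cancel_right]

/-- An element of a good centralizer moves some fixed point. -/
theorem fix_moves {p : ℕ} [Fact p.Prime] (S : Setting p V H K) {D : Subgroup G} (hDH : D ≤ H) (hDp : IsPGroup p D)
    {e x : G} (he : e ∈ H) (heD : ∀ d ∈ D, d * e = e * d) (hx : x ∈ K) (hxD : ∀ d ∈ D, d * x = x * d)
    (hxe : x * e ≠ e * x) : ∃ v ∈ V, (∀ d ∈ D, d * v = v * d) ∧ e * v ≠ v * e := by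
  by_contra hcon
  push Not at hcon
  set y := x * e * x⁻¹ * e⁻¹ with hy
  have hyK : y ∈ K := by
    rw [hy, show x * e * x⁻¹ * e⁻¹ = x * (e * x⁻¹ * e⁻¹) by group]
    exact mul_mem hx (S.conjK_mem he (inv_mem hx))
  have hyD : ∀ d ∈ D, Commute d y := fun d hd =>
    ((((show Commute d x from hxD d hd).mul_right (heD d hd)).mul_right
      (show Commute d x from hxD d hd).inv_right).mul_right (show Commute d e from heD d hd).inv_right)
  have hcop : (Nat.card (Subgroup.zpowers y)).Coprime p :=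
    Nat.Coprime.coprime_dvd_left (Subgroup.card_dvd_of_le (Subgroup.zpowers_le.2 hyK)) S.hcop
  have hcent : V ⊓ Subgroup.centralizer (D : Set G) ≤ Subgroup.centralizer (Subgroup.zpowers y : Set G) := by
    intro v hv
    set u := x⁻¹ * v * x with hu
    have huV : u ∈ V := by simpa using S.conj_mem (inv_mem (S.hKH hx)) hv.1
    have huD : ∀ d ∈ D, d * u = u * d := fun d hd =>
      (((show Commute d x from hxD d hd).inv_right.mul_right (Subgroup.mem_centralizer_iff.1 hv.2 d hd)).mul_right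
        (show Commute d x from hxD d hd)).eq
    have heu := hcon u huV huD
    have hev := hcon v hv.1 fun d hd => Subgroup.mem_centralizer_iff.1 hv.2 d hd
    have hyv : y * v = v * y := by
      calc x * e * x⁻¹ * e⁻¹ * v = x * e * x⁻¹ * e⁻¹ * (v * e) * e⁻¹ := by group
        _ = x * e * x⁻¹ * v * e⁻¹ := by rw [← hev]; group
        _ = x * (e * u) * x⁻¹ * e⁻¹ := by rw [hu]; group
        _ = v * (x * e * x⁻¹ * e⁻¹) := by rw [heu, hu]; group
    refine Subgroup.mem_centralizer_iff.2 fun z hz => ?_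
    obtain ⟨k, rfl⟩ := Subgroup.mem_zpowers_iff.1 hz
    exact ((show Commute y v from hyv).zpow_left k).eq
  have hDy : D ≤ Subgroup.centralizer (Subgroup.zpowers y : Set G) := fun d hd =>
    Subgroup.mem_centralizer_iff.2 fun z hz => by
      obtain ⟨k, rfl⟩ := Subgroup.mem_zpowers_iff.1 hz
      exact ((hyD d hd).symm.zpow_left k).eq
  have hres := S0028.result p D (Subgroup.zpowers y) V hDp hcop (isPGroup_of_ea S.hV) hDy
    (hDH.trans S.hnorm) ((Subgroup.zpowers_le.2 (S.hKH hyK)).trans S.hnorm) hcent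
  have hy1 : y = 1 := S.eq_one_of_fix (S.hKH hyK) fun v hv => by
    rw [← Subgroup.mem_centralizer_iff.1 (hres (Subgroup.mem_zpowers y)) v hv, mul_inv_cancel_right]
  rw [hy, mul_inv_eq_one, mul_inv_eq_iff_eq_mul] at hy1
  exact hxe hy1

/-- An abelian group whose quotient by the kernel on a coprime group is not cyclic generates that group
from the centralizers of its elements outside the kernel. -/
theorem generated_mod {A D L : Subgroup G} (hD : D ≤ A) (hAc : ∀ a ∈ A, ∀ b ∈ A, a * b = b * a)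
    (hAL : A ≤ Subgroup.normalizer (L : Set G)) (hDL : D ≤ Subgroup.centralizer (L : Set G))
    (hcop : (Nat.card A).Coprime (Nat.card L)) (hnc : ∀ a ∈ A, ¬ A ≤ D ⊔ Subgroup.zpowers a) :
    L ≤ ⨆ c ∈ {c : G | c ∈ A ∧ c ∉ D}, L ⊓ Subgroup.centralizer {c} := by
  set M := L ⊔ A with hM
  have hAM : A ≤ M := le_sup_right
  have hLM : L ≤ M := le_sup_left
  have hMD : M ≤ Subgroup.centralizer (D : Set G) := sup_le (Subgroup.le_centralizer_iff.1 hDL)
    fun a ha => Subgroup.mem_centralizer_iff.2 fun d hd => hAc d (hD hd) a ha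
  haveI : (D.subgroupOf M).Normal :=
    Subgroup.normal_subgroupOf_of_le_normalizer (hMD.trans (Subgroup.centralizer_le_normalizer _))
  set π := QuotientGroup.mk' (D.subgroupOf M) with hπ
  set A' := (A.subgroupOf M).map π with hA'
  set L' := (L.subgroupOf M).map π with hL'
  haveI : IsMulCommutative A' := by
    refine ⟨⟨?_⟩⟩
    rintro ⟨_, u, hu, rfl⟩ ⟨_, v, hv, rfl⟩
    refine Subtype.ext ?_
    show π u * π v = π v * π u
    rw [← map_mul, ← map_mul]
    exact congrArg π (Subtype.ext (hAc _ (Subgroup.mem_subgroupOf.1 hu) _ (Subgroup.mem_subgroupOf.1 hv)))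
  have hA'nc : ¬ IsCyclic A' := by
    intro hc
    obtain ⟨⟨_, a, ha, rfl⟩, hg⟩ := hc.exists_generator
    refine hnc a (Subgroup.mem_subgroupOf.1 ha) fun x hx => ?_
    obtain ⟨i, hi⟩ := Subgroup.mem_zpowers_iff.1 (hg ⟨π ⟨x, hAM hx⟩, ⟨_, Subgroup.mem_subgroupOf.2 hx, rfl⟩⟩)
    have hi' : π a ^ i = π ⟨x, hAM hx⟩ := by simpa using congrArg Subtype.val hi
    rw [← map_zpow, hπ, QuotientGroup.mk'_apply, QuotientGroup.mk'_apply, QuotientGroup.eq,
      Subgroup.mem_subgroupOf] at hi'
    rw [show x = (a : G) ^ i * ((((a : M) ^ i)⁻¹ * ⟨x, hAM hx⟩ : M) : G) by simp]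
    exact mul_mem (Subgroup.mem_sup_right (zpow_mem (Subgroup.mem_zpowers _) i)) (Subgroup.mem_sup_left hi')
  have hnorm : A' ≤ Subgroup.normalizer (L' : Set (M ⧸ D.subgroupOf M)) := by
    rintro _ ⟨a, ha, rfl⟩
    refine Subgroup.mem_normalizer_fintype ?_
    rintro _ ⟨l, hl, rfl⟩
    refine ⟨a * l * a⁻¹, ?_, by simp⟩
    exact Subgroup.mem_subgroupOf.2
      ((Subgroup.mem_normalizer_iff.1 (hAL (Subgroup.mem_subgroupOf.1 ha)) _).1 (Subgroup.mem_subgroupOf.1 hl))
  have hcop' : (Nat.card A').Coprime (Nat.card L') := by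
    have h1 : Nat.card A' ∣ Nat.card (A.subgroupOf M) := Subgroup.card_map_dvd (A.subgroupOf M) π
    have h2 : Nat.card L' ∣ Nat.card (L.subgroupOf M) := Subgroup.card_map_dvd (L.subgroupOf M) π
    rw [Nat.card_congr (Subgroup.subgroupOfEquivOfLe hAM).toEquiv] at h1
    rw [Nat.card_congr (Subgroup.subgroupOfEquivOfLe hLM).toEquiv] at h2
    exact Nat.Coprime.coprime_dvd_left h1 (Nat.Coprime.coprime_dvd_right h2 hcop)
  have hgen := CoprimeAct.generated_by_centralizers hA'nc hnorm hcop'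
  set R := ⨆ c ∈ {c : G | c ∈ A ∧ c ∉ D}, L ⊓ Subgroup.centralizer {c} with hR
  have hRL : R ≤ L := iSup₂_le fun c _ => inf_le_left
  have hdisj : L ⊓ D = ⊥ := Subgroup.card_eq_one.1 (Nat.eq_one_of_dvd_coprimes hcop
    ((Subgroup.card_dvd_of_le inf_le_right).trans (Subgroup.card_dvd_of_le hD)) (Subgroup.card_dvd_of_le inf_le_left))
  have hmap : L' ≤ (R.subgroupOf M).map π := by
    rw [← hgen]
    refine iSup₂_le fun c hc => ?_
    obtain ⟨⟨a, ha, rfl⟩, hc1⟩ := hc
    rintro y ⟨⟨l, hl, rfl⟩, hyc⟩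
    refine ⟨l, Subgroup.mem_subgroupOf.2 ?_, rfl⟩
    have haA := Subgroup.mem_subgroupOf.1 ha
    have hlL := Subgroup.mem_subgroupOf.1 hl
    have haD : (a : G) ∉ D := fun h => hc1 ((QuotientGroup.eq_one_iff _).2 (Subgroup.mem_subgroupOf.2 h))
    refine Subgroup.mem_iSup_of_mem (a : G) (Subgroup.mem_iSup_of_mem ⟨haA, haD⟩ ⟨hlL, ?_⟩)
    · have h := Subgroup.mem_centralizer_singleton_iff.1 hyc
      rw [← map_mul, ← map_mul, hπ, QuotientGroup.mk'_apply, QuotientGroup.mk'_apply, QuotientGroup.eq,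
        Subgroup.mem_subgroupOf] at h
      refine Subgroup.mem_centralizer_singleton_iff.2 ?_
      have hmem : ((l : G) * a)⁻¹ * ((a : G) * l) ∈ L ⊓ D := by
        refine ⟨?_, by simpa using h⟩
        rw [show ((l : G) * a)⁻¹ * ((a : G) * l) = ((a : G)⁻¹ * (l : G)⁻¹ * a) * l by group]
        refine mul_mem ?_ hlL
        simpa using (Subgroup.mem_normalizer_iff.1 (inv_mem (hAL haA)) _).1 (inv_mem hlL)
      rw [hdisj, Subgroup.mem_bot, inv_mul_eq_one] at hmem
      exact hmem
  intro x hx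
  obtain ⟨r, hr, hrx⟩ := hmap ⟨⟨x, hLM hx⟩, Subgroup.mem_subgroupOf.2 hx, rfl⟩
  rw [hπ, QuotientGroup.mk'_apply, QuotientGroup.mk'_apply, QuotientGroup.eq, Subgroup.mem_subgroupOf] at hrx
  have hr' := Subgroup.mem_subgroupOf.1 hr
  have hmem : (r : G)⁻¹ * x ∈ L ⊓ D := Subgroup.mem_inf.2 ⟨mul_mem (inv_mem (hRL hr')) hx, by simpa using hrx⟩
  rw [hdisj, Subgroup.mem_bot, inv_mul_eq_one] at hmem
  exact hmem ▸ hr'

/-- **Abelian offenders are elementary.** -/
theorem card_mul_le [Fact (Nat.Prime 2)] (S : Setting 2 V H K) : ∀ (n : ℕ) (A : Subgroup G), Nat.card A ≤ n → A ≤ H →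
    (∀ a ∈ A, ∀ b ∈ A, a * b = b * a) → IsPGroup 2 A →
    Nat.card A * Nat.card (V ⊓ Subgroup.centralizer (A : Set G) : Subgroup G) ≤ Nat.card V ∧
      (Nat.card V ≤ Nat.card A * Nat.card (V ⊓ Subgroup.centralizer (A : Set G) : Subgroup G) →
        ∀ a ∈ A, a * a = 1) := by
  classical
  intro n
  induction n with
  | zero => intro A h; exact absurd h (by simp [Nat.card_pos.ne'])
  | succ n ih =>
    intro A hn hAH hAc hA2
    by_cases hA1 : A = ⊥
    · refine ⟨?_, fun _ a ha => ?_⟩
      · rw [hA1, Subgroup.card_bot, one_mul]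
        exact Subgroup.card_le_of_le inf_le_left
      · rw [hA1, Subgroup.mem_bot] at ha; simp [ha]
    have h0 : ∃ x ∈ K, ∃ a ∈ A, x * a ≠ a * x := by
      by_contra h
      push Not at h
      obtain ⟨t, ht, ht1, ht2, -⟩ := SmallTwo.exists_central_of_normal hA2 le_rfl Subgroup.le_normalizer hA1
      exact ht1 (S.centralizerK (hAH ht) (by rw [pow_two]; exact ht2) fun k hk => (h k hk t ht).symm)
    set 𝒟 : Set (Subgroup G) :=
      {D | D ≤ A ∧ ∃ x ∈ K, (∀ d ∈ D, d * x = x * d) ∧ ∃ a ∈ A, x * a ≠ a * x} with h𝒟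
    obtain ⟨D, ⟨hDA, x₀, hx₀, hx₀D, a₀, ha₀, hx₀a⟩, hDmax⟩ := Set.exists_max_image 𝒟
      (fun D => Nat.card D) (Set.toFinite _) ⟨⊥, bot_le, by
        obtain ⟨x, hx, a, ha, h⟩ := h0
        exact ⟨x, hx, fun d hd => by rw [Subgroup.mem_bot] at hd; simp [hd], a, ha, h⟩⟩
    have hmax : ∀ c ∈ A, c ∉ D → ∀ x ∈ K, (∀ d ∈ D, d * x = x * d) → c * x = x * c →
        ∀ a ∈ A, x * a = a * x := by
      intro c hc hcD x hx hxD hxc a ha
      by_contra hne
      have hle : D ⊔ Subgroup.zpowers c ≤ Subgroup.centralizer ({x} : Set G) :=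
        sup_le (fun d hd => Subgroup.mem_centralizer_singleton_iff.2 (hxD d hd))
          (Subgroup.zpowers_le.2 (Subgroup.mem_centralizer_singleton_iff.2 hxc))
      have h := hDmax (D ⊔ Subgroup.zpowers c) ⟨sup_le hDA (Subgroup.zpowers_le.2 hc), x, hx,
        fun d hd => Subgroup.mem_centralizer_singleton_iff.1 (hle hd), a, ha, hne⟩
      refine hcD ?_
      rw [Subgroup.eq_of_le_of_card_ge (le_sup_left : D ≤ D ⊔ Subgroup.zpowers c) h]
      exact Subgroup.mem_sup_right (Subgroup.mem_zpowers c)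
    obtain ⟨a, ha, hAa⟩ : ∃ a ∈ A, A ≤ D ⊔ Subgroup.zpowers a := by
      by_contra hnc
      push Not at hnc
      set L := K ⊓ Subgroup.centralizer (D : Set G) with hL
      have hAL : A ≤ Subgroup.normalizer (L : Set G) := by
        intro b hb
        refine Subgroup.mem_normalizer_fintype fun k hk => ⟨S.conjK_mem (hAH hb) hk.1,
          Subgroup.mem_centralizer_iff.2 fun d hd => ?_⟩
        have cb : Commute d b := hAc d (hDA hd) b hb
        exact ((cb.mul_right (Subgroup.mem_centralizer_iff.1 hk.2 d hd)).mul_right cb.inv_right).eq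
      obtain ⟨i, hi⟩ := IsPGroup.iff_card.1 hA2
      have hcop : (Nat.card A).Coprime (Nat.card L) := by
        rw [hi]
        exact Nat.Coprime.pow_left i ((S.hcop.coprime_dvd_left (Subgroup.card_dvd_of_le inf_le_left)).symm)
      have hgen := generated_mod hDA hAc hAL
        (fun d hd => Subgroup.mem_centralizer_iff.2 fun l hl => (Subgroup.mem_centralizer_iff.1 hl.2 d hd).symm)
        hcop hnc
      have hle : L ≤ Subgroup.centralizer (A : Set G) := hgen.trans (iSup₂_le fun c hc l hl =>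
        Subgroup.mem_centralizer_iff.2 fun b hb => (hmax c hc.1 hc.2 l hl.1.1
          (fun d hd => Subgroup.mem_centralizer_iff.1 hl.1.2 d hd)
          (Subgroup.mem_centralizer_singleton_iff.1 hl.2).symm b hb).symm)
      exact hx₀a (Subgroup.mem_centralizer_iff.1
        (hle ⟨hx₀, Subgroup.mem_centralizer_iff.2 hx₀D⟩) a₀ ha₀).symm
    have haD : a ∉ D := by
      intro h
      refine hx₀a (hx₀D a₀ ?_).symm
      exact (hAa.trans (sup_le le_rfl (Subgroup.zpowers_le.2 h))) ha₀
    obtain ⟨m, hm⟩ := IsPGroup.exists_orderOf_eq_pow hA2 ⟨a, ha⟩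
    rw [← Subgroup.orderOf_coe] at hm
    have hex : ∃ k : ℕ, a ^ 2 ^ k ∈ D := ⟨m, by
      rw [← hm]; show a ^ orderOf a ∈ D; rw [pow_orderOf_eq_one]; exact one_mem D⟩
    set k := Nat.find hex with hk
    have hkD : a ^ 2 ^ k ∈ D := Nat.find_spec hex
    have hk1 : 1 ≤ k := Nat.one_le_iff_ne_zero.2 fun h => haD (by
      have := hkD
      rwa [h, pow_zero, pow_one] at this)
    have hmin : a ^ 2 ^ (k - 1) ∉ D := Nat.find_min hex (by omega)
    set e := a ^ 2 ^ (k - 1) with he
    have heA : e ∈ A := pow_mem ha _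
    obtain ⟨x₁, hx₁, hx₁D, hx₁e⟩ : ∃ x ∈ K, (∀ d ∈ D, d * x = x * d) ∧ x * e ≠ e * x :=
      ⟨x₀, hx₀, hx₀D, fun h => hx₀a (hmax e heA hmin x₀ hx₀ hx₀D h.symm a₀ ha₀)⟩
    obtain ⟨v₀, hv₀, hv₀D, hv₀e⟩ := fix_moves S (hDA.trans hAH) (hA2.to_le hDA) (hAH heA)
      (fun d hd => hAc d (hDA hd) e heA) hx₁ hx₁D hx₁e
    -- the commutator operator of `a` on the fixed points of `D`
    set W := V ⊓ Subgroup.centralizer (D : Set G) with hW
    have hVc : ∀ u ∈ V, ∀ v ∈ V, u * v = v * u := fun u hu v hv => S.comm hu hv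
    have hWinv : ∀ b ∈ A, ∀ w ∈ W, b * w * b⁻¹ ∈ W := fun b hb w hw => ⟨S.conj_mem (hAH hb) hw.1,
      Subgroup.mem_centralizer_iff.2 fun d hd => by
        have cb : Commute d b := hAc d (hDA hd) b hb
        exact ((cb.mul_right (Subgroup.mem_centralizer_iff.1 hw.2 d hd)).mul_right cb.inv_right).eq⟩
    let f : Monoid.End W := MonoidHom.mk' (fun w => ⟨a * w * a⁻¹ * w, mul_mem (hWinv a ha w w.2) w.2⟩)
      (fun u v => Subtype.ext (by
        show a * ((u : G) * v) * a⁻¹ * ((u : G) * v) = a * u * a⁻¹ * u * (a * v * a⁻¹ * v)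
        calc a * ((u : G) * v) * a⁻¹ * ((u : G) * v) = (a * u * a⁻¹) * ((a * v * a⁻¹) * u) * v := by group
          _ = (a * u * a⁻¹) * (u * (a * v * a⁻¹)) * v := by
              rw [hVc _ (S.conj_mem (hAH ha) v.2.1) _ u.2.1]
          _ = _ := by group))
    have hWsq : ∀ w : G, w ∈ W → w * w = 1 := fun w hw => by rw [← pow_two]; exact S.hV.2 w hw.1
    have hf : ∀ (i : ℕ) (w : W), (((f ^ 2 ^ i : Monoid.End W) w : W) : G) = a ^ 2 ^ i * w * (a ^ 2 ^ i)⁻¹ * w := by
      intro i
      induction i with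
      | zero => intro w; rw [pow_zero, pow_one, pow_one]; rfl
      | succ i ih =>
        intro w
        have e2 : 2 ^ (i + 1) = 2 ^ i + 2 ^ i := by rw [pow_succ, mul_two]
        rw [e2, pow_add, pow_add]
        show (((f ^ 2 ^ i : Monoid.End W) ((f ^ 2 ^ i : Monoid.End W) w) : W) : G) = _
        rw [ih, ih]
        set g := a ^ 2 ^ i
        have hgw := hWinv g (pow_mem ha _) w w.2
        calc g * (g * w * g⁻¹ * w) * g⁻¹ * (g * w * g⁻¹ * w)
            = (g * g * w * (g * g)⁻¹) * ((g * w * g⁻¹) * (g * w * g⁻¹)) * w := by group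
          _ = g * g * w * (g * g)⁻¹ * w := by rw [hWsq _ hgw, mul_one]
    let N : ℕ → Subgroup W := fun i => MonoidHom.ker (f ^ i : Monoid.End W)
    have hNmono : ∀ i, N i ≤ N (i + 1) := fun i w hw => by
      show (f ^ (i + 1) : Monoid.End W) w = 1
      rw [pow_succ']
      show f ((f ^ i : Monoid.End W) w) = 1
      rw [show (f ^ i : Monoid.End W) w = 1 from hw, map_one]
    have hstable : ∀ i, N (i + 1) ≤ N i → ∀ j, N (i + j) ≤ N i := by
      intro i h j
      induction j with
      | zero => exact le_rfl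
      | succ j ihj =>
        intro w hw
        refine h ?_
        show (f ^ (i + 1) : Monoid.End W) w = 1
        have h2 : f w ∈ N (i + j) := by
          show (f ^ (i + j) : Monoid.End W) (f w) = 1
          have hw' : (f ^ (i + (j + 1)) : Monoid.End W) w = 1 := hw
          rw [← add_assoc, pow_succ] at hw'
          exact hw'
        rw [pow_succ]
        exact ihj h2
    have htop : N (2 ^ k) = ⊤ := eq_top_iff.2 fun w _ => by
      show (f ^ 2 ^ k : Monoid.End W) w = 1
      refine Subtype.ext ?_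
      rw [hf, Subgroup.mem_centralizer_iff.1 w.2.2 _ hkD, mul_inv_cancel_right]
      exact hWsq _ w.2
    have hne : N (2 ^ (k - 1)) ≠ ⊤ := fun h => by
      have h1 : (f ^ 2 ^ (k - 1) : Monoid.End W) ⟨v₀, hv₀, Subgroup.mem_centralizer_iff.2 hv₀D⟩ = 1 :=
        MonoidHom.mem_ker.1 (h.ge (Subgroup.mem_top _))
      have h2 := congrArg (fun w : W => (w : G)) h1
      simp only [hf, Subgroup.coe_one] at h2
      refine hv₀e (mul_inv_eq_iff_eq_mul.1 ?_)
      calc e * v₀ * e⁻¹ = (e * v₀ * e⁻¹ * v₀) * v₀ := by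
            rw [mul_assoc _ v₀ v₀, hWsq v₀ ⟨hv₀, Subgroup.mem_centralizer_iff.2 hv₀D⟩, mul_one]
        _ = v₀ := by rw [h2, one_mul]
    have hgrow : ∀ i, i ≤ 2 ^ (k - 1) → 2 * Nat.card (N i) ≤ Nat.card (N (i + 1)) := by
      intro i hi
      refine SmallTwo.two_mul_card_le (lt_of_le_of_ne (hNmono i) fun h => hne ?_)
      refine eq_top_iff.2 (htop ▸ ?_)
      have h3 : ∀ j, N i ≤ N (i + j) := fun j => by
        induction j with
        | zero => exact le_rfl
        | succ j ihj => exact ihj.trans (hNmono _)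
      calc N (2 ^ k) ≤ N i := by
            obtain ⟨j, hj⟩ := Nat.exists_eq_add_of_le (hi.trans (Nat.pow_le_pow_right two_pos (show k - 1 ≤ k by omega)))
            rw [hj]; exact hstable i h.ge j
        _ ≤ N (2 ^ (k - 1)) := by
            obtain ⟨j, hj⟩ := Nat.exists_eq_add_of_le hi
            rw [hj]; exact h3 j
    have hN1 : Nat.card (N 1) = Nat.card (V ⊓ Subgroup.centralizer (A : Set G) : Subgroup G) := by
      rw [← Subgroup.card_map_of_injective W.subtype_injective]
      congr 2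
      ext v
      constructor
      · rintro ⟨w, hw, rfl⟩
        refine ⟨w.2.1, Subgroup.mem_centralizer_iff.2 fun b hb => ?_⟩
        have h1 : a * w * a⁻¹ * w = 1 := by
          have h' : (f ^ 2 ^ 0 : Monoid.End W) w = 1 := hw
          have := congrArg (fun u : W => (u : G)) h'
          simp only [hf, Subgroup.coe_one, pow_zero, pow_one] at this
          exact this
        have h2 : a * (w : G) = w * a := by
          refine mul_inv_eq_iff_eq_mul.1 ?_
          rw [eq_inv_of_mul_eq_one_left h1, inv_eq_of_mul_eq_one_right (hWsq _ w.2)]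
        have hle : A ≤ Subgroup.centralizer ({(w : G)} : Set G) := hAa.trans (sup_le
          (fun d hd => Subgroup.mem_centralizer_singleton_iff.2 (Subgroup.mem_centralizer_iff.1 w.2.2 d hd))
          (Subgroup.zpowers_le.2 (Subgroup.mem_centralizer_singleton_iff.2 h2)))
        exact Subgroup.mem_centralizer_singleton_iff.1 (hle hb)
      · intro hv
        have hvW : v ∈ W := ⟨hv.1, Subgroup.mem_centralizer_iff.2 fun d hd =>
          Subgroup.mem_centralizer_iff.1 hv.2 d (hDA hd)⟩
        refine ⟨⟨v, hvW⟩, ?_, rfl⟩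
        show (f ^ 1 : Monoid.End W) ⟨v, hvW⟩ = 1
        refine Subtype.ext ?_
        show (((f ^ 1 : Monoid.End W) ⟨v, hvW⟩ : W) : G) = 1
        rw [pow_one]
        show a * v * a⁻¹ * v = 1
        rw [Subgroup.mem_centralizer_iff.1 hv.2 a ha, mul_inv_cancel_right, hWsq v hvW]
    have hpow : ∀ i, i ≤ 2 ^ (k - 1) → 2 ^ i * Nat.card (N 1) ≤ Nat.card (N (1 + i)) := by
      intro i
      induction i with
      | zero => intro _; simp
      | succ i ihi =>
        intro hi
        calc 2 ^ (i + 1) * Nat.card (N 1) = 2 * (2 ^ i * Nat.card (N 1)) := by rw [pow_succ]; ring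
          _ ≤ 2 * Nat.card (N (1 + i)) := Nat.mul_le_mul_left 2 (ihi (by omega))
          _ ≤ Nat.card (N (1 + (i + 1))) := hgrow _ (by omega)
    set C₁ := Nat.card (V ⊓ Subgroup.centralizer (A : Set G) : Subgroup G) with hC₁
    have hWle : 2 ^ 2 ^ (k - 1) * C₁ ≤ Nat.card W :=
      hN1 ▸ (hpow _ le_rfl).trans (Subgroup.card_le_card_group _)
    have hcardA : Nat.card A ≤ 2 ^ k * Nat.card D := by
      have hA' : ∀ b ∈ A, ∃ i : Fin (2 ^ k), ∃ d ∈ D, b = d * a ^ (i : ℕ) := by
        intro b hb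
        have hb' : b ∈ (D : Set G) * (Subgroup.zpowers a : Set G) := by
          rw [← Subgroup.coe_mul_of_right_le_normalizer_left D (Subgroup.zpowers a)
            ((Subgroup.zpowers_le.2 (Subgroup.mem_centralizer_iff.2 fun d hd => hAc d (hDA hd) a ha)).trans
              (Subgroup.centralizer_le_normalizer _))]
          exact hAa hb
        obtain ⟨d, hd, c, hc, rfl⟩ := Set.mem_mul.1 hb'
        obtain ⟨i, rfl⟩ := Submonoid.mem_powers_iff _ _ |>.1
          ((isOfFinOrder_of_finite a).mem_powers_iff_mem_zpowers.2 hc)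
        refine ⟨⟨i % 2 ^ k, Nat.mod_lt _ (pow_pos two_pos k)⟩, d * (a ^ 2 ^ k) ^ (i / 2 ^ k),
          mul_mem hd (pow_mem hkD _), ?_⟩
        show d * a ^ i = d * (a ^ 2 ^ k) ^ (i / 2 ^ k) * a ^ (i % 2 ^ k)
        rw [← pow_mul, mul_assoc, ← pow_add, Nat.div_add_mod]
      choose i d hd hb using hA'
      have h := Nat.card_le_card_of_injective
        (fun b : A => (i b.1 b.2, (⟨d b.1 b.2, hd b.1 b.2⟩ : D))) fun b c h => by
          obtain ⟨h1, h2⟩ := Prod.ext_iff.1 h
          have h2' : d b.1 b.2 = d c.1 c.2 := congrArg Subtype.val h2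
          refine Subtype.ext ?_
          rw [hb b.1 b.2, hb c.1 c.2, show i b.1 b.2 = i c.1 c.2 from h1, h2']
      rwa [Nat.card_prod, Nat.card_fin] at h
    have hk2 : k ≤ 2 ^ (k - 1) := by
      have := Nat.lt_two_pow_self (n := k - 1)
      omega
    have hDlt : Nat.card D < Nat.card A := by
      refine lt_of_le_of_ne (Subgroup.card_le_of_le hDA) fun h => haD ?_
      rw [Subgroup.eq_of_le_of_card_ge hDA h.ge]; exact ha
    obtain ⟨hDle, -⟩ := ih D (by omega) (hDA.trans hAH) (fun u hu v hv => hAc u (hDA hu) v (hDA hv)) (hA2.to_le hDA)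
    have chain : Nat.card A * C₁ ≤ Nat.card V :=
      calc Nat.card A * C₁ ≤ 2 ^ k * Nat.card D * C₁ := Nat.mul_le_mul_right _ hcardA
        _ ≤ 2 ^ 2 ^ (k - 1) * Nat.card D * C₁ :=
            Nat.mul_le_mul_right _ (Nat.mul_le_mul_right _ (Nat.pow_le_pow_right two_pos hk2))
        _ = Nat.card D * (2 ^ 2 ^ (k - 1) * C₁) := by ring
        _ ≤ Nat.card D * Nat.card W := Nat.mul_le_mul_left _ hWle
        _ ≤ _ := hDle
    refine ⟨chain, fun heq => ?_⟩
    have hk12 : k ≤ 2 := by
      by_contra hk3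
      have hlt : k < 2 ^ (k - 1) := by
        obtain ⟨j, hj⟩ : ∃ j, k = j + 3 := ⟨k - 3, by omega⟩
        rw [hj, show j + 3 - 1 = j + 2 by omega, pow_add]
        have := Nat.lt_two_pow_self (n := j)
        omega
      have hlt' : Nat.card A * C₁ < Nat.card V :=
        calc Nat.card A * C₁ ≤ 2 ^ k * Nat.card D * C₁ := Nat.mul_le_mul_right _ hcardA
          _ < 2 ^ 2 ^ (k - 1) * Nat.card D * C₁ :=
              Nat.mul_lt_mul_of_pos_right (Nat.mul_lt_mul_of_pos_right (Nat.pow_lt_pow_right one_lt_two hlt)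
                Nat.card_pos) Nat.card_pos
          _ = Nat.card D * (2 ^ 2 ^ (k - 1) * C₁) := by ring
          _ ≤ Nat.card D * Nat.card W := Nat.mul_le_mul_left _ hWle
          _ ≤ _ := hDle
      omega
    set E := D ⊔ Subgroup.zpowers (a * a) with hE
    have haa : a * a ∈ A := mul_mem ha ha
    have hEA : E ≤ A := sup_le hDA (Subgroup.zpowers_le.2 haa)
    have hEabc : ∀ u ∈ E, ∀ v ∈ E, u * v = v * u := fun u hu v hv => hAc u (hEA hu) v (hEA hv)
    -- in both cases the enlarged subgroup is again extreme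
    have hEprop : Nat.card E < Nat.card A ∧
        Nat.card V ≤ Nat.card E * Nat.card (V ⊓ Subgroup.centralizer (E : Set G) : Subgroup G) := by
      rcases (show k = 1 ∨ k = 2 by omega) with h | h
      · have hED : E = D := sup_eq_left.2 (Subgroup.zpowers_le.2 (by
          have := hkD; rwa [h, pow_one, pow_two] at this))
        rw [hED]
        refine ⟨hDlt, heq.trans (le_trans (Nat.mul_le_mul_right _ hcardA) ?_)⟩
        have := hWle
        rw [h, Nat.sub_self, pow_zero, pow_one] at this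
        calc 2 ^ k * Nat.card D * C₁ = Nat.card D * (2 * C₁) := by rw [h]; ring
          _ ≤ _ := Nat.mul_le_mul_left _ this
      · have hAc' : Nat.card A ≤ 4 * Nat.card D := by rw [h] at hcardA; simpa using hcardA
        have hEc : 2 * Nat.card D ≤ Nat.card E := SmallTwo.two_mul_card_le (lt_of_le_of_ne le_sup_left fun h' => hmin (by
          rw [he, show k - 1 = 1 by omega, pow_one, pow_two, h']
          exact Subgroup.mem_sup_right (Subgroup.mem_zpowers _)))
        have hN2 : Nat.card (N 2) ≤ Nat.card (V ⊓ Subgroup.centralizer (E : Set G) : Subgroup G) := by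
          rw [← Subgroup.card_map_of_injective W.subtype_injective]
          refine Subgroup.card_le_of_le ?_
          rintro _ ⟨w, hw, rfl⟩
          refine ⟨w.2.1, Subgroup.mem_centralizer_iff.2 fun u hu =>
            Subgroup.mem_centralizer_singleton_iff.1 ((sup_le ?_ (Subgroup.zpowers_le.2 ?_) :
              E ≤ Subgroup.centralizer ({(w : G)} : Set G)) hu)⟩
          · exact fun d hd => Subgroup.mem_centralizer_singleton_iff.2 (Subgroup.mem_centralizer_iff.1 w.2.2 d hd)
          · refine Subgroup.mem_centralizer_singleton_iff.2 ?_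
            have hw2 : (((f ^ 2 ^ 1 : Monoid.End W) w : W) : G) = 1 := by
              have h' : (f ^ 2 ^ 1 : Monoid.End W) w = 1 := by rw [pow_one]; exact hw
              rw [h']; rfl
            rw [hf, pow_one, pow_two] at hw2
            refine mul_inv_eq_iff_eq_mul.1 ?_
            exact (eq_inv_of_mul_eq_one_left hw2).trans (inv_eq_of_mul_eq_one_right (hWsq _ w.2))
        refine ⟨lt_of_le_of_ne (Subgroup.card_le_of_le hEA) fun e => ?_, ?_⟩
        · have hEeq := Subgroup.eq_of_le_of_card_ge hEA e.ge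
          have hle : E ≤ D ⊔ Subgroup.zpowers (a * a) := le_rfl
          have haE : a ∈ (D : Set G) * (Subgroup.zpowers (a * a) : Set G) := by
            rw [← Subgroup.coe_mul_of_right_le_normalizer_left D (Subgroup.zpowers (a * a))
              ((Subgroup.zpowers_le.2 (Subgroup.mem_centralizer_iff.2 fun d hd => hAc d (hDA hd) _ haa)).trans
                (Subgroup.centralizer_le_normalizer _))]
            exact hle (hEeq.ge ha)
          obtain ⟨d, hd, c, hc, hdc⟩ := Set.mem_mul.1 haE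
          obtain ⟨i, rfl⟩ := Subgroup.mem_zpowers_iff.1 hc
          have hodd : a ^ (1 - 2 * i) ∈ D := by
            rw [zpow_sub, zpow_one, zpow_mul, zpow_two]
            nth_rewrite 1 [← hdc]
            rw [mul_inv_cancel_right]; exact hd
          have h4 : a ^ (4 : ℤ) ∈ D := by
            have := hkD; rw [h] at this
            exact_mod_cast this
          refine haD ?_
          rcases Int.even_or_odd i with ⟨j, hj⟩ | ⟨j, hj⟩
          · have e1 : a = a ^ (1 - 2 * i) * (a ^ (4 : ℤ)) ^ j := by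
              rw [← zpow_mul, ← zpow_add, hj, show 1 - 2 * (j + j) + 4 * j = 1 by ring, zpow_one]
            rw [e1]; exact mul_mem hodd (zpow_mem h4 j)
          · have e1 : a = (a ^ (1 - 2 * i))⁻¹ * (a ^ (4 : ℤ)) ^ (-j) := by
              rw [← zpow_neg, ← zpow_mul, ← zpow_add, hj,
                show -(1 - 2 * (2 * j + 1)) + 4 * -j = 1 by ring, zpow_one]
            rw [e1]; exact mul_mem (inv_mem hodd) (zpow_mem h4 _)
        · have h21 : 2 * C₁ ≤ Nat.card (N 2) := hN1 ▸ hgrow 1 (by rw [h]; norm_num)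
          calc Nat.card V ≤ Nat.card A * C₁ := heq
            _ ≤ 4 * Nat.card D * C₁ := Nat.mul_le_mul_right _ hAc'
            _ = 2 * Nat.card D * (2 * C₁) := by ring
            _ ≤ _ := Nat.mul_le_mul hEc (h21.trans hN2)
    obtain ⟨hEle, hEel⟩ := ih E (by omega) (hEA.trans hAH) hEabc (hA2.to_le hEA)
    have hEsq := hEel hEprop.2
    have hEoff : Off 2 V H E := ⟨hEA.trans hAH,
      ⟨⟨⟨fun u v => Subtype.ext (hEabc u u.2 v v.2)⟩⟩, fun u hu => by rw [pow_two]; exact hEsq u hu⟩,
      le_antisymm hEle hEprop.2⟩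
    intro b hb
    refine sq_eq_one_of_off S hEoff (hAH hb) (fun u hu => hAc b hb u (hEA hu)) ?_
    have hb' : b ∈ (D : Set G) * (Subgroup.zpowers a : Set G) := by
      rw [← Subgroup.coe_mul_of_right_le_normalizer_left D (Subgroup.zpowers a)
        ((Subgroup.zpowers_le.2 (Subgroup.mem_centralizer_iff.2 fun d hd => hAc d (hDA hd) a ha)).trans
          (Subgroup.centralizer_le_normalizer _))]
      exact hAa hb
    obtain ⟨d, hd, c, hc, rfl⟩ := Set.mem_mul.1 hb'
    obtain ⟨i, rfl⟩ := Subgroup.mem_zpowers_iff.1 hc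
    have hcm : Commute d (a ^ i) := hAc d (hDA hd) _ (zpow_mem ha i)
    rw [← pow_two, hcm.mul_pow, pow_two, pow_two, ← zpow_add, ← two_mul, zpow_mul, zpow_two]
    exact mul_mem (Subgroup.mem_sup_left (mul_mem hd hd))
      (Subgroup.mem_sup_right (zpow_mem (Subgroup.mem_zpowers _) i))

end Cfsg.Agent.AbOffender
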