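import Cfsg.Agent.Lib.Solvable.Fitting
import Cfsg.Agent.Lib.Transfer.Fusion
import Cfsg.Agent.Lib.Transfer.Basic
import Mathlib.GroupTheory.Schreier
import Mathlib.GroupTheory.PGroup

/-!
# Abelian Sylow subgroups with few generators and automorphisms of coprime order

* `mem_centralizer_of_not_dvd`: a `q`-element acting on an abelian `p`-group of rank `≤ d`
  with `q ∤ p^i - 1` for `1 ≤ i ≤ d` acts trivially.
* `hasNormalPComplement_of_abelian`: the resulting normal `p`-complement criterion.
-/

set_option autoImplicit false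
set_option linter.style.haveILetI false

universe u

namespace Cfsg.Agent.AbSylow

variable {G : Type u} [Group G]

/-- In a finite abelian group the number of solutions of `x ^ p = 1` is at most `p ^ rank`. -/
lemma card_pow_eq_one_le {A : Type u} [CommGroup A] [Finite A] (p : ℕ) (hp : 0 < p) :
    Nat.card {x : A // x ^ p = 1} ≤ p ^ Group.rank A := by
  set f : A →* A := powMonoidHom p with hf
  have h1 : Nat.card {x : A // x ^ p = 1} = Nat.card f.ker :=
    Nat.card_congr (Equiv.subtypeEquivRight fun x => by simp [hf, MonoidHom.mem_ker])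
  have h2 : Nat.card f.ker * Nat.card (A ⧸ f.ker) = Nat.card A := by
    rw [mul_comm, ← Subgroup.card_eq_card_quotient_mul_card_subgroup]
  have h3 : Nat.card (A ⧸ f.ker) = Nat.card f.range :=
    Nat.card_congr (QuotientGroup.quotientKerEquivRange f).toEquiv
  have h4 : Nat.card A = Nat.card (A ⧸ f.range) * Nat.card f.range :=
    Subgroup.card_eq_card_quotient_mul_card_subgroup _
  have hker : Nat.card f.ker = Nat.card (A ⧸ f.range) :=
    Nat.eq_of_mul_eq_mul_right (Nat.card_pos (α := f.range)) (by rw [← h4, ← h2, h3])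
  have hexp : ∀ q : A ⧸ f.range, q ^ p = 1 := by
    intro q
    obtain ⟨y, rfl⟩ := QuotientGroup.mk'_surjective f.range q
    rw [← map_pow]
    exact (QuotientGroup.eq_one_iff _).2 ⟨y, rfl⟩
  have hr : Group.rank (A ⧸ f.range) ≤ Group.rank A :=
    Group.rank_le_of_surjective _ (QuotientGroup.mk'_surjective f.range)
  rw [h1, hker]
  exact Nat.le_of_dvd (pow_pos hp _)
    ((card_dvd_exponent_pow_rank' (A ⧸ f.range) hexp).trans (Nat.pow_dvd_pow p hr))

/-- A `q`-element normalising an abelian `p`-subgroup `P` of rank `≤ d` centralises it when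
`q` divides no `p ^ i - 1`, `1 ≤ i ≤ d`. -/
theorem mem_centralizer_of_not_dvd [Finite G] {p q : ℕ} (hp : p.Prime) (hq : q.Prime) (hpq : p ≠ q)
    {P : Subgroup G} [IsMulCommutative P] (hP : IsPGroup p P) {d : ℕ} (hd : Group.rank P ≤ d)
    (hndvd : ∀ i : ℕ, 1 ≤ i → i ≤ d → ¬ q ∣ p ^ i - 1)
    {g : G} (hg : g ∈ Subgroup.normalizer (P : Set G)) {j : ℕ} (hgj : g ^ q ^ j = 1) :
    g ∈ Subgroup.centralizer (P : Set G) := by
  classical
  haveI := Fact.mk hp
  haveI := Fact.mk hq
  -- the elements of exponent `p`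
  let Ω : Subgroup G :=
    { carrier := {x | x ∈ P ∧ x ^ p = 1}
      one_mem' := ⟨P.one_mem, one_pow p⟩
      mul_mem' := by
        rintro a b ⟨ha, ha'⟩ ⟨hb, hb'⟩
        exact ⟨P.mul_mem ha hb, by rw [Commute.mul_pow (setLike_mul_comm ha hb), ha', hb', one_mul]⟩
      inv_mem' := by
        rintro a ⟨ha, ha'⟩
        exact ⟨P.inv_mem ha, by rw [inv_pow, ha', inv_one]⟩ }
  letI : CommGroup P := { (inferInstance : Group P) with mul_comm := fun a b => mul_comm' a b }
  have hΩcard : Nat.card Ω ≤ p ^ d := by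
    refine le_trans ?_ (Nat.pow_le_pow_right hp.pos hd)
    refine le_trans (le_of_eq (Nat.card_congr
      { toFun := fun x => ⟨⟨(x : G), x.2.1⟩, Subtype.ext (by simpa using x.2.2)⟩
        invFun := fun y => ⟨(y.1 : G), y.1.2, by simpa using congrArg Subtype.val y.2⟩
        left_inv := fun _ => rfl
        right_inv := fun _ => rfl })) (card_pow_eq_one_le (A := P) p hp.pos)
  have hmemΩ : ∀ h ∈ Subgroup.zpowers g, ∀ x ∈ Ω, h * x * h⁻¹ ∈ Ω := by
    intro h hh x hx
    refine ⟨(Subgroup.mem_normalizer_iff.1 (Subgroup.zpowers_le.2 hg hh) x).1 hx.1, ?_⟩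
    rw [conj_pow, hx.2, mul_one, mul_inv_cancel]
  letI : MulAction (Subgroup.zpowers g) Ω :=
    { smul := fun h x => ⟨(h : G) * x * (h : G)⁻¹, hmemΩ h h.2 x x.2⟩
      one_smul := fun x => Subtype.ext (by show (1 : G) * x * (1 : G)⁻¹ = x; group)
      mul_smul := fun a b x => Subtype.ext (by
        show ((a : G) * b) * x * ((a : G) * b)⁻¹ = (a : G) * ((b : G) * x * (b : G)⁻¹) * (a : G)⁻¹
        group) }
  have hQ : IsPGroup q (Subgroup.zpowers g) :=
    IsPGroup.of_card_dvd_pow (n := j) (by rw [Nat.card_zpowers]; exact orderOf_dvd_of_pow_eq_one hgj)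
  let C : Subgroup G := Ω ⊓ Subgroup.centralizer ({g} : Set G)
  have hfix : Nat.card (MulAction.fixedPoints (Subgroup.zpowers g) Ω) = Nat.card C := by
    refine Nat.card_congr
      { toFun := fun x => ⟨(x.1 : G), x.1.2, ?_⟩
        invFun := fun y => ⟨⟨(y : G), y.2.1⟩, ?_⟩
        left_inv := fun _ => rfl
        right_inv := fun _ => rfl }
    · refine Subgroup.mem_centralizer_iff.2 ?_
      rintro z rfl
      exact mul_inv_eq_iff_eq_mul.1 (congrArg Subtype.val (x.2 ⟨_, Subgroup.mem_zpowers _⟩))
    · intro h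
      obtain ⟨k, hk⟩ := Subgroup.mem_zpowers_iff.1 h.2
      have hy : Commute g (y : G) := Subgroup.mem_centralizer_iff.1 y.2.2 g rfl
      refine Subtype.ext ?_
      show (h : G) * y * (h : G)⁻¹ = y
      rw [← hk, (hy.zpow_left k).eq, mul_inv_cancel_right]
  have hmod := hQ.card_modEq_card_fixedPoints Ω
  rw [hfix] at hmod
  obtain ⟨a, ha⟩ := IsPGroup.iff_card.1 (hP.to_le (show Ω ≤ P from fun x hx => hx.1))
  obtain ⟨c, hc⟩ := IsPGroup.iff_card.1 (hP.to_le (show C ≤ P from fun x hx => hx.1.1))
  have hca : c ≤ a := (Nat.pow_le_pow_iff_right hp.one_lt).1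
    (ha ▸ hc ▸ Nat.le_of_dvd Nat.card_pos (Subgroup.card_dvd_of_le (inf_le_left : C ≤ Ω)))
  have had : a ≤ d := (Nat.pow_le_pow_iff_right hp.one_lt).1 (ha ▸ hΩcard)
  have hac : a = c := by
    by_contra hne
    refine hndvd (a - c) (by omega) (by omega) ?_
    rw [ha, hc] at hmod
    have h1 := (Nat.modEq_iff_dvd' (Nat.pow_le_pow_right hp.pos hca)).1 hmod.symm
    rw [show a = c + (a - c) by omega, pow_add, ← Nat.mul_sub_one] at h1
    exact (((Nat.coprime_primes hq hp).2 (Ne.symm hpq)).pow_right c).dvd_of_dvd_mul_left h1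
  have hΩC : C = Ω := Subgroup.eq_of_le_of_card_ge inf_le_left (by rw [ha, hc, hac])
  -- climb the powers
  have hclimb : ∀ (i : ℕ) (x : G), x ∈ P → x ^ p ^ i = 1 → g * x * g⁻¹ = x := by
    intro i
    induction i with
    | zero =>
      intro x _ hx
      rw [pow_zero, pow_one] at hx
      subst hx
      group
    | succ i ih =>
      intro x hx hxi
      have hgx : g * x * g⁻¹ ∈ P := (Subgroup.mem_normalizer_iff.1 hg x).1 hx
      set c := g * x * g⁻¹ * x⁻¹ with hcdef
      have h2 : g * x ^ p * g⁻¹ = x ^ p :=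
        ih (x ^ p) (P.pow_mem hx p) (by rw [← pow_mul, ← pow_succ']; exact hxi)
      have hcΩ : c ∈ Ω := ⟨P.mul_mem hgx (P.inv_mem hx), by
        rw [hcdef, Commute.mul_pow (setLike_mul_comm hgx (P.inv_mem hx)), conj_pow, h2, inv_pow,
          mul_inv_cancel]⟩
      have hgc : g * c = c * g := by
        have hh : c ∈ C := hΩC.symm ▸ hcΩ
        exact Subgroup.mem_centralizer_iff.1 hh.2 g rfl
      have hk : ∀ k : ℕ, g ^ k * x * (g ^ k)⁻¹ = c ^ k * x := by
        intro k
        induction k with
        | zero => simp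
        | succ k ihk =>
          rw [pow_succ' g, mul_inv_rev,
            show g * g ^ k * x * ((g ^ k)⁻¹ * g⁻¹) = g * (g ^ k * x * (g ^ k)⁻¹) * g⁻¹ by group, ihk]
          calc g * (c ^ k * x) * g⁻¹ = g * c ^ k * (x * g⁻¹) := by group
            _ = c ^ k * g * (x * g⁻¹) := by rw [((show Commute g c from hgc).pow_right k).eq]
            _ = c ^ k * (g * x * g⁻¹) := by group
            _ = c ^ k * (c * x) := congrArg (c ^ k * ·) (inv_mul_cancel_right (g * x * g⁻¹) x).symm
            _ = c ^ (k + 1) * x := by rw [pow_succ, mul_assoc (c ^ k)]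
      have h3 := hk (q ^ j)
      rw [hgj, one_mul, inv_one, mul_one] at h3
      have h4 : c ^ q ^ j = 1 := mul_eq_right.1 h3.symm
      have h5 : c = 1 := by
        have h6 := pow_gcd_eq_one.2 ⟨hcΩ.2, h4⟩
        rwa [Nat.Coprime.gcd_eq_one (((Nat.coprime_primes hp hq).2 hpq).pow_right j), pow_one] at h6
      exact mul_inv_eq_one.1 h5
  rw [Subgroup.mem_centralizer_iff]
  intro x hx
  obtain ⟨i, hi⟩ := hP ⟨x, hx⟩
  exact (mul_inv_eq_iff_eq_mul.1 (hclimb i x hx (by simpa using congrArg Subtype.val hi))).symm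

/-- Burnside: abelian Sylow `p`-subgroup of rank `d`, order prime to all `p ^ i - 1` (`1 ≤ i ≤ d`). -/
theorem hasNormalPComplement_of_abelian [Finite G] (p : ℕ) [hp : Fact p.Prime] (P : Sylow p G)
    (hab : IsMulCommutative (P : Subgroup G)) {d : ℕ} (hd : Group.rank (P : Subgroup G) ≤ d)
    (hcop : ∀ q : ℕ, q.Prime → q ≠ p → q ∣ Nat.card G → ∀ i : ℕ, 1 ≤ i → i ≤ d → ¬ q ∣ p ^ i - 1) :
    Cfsg.HasNormalPComplement p G := by
  classical
  refine Fusion.hasNormalPComplement_of_normalizer_le_centralizer P ?_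
  set N := Subgroup.normalizer ((P : Subgroup G) : Set G) with hN
  have hPC : (P : Subgroup G) ≤ Subgroup.centralizer ((P : Subgroup G) : Set G) := fun x hx =>
    Subgroup.mem_centralizer_iff.2 fun z hz => setLike_mul_comm hz hx
  rw [← Subgroup.subgroupOf_eq_top]
  refine FittingCores.eq_top_of_forall_sylow_le fun q hq => ?_
  haveI := Fact.mk hq
  refine ⟨default, fun g hg => ?_⟩
  obtain ⟨j, hj⟩ := (default : Sylow q N).isPGroup' ⟨g, hg⟩
  have hj' : (g : G) ^ q ^ j = 1 := by simpa [Subtype.ext_iff] using hj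
  rw [Subgroup.mem_subgroupOf]
  by_cases hqp : q = p
  · subst hqp
    -- a `p`-element of `N(P)` lies in `P`
    refine hPC ?_
    have hpg : IsPGroup q (Subgroup.zpowers (g : G)) :=
      IsPGroup.of_card_dvd_pow (n := j) (by rw [Nat.card_zpowers]; exact orderOf_dvd_of_pow_eq_one hj')
    have hsup : IsPGroup q ↥(Subgroup.zpowers (g : G) ⊔ (P : Subgroup G)) :=
      hpg.to_sup_of_normal_right' P.isPGroup' (Subgroup.zpowers_le.2 g.2)
    rw [← P.is_maximal' hsup le_sup_right]
    exact Subgroup.mem_sup_left (Subgroup.mem_zpowers _)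
  · by_cases hqG : q ∣ Nat.card G
    · exact mem_centralizer_of_not_dvd hp.out hq (Ne.symm hqp) P.isPGroup' hd (hcop q hq hqp hqG) g.2 hj'
    · have hg1 : (g : G) = 1 := by
        rw [← orderOf_eq_one_iff]
        obtain ⟨i, -, hi⟩ := (Nat.dvd_prime_pow hq).1 (orderOf_dvd_of_pow_eq_one hj')
        rcases Nat.eq_zero_or_pos i with rfl | hi0
        · rw [hi, pow_zero]
        · exact absurd ((dvd_pow_self q hi0.ne').trans (hi ▸ orderOf_dvd_natCard (g : G))) hqG
      rw [hg1]
      exact one_mem _

/-- All Sylow subgroups but the largest abelian of rank at most two, and `12 ∤ |G|`: solvable. -/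
theorem isSolvable_of_rank_le_two : ∀ (n : ℕ) (G : Type u) [Group G] [Finite G], Nat.card G = n →
    (∀ p : ℕ, p.Prime → p ∣ Nat.card G → (∃ q : ℕ, q.Prime ∧ q ∣ Nat.card G ∧ p < q) →
      ∀ P : Sylow p G, IsMulCommutative (P : Subgroup G) ∧ Group.rank (P : Subgroup G) ≤ 2) →
    ¬ 12 ∣ Nat.card G → Group.IsSolvable G := by
  intro n
  induction n using Nat.strong_induction_on with
  | _ n ih =>
    intro G _ _ hn h h12
    classical
    by_cases h1 : Nat.card G = 1
    · haveI := (Nat.card_eq_one_iff_unique.1 h1).1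
      infer_instance
    set p := (Nat.card G).minFac with hpdef
    have hp : p.Prime := Nat.minFac_prime h1
    haveI := Fact.mk hp
    have hpG : p ∣ Nat.card G := Nat.minFac_dvd _
    by_cases hlast : ∃ q : ℕ, q.Prime ∧ q ∣ Nat.card G ∧ p < q
    swap
    · have hG : IsPGroup p G := by
        refine IsPGroup.of_card (n := (Nat.card G).primeFactorsList.length) ?_
        refine Nat.eq_prime_pow_of_unique_prime_dvd Nat.card_pos.ne' fun {d} hd hdG => ?_
        by_contra hne
        exact hlast ⟨d, hd, hdG, lt_of_le_of_ne (Nat.minFac_le_of_dvd hd.two_le hdG) (Ne.symm hne)⟩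
      haveI := hG.isNilpotent
      infer_instance
    obtain ⟨P⟩ : Nonempty (Sylow p G) := inferInstance
    obtain ⟨hab, hrk⟩ := h p hp hpG hlast P
    have hnc : Cfsg.HasNormalPComplement p G := by
      by_cases hbig : p = 2 ∧ 3 ∣ Nat.card G
      · -- the Sylow 2-subgroup has order two
        obtain ⟨hp2, h3⟩ := hbig
        refine hasNormalPComplement_of_abelian (d := 1) p P hab ?_ ?_
        · have h4 : ¬ 4 ∣ Nat.card G := fun h4 =>
            h12 (Nat.Coprime.mul_dvd_of_dvd_of_dvd (by norm_num) h4 h3)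
          have hcard : Nat.card (P : Subgroup G) ∣ p := by
            obtain ⟨k, hk⟩ := IsPGroup.iff_card.1 P.isPGroup'
            rw [hk]
            refine dvd_trans (Nat.pow_dvd_pow p (?_ : k ≤ 1)) (by rw [pow_one])
            by_contra hk2
            refine h4 (dvd_trans ?_ (hk ▸ Subgroup.card_subgroup_dvd_card (P : Subgroup G)))
            rw [hp2]
            exact dvd_trans (by norm_num) (Nat.pow_dvd_pow 2 (show 2 ≤ k by omega))
          haveI : IsCyclic (P : Subgroup G) := by
            rcases (Nat.dvd_prime hp).1 hcard with hc | hc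
            · haveI := (Nat.card_eq_one_iff_unique.1 hc).1
              infer_instance
            · exact isCyclic_of_prime_card hc
          obtain ⟨x, hx⟩ := IsCyclic.exists_generator (α := (P : Subgroup G))
          exact le_trans (Group.rank_le (S := {x})
            (by rw [Finset.coe_singleton, ← Subgroup.zpowers_eq_closure, Subgroup.eq_top_iff']; exact hx))
            (by rw [Finset.card_singleton])
        · intro q hq _ _ i hi1 hi2
          rw [show i = 1 by omega, hp2]
          exact fun hd => hq.not_dvd_one (by simpa using hd)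
      · refine hasNormalPComplement_of_abelian (d := 2) p P hab hrk ?_
        intro q hq hqp hqG i hi1 hi2 hdvd
        have hge : p < q := lt_of_le_of_ne (Nat.minFac_le_of_dvd hq.two_le hqG) (Ne.symm hqp)
        have hd2 : q ∣ p ^ 2 - 1 := hdvd.trans (by
          rcases (show i = 1 ∨ i = 2 by omega) with rfl | rfl
          · rw [pow_one, show p ^ 2 - 1 = (p + 1) * (p - 1) by rw [← Nat.sq_sub_sq, one_pow]]
            exact dvd_mul_left _ _
          · exact dvd_rfl)
        rw [show p ^ 2 - 1 = (p + 1) * (p - 1) by rw [← Nat.sq_sub_sq, one_pow]] at hd2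
        rcases hq.dvd_mul.1 hd2 with hd3 | hd3
        · have hle := Nat.le_of_dvd (by omega) hd3
          have hq' : q = p + 1 := by omega
          have hp2 : p = 2 := by
            rcases hp.eq_two_or_odd with h' | h'
            · exact h'
            · have := hp.two_le
              rcases hq.eq_two_or_odd with h'' | h'' <;> omega
          exact hbig ⟨hp2, by rw [hq', hp2] at hqG; exact hqG⟩
        · have := hp.two_le
          have hle := Nat.le_of_dvd (by omega) hd3
          omega
    obtain ⟨N, hNn, hNcop, k, hk⟩ := PBasic.hasNormalPComplement_iff.1 hnc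
    haveI := hNn
    have hNdvd : Nat.card N ∣ Nat.card G := Subgroup.card_subgroup_dvd_card N
    have hlt : Nat.card N < n := by
      rw [← hn]
      refine lt_of_le_of_ne (Nat.le_of_dvd Nat.card_pos hNdvd) fun e => ?_
      rw [e] at hNcop
      exact hp.not_dvd_one (hNcop ▸ Nat.dvd_gcd hpG dvd_rfl)
    have hNsolv : Group.IsSolvable N := by
      refine ih (Nat.card N) hlt N rfl ?_ (fun h' => h12 (h'.trans hNdvd))
      rintro r hr hrN ⟨s, hs, hsN, hrs⟩ R
      haveI := Fact.mk hr
      have hrp : r ≠ p := fun e => hp.not_dvd_one (hNcop ▸ Nat.dvd_gcd (e ▸ hrN) dvd_rfl)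
      obtain ⟨T, hT⟩ := (R.isPGroup'.map N.subtype).exists_le_sylow
      obtain ⟨hTab, hTrk⟩ := h r hr (hrN.trans hNdvd) ⟨s, hs, hsN.trans hNdvd, hrs⟩ T
      have hidx : ¬ r ∣ N.index := by
        rw [hk]; exact fun hd => hrp ((Nat.prime_dvd_prime_iff_eq hr hp).1 (hr.dvd_of_dvd_pow hd))
      have hcard : Nat.card (R.1.map N.subtype) = Nat.card (T : Subgroup G) := by
        rw [Subgroup.card_map_of_injective N.subtype_injective, R.card_eq_multiplicity,
          T.card_eq_multiplicity, ← Subgroup.card_mul_index N,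
          Nat.factorization_mul Nat.card_pos.ne' N.index_ne_zero_of_finite, Finsupp.add_apply,
          Nat.factorization_eq_zero_of_not_dvd hidx, add_zero]
      have heq : R.1.map N.subtype = (T : Subgroup G) := Subgroup.eq_of_le_of_card_ge hT hcard.ge
      let e : (R : Subgroup N) ≃* (T : Subgroup G) :=
        (R.1.equivMapOfInjective N.subtype N.subtype_injective).trans (MulEquiv.subgroupCongr heq)
      refine ⟨⟨⟨fun a b => e.injective ?_⟩⟩, ?_⟩
      · rw [map_mul, map_mul]
        exact Subtype.ext (setLike_mul_comm (e a).2 (e b).2)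
      · rw [Group.rank_congr e]; exact hTrk
    haveI := hNsolv
    have hQp : IsPGroup p (G ⧸ N) := IsPGroup.of_card (n := k) (by rw [← Subgroup.index_eq_card, hk])
    haveI := hQp.isNilpotent
    exact Group.isSolvable_of_ker_le_range N.subtype (QuotientGroup.mk' N)
      (by rw [QuotientGroup.ker_mk', Subgroup.range_subtype])

end Cfsg.Agent.AbSylow
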