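import Cfsg.Agent.Lib.FGStruct.JordanCycle
import Mathlib.GroupTheory.SpecificGroups.Alternating.Simple
import Mathlib.GroupTheory.Transfer
import Mathlib.GroupTheory.PGroup
import Mathlib.Data.Fintype.CardEmbedding
import Mathlib.Algebra.Field.ZMod
import Mathlib.Data.ZMod.Basic
import Mathlib.Tactic.NormNum.Prime

/-!
Two elements of large prime orders in an alternating group generate an alternating group.
-/

set_option autoImplicit false
set_option linter.style.haveILetI false

namespace Cfsg.Agent.AltPair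

open MulAction Equiv
open scoped Pointwise

lemma zmod_sq_seven : ∀ t : ZMod 7, t ^ 2 = 1 → t = 1 ∨ t = -1 := by decide

lemma zmod_neg_seven : ∀ u : ZMod 7, -1 * u = u → u = 0 := by decide

lemma zmod_pow_ten : ∀ u : ZMod 11, u ≠ 0 → u ^ (2 * 5) = 1 := by decide

variable {β : Type*} [Fintype β] [DecidableEq β]

omit [Fintype β] [DecidableEq β] in
lemma fixed_of_coprime_pow {x : Perm β} {p k : ℕ} (hp : p.Prime) (hx : orderOf x = p)
    (hk : ¬ p ∣ k) {z : β} (hz : (x ^ k) z = z) : x z = z := by
  obtain ⟨m, hm⟩ := exists_pow_eq_self_of_coprime (x := x) (n := k)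
    (by rw [hx, Nat.coprime_comm, hp.coprime_iff_not_dvd]; exact hk)
  rw [← hm]
  exact Perm.pow_apply_eq_self_of_apply_eq_self hz m

lemma le_card_of_moved {x : Perm β} {p : ℕ} (hp : p.Prime) (hx : orderOf x = p) {z : β}
    (hz : x z ≠ z) (s : Finset β) (hs : ∀ i : ℕ, (x ^ i) z ∈ s) : p ≤ s.card := by
  have hinj : Set.InjOn (fun i : ℕ => (x ^ i) z) (Finset.range p : Set ℕ) := by
    intro i hi j hj hij
    simp only [Finset.coe_range, Set.mem_Iio] at hi hj
    wlog hle : i ≤ j generalizing i j
    · exact (this hij.symm hj hi (by omega)).symm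
    by_contra hne
    obtain ⟨k, rfl⟩ := Nat.exists_eq_add_of_le hle
    refine hz (fixed_of_coprime_pow hp hx (k := k) (fun h => ?_) ?_)
    · have := Nat.le_of_dvd (by omega) h
      omega
    · simp only [pow_add, Perm.mul_apply] at hij
      exact (x ^ i).injective hij.symm
  have := Finset.card_le_card_of_injOn (fun i : ℕ => (x ^ i) z) (fun i _ => hs i) hinj
  simpa using this

lemma support_card_of_prime {u : Perm β} {r : ℕ} (hr : r.Prime) (hu : orderOf u = r) :
    ∃ k : ℕ, u.support.card = (k + 1) * r := by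
  obtain ⟨k, hk⟩ := Perm.cycleType_prime_order (hu ▸ hr)
  refine ⟨k, ?_⟩
  rw [← Perm.sum_cycleType, hk, Multiset.sum_replicate, hu, smul_eq_mul]

lemma involution_support {v : Perm β} (hv : orderOf v = 2) (hs : Perm.sign v = 1) :
    ∃ k, v.support.card = 4 * (k + 1) := by
  obtain ⟨k, hk⟩ := Perm.cycleType_prime_order (hv.symm ▸ Nat.prime_two)
  have hcard : v.support.card = (k + 1) * 2 := by
    rw [← Perm.sum_cycleType, hk, Multiset.sum_replicate, hv, smul_eq_mul]
  have : Even (k + 1) := by
    rw [Perm.sign_of_cycleType, hk, Multiset.sum_replicate, Multiset.card_replicate, hv, smul_eq_mul,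
      pow_add, pow_mul] at hs
    simp at hs
    rcases neg_one_pow_eq_or ℤˣ (k + 1) with h | h
    · exact (neg_one_pow_eq_one_iff_even (by decide)).1 h
    · rw [h] at hs; exact absurd hs (by decide)
  obtain ⟨l, hl⟩ := this
  exact ⟨l - 1, by omega⟩

/-- A permutation commuting with `g`, at a point of a cycle `g`, moves like a power of `g`. -/
lemma eq_pow_of_commute {g v : Perm β} {a : β} {S : Finset β}
    (hS : ∀ z ∈ S, ∃ i : ℕ, (g ^ i) a = z) (hc : v * g = g * v) {j : ℕ} (hva : v a = (g ^ j) a)
    {z : β} (hz : z ∈ S) : v z = (g ^ j) z := by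
  obtain ⟨i, rfl⟩ := hS z hz
  have h : Commute v (g ^ i) := (show Commute v g from hc).pow_right i
  rw [← Perm.mul_apply, h.eq, Perm.mul_apply, hva, ← Perm.mul_apply, ← Perm.mul_apply, ← pow_add,
    ← pow_add, add_comm]

lemma zmod_pow {y v : Perm β} {q i : ℕ} (hy : orderOf y = q) (hv : v * y * v⁻¹ = y ^ i) (k : ℕ) :
    v ^ k * y * (v ^ k)⁻¹ = y ^ (i ^ k) := by
  induction k with
  | zero => simp
  | succ k ih =>
    rw [pow_succ', show v * v ^ k * y * (v * v ^ k)⁻¹ = v * (v ^ k * y * (v ^ k)⁻¹) * v⁻¹ by group,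
      ih, ← conj_pow, hv, ← pow_mul, pow_succ', mul_comm]

lemma zmod_eq_one {y v : Perm β} {q i k : ℕ} (hy : orderOf y = q) (hv : v * y * v⁻¹ = y ^ i)
    (hk : v ^ k = 1) : (i : ZMod q) ^ k = 1 := by
  have h := zmod_pow hy hv k
  rw [hk, one_mul, inv_one, mul_one] at h
  have h' : y ^ 1 = y ^ (i ^ k) := by rw [pow_one]; exact h
  rw [pow_inj_mod, hy, ← ZMod.natCast_eq_natCast_iff'] at h'
  push_cast at h'
  exact h'.symm

/-- A simple group with a proper subgroup of index `k` has order dividing `k!`. -/
lemma exists_embedding_cosets {A : Type*} [Group A] [IsSimpleGroup A] (H : Subgroup A) (hH : H ≠ ⊤) :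
    Function.Injective (MulAction.toPermHom A (A ⧸ H)) := by
  rw [← MonoidHom.ker_eq_bot_iff, ← Subgroup.normalCore_eq_ker]
  rcases (inferInstance : (H.normalCore).Normal).eq_bot_or_eq_top with h | h
  · exact h
  · exact absurd (top_le_iff.1 (h ▸ H.normalCore_le)) hH

lemma card_dvd_index_factorial {A : Type*} [Group A] [Finite A] [IsSimpleGroup A] (H : Subgroup A)
    (hH : H ≠ ⊤) : Nat.card A ∣ H.index.factorial := by
  have h := exists_embedding_cosets H hH
  rw [Subgroup.index_eq_card, ← Nat.card_perm,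
    Nat.card_congr (MonoidHom.ofInjective h).toEquiv]
  exact Subgroup.card_subgroup_dvd_card _

lemma equiv_alternating_of_card {H γ : Type*} [Group H] [Fintype γ] [DecidableEq γ]
    (f : H →* Perm γ) (hf : Function.Injective f) (hc : 2 * Nat.card H = (Nat.card γ).factorial) :
    Nonempty (H ≃* alternatingGroup γ) := by
  have hH : Nat.card f.range = Nat.card H := (Nat.card_congr (MonoidHom.ofInjective hf).toEquiv).symm
  have hpos : 0 < Nat.card H := by
    have := Nat.factorial_pos (Nat.card γ)
    omega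
  have hidx : f.range.index = 2 := by
    have := Subgroup.index_mul_card f.range
    rw [hH, Nat.card_perm, ← hc] at this
    exact Nat.eq_of_mul_eq_mul_right hpos this
  exact ⟨(MonoidHom.ofInjective hf).trans (MulEquiv.subgroupCongr
    (Perm.eq_alternatingGroup_of_index_eq_two hidx))⟩

/-- In a simple group of order `360`, a subgroup of index `6` is alternating of degree five. -/
lemma equiv_A5_of_index_six {A : Type*} [Group A] [Finite A] [IsSimpleGroup A]
    (H : Subgroup A) (hA : Nat.card A = 360) (hH : H.index = 6) :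
    Nonempty (H ≃* alternatingGroup (Fin 5)) := by
  have hne : H ≠ ⊤ := fun h => by rw [h, Subgroup.index_top] at hH; omega
  have hinj := exists_embedding_cosets H hne
  set φ := MulAction.toPermHom A (A ⧸ H)
  let base : A ⧸ H := QuotientGroup.mk 1
  have hfix : ∀ h : H, φ (h : A) base = base := by
    intro h
    change ((h : A) • QuotientGroup.mk (s := H) (1 : A)) = QuotientGroup.mk 1
    rw [MulAction.Quotient.smul_mk, smul_eq_mul, mul_one, QuotientGroup.eq]
    simp
  have hiff : ∀ (h : H) (c : A ⧸ H), φ (h : A) c ≠ base ↔ c ≠ base := by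
    intro h c
    rw [not_iff_not]
    refine ⟨fun hc => (φ (h : A)).injective (hc.trans (hfix h).symm), fun hc => by rw [hc, hfix]⟩
  let ψ : H →* Perm {c : A ⧸ H // c ≠ base} :=
    { toFun := fun h => (φ (h : A)).subtypePerm (hiff h)
      map_one' := by
        ext c
        simp [Perm.subtypePerm_apply]
      map_mul' := fun a b => by
        ext c
        change φ ((a * b : H) : A) (c : A ⧸ H) = φ (a : A) (φ (b : A) (c : A ⧸ H))
        rw [Subgroup.coe_mul, map_mul, Perm.mul_apply] }
  haveI : Fintype (A ⧸ H) := Fintype.ofFinite _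
  classical
  have hq : Nat.card {c : A ⧸ H // c ≠ base} = 5 := by
    rw [Nat.card_eq_fintype_card, Fintype.card_subtype_compl, Fintype.card_subtype_eq,
      ← Nat.card_eq_fintype_card, ← Subgroup.index_eq_card, hH]
  let e : {c : A ⧸ H // c ≠ base} ≃ Fin 5 := (Finite.equivFinOfCardEq hq)
  have hcH : Nat.card H = 60 := by
    have := Subgroup.index_mul_card H
    rw [hH, hA] at this
    omega
  refine equiv_alternating_of_card (γ := Fin 5) (e.permCongrHom.toMonoidHom.comp ψ) ?_ ?_
  · refine e.permCongrHom.injective.comp ?_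
    intro a b hab
    apply Subtype.ext
    apply hinj
    ext c
    by_cases hc : c = base
    · rw [hc]; exact (hfix a).trans (hfix b).symm
    · exact congrArg Subtype.val (DFunLike.congr_fun hab ⟨c, hc⟩)
  · rw [hcH, Nat.card_eq_fintype_card, Fintype.card_fin]
    rfl

lemma card_alt {n : ℕ} (hn : Fintype.card β = n) (h2 : 2 ≤ n) :
    2 * Nat.card (alternatingGroup β) = n.factorial := by
  haveI : Nontrivial β := Fintype.one_lt_card_iff_nontrivial.1 (by omega)
  rw [two_mul_nat_card_alternatingGroup, Nat.card_perm, Nat.card_eq_fintype_card, hn]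

lemma index_mul_eq {G : Subgroup (Perm β)} (hG : G ≤ alternatingGroup β) :
    (G.subgroupOf (alternatingGroup β)).index * Nat.card G = Nat.card (alternatingGroup β) := by
  rw [← Nat.card_congr (Subgroup.subgroupOfEquivOfLe hG).toEquiv, Subgroup.index_mul_card]

lemma card_dvd_factorial_index (h5 : 5 ≤ Fintype.card β) {G : Subgroup (Perm β)}
    (hA : ¬ alternatingGroup β ≤ G) :
    Nat.card (alternatingGroup β) ∣ (G.subgroupOf (alternatingGroup β)).index.factorial := by
  haveI : IsSimpleGroup (alternatingGroup β) :=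
    alternatingGroup.isSimpleGroup (by rwa [Nat.card_eq_fintype_card])
  exact card_dvd_index_factorial _ (fun h => hA (Subgroup.subgroupOf_eq_top.1 h))

lemma card_eq_mul_stabilizer (G : Subgroup (Perm β)) [IsPretransitive G β] (z : β) :
    Nat.card G = Fintype.card β * Nat.card (stabilizer G z) := by
  rw [← Subgroup.index_mul_card (stabilizer G z), index_stabilizer_of_transitive,
    Nat.card_eq_fintype_card]

lemma exists_fixed_of_involution {v : Perm β} (hv : orderOf v = 2) (hs : Perm.sign v = 1)
    (h6 : Fintype.card β < 8) : v.support.card = 4 := by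
  obtain ⟨k, hk⟩ := involution_support hv hs
  have := v.support.card_le_univ
  omega

/-- Degree six: transitive, order divisible by fifteen. -/
theorem case_six {G : Subgroup (Perm β)} [IsPretransitive G β] (hG : G ≤ alternatingGroup β)
    (hn : Fintype.card β = 6) (h5 : 5 ∣ Nat.card G) (hA : ¬ alternatingGroup β ≤ G) :
    Nonempty (G ≃* alternatingGroup (Fin 5)) := by
  haveI : IsSimpleGroup (alternatingGroup β) :=
    alternatingGroup.isSimpleGroup (by rw [Nat.card_eq_fintype_card]; omega)
  have hcA : Nat.card (alternatingGroup β) = 360 := by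
    have := card_alt hn (by norm_num)
    rw [show (6 : ℕ).factorial = 720 from rfl] at this
    omega
  have hdvd := card_dvd_factorial_index (by omega) hA
  have hmul := index_mul_eq hG
  set H := G.subgroupOf (alternatingGroup β) with hH
  rw [hcA] at hdvd hmul
  obtain ⟨z⟩ : Nonempty β := Fintype.card_pos_iff.1 (by omega)
  have hst := card_eq_mul_stabilizer G z
  rw [hn] at hst
  have h30 : 30 ∣ Nat.card G :=
    Nat.Coprime.mul_dvd_of_dvd_of_dvd (by norm_num : Nat.Coprime 6 5) ⟨_, hst⟩ h5
  have hk12 : H.index ≤ 12 := by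
    have := Nat.le_of_dvd Nat.card_pos h30
    nlinarith
  obtain ⟨j, hj⟩ := h30
  have hk : H.index = 6 ∨ H.index = 12 := by
    have hmul' : H.index * j = 12 := by rw [hj] at hmul; nlinarith
    have hd : H.index ∣ 12 := ⟨j, hmul'.symm⟩
    interval_cases hi : H.index <;> revert hd hdvd <;> norm_num [Nat.factorial]
  rcases hk with hk | hk
  · obtain ⟨e⟩ := equiv_A5_of_index_six H hcA hk
    exact ⟨(Subgroup.subgroupOfEquivOfLe hG).symm.trans e⟩
  · exfalso
    have hc : Nat.card G = 30 := by rw [hk] at hmul; omega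
    obtain ⟨v, hv⟩ := exists_prime_orderOf_dvd_card' (G := G) 2 (hp := ⟨Nat.prime_two⟩) (by rw [hc]; norm_num)
    have hv' : orderOf (v : Perm β) = 2 := (Subgroup.orderOf_coe v).trans hv
    have h4 := exists_fixed_of_involution hv' (Perm.mem_alternatingGroup.1 (hG v.2)) (by omega)
    obtain ⟨a, ha⟩ : ∃ a, a ∉ (v : Perm β).support := by
      by_contra h
      push Not at h
      rw [Finset.eq_univ_iff_forall.2 h, Finset.card_univ, hn] at h4
      omega
    have hst := card_eq_mul_stabilizer G a
    rw [hc, hn] at hst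
    have hva : v ∈ stabilizer G a := Perm.notMem_support.1 ha
    have := Subgroup.orderOf_dvd_natCard _ hva
    rw [hv, show Nat.card (stabilizer G a) = 5 by omega] at this
    norm_num at this

lemma eq_pow_of_commute_full {y v : Perm β} (hy : ∀ a z, ∃ i : ℕ, (y ^ i) a = z) (a : β)
    (hc : v * y = y * v) : ∃ j : ℕ, v = y ^ j := by
  obtain ⟨j, hj⟩ := hy a (v a)
  exact ⟨j, Equiv.ext fun z => eq_pow_of_commute (S := Finset.univ) (fun w _ => hy a w) hc hj.symm
    (Finset.mem_univ z)⟩

/-- Degree seven: two-element Cauchy in the normaliser of a seven cycle. -/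
theorem case_seven {G : Subgroup (Perm β)} (hG : G ≤ alternatingGroup β) (hn : Fintype.card β = 7)
    [IsMultiplyPretransitive G β 3] {y : Perm β} (hy : y ∈ G) (hyo : orderOf y = 7) :
    alternatingGroup β ≤ G := by
  by_contra hA
  have hcA : Nat.card (alternatingGroup β) = 2520 := by
    have := card_alt hn (by norm_num)
    rw [show (7 : ℕ).factorial = 5040 from rfl] at this
    omega
  have hdvd := card_dvd_factorial_index (by omega) hA
  have hmul := index_mul_eq hG
  set k := (G.subgroupOf (alternatingGroup β)).index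
  rw [hcA] at hdvd hmul
  obtain ⟨s⟩ : Nonempty (Fin 3 ↪ β) :=
    Function.Embedding.nonempty_of_card_le (by rw [Fintype.card_fin]; omega)
  have h210 : 210 ∣ Nat.card G := by
    haveI : IsPretransitive G (Fin 3 ↪ β) := ‹IsMultiplyPretransitive G β 3›
    have := Subgroup.index_dvd_card (stabilizer G s)
    rw [@index_stabilizer_of_transitive G (Fin 3 ↪ β) _ _ s ‹_›, Nat.card_eq_fintype_card,
      Fintype.card_embedding_eq,
      Fintype.card_fin, hn] at this
    norm_num [Nat.descFactorial] at this
    exact this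
  have hk : k ≤ 12 := by
    have := Nat.le_of_dvd Nat.card_pos h210
    nlinarith
  obtain ⟨j, hj⟩ := h210
  have hk12 : k = 12 := by
    have hmul' : k * j = 12 := by rw [hj] at hmul; nlinarith
    have hd : k ∣ 12 := ⟨j, hmul'.symm⟩
    interval_cases hi : k <;> revert hd hdvd <;> norm_num [Nat.factorial]
  have hc : Nat.card G = 210 := by rw [hk12] at hmul; omega
  haveI : Fact (Nat.Prime 7) := ⟨by norm_num⟩
  let y' : G := ⟨y, hy⟩
  have hy' : orderOf y' = 7 := by rw [← Subgroup.orderOf_coe]; exact hyo
  let P : Sylow 7 G := Sylow.ofCard (Subgroup.zpowers y') (by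
    have hf : (210 : ℕ).factorization 7 = 1 := by
      have h1 := (Nat.Prime.pow_dvd_iff_le_factorization (p := 7) (k := 1) (n := 210)
        (by norm_num) (by norm_num)).1 (by norm_num)
      have h2 := mt (Nat.Prime.pow_dvd_iff_le_factorization (p := 7) (k := 2) (n := 210)
        (by norm_num) (by norm_num)).2 (by norm_num)
      omega
    rw [Nat.card_zpowers, hy', hc, hf, pow_one])
  have hmod := card_sylow_modEq_one 7 G
  rw [Sylow.card_eq_index_normalizer P] at hmod
  set N := Subgroup.normalizer ((P : Subgroup G) : Set G)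
  have hNmul := Subgroup.index_mul_card N
  have hNy : y' ∈ N := Subgroup.le_normalizer (Subgroup.mem_zpowers y')
  have h7 : 7 ∣ Nat.card N := hy' ▸ Subgroup.orderOf_dvd_natCard _ hNy
  obtain ⟨l, hl⟩ := h7
  rw [hc] at hNmul
  have hidx : N.index * l = 30 := by rw [hl] at hNmul; nlinarith
  have h2 : 2 ∣ Nat.card N := by
    have hd : N.index ∣ 30 := ⟨l, hidx.symm⟩
    have hle : N.index ≤ 30 := Nat.le_of_dvd (by norm_num) hd
    unfold Nat.ModEq at hmod
    rw [hl]
    interval_cases hi : N.index <;> first | omega | (revert hd hmod; norm_num)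
  obtain ⟨v, hv⟩ := exists_prime_orderOf_dvd_card' (G := N) 2 (hp := ⟨Nat.prime_two⟩) h2
  set w : Perm β := ((v : G) : Perm β) with hw
  have hwo : orderOf w = 2 := by rw [hw, Subgroup.orderOf_coe, Subgroup.orderOf_coe, hv]
  obtain ⟨i, hi⟩ : ∃ i : ℕ, y' ^ i = (v : G) * y' * (v : G)⁻¹ :=
    mem_powers_iff_mem_zpowers.2 ((Subgroup.mem_normalizer_iff.1 v.2 y').1 (Subgroup.mem_zpowers y'))
  have hconj : w * y * w⁻¹ = y ^ i := by
    have := congrArg Subtype.val hi
    simpa [hw, y'] using this.symm
  have hi2 := zmod_eq_one hyo hconj (k := 2) (hwo ▸ pow_orderOf_eq_one w)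
  have hyc : y.IsCycle := Perm.isCycle_of_prime_order' (hyo.symm ▸ by norm_num) (by omega)
  have hsupp : y.support = Finset.univ :=
    Finset.eq_univ_of_card _ (by rw [← hyc.orderOf, hyo, hn])
  have hyfull : ∀ a z : β, ∃ i : ℕ, (y ^ i) a = z := fun a z =>
    hyc.exists_pow_eq (Perm.mem_support.1 (by simp [hsupp])) (Perm.mem_support.1 (by simp [hsupp]))
  have h4 := exists_fixed_of_involution hwo (Perm.mem_alternatingGroup.1 (hG (v : G).2)) (by omega)
  obtain ⟨a, ha, b, hb, hab⟩ := Finset.one_lt_card.1
    (show 1 < w.supportᶜ.card by rw [Finset.card_compl, h4, hn]; norm_num)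
  simp only [Finset.mem_compl, Perm.notMem_support] at ha hb
  rcases zmod_sq_seven _ hi2 with h1 | h1
  · have hcomm : w * y = y * w := by
      have hpow : y ^ i = y := by
        conv_rhs => rw [← pow_one y]
        rw [pow_inj_mod, hyo, ← ZMod.natCast_eq_natCast_iff', h1, Nat.cast_one]
      rw [hpow] at hconj
      exact mul_inv_eq_iff_eq_mul.1 hconj
    obtain ⟨t, ht⟩ := eq_pow_of_commute_full hyfull a hcomm
    have : w ^ 7 = 1 := by rw [ht, ← pow_mul, mul_comm, pow_mul, ← hyo, pow_orderOf_eq_one, one_pow]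
    have := orderOf_dvd_of_pow_eq_one this
    rw [hwo] at this
    norm_num at this
  · obtain ⟨t, rfl⟩ := hyfull a b
    have hcm : w * y ^ t * w⁻¹ = y ^ (i * t) := by rw [← conj_pow, hconj, pow_mul]
    have h2t : (y ^ (i * t)) a = (y ^ t) a := by
      rw [← hcm, Perm.mul_apply, Perm.mul_apply]
      have : w⁻¹ a = a := by
        conv_lhs => rw [← ha]
        simp
      rw [this, hb]
    have hyt : (y ^ (i * t)) = y ^ t := Equiv.ext fun z =>
      eq_pow_of_commute (S := Finset.univ) (fun w' _ => hyfull a w')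
        ((Commute.refl y).pow_left (i * t)).eq h2t (Finset.mem_univ z)
    rw [pow_inj_mod, hyo, ← ZMod.natCast_eq_natCast_iff', Nat.cast_mul, h1] at hyt
    have ht0 : (t : ZMod 7) = 0 := by
      exact zmod_neg_seven _ hyt
    rw [ZMod.natCast_eq_zero_iff] at ht0
    apply hab
    rw [show y ^ t = 1 from orderOf_dvd_iff_pow_eq_one.1 (hyo ▸ ht0), Perm.one_apply]

omit [Fintype β] [DecidableEq β] in
lemma fixed_inv {g : Perm β} {z : β} (h : g z = z) : g⁻¹ z = z := by
  conv_lhs => rw [← h]
  simp

lemma pow_apply_inj {x : Perm β} {r : ℕ} (hr : r.Prime) (hx : orderOf x = r) {a : β} (ha : x a ≠ a)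
    {s t : ℕ} (h : (x ^ s) a = (x ^ t) a) : (s : ZMod r) = (t : ZMod r) := by
  wlog hle : s ≤ t generalizing s t
  · exact (this h.symm (by omega)).symm
  obtain ⟨k, rfl⟩ := Nat.exists_eq_add_of_le hle
  rw [pow_add, Perm.mul_apply] at h
  have hk : r ∣ k := by
    by_contra hk
    exact ha (fixed_of_coprime_pow hr hx hk ((x ^ s).injective h).symm)
  rw [Nat.cast_add, (ZMod.natCast_eq_zero_iff k r).2 hk, add_zero]

/-- Degree thirteen, first part: no subgroup of order `132` of the point stabiliser. -/
lemma stab_contra {G : Subgroup (Perm β)} (hn : Fintype.card β = 13)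
    [IsPretransitive G β] {a b : β} (hab : a ≠ b) {x : Perm β} (hxG : x ∈ G) (hxo : orderOf x = 11)
    (hxa : x a = a) (hxb : x b = b) (hxS : ∀ z, z ≠ a → z ≠ b → x z ≠ z)
    (htrans : ∀ z, z ≠ a → ∃ g ∈ G, g a = a ∧ g b = z)
    (hK : ∀ g ∈ G, g a = a → g b = b → ∃ j : ℕ, g = x ^ j) : False := by
  classical
  haveI : Fact (Nat.Prime 11) := ⟨by norm_num⟩
  set Ga := stabilizer G a with hGa
  let x' : Ga := ⟨⟨x, hxG⟩, hxa⟩
  let b' : {z : β // z ≠ a} := ⟨b, hab.symm⟩
  -- the stabiliser of `b` in `Ga` has order `11`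
  have hx' : orderOf x' = 11 := by rw [← Subgroup.orderOf_coe, ← Subgroup.orderOf_coe]; exact hxo
  have horb : orbit Ga b = {z : β | z ≠ a} := by
    ext z
    constructor
    · rintro ⟨g, rfl⟩ (h : ((g : G) : Perm β) b = a)
      exact hab (((g : G) : Perm β).injective (h.trans (show ((g : G) : Perm β) a = a from g.2).symm)).symm
    · intro hz
      obtain ⟨g, hg, hga, hgb⟩ := htrans z hz
      exact ⟨⟨⟨g, hg⟩, hga⟩, hgb⟩
  have hstab : stabilizer Ga b = Subgroup.zpowers x' := by
    refine le_antisymm (fun g hg => ?_) ?_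
    · obtain ⟨j, hj⟩ := hK _ (g : G).2 g.2 hg
      exact ⟨j, Subtype.ext (Subtype.ext (by simp [x', hj]))⟩
    · rw [Subgroup.zpowers_le]; exact hxb
  have hcard : Nat.card Ga = 132 := by
    rw [← Subgroup.index_mul_card (stabilizer Ga b), index_stabilizer, horb, hstab, Nat.card_zpowers, hx']
    rw [show {z : β | z ≠ a} = ({a} : Set β)ᶜ from rfl, Set.ncard_compl, Nat.card_eq_fintype_card, hn,
      Set.ncard_singleton]
  haveI : Fintype Ga := Fintype.ofFinite _
  let O : ℕ → Finset Ga := fun r => Finset.univ.filter fun g => orderOf g = r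
  -- fixed points of powers of `x`
  have hfix : ∀ i : ℕ, ¬ 11 ∣ i → ∀ z, z ≠ a → (x ^ i) z = z → z = b := by
    intro i hi z hza hz
    by_contra hzb
    exact hxS z hza hzb (fixed_of_coprime_pow (by norm_num) hxo hi hz)
  choose g hgG hga hgb using htrans
  let φ : {z : β // z ≠ a} × Fin 10 → Ga := fun zi =>
    (⟨⟨g zi.1.1 zi.1.2, hgG _ _⟩, hga _ _⟩ : Ga) * x' ^ (zi.2.1 + 1) *
      (⟨⟨g zi.1.1 zi.1.2, hgG _ _⟩, hga _ _⟩ : Ga)⁻¹
  have hφ : Function.Injective φ := by
    rintro ⟨⟨z, hz⟩, i⟩ ⟨⟨z', hz'⟩, i'⟩ h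
    have hh : g z hz * x ^ (i.1 + 1) * (g z hz)⁻¹ = g z' hz' * x ^ (i'.1 + 1) * (g z' hz')⁻¹ := by
      have := congrArg (fun w : Ga => ((w : G) : Perm β)) h
      simpa [φ, x'] using this
    have hz1 : (g z hz * x ^ (i.1 + 1) * (g z hz)⁻¹) z = z := by
      rw [Perm.mul_apply, Perm.mul_apply]
      have : (g z hz)⁻¹ z = b := (congrArg (⇑((g z hz)⁻¹ : Perm β)) (hgb z hz).symm).trans (by simp)
      rw [this, Perm.pow_apply_eq_self_of_apply_eq_self hxb, hgb]
    have hzz : z = z' := by
      rw [hh, Perm.mul_apply, Perm.mul_apply] at hz1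
      set w := (g z' hz')⁻¹ z with hw
      have hwa : w ≠ a := by
        intro hwa
        apply hz
        have := congrArg (g z' hz') hwa
        rwa [hga, hw, ← Perm.mul_apply, mul_inv_cancel, Perm.one_apply] at this
      have hwb := hfix (i'.1 + 1) (fun hd => by have := Nat.le_of_dvd (by omega) hd; omega) w hwa
        ((g z' hz').injective (by rw [hz1, hw, ← Perm.mul_apply, mul_inv_cancel, Perm.one_apply]))
      have := congrArg (g z' hz') hwb
      rwa [hgb, hw, ← Perm.mul_apply, mul_inv_cancel, Perm.one_apply] at this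
    subst hzz
    have := mul_left_cancel (mul_right_cancel hh)
    rw [pow_inj_mod, hxo] at this
    have hi : i.1 = i'.1 := by
      have h1 := i.2; have h2 := i'.2
      rw [Nat.mod_eq_of_lt (by omega), Nat.mod_eq_of_lt (by omega)] at this
      omega
    exact Prod.ext rfl (Fin.ext hi)
  have h11 : 120 ≤ (O 11).card := by
    have := Finset.card_le_card_of_injOn φ (s := (Finset.univ : Finset ({z : β // z ≠ a} × Fin 10)))
      (t := O 11) (fun zi _ => by
        simp only [O, Finset.coe_filter, Finset.mem_univ, true_and, Set.mem_ofPred_eq, φ]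
        rw [← MulAut.conj_apply, MulEquiv.orderOf_eq, Nat.Coprime.orderOf_pow, hx']
        rw [hx', (Nat.prime_eleven).coprime_iff_not_dvd]
        intro hd
        have := Nat.le_of_dvd (by omega) hd
        have := zi.2.2
        omega) hφ.injOn
    rw [Finset.card_univ, Fintype.card_prod, Fintype.card_fin, Fintype.card_subtype_compl,
      Fintype.card_subtype_eq, hn] at this
    simpa using this
  -- other prime orders
  have hsmall : ∀ r, r.Prime → r ∣ 132 → r ≠ 11 → 11 ≤ (O r).card := by
    intro r hr hr132 hr11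
    haveI := Fact.mk hr
    obtain ⟨t, ht⟩ := exists_prime_orderOf_dvd_card' (G := Ga) r (by rw [hcard]; exact hr132)
    have hinj : Set.InjOn (fun i : ℕ => x' ^ i * t * (x' ^ i)⁻¹) (Finset.range 11 : Set ℕ) := by
      intro i hi j hj hij
      simp only [Finset.coe_range, Set.mem_Iio] at hi hj
      wlog hle : i ≤ j generalizing i j
      · exact (this hij.symm hj hi (by omega)).symm
      by_contra hne
      obtain ⟨k, rfl⟩ := Nat.exists_eq_add_of_le hle
      have hk : ¬ 11 ∣ k := fun hd => by have := Nat.le_of_dvd (by omega) hd; omega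
      have hcomm : t * x' ^ k = x' ^ k * t := by
        simp only [pow_add] at hij
        have h3 : x' ^ i * t * (x' ^ i)⁻¹ = x' ^ i * (x' ^ k * t * (x' ^ k)⁻¹) * (x' ^ i)⁻¹ := by
          rw [hij]; group
        have h2 := mul_left_cancel (mul_right_cancel h3)
        exact eq_mul_inv_iff_mul_eq.1 h2
      set w : Perm β := ((t : G) : Perm β) with hwdef
      have hc' : w * x ^ k = x ^ k * w := by
        simpa [x', hwdef] using congrArg (fun w : Ga => ((w : G) : Perm β)) hcomm
      have hwb : w b = b := by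
        refine hfix k hk (w b) ?_ ?_
        · intro h
          exact hab (w.injective (h.trans (show w a = a from t.2).symm)).symm
        · rw [← Perm.mul_apply, ← hc', Perm.mul_apply, Perm.pow_apply_eq_self_of_apply_eq_self hxb]
      obtain ⟨j, hj⟩ := hK w (t : G).2 t.2 hwb
      have htw : orderOf w = r := by rw [hwdef, Subgroup.orderOf_coe, Subgroup.orderOf_coe, ht]
      have : orderOf w ∣ 11 := by
        rw [hj]; exact hxo ▸ orderOf_pow_dvd j
      rw [htw, Nat.prime_dvd_prime_iff_eq hr Nat.prime_eleven] at this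
      exact hr11 this
    have := Finset.card_le_card_of_injOn (s := Finset.range 11) (t := O r)
      (fun i : ℕ => x' ^ i * t * (x' ^ i)⁻¹) (fun i _ => by
        simp only [O, Finset.coe_filter, Finset.mem_univ, true_and, Set.mem_ofPred_eq]
        rw [← MulAut.conj_apply, MulEquiv.orderOf_eq, ht]) hinj
    simpa using this
  have h2 := hsmall 2 Nat.prime_two (by norm_num) (by norm_num)
  have h3 := hsmall 3 Nat.prime_three (by norm_num) (by norm_num)
  have hd : ∀ r r', r ≠ r' → Disjoint (O r) (O r') := by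
    intro r r' hne
    rw [Finset.disjoint_left]
    intro w h h'
    simp only [O, Finset.mem_filter, Finset.mem_univ, true_and] at h h'
    exact hne (h.symm.trans h')
  have := Finset.card_le_univ ((O 11 ∪ O 2) ∪ O 3)
  rw [Finset.card_union_of_disjoint (Finset.disjoint_union_left.2 ⟨hd _ _ (by norm_num), hd _ _ (by norm_num)⟩),
    Finset.card_union_of_disjoint (hd _ _ (by norm_num)), ← Nat.card_eq_fintype_card, hcard] at this
  omega

/-- Degree thirteen: a primitive group of even permutations with an eleven-cycle. -/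
theorem case_thirteen {G : Subgroup (Perm β)} (hG : G ≤ alternatingGroup β)
    (hprim : IsPreprimitive G β) (hn : Fintype.card β = 13) {x : Perm β} (hxG : x ∈ G)
    (hxc : x.IsCycle) (hxs : x.support.card = 11) : alternatingGroup β ≤ G := by
  classical
  haveI := hprim
  have h11 : Nat.Prime 11 := Nat.prime_eleven
  haveI : Fact (Nat.Prime 11) := ⟨h11⟩
  haveI : Fact (Nat.Prime 5) := ⟨Nat.prime_five⟩
  have hxo : orderOf x = 11 := hxc.orderOf.trans hxs
  have hmt : IsMultiplyPretransitive G β 3 := by
    have := JordanCycle.multiplyPretransitive_of_cycle hprim h11 hxc hxs hxG (by omega)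
    rwa [hn] at this
  obtain ⟨a, b, hab, hS⟩ := Finset.card_eq_two.1
    (show x.supportᶜ.card = 2 by rw [Finset.card_compl, hxs, hn])
  have hmem : ∀ z, z ∈ x.support ↔ z ≠ a ∧ z ≠ b := by
    intro z
    rw [← not_iff_not, ← Finset.mem_compl, hS]
    simp only [Finset.mem_insert, Finset.mem_singleton, not_and_or, not_not]
  have hxa : x a = a := Perm.notMem_support.1 fun h => ((hmem a).1 h).1 rfl
  have hxb : x b = b := Perm.notMem_support.1 fun h => ((hmem b).1 h).2 rfl
  have hxS : ∀ z, z ≠ a → z ≠ b → x z ≠ z := fun z h1 h2 => Perm.mem_support.1 ((hmem z).2 ⟨h1, h2⟩)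
  have hfull : ∀ c, x c ≠ c → ∀ z ∈ x.support, ∃ i : ℕ, (x ^ i) c = z :=
    fun c hc z hz => hxc.exists_pow_eq hc (Perm.mem_support.1 hz)
  -- elements of the two-point stabiliser preserve the eleven points
  have hpres : ∀ v : Perm β, v a = a → v b = b → ∀ z ∈ x.support, v z ∈ x.support := by
    intro v ha hb z hz
    rw [hmem] at hz ⊢
    exact ⟨fun h => hz.1 (v.injective (h.trans ha.symm)), fun h => hz.2 (v.injective (h.trans hb.symm))⟩
  set K := JordanCycle.fixOn G ((x.support : Set β)ᶜ) with hKdef
  have hKmem : ∀ v, v ∈ K ↔ v ∈ G ∧ v a = a ∧ v b = b := by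
    intro v
    rw [hKdef, JordanCycle.mem_fixOn]
    refine and_congr_right fun _ => ⟨fun h => ⟨h a ?_, h b ?_⟩, fun h z hz => ?_⟩
    · simp [hmem]
    · simp [hmem]
    · have : ¬ (z ≠ a ∧ z ≠ b) := fun h' => hz ((hmem z).2 h')
      rcases not_and_or.1 this with h' | h' <;> rw [not_not.1 h']
      exacts [h.1, h.2]
  have hxK : x ∈ K := (hKmem x).2 ⟨hxG, hxa, hxb⟩
  let x' : K := ⟨x, hxK⟩
  have hx' : orderOf x' = 11 := by rw [← Subgroup.orderOf_coe]; exact hxo
  have hf1 : (Nat.card K).factorization 11 = 1 := by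
    refine le_antisymm ?_ (h11.factorization_pos_of_dvd Nat.card_pos.ne'
      (hx' ▸ orderOf_dvd_natCard x'))
    by_contra hlt
    have h121 : 11 ^ 2 ∣ Nat.card K := (h11.pow_dvd_iff_le_factorization Nat.card_pos.ne').2 (by omega)
    have := h121.trans (JordanCycle.card_fixOn_dvd G x.support)
    rw [hxs] at this
    norm_num [Nat.factorial] at this
  obtain ⟨c, hc⟩ : ∃ c, c ∈ x.support := Finset.card_pos.1 (by omega)
  have hxc' : x c ≠ c := Perm.mem_support.1 hc
  by_cases hA : ∀ v ∈ K, ∀ i : ℕ, v * x * v⁻¹ = x ^ i → v * x = x * v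
  · -- every element normalising `⟨x⟩` centralises it
    exfalso
    let P : Sylow 11 K := Sylow.ofCard (Subgroup.zpowers x')
      (by rw [Nat.card_zpowers, hx', hf1, pow_one])
    have hcent : Subgroup.normalizer ((P : Subgroup K) : Set K) ≤ Subgroup.centralizer (P : Set K) := by
      intro v hv
      obtain ⟨i, hi⟩ : ∃ i : ℕ, x' ^ i = v * x' * v⁻¹ :=
        mem_powers_iff_mem_zpowers.2 ((Subgroup.mem_normalizer_iff.1 hv x').1 (Subgroup.mem_zpowers x'))
      have hcomm : Commute (v : Perm β) x := hA v v.2 i (by simpa [x'] using (congrArg Subtype.val hi).symm)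
      rw [Subgroup.mem_centralizer_iff]
      rintro w hw
      obtain ⟨k, rfl⟩ := Subgroup.mem_zpowers_iff.1 (show w ∈ Subgroup.zpowers x' from hw)
      exact ((show Commute v x' from Subtype.ext hcomm).zpow_right k).eq.symm
    set f := MonoidHom.transferSylow P hcent
    have hco := MonoidHom.ker_transferSylow_isComplement' P hcent
    have hndvd := MonoidHom.not_dvd_card_ker_transferSylow P hcent
    have hmulK : Nat.card f.ker * 11 = Nat.card K := by
      rw [← hco.card_mul]
      congr 1
      change 11 = Nat.card (Subgroup.zpowers x')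
      rw [Nat.card_zpowers, hx']
    have hker : ∀ z ∈ x.support, ∀ v ∈ f.ker, (v : Perm β) z = z := by
      intro z hz
      have horb : orbit K z = (x.support : Set β) := by
        ext w
        constructor
        · rintro ⟨v, rfl⟩
          exact hpres _ ((hKmem _).1 v.2).2.1 ((hKmem _).1 v.2).2.2 z hz
        · intro hw
          obtain ⟨i, hi⟩ := hfull z (Perm.mem_support.1 hz) w hw
          exact ⟨x' ^ i, by simpa [x', Subgroup.smul_def] using hi⟩
      have hst : Nat.card (stabilizer K z) = Nat.card f.ker := by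
        have h := Subgroup.index_mul_card (stabilizer K z)
        rw [index_stabilizer, horb, Set.ncard_coe_finset, hxs, ← hmulK] at h
        omega
      have hle : stabilizer K z ≤ f.ker := by
        intro v hv
        rw [MonoidHom.mem_ker]
        have h1 : orderOf (f v) ∣ 11 := by
          have := orderOf_dvd_natCard (G := (P : Subgroup K)) (f v)
          rwa [show Nat.card (P : Subgroup K) = 11 by
            change Nat.card (Subgroup.zpowers x') = 11
            rw [Nat.card_zpowers, hx']] at this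
        have h2 : orderOf (f v) ∣ Nat.card f.ker :=
          ((orderOf_map_dvd f v).trans (Subgroup.orderOf_dvd_natCard _ hv)).trans hst.dvd
        rw [← orderOf_eq_one_iff]
        rcases (Nat.dvd_prime h11).1 h1 with h | h
        · exact h
        · rw [h] at h2; exact absurd h2 hndvd
      have heq := Subgroup.eq_of_le_of_card_ge hle hst.ge
      intro v hv
      rw [← heq] at hv
      exact hv
    have hK11 : ∀ v ∈ K, ∃ j : ℕ, v = x ^ j := by
      intro v hv
      have hbot : f.ker = ⊥ := by
        rw [Subgroup.eq_bot_iff_forall]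
        intro w hw
        apply Subtype.ext
        ext z
        by_cases hz : z ∈ x.support
        · exact hker z hz w hw
        · exact (JordanCycle.mem_fixOn.1 w.2).2 z (by simpa using hz)
      have hP : (P : Subgroup K) = ⊤ := by rw [← Subgroup.isComplement'_bot_left, ← hbot]; exact hco
      obtain ⟨j, hj⟩ := mem_powers_iff_mem_zpowers.2
        (show (⟨v, hv⟩ : K) ∈ Subgroup.zpowers x' from
          show (⟨v, hv⟩ : K) ∈ (P : Subgroup K) by rw [hP]; exact Subgroup.mem_top _)
      exact ⟨j, by simpa [x'] using (congrArg Subtype.val hj).symm⟩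
    refine stab_contra hn hab hxG hxo hxa hxb hxS ?_ (fun g hg h1 h2 => hK11 g ((hKmem g).2 ⟨hg, h1, h2⟩))
    intro z hz
    obtain ⟨g, hg, hgs⟩ := JordanCycle.exists_agree (G := G) (s := ({a, b} : Finset β))
      (by rw [Finset.card_pair hab]; exact isMultiplyPretransitive_of_le (n := 3) (by norm_num)
            (by rw [Nat.card_eq_fintype_card, hn]; norm_num)) (swap b z)
    exact ⟨g, hg, (hgs a (by simp)).trans (swap_apply_of_ne_of_ne hab hz.symm),
      (hgs b (by simp)).trans (swap_apply_left b z)⟩
  · -- some element acts on `⟨x⟩` nontrivially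
    push Not at hA
    obtain ⟨v₀, hv₀, i, hi, hne⟩ := hA
    obtain ⟨r, hr⟩ := hfull c hxc' (v₀ c)
      (hpres v₀ ((hKmem _).1 hv₀).2.1 ((hKmem _).1 hv₀).2.2 c hc)
    set v := (x ^ r)⁻¹ * v₀ with hvdef
    have hvK : v ∈ K := K.mul_mem (K.inv_mem (K.pow_mem hxK r)) hv₀
    obtain ⟨hvG, hva, hvb⟩ := (hKmem v).1 hvK
    have hvc : v c = c := by rw [hvdef, Perm.mul_apply, ← hr]; simp
    have hvx : v * x * v⁻¹ = x ^ i := by
      rw [hvdef, show (x ^ r)⁻¹ * v₀ * x * ((x ^ r)⁻¹ * v₀)⁻¹ = (x ^ r)⁻¹ * (v₀ * x * v₀⁻¹) * x ^ r by group,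
        hi, mul_assoc, ← pow_add, add_comm, pow_add, inv_mul_cancel_left]
    have hi1 : (i : ZMod 11) ≠ 1 := by
      intro h
      have hp : x ^ i = x := by
        conv_rhs => rw [← pow_one x]
        rw [pow_inj_mod, hxo, ← ZMod.natCast_eq_natCast_iff', h, Nat.cast_one]
      rw [hp] at hi
      exact hne (mul_inv_eq_iff_eq_mul.1 hi)
    have hact : ∀ k t : ℕ, (v ^ k) ((x ^ t) c) = (x ^ (i ^ k * t)) c := by
      intro k t
      have h := zmod_pow hxo hvx k
      have h' : v ^ k * x ^ t * (v ^ k)⁻¹ = x ^ (i ^ k * t) := by rw [← conj_pow, h, pow_mul]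
      rw [← h', Perm.mul_apply, Perm.mul_apply,
        fixed_inv (Perm.pow_apply_eq_self_of_apply_eq_self hvc k)]
    have hi0 : (i : ZMod 11) ≠ 0 := by
      intro h
      rw [(orderOf_dvd_iff_pow_eq_one.1 (hxo ▸ (ZMod.natCast_eq_zero_iff i 11).1 h) : x ^ i = 1)] at hi
      rw [show x = 1 from conj_eq_one_iff.1 hi, orderOf_one] at hxo
      norm_num at hxo
    have hkz : ∀ k : ℕ, (i : ZMod 11) ^ k ≠ 1 → ∀ z ∈ x.support, z ≠ c → (v ^ k) z ≠ z := by
      intro k hk z hz hzc heq
      obtain ⟨t, rfl⟩ := hfull c hxc' z hz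
      rw [hact] at heq
      have := pow_apply_inj h11 hxo hxc' heq
      push_cast at this
      have ht : (t : ZMod 11) = 0 := by
        have h2 : ((i : ZMod 11) ^ k - 1) * t = 0 := by rw [sub_mul, one_mul, this, sub_self]
        rcases mul_eq_zero.1 h2 with h3 | h3
        · exact absurd (sub_eq_zero.1 h3) hk
        · exact h3
      apply hzc
      rw [(orderOf_dvd_iff_pow_eq_one.1 (hxo ▸ (ZMod.natCast_eq_zero_iff t 11).1 ht) : x ^ t = 1),
        Perm.one_apply]
    have hkone : ∀ k : ℕ, (i : ZMod 11) ^ k = 1 → v ^ k = 1 := by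
      intro k hk
      ext z
      rw [Perm.one_apply]
      by_cases hz : z ∈ x.support
      · obtain ⟨t, rfl⟩ := hfull c hxc' z hz
        rw [hact]
        congr 1
        rw [pow_inj_mod, hxo, ← ZMod.natCast_eq_natCast_iff']
        push_cast
        rw [hk, one_mul]
      · exact Perm.pow_apply_eq_self_of_apply_eq_self
          ((JordanCycle.mem_fixOn.1 hvK).2 z (by simpa using hz)) k
    have hsupp : ∀ k : ℕ, (i : ZMod 11) ^ k ≠ 1 → (v ^ k).support = x.support.erase c := by
      intro k hk
      ext z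
      rw [Perm.mem_support, Finset.mem_erase]
      constructor
      · intro h
        refine ⟨fun hzc => h ?_, ?_⟩
        · rw [hzc]; exact Perm.pow_apply_eq_self_of_apply_eq_self hvc k
        · by_contra hz
          exact h (Perm.pow_apply_eq_self_of_apply_eq_self
            ((JordanCycle.mem_fixOn.1 hvK).2 z (by simpa using hz)) k)
      · rintro ⟨h1, h2⟩; exact hkz k hk z h2 h1
    have hi2 : (i : ZMod 11) ^ 2 ≠ 1 := by
      intro h
      have hv2 : orderOf v = 2 := by
        refine orderOf_eq_prime (hkone 2 h) fun h1 => ?_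
        have := congrArg Finset.card (hsupp 1 (by rwa [pow_one]))
        rw [h1, one_pow, Perm.support_one, Finset.card_empty, Finset.card_erase_of_mem hc, hxs] at this
        omega
      obtain ⟨k, hk⟩ := involution_support hv2 (Perm.mem_alternatingGroup.1 (hG hvG))
      have := congrArg Finset.card (hsupp 1 (by rwa [pow_one]))
      rw [pow_one, hk, Finset.card_erase_of_mem hc, hxs] at this
      omega
    -- `w` has order five and fixes exactly three points
    set w := v ^ 2 with hwdef
    have hw5 : orderOf w = 5 := by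
      refine orderOf_eq_prime ?_ fun h1 => ?_
      · rw [hwdef, ← pow_mul]
        apply hkone
        exact zmod_pow_ten _ hi0
      · have := congrArg Finset.card (hsupp 2 hi2)
        rw [← hwdef, h1, Perm.support_one, Finset.card_empty, Finset.card_erase_of_mem hc, hxs] at this
        omega
    set T := x.support.erase c with hT
    have hwT : w.support = T := hsupp 2 hi2
    have hTc : T.card = 10 := by rw [hT, Finset.card_erase_of_mem hc, hxs]
    set s : Finset β := Tᶜ with hs
    have hsc : s.card = 3 := by rw [hs, Finset.card_compl, hTc, hn]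
    have hwG : w ∈ G := G.pow_mem hvG 2
    have hwF : w ∈ JordanCycle.fixOn G (s : Set β) := JordanCycle.mem_fixOn.2 ⟨hwG, fun z hz => by
      simpa [hs, ← hwT, Perm.notMem_support] using hz⟩
    have hjordan : ∀ u ∈ G, orderOf u = 5 → u.support.card < 10 → alternatingGroup β ≤ G := by
      intro u hu huo hus
      refine JordanCycle.alternatingGroup_le_of_prime_cycle hprim Nat.prime_five (by omega)
        (Perm.isCycle_of_prime_order (huo ▸ Nat.prime_five) (by omega)) ?_ hu
      obtain ⟨k, hk⟩ := support_card_of_prime Nat.prime_five huo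
      omega
    by_cases hsyl : 5 ^ 2 ∣ Nat.card (JordanCycle.fixOn G (s : Set β))
    · obtain ⟨R, hR⟩ := Sylow.exists_subgroup_card_pow_prime 5 hsyl
      have hRfix : ∀ u : R, ∀ z ∈ s, ((u : JordanCycle.fixOn G (s : Set β)) : Perm β) z = z :=
        fun u z hz => (JordanCycle.mem_fixOn.1 (u : JordanCycle.fixOn G (s : Set β)).2).2 z hz
      obtain ⟨u₀, hu₀⟩ : ∃ u : R, u ≠ 1 := by
        have : 1 < Nat.card R := by rw [hR]; norm_num
        haveI := Finite.one_lt_card_iff_nontrivial.1 this
        exact exists_ne 1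
      obtain ⟨z, hz⟩ : ∃ z, ((u₀ : JordanCycle.fixOn G (s : Set β)) : Perm β) z ≠ z := by
        by_contra! h
        exact hu₀ (Subtype.ext (Subtype.ext (Equiv.ext h)))
      have horbT : ∀ y ∈ orbit R z, y ∈ T := by
        rintro _ ⟨u, rfl⟩
        by_contra h
        have hys : ((u : JordanCycle.fixOn G (s : Set β)) : Perm β) z ∈ s := by simpa [hs, Subgroup.smul_def] using h
        have : z ∈ s := by
          have h1 := hRfix u⁻¹ _ hys
          simp only [Subgroup.coe_inv, ← Perm.mul_apply, inv_mul_cancel, Perm.one_apply] at h1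
          rwa [← h1] at hys
        exact hz (hRfix u₀ z this)
      have hle : (orbit R z).ncard ≤ 10 := by
        rw [← hTc, ← Set.ncard_coe_finset]
        exact Set.ncard_le_ncard horbT (Finset.finite_toSet T)
      have hdvd : (orbit R z).ncard ∣ 5 ^ 2 := by
        rw [← hR, ← index_stabilizer]
        exact Subgroup.index_dvd_card _
      have hgt : 1 < (orbit R z).ncard := by
        rw [Set.one_lt_ncard (Set.toFinite _)]
        exact ⟨z, mem_orbit_self z, _, ⟨u₀, rfl⟩, fun h => hz h.symm⟩
      have h5 : (orbit R z).ncard = 5 := by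
        obtain ⟨k, hk, hk'⟩ := (Nat.dvd_prime_pow Nat.prime_five).1 hdvd
        interval_cases k <;> omega
      obtain ⟨u, hu⟩ := exists_prime_orderOf_dvd_card' (G := stabilizer R z) 5 (by
        have := Subgroup.index_mul_card (stabilizer R z)
        rw [index_stabilizer, h5, hR] at this
        exact ⟨1, by omega⟩)
      set u' : Perm β := (((u : R) : JordanCycle.fixOn G (s : Set β)) : Perm β) with hu'
      have huo : orderOf u' = 5 := by
        rw [hu', Subgroup.orderOf_coe, Subgroup.orderOf_coe, Subgroup.orderOf_coe, hu]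
      refine hjordan u' (JordanCycle.mem_fixOn.1 ((u : R) : JordanCycle.fixOn G (s : Set β)).2).1 huo ?_
      have hfixorb : ∀ y ∈ orbit R z, u' y = y := by
        rintro _ ⟨g, rfl⟩
        have hcom := IsPGroup.commutative_of_card_eq_prime_sq hR (u : R) g
        have : (u : R) • g • z = g • z := by
          rw [← mul_smul, hcom, mul_smul, u.2]
        exact this
      have hsub : u'.support ⊆ T \ (orbit R z).toFinset := by
        intro y hy
        rw [Perm.mem_support] at hy
        rw [Finset.mem_sdiff, Set.mem_toFinset]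
        refine ⟨?_, fun h => hy (hfixorb y h)⟩
        by_contra h
        exact hy (hRfix _ y (by simpa [hs] using h))
      have := Finset.card_le_card hsub
      rw [Finset.card_sdiff_of_subset (fun y hy => horbT y (Set.mem_toFinset.1 hy)), hTc,
        ← Set.ncard_eq_toFinset_card', h5] at this
      omega
    · obtain ⟨p₁, p₂, p₃, h12, h13, h23, hs3⟩ := Finset.card_eq_three.1 hsc
      have hsw : ∀ p q, p ∈ s → q ∈ s → ∀ z ∈ s, swap p q z ∈ s := by
        intro p q hp hq z hz
        rw [swap_apply_def]; split_ifs <;> assumption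
      obtain ⟨d, hdG, hdw, hds⟩ := JordanCycle.exists_commute_agree (hsc.symm ▸ hmt) Nat.prime_five hw5
        hwF hsyl (swap p₁ p₂) (swap p₁ p₃) (hsw p₁ p₂ (by simp [hs3]) (by simp [hs3]))
        (hsw p₁ p₃ (by simp [hs3]) (by simp [hs3]))
      set t := swap p₁ p₂ * swap p₁ p₃ * (swap p₁ p₂)⁻¹ * (swap p₁ p₃)⁻¹ with ht
      have htc : t.IsThreeCycle := JordanCycle.isThreeCycle_commutator_swap h12 h13 h23
      have hts : ∀ z ∈ s, t z ∈ s := by
        intro z hz
        simp only [ht, Perm.mul_apply, swap_inv]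
        exact hsw p₁ p₂ (by simp [hs3]) (by simp [hs3]) _ (hsw p₁ p₃ (by simp [hs3]) (by simp [hs3]) _
          (hsw p₁ p₂ (by simp [hs3]) (by simp [hs3]) _ (hsw p₁ p₃ (by simp [hs3]) (by simp [hs3]) z hz)))
      have hpow : ∀ n : ℕ, ∀ z ∈ s, (d ^ n) z = (t ^ n) z ∧ (t ^ n) z ∈ s := by
        intro n
        induction n with
        | zero => intro z hz; exact ⟨rfl, hz⟩
        | succ n ih =>
          intro z hz
          obtain ⟨h1, h2⟩ := ih z hz
          rw [pow_succ', pow_succ', Perm.mul_apply, Perm.mul_apply, h1, hds _ h2]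
          exact ⟨rfl, hts _ h2⟩
      have hd10 : d ^ 10 = t ^ 10 := by
        ext z
        by_cases hz : z ∈ s
        · exact (hpow 10 z hz).1
        · have hwz : w z ≠ z := by
            rw [← Perm.mem_support, hwT]; simpa [hs] using hz
          have htz : t z = z := by
            have hne : ∀ q ∈ s, z ≠ q := fun q hq h => hz (h ▸ hq)
            simp [ht, swap_apply_of_ne_of_ne (hne p₁ (by simp [hs3])) (hne p₂ (by simp [hs3])),
              swap_apply_of_ne_of_ne (hne p₁ (by simp [hs3])) (hne p₃ (by simp [hs3]))]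
          have hcom : Commute d w := hdw
          have hcyc : w.SameCycle z ((d ^ 2) z) := by
            by_contra hnot
            have hmv : ∀ y, w y ≠ y → w (d y) ≠ d y := by
              intro y hy h
              apply hy
              apply d.injective
              rw [← Perm.mul_apply, hcom.eq, Perm.mul_apply, h]
            have hsame : ∀ y y', w.SameCycle y y' → w.SameCycle (d y) (d y') := by
              rintro y y' ⟨j, rfl⟩
              refine ⟨j, ?_⟩
              rw [← Perm.mul_apply, ← (hcom.zpow_right j).eq, Perm.mul_apply]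
            have h01 : ¬ w.SameCycle z (d z) := by
              intro h
              apply hnot
              rw [pow_two, Perm.mul_apply]
              exact h.trans (hsame _ _ h)
            have h12' : ¬ w.SameCycle (d z) (d (d z)) := by
              rintro ⟨j, hj⟩
              refine h01 ⟨j, d.injective ?_⟩
              rw [← Perm.mul_apply, (hcom.zpow_right j).eq, Perm.mul_apply, hj]
            set O : β → Finset β := fun y => (w.cycleOf y).support
            have hO : ∀ y, w y ≠ y → 5 ≤ (O y).card := fun y hy =>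
              le_card_of_moved Nat.prime_five hw5 hy _ fun j => by
                rw [Perm.mem_support_cycleOf_iff]
                exact ⟨⟨j, by simp⟩, Perm.mem_support.2 hy⟩
            have hdisj : ∀ y y', ¬ w.SameCycle y y' → Disjoint (O y) (O y') := by
              intro y y' h
              rw [Finset.disjoint_left]
              intro q hq hq'
              exact h ((Perm.mem_support_cycleOf_iff.1 hq).1.trans (Perm.mem_support_cycleOf_iff.1 hq').1.symm)
            rw [pow_two, Perm.mul_apply] at hnot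
            have h1 := hO z hwz
            have h2 := hO (d z) (hmv z hwz)
            have h3 := hO (d (d z)) (hmv _ (hmv z hwz))
            have hsub : (O z ∪ O (d z)) ∪ O (d (d z)) ⊆ T := by
              rw [← hwT]
              exact Finset.union_subset (Finset.union_subset (Perm.support_cycleOf_le _ _)
                (Perm.support_cycleOf_le _ _)) (Perm.support_cycleOf_le _ _)
            have := Finset.card_le_card hsub
            rw [Finset.card_union_of_disjoint
              (Finset.disjoint_union_left.2 ⟨hdisj _ _ hnot, hdisj _ _ h12'⟩),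
              Finset.card_union_of_disjoint (hdisj _ _ h01), hTc] at this
            omega
          obtain ⟨j, hj⟩ := hcyc
          have hcom2 : Commute (d ^ 2) (w ^ j) := (hcom.pow_left 2).zpow_right j
          have hk : ∀ n : ℕ, ((d ^ 2) ^ n) z = ((w ^ j) ^ n) z := by
            intro n
            induction n with
            | zero => rfl
            | succ n ih =>
              rw [pow_succ', Perm.mul_apply, ih, ← Perm.mul_apply, (hcom2.pow_right n).eq,
                Perm.mul_apply, ← hj, pow_succ, Perm.mul_apply]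
          rw [Perm.pow_apply_eq_self_of_apply_eq_self htz, show (10 : ℕ) = 2 * 5 from rfl, pow_mul, hk,
            ← zpow_natCast, ← zpow_mul, mul_comm, zpow_mul, zpow_natCast, ← hw5, pow_orderOf_eq_one,
            one_zpow, Perm.one_apply]
      exact Perm.alternatingGroup_le_of_isPreprimitive_of_isThreeCycle_mem hprim
        (JordanCycle.isThreeCycle_pow htc (by norm_num : ¬ 3 ∣ 10)) (hd10 ▸ G.pow_mem hdG 10)

lemma nonempty_alt_equiv {G : Subgroup (Perm β)} (h : G = alternatingGroup β) {n : ℕ}
    (hn : Fintype.card β = n) : Nonempty (G ≃* alternatingGroup (Fin n)) :=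
  ⟨(MulEquiv.subgroupCongr h).trans (Fintype.equivFinOfCardEq hn).altCongrHom⟩

lemma isPretransitive_pair {x y : Perm β} {p q : ℕ} (hp : p.Prime)
    (hx : orderOf x = p) (hyc : y.IsCycle) (hys : y.support.card = q)
    (hpq : p < q) (hn : Fintype.card β ≤ 2 * p) (hcov : ∀ z, x z ≠ z ∨ y z ≠ z) :
    IsPretransitive (Subgroup.closure ({x, y} : Set (Perm β))) β := by
  set G := Subgroup.closure ({x, y} : Set (Perm β))
  have hxG : x ∈ G := Subgroup.subset_closure (Set.mem_insert _ _)
  have hyG : y ∈ G := Subgroup.subset_closure (Set.mem_insert_of_mem _ rfl)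
  obtain ⟨a, ha⟩ : ∃ a, a ∈ y.support := Finset.card_pos.1 (by rw [hys]; omega)
  refine (MulAction.isPretransitive_iff_base a).2 fun z => ?_
  have hy : ∀ w, y w ≠ w → ∃ g : G, g • a = w := fun w hw => by
    obtain ⟨i, hi⟩ := hyc.exists_pow_eq (Perm.mem_support.1 ha) hw
    exact ⟨⟨y, hyG⟩ ^ i, by simpa [Subgroup.smul_def] using hi⟩
  by_cases hz : y z = z
  · have hxz := (hcov z).resolve_right (fun h => h hz)
    obtain ⟨i, hi⟩ : ∃ i : ℕ, y ((x ^ i) z) ≠ (x ^ i) z := by
      by_contra! h
      have h1 := le_card_of_moved hp hx hxz y.supportᶜ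
        (fun i => by rw [Finset.mem_compl, Perm.notMem_support]; exact h i)
      rw [Finset.card_compl, hys] at h1
      have := hp.pos
      omega
    obtain ⟨g, hg⟩ := hy _ hi
    exact ⟨(⟨x, hxG⟩ ^ i : G)⁻¹ * g, by rw [mul_smul, hg]; simp [Subgroup.smul_def]⟩
  · exact hy z hz

lemma isPreprimitive_pair {x y : Perm β} {p q : ℕ} (hp : p.Prime) (hq : q.Prime)
    (hx : orderOf x = p) (hyo : orderOf y = q) (hyc : y.IsCycle) (hys : y.support.card = q)
    (hpq : p < q) (hn : Fintype.card β ≤ 2 * p) (hcov : ∀ z, x z ≠ z ∨ y z ≠ z) :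
    IsPreprimitive (Subgroup.closure ({x, y} : Set (Perm β))) β := by
  haveI := isPretransitive_pair hp hx hyc hys hpq hn hcov
  set G := Subgroup.closure ({x, y} : Set (Perm β))
  have hyG : y ∈ G := Subgroup.subset_closure (Set.mem_insert_of_mem _ rfl)
  let y' : G := ⟨y, hyG⟩
  refine ⟨fun {B} hB => ?_⟩
  rcases Set.eq_empty_or_nonempty B with rfl | hne
  · exact Or.inl Set.subsingleton_empty
  obtain ⟨b, hb⟩ := hne
  have hmul := hB.ncard_block_mul_ncard_orbit_eq ⟨b, hb⟩
  rw [Nat.card_eq_fintype_card] at hmul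
  by_cases hB1 : B.ncard ≤ 1
  · exact Or.inl ((Set.ncard_le_one_iff_subsingleton).1 hB1)
  right
  have hkq : (orbit G B).ncard < q := by
    have hle : 2 * (orbit G B).ncard ≤ B.ncard * (orbit G B).ncard :=
      Nat.mul_le_mul_right _ (by omega)
    omega
  have hy1 : ∀ C ∈ orbit G B, y' • C = C := by
    intro C hC
    have h1 : (MulAction.toPermHom G (orbit G B) y') ^ q = 1 := by
      rw [← map_pow, show y' ^ q = 1 from Subtype.ext (by simp [y', ← hyo, pow_orderOf_eq_one]), map_one]
    rcases (Nat.dvd_prime hq).1 (orderOf_dvd_of_pow_eq_one h1) with h | h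
    · rw [orderOf_eq_one_iff] at h
      exact congrArg Subtype.val (DFunLike.congr_fun h ⟨C, hC⟩)
    · exfalso
      have h2 := orderOf_dvd_natCard (MulAction.toPermHom G (orbit G B) y')
      rw [h, Nat.card_perm, Nat.card_coe_set_eq, hq.dvd_factorial] at h2
      omega
  obtain ⟨a, ha⟩ : ∃ a, a ∈ y.support := Finset.card_pos.1 (by rw [hys]; omega)
  obtain ⟨g, hg⟩ := MulAction.exists_smul_eq G b a
  have haB : a ∈ g • B := ⟨b, hb, hg⟩
  have hsub : (y.support : Set β) ⊆ g • B := by
    intro z hz
    obtain ⟨i, hi⟩ := hyc.exists_pow_eq (Perm.mem_support.1 ha) (Perm.mem_support.1 hz)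
    have hCi : ∀ i : ℕ, y' ^ i • (g • B) = g • B := by
      intro i
      induction i with
      | zero => simp
      | succ i ih => rw [pow_succ', mul_smul, ih, hy1 _ (mem_orbit B g)]
    rw [← hCi i]
    exact ⟨a, haB, by simpa [y', Subgroup.smul_def] using hi⟩
  have hqB : q ≤ B.ncard := by
    have := Set.ncard_le_ncard hsub
    rwa [Set.ncard_coe_finset, hys, Set.ncard_smul_set] at this
  exact hB.eq_univ_of_card_lt (by rw [Nat.card_eq_fintype_card]; omega)

theorem closure_pair_equiv {x y : Perm β} {p q : ℕ} (hp : p.Prime) (hq : q.Prime)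
    (hxA : Perm.sign x = 1) (hyA : Perm.sign y = 1)
    (hx : orderOf x = p) (hy : orderOf y = q) (hpq : p < q) (hn : Fintype.card β ≤ 2 * p)
    (hcov : ∀ z, x z ≠ z ∨ y z ≠ z)
    (hgood : (p + 3 ≤ q ∧ (Fintype.card β < 2 * p ∨ q + 3 ≤ 2 * p)) ∨
      (p = 3 ∧ q = 5) ∨ (p = 5 ∧ q = 7) ∨ (p = 11 ∧ q = 13)) :
    ∃ d, 5 ≤ d ∧ Nonempty (Subgroup.closure ({x, y} : Set (Perm β)) ≃* alternatingGroup (Fin d)) := by
  have hyc : y.IsCycle := Perm.isCycle_of_prime_order' (hy.symm ▸ hq) (by omega)
  have hys : y.support.card = q := by rw [← hyc.orderOf, hy]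
  have hqn : q ≤ Fintype.card β := hys ▸ y.support.card_le_univ
  have hprim := isPreprimitive_pair hp hq hx hy hyc hys hpq hn hcov
  set G := Subgroup.closure ({x, y} : Set (Perm β)) with hG
  have hxG : x ∈ G := Subgroup.subset_closure (Set.mem_insert _ _)
  have hyG : y ∈ G := Subgroup.subset_closure (Set.mem_insert_of_mem _ rfl)
  have hGA : G ≤ alternatingGroup β := by
    rw [hG, Subgroup.closure_le]
    rintro g (rfl | rfl) <;> exact Perm.mem_alternatingGroup.2 (by assumption)
  have hn5 : 5 ≤ Fintype.card β := by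
    have := hp.two_le
    rcases hgood with h | h | h | h <;> omega
  by_cases hA : alternatingGroup β ≤ G
  · exact ⟨_, hn5, nonempty_alt_equiv (le_antisymm hGA hA) rfl⟩
  by_cases hq3 : q + 3 ≤ Fintype.card β
  · exact absurd (JordanCycle.alternatingGroup_le_of_prime_cycle hprim hq hq3 hyc hys hyG) hA
  obtain ⟨k, hk⟩ := support_card_of_prime hp hx
  have hkn : (k + 1) * p ≤ Fintype.card β := hk ▸ x.support.card_le_univ
  rcases Nat.eq_zero_or_pos k with hk0 | hk0
  · subst hk0
    rw [zero_add, one_mul] at hk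
    have hxc : x.IsCycle := Perm.isCycle_of_prime_order (hx.symm ▸ hp) (by omega)
    by_cases hp3 : p + 3 ≤ Fintype.card β
    · exact absurd (JordanCycle.alternatingGroup_le_of_prime_cycle hprim hp hp3 hxc hk hxG) hA
    rcases hgood with h | ⟨rfl, rfl⟩ | ⟨rfl, rfl⟩ | ⟨rfl, rfl⟩
    · omega
    · exact absurd (Perm.alternatingGroup_le_of_isPreprimitive_of_isThreeCycle_mem hprim
        (card_support_eq_three_iff.1 hk) hxG) hA
    · have hn7 : Fintype.card β = 7 := by omega
      haveI : IsMultiplyPretransitive G β 3 := by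
        have := JordanCycle.multiplyPretransitive_of_cycle hprim hp hxc hk hxG (by omega)
        rwa [hn7] at this
      exact absurd (case_seven hGA hn7 hyG hy) hA
    · exact absurd (case_thirteen hGA hprim (by omega) hxG hxc hk) hA
  · have h2p : 2 * p ≤ (k + 1) * p := Nat.mul_le_mul_right p (by omega)
    rcases hgood with ⟨h1, h2⟩ | ⟨rfl, rfl⟩ | ⟨rfl, rfl⟩ | ⟨rfl, rfl⟩
    · omega
    · obtain ⟨e⟩ := case_six hGA (by omega) (hy ▸ Subgroup.orderOf_dvd_natCard G hyG) hA
      exact ⟨5, le_rfl, ⟨e⟩⟩
    · omega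
    · omega

/-- The statement for elements of prime order in the alternating group of degree `m`. -/
theorem exists_closure_equiv {m p q : ℕ} (hp : p.Prime) (hq : q.Prime) (hm : m ≤ 2 * p) (hpq : p < q)
    (hgood : (p + 3 ≤ q ∧ (m < 2 * p ∨ q + 3 ≤ 2 * p)) ∨
      (p = 3 ∧ q = 5) ∨ (p = 5 ∧ q = 7) ∨ (p = 11 ∧ q = 13))
    (x y : alternatingGroup (Fin m)) (hx : orderOf x = p) (hy : orderOf y = q) :
    ∃ d : ℕ, 5 ≤ d ∧ Nonempty (Subgroup.closure ({x, y} : Set (alternatingGroup (Fin m))) ≃*
      alternatingGroup (Fin d)) := by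
  set X : Perm (Fin m) := (x : Perm (Fin m)) with hX
  set Y : Perm (Fin m) := (y : Perm (Fin m)) with hY
  have hu1 : ∀ z, X z ≠ z → z ∈ X.support ∪ Y.support := fun z hz =>
    Finset.mem_union_left _ (Perm.mem_support.2 hz)
  have hu2 : ∀ z, Y z ≠ z → z ∈ X.support ∪ Y.support := fun z hz =>
    Finset.mem_union_right _ (Perm.mem_support.2 hz)
  have hiff : ∀ (g : Perm (Fin m)), (∀ z, g z ≠ z → z ∈ X.support ∪ Y.support) →
      ∀ z, g z ∈ X.support ∪ Y.support ↔ z ∈ X.support ∪ Y.support := by
    intro g hg z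
    by_cases h : g z = z
    · rw [h]
    · exact ⟨fun _ => hg z h, fun _ => hg _ fun h' => h (g.injective h')⟩
  set U := X.support ∪ Y.support with hU
  let x₀ : Perm {z // z ∈ U} := X.subtypePerm (hiff X hu1)
  let y₀ : Perm {z // z ∈ U} := Y.subtypePerm (hiff Y hu2)
  have ex : Perm.ofSubtype x₀ = X := Perm.ofSubtype_subtypePerm _ hu1
  have ey : Perm.ofSubtype y₀ = Y := Perm.ofSubtype_subtypePerm _ hu2
  have hxo : orderOf x₀ = p := by
    rw [← orderOf_injective _ Perm.ofSubtype_injective x₀, ex, hX, Subgroup.orderOf_coe, hx]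
  have hyo : orderOf y₀ = q := by
    rw [← orderOf_injective _ Perm.ofSubtype_injective y₀, ey, hY, Subgroup.orderOf_coe, hy]
  have hsx : Perm.sign x₀ = 1 := by rw [← Perm.sign_ofSubtype, ex]; exact x.2
  have hsy : Perm.sign y₀ = 1 := by rw [← Perm.sign_ofSubtype, ey]; exact y.2
  have hcard : Fintype.card {z // z ∈ U} ≤ m := by
    rw [Fintype.card_coe]
    exact U.card_le_univ.trans_eq (Fintype.card_fin m)
  have hcov : ∀ z : {z // z ∈ U}, x₀ z ≠ z ∨ y₀ z ≠ z := by
    intro z
    rcases Finset.mem_union.1 z.2 with h | h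
    · exact Or.inl fun h' => Perm.mem_support.1 h (congrArg Subtype.val h')
    · exact Or.inr fun h' => Perm.mem_support.1 h (congrArg Subtype.val h')
  obtain ⟨d, hd, ⟨e⟩⟩ := closure_pair_equiv hp hq hsx hsy hxo hyo hpq (by omega) hcov (by omega)
  refine ⟨d, hd, ⟨?_⟩⟩
  have h1 : (Subgroup.closure ({x, y} : Set (alternatingGroup (Fin m)))).map
      (alternatingGroup (Fin m)).subtype =
      (Subgroup.closure ({x₀, y₀} : Set (Perm {z // z ∈ U}))).map Perm.ofSubtype := by
    rw [MonoidHom.map_closure, MonoidHom.map_closure, Set.image_pair, Set.image_pair, ex, ey]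
    rfl
  exact (Subgroup.equivMapOfInjective _ _ (Subgroup.subtype_injective _)).trans
    ((MulEquiv.subgroupCongr h1).trans
      ((Subgroup.equivMapOfInjective _ _ Perm.ofSubtype_injective).symm.trans e))

end Cfsg.Agent.AltPair
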