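import Mathlib

/-!
A nonabelian group has at most `#G / p` automorphism orbits.
-/

set_option autoImplicit false
set_option linter.style.haveILetI false

namespace Cfsg.Agent.AutOrbits

open scoped commutatorElement

variable {G : Type*} [Group G] [Finite G]

omit [Finite G] in
lemma conj_mem_orbit (g x : G) : g * x * g⁻¹ ∈ MulAction.orbit (MulAut G) x :=
  ⟨MulAut.conj g, rfl⟩

lemma index_le_orbit (x : G) :
    (Subgroup.centralizer ({x} : Set G)).index ≤ Nat.card (MulAction.orbit (MulAut G) x) := by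
  refine Nat.card_le_card_of_injective
    (fun q : G ⧸ Subgroup.centralizer ({x} : Set G) =>
      (⟨q.out * x * q.out⁻¹, conj_mem_orbit _ _⟩ : MulAction.orbit (MulAut G) x)) ?_
  intro q q' h
  rw [← q.out_eq, ← q'.out_eq]
  apply QuotientGroup.eq.2
  rw [Subgroup.mem_centralizer_singleton_iff]
  have h' : q.out * x * q.out⁻¹ = q'.out * x * q'.out⁻¹ := congrArg Subtype.val h
  calc (q.out⁻¹ * q'.out) * x = q.out⁻¹ * (q'.out * x * q'.out⁻¹) * q'.out := by group
    _ = q.out⁻¹ * (q.out * x * q.out⁻¹) * q'.out := by rw [h']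
    _ = x * (q.out⁻¹ * q'.out) := by group

/-- The counting bound. -/
lemma orbit_count {p k : ℕ} (hp : 0 < p) (hk : 0 < k) (S : Set G)
    (hS : ∀ g ∈ S, g ∉ Subgroup.center G)
    (hbig : ∀ g ∈ S, k ≤ Nat.card (MulAction.orbit (MulAut G) g))
    (hnc : ∀ g, g ∉ Subgroup.center G → p ≤ Nat.card (MulAction.orbit (MulAut G) g))
    (hsum : k * (p - 1) * Nat.card (Subgroup.center G) + p * S.ncard ≤ k * S.ncard) :
    p * Nat.card (MulAction.orbitRel.Quotient (MulAut G) G) ≤ Nat.card G := by
  classical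
  haveI := Fintype.ofFinite G
  haveI := Fintype.ofFinite (MulAction.orbitRel.Quotient (MulAut G) G)
  set f : G → ℚ := fun g => ((Nat.card (MulAction.orbit (MulAut G) g) : ℕ) : ℚ)⁻¹ with hf
  have hnum : (Nat.card (MulAction.orbitRel.Quotient (MulAut G) G) : ℚ) = ∑ g : G, f g := by
    rw [← Finset.sum_fiberwise Finset.univ
      (fun g : G => (Quotient.mk'' g : MulAction.orbitRel.Quotient (MulAut G) G)) f,
      Nat.card_eq_fintype_card, Fintype.card]
    rw [Finset.cast_card]
    refine Finset.sum_congr rfl fun q _ => ?_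
    induction q using Quotient.inductionOn' with
    | h g₀ =>
      have hfib : (Finset.univ.filter fun g : G =>
          (Quotient.mk'' g : MulAction.orbitRel.Quotient (MulAut G) G) = Quotient.mk'' g₀) =
          (MulAction.orbit (MulAut G) g₀).toFinset := by
        ext g
        rw [Finset.mem_filter, Set.mem_toFinset, Quotient.eq'', MulAction.orbitRel_apply]
        simp
      haveI : Nonempty (MulAction.orbit (MulAut G) g₀) := ⟨⟨g₀, MulAction.mem_orbit_self g₀⟩⟩
      rw [hfib, Finset.sum_congr rfl (fun g hg => show f g =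
        ((Nat.card (MulAction.orbit (MulAut G) g₀) : ℕ) : ℚ)⁻¹ by
          rw [hf]; simp only [MulAction.orbit_eq_iff.2 (Set.mem_toFinset.1 hg)]),
        Finset.sum_const, Set.toFinset_card, ← Nat.card_eq_fintype_card, nsmul_eq_mul,
        mul_inv_cancel₀]
      exact_mod_cast (Nat.card_pos (α := MulAction.orbit (MulAut G) g₀)).ne'
  have hk' : (0 : ℚ) < k := by exact_mod_cast hk
  have hp' : (0 : ℚ) < p := by exact_mod_cast hp
  set Z : Finset G := Finset.univ.filter fun g => g ∈ Subgroup.center G with hZ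
  have hbound : ∀ g : G, f g ≤ (if g ∈ Z then 1 - (p : ℚ)⁻¹ else 0) +
      (if g ∈ S then (k : ℚ)⁻¹ - (p : ℚ)⁻¹ else 0) + (p : ℚ)⁻¹ := by
    intro g
    by_cases hgz : g ∈ Subgroup.center G
    · have hgS : g ∉ S := fun h => hS g h hgz
      have hgZ : g ∈ Z := by simp [hZ, hgz]
      rw [if_pos hgZ, if_neg hgS]
      haveI : Nonempty (MulAction.orbit (MulAut G) g) := ⟨⟨g, MulAction.mem_orbit_self g⟩⟩
      have h1 : (1 : ℚ) ≤ (Nat.card (MulAction.orbit (MulAut G) g) : ℕ) := by
        exact_mod_cast Nat.card_pos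
      have := inv_le_one_of_one_le₀ h1
      simp only [hf]
      linarith
    · have hgZ : g ∉ Z := by simp [hZ, hgz]
      rw [if_neg hgZ]
      by_cases hgS : g ∈ S
      · rw [if_pos hgS]
        have h1 : (k : ℚ) ≤ (Nat.card (MulAction.orbit (MulAut G) g) : ℕ) := by
          exact_mod_cast hbig g hgS
        have := inv_anti₀ hk' h1
        simp only [hf]
        linarith
      · rw [if_neg hgS]
        have h1 : (p : ℚ) ≤ (Nat.card (MulAction.orbit (MulAut G) g) : ℕ) := by
          exact_mod_cast hnc g hgz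
        have := inv_anti₀ hp' h1
        simp only [hf]
        linarith
  have htot := Finset.sum_le_sum (s := (Finset.univ : Finset G)) fun g _ => hbound g
  rw [← hnum, Finset.sum_add_distrib, Finset.sum_add_distrib, Finset.sum_ite_mem,
    Finset.univ_inter, Finset.sum_const, ← Finset.sum_filter, Finset.sum_const, Finset.sum_const,
    nsmul_eq_mul, nsmul_eq_mul, nsmul_eq_mul] at htot
  have hZc : Z.card = Nat.card (Subgroup.center G) := by
    rw [Nat.card_eq_fintype_card, hZ]
    exact (Fintype.card_of_subtype _ (fun x => by simp)).symm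
  have hSc : (Finset.univ.filter fun g => g ∈ S).card = S.ncard := by
    rw [Set.ncard_eq_toFinset_card']
    congr 1
    ext; simp
  rw [hZc, hSc, Finset.card_univ, ← Nat.card_eq_fintype_card] at htot
  have hsum' : ((k : ℚ) * ((p : ℚ) - 1) * Nat.card (Subgroup.center G) + p * S.ncard) ≤
      k * S.ncard := by
    have h1 : ((p - 1 : ℕ) : ℚ) = (p : ℚ) - 1 := by
      rw [Nat.cast_sub (by omega)]; simp
    rw [← h1]; exact_mod_cast hsum
  have h2 : (1 - (p : ℚ)⁻¹) * Nat.card (Subgroup.center G) +
      ((k : ℚ)⁻¹ - (p : ℚ)⁻¹) * S.ncard ≤ 0 := by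
    have : (1 - (p : ℚ)⁻¹) * Nat.card (Subgroup.center G) + ((k : ℚ)⁻¹ - (p : ℚ)⁻¹) * S.ncard =
        ((k : ℚ) * ((p : ℚ) - 1) * Nat.card (Subgroup.center G) + p * S.ncard - k * S.ncard) /
          (k * p) := by
      field_simp
      ring
    rw [this]
    exact div_nonpos_of_nonpos_of_nonneg (by linarith) (by positivity)
  have h3 : (Nat.card (MulAction.orbitRel.Quotient (MulAut G) G) : ℚ) ≤
      (Nat.card G : ℚ) * (p : ℚ)⁻¹ := by linarith
  rw [← div_eq_mul_inv, le_div_iff₀ hp', mul_comm] at h3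
  exact_mod_cast h3

omit [Finite G] in
lemma comm_mul_left (h2 : commutator G ≤ Subgroup.center G) (x y g : G) :
    ⁅x * y, g⁆ = ⁅x, g⁆ * ⁅y, g⁆ := by
  have hc : ⁅y, g⁆ ∈ Subgroup.center G :=
    h2 (Subgroup.commutator_mem_commutator (Subgroup.mem_top _) (Subgroup.mem_top _))
  calc ⁅x * y, g⁆ = x * ⁅y, g⁆ * x⁻¹ * ⁅x, g⁆ := by simp only [commutatorElement_def]; group
    _ = ⁅y, g⁆ * ⁅x, g⁆ := by rw [Subgroup.mem_center_iff.1 hc x, mul_inv_cancel_right]
    _ = ⁅x, g⁆ * ⁅y, g⁆ := (Subgroup.mem_center_iff.1 hc _).symm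

omit [Finite G] in
lemma comm_mul_right (h2 : commutator G ≤ Subgroup.center G) (x g h : G) :
    ⁅x, g * h⁆ = ⁅x, g⁆ * ⁅x, h⁆ := by
  have hc : ⁅x, h⁆ ∈ Subgroup.center G :=
    h2 (Subgroup.commutator_mem_commutator (Subgroup.mem_top _) (Subgroup.mem_top _))
  calc ⁅x, g * h⁆ = ⁅x, g⁆ * (g * ⁅x, h⁆ * g⁻¹) := by simp only [commutatorElement_def]; group
    _ = ⁅x, g⁆ * ⁅x, h⁆ := by rw [Subgroup.mem_center_iff.1 hc g, mul_inv_cancel_right]

/-- Commutation with a fixed element, in class two. -/
def commHom (h2 : commutator G ≤ Subgroup.center G) (x : G) : G →* G where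
  toFun g := ⁅x, g⁆
  map_one' := commutatorElement_one_right x
  map_mul' := comm_mul_right h2 x

lemma commHom_range_card (h2 : commutator G ≤ Subgroup.center G) (x : G) :
    Nat.card (commHom h2 x).range = (Subgroup.centralizer ({x} : Set G)).index := by
  rw [← Subgroup.index_ker]
  congr 1
  ext g
  rw [MonoidHom.mem_ker, Subgroup.mem_centralizer_singleton_iff]
  exact commutatorElement_eq_one_iff_mul_comm.trans eq_comm

omit [Finite G] in
lemma mul_pow_class_two (h2 : commutator G ≤ Subgroup.center G) (x y : G) (n : ℕ) :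
    (x * y) ^ n = x ^ n * y ^ n * ⁅y, x⁆ ^ n.choose 2 := by
  have hc : ⁅y, x⁆ ∈ Subgroup.center G :=
    h2 (Subgroup.commutator_mem_commutator (Subgroup.mem_top _) (Subgroup.mem_top _))
  have hcen : ∀ (g : G) (k : ℕ), g * ⁅y, x⁆ ^ k = ⁅y, x⁆ ^ k * g := fun g k =>
    Subgroup.mem_center_iff.1 (pow_mem hc k) g
  have hyx : ∀ k : ℕ, y ^ k * x = ⁅y, x⁆ ^ k * (x * y ^ k) := by
    intro k
    induction k with
    | zero => simp
    | succ k ih =>
      calc y ^ (k + 1) * x = y * (y ^ k * x) := by rw [pow_succ', mul_assoc]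
        _ = y * (⁅y, x⁆ ^ k * (x * y ^ k)) := by rw [ih]
        _ = ⁅y, x⁆ ^ k * (y * x) * y ^ k := by rw [← mul_assoc, hcen]; simp only [mul_assoc]
        _ = ⁅y, x⁆ ^ k * (⁅y, x⁆ * x * y) * y ^ k := by
            rw [show y * x = ⁅y, x⁆ * x * y by rw [commutatorElement_def]; group]
        _ = ⁅y, x⁆ ^ (k + 1) * (x * y ^ (k + 1)) := by
            rw [pow_succ, pow_succ' y k]; simp only [mul_assoc]
  induction n with
  | zero => simp
  | succ n ih =>
    calc (x * y) ^ (n + 1) = x ^ n * y ^ n * (⁅y, x⁆ ^ n.choose 2 * x) * y := by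
          rw [pow_succ, ih]; simp only [mul_assoc]
      _ = x ^ n * (y ^ n * x) * (⁅y, x⁆ ^ n.choose 2 * y) := by
          rw [← hcen x]; simp only [mul_assoc]
      _ = x ^ n * (x * y ^ n * ⁅y, x⁆ ^ n) * (y * ⁅y, x⁆ ^ n.choose 2) := by
          rw [hyx, ← hcen (x * y ^ n), hcen y]
      _ = x ^ n * x * y ^ n * (⁅y, x⁆ ^ n * y) * ⁅y, x⁆ ^ n.choose 2 := by simp only [mul_assoc]
      _ = x ^ (n + 1) * y ^ (n + 1) * (⁅y, x⁆ ^ n * ⁅y, x⁆ ^ n.choose 2) := by
          rw [← hcen y, pow_succ x, pow_succ y]; simp only [mul_assoc]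
      _ = x ^ (n + 1) * y ^ (n + 1) * ⁅y, x⁆ ^ (n + 1).choose 2 := by
          rw [← pow_add, Nat.choose_succ_succ', Nat.choose_one_right]

omit [Finite G] in
/-- A translation automorphism by an element with prescribed power. -/
lemma exists_aut {p : ℕ} [Fact p.Prime] (lam : G →* Multiplicative (ZMod p)) (β z : G)
    (hz : z ∈ Subgroup.center G) (hzp : z ^ p = 1) (hβ : β ^ p = z ^ p.choose 2)
    (hcomm : ∀ g, β * g = z⁻¹ ^ (lam g).toAdd.val * g * β) (hlamz : lam z = 1)
    (hlamβ : lam β = 1) :
    ∃ α : MulAut G, ∀ g, ∃ i : ℕ, α g = g * β ^ (lam g).toAdd.val * z ^ i := by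
  set P : ℕ → G := fun k => β ^ k * z⁻¹ ^ k.choose 2 with hP
  have hzi : ∀ (g : G) (k : ℕ), g * z⁻¹ ^ k = z⁻¹ ^ k * g := fun g k =>
    Subgroup.mem_center_iff.1 (pow_mem (inv_mem hz) k) g
  have hadd : ∀ k l : ℕ, P (k + l) = z⁻¹ ^ (k * l) * (P k * P l) := by
    intro k l
    have hch : (k + l).choose 2 = k * l + k.choose 2 + l.choose 2 := by
      induction l with
      | zero => simp
      | succ l ih =>
        rw [← add_assoc, Nat.choose_succ_succ', Nat.choose_one_right, ih,
          Nat.choose_succ_succ' l, Nat.choose_one_right]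
        ring
    simp only [hP]
    rw [hch, pow_add β k l, pow_add, pow_add]
    calc β ^ k * β ^ l * (z⁻¹ ^ (k * l) * z⁻¹ ^ k.choose 2 * z⁻¹ ^ l.choose 2)
        = (β ^ k * β ^ l * z⁻¹ ^ (k * l)) * (z⁻¹ ^ k.choose 2 * z⁻¹ ^ l.choose 2) := by
          simp only [mul_assoc]
      _ = z⁻¹ ^ (k * l) * (β ^ k * (β ^ l * z⁻¹ ^ k.choose 2) * z⁻¹ ^ l.choose 2) := by
          rw [hzi (β ^ k * β ^ l)]; simp only [mul_assoc]
      _ = _ := by rw [hzi (β ^ l)]; simp only [mul_assoc]
  have hPp : P p = 1 := by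
    simp only [hP]
    rw [hβ, inv_pow, mul_inv_cancel]
  have hper : ∀ k, P (k % p) = P k := by
    intro k
    induction k using Nat.strong_induction_on with
    | _ k ih =>
      rcases lt_or_ge k p with h | h
      · rw [Nat.mod_eq_of_lt h]
      · obtain ⟨j, rfl⟩ := Nat.exists_eq_add_of_le h
        have hpos := (Fact.out : p.Prime).pos
        rw [Nat.add_mod_left, ih j (by omega), hadd, hPp, one_mul, pow_mul,
          show z⁻¹ ^ p = 1 by rw [inv_pow, hzp, inv_one], one_pow, one_mul]
  have hβg : ∀ (g : G) (k : ℕ), β ^ k * g = z⁻¹ ^ (k * (lam g).toAdd.val) * (g * β ^ k) := by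
    intro g k
    induction k with
    | zero => simp
    | succ k ih =>
      calc β ^ (k + 1) * g = β * (β ^ k * g) := by rw [pow_succ', mul_assoc]
        _ = (β * z⁻¹ ^ (k * (lam g).toAdd.val)) * (g * β ^ k) := by rw [ih]; simp only [mul_assoc]
        _ = z⁻¹ ^ (k * (lam g).toAdd.val) * ((β * g) * β ^ k) := by
            rw [hzi]; simp only [mul_assoc]
        _ = _ := by
            rw [hcomm, Nat.succ_mul, pow_add, pow_succ' β k]; simp only [mul_assoc]
  let α : G →* G :=
    { toFun := fun g => g * P (lam g).toAdd.val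
      map_one' := by simp [hP]
      map_mul' := fun g h => by
        rw [map_mul, toAdd_mul, ZMod.val_add, hper]
        set k := (lam g).toAdd.val
        set l := (lam h).toAdd.val
        have h1 : P k * h = z⁻¹ ^ (k * l) * (h * P k) := by
          simp only [hP]
          rw [mul_assoc, ← hzi h, ← mul_assoc, hβg]
          simp only [mul_assoc, l]
        calc g * h * P (k + l) = g * h * (z⁻¹ ^ (k * l) * (P k * P l)) := by rw [hadd]
          _ = g * (h * z⁻¹ ^ (k * l)) * (P k * P l) := by simp only [mul_assoc]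
          _ = g * (z⁻¹ ^ (k * l) * (h * P k)) * P l := by rw [hzi]; simp only [mul_assoc]
          _ = g * P k * (h * P l) := by rw [← h1]; simp only [mul_assoc] }
  have hlamP : ∀ k, lam (P k) = 1 := fun k => by
    simp only [hP, map_mul, map_pow, map_inv, hlamz, hlamβ, inv_one, one_pow, mul_one]
  have hinj : Function.Injective α := by
    rw [injective_iff_map_eq_one]
    intro g hg
    have hg' : g * P (lam g).toAdd.val = 1 := hg
    have h1 : lam g = 1 := by
      have := congrArg lam hg'
      rwa [map_mul, hlamP, mul_one, map_one] at this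
    rw [h1] at hg'
    simpa [hP] using hg'
  have hsurj : Function.Surjective α := by
    intro g
    refine ⟨g * (P (lam g).toAdd.val)⁻¹, ?_⟩
    show g * (P _)⁻¹ * P (lam (g * (P _)⁻¹)).toAdd.val = g
    rw [map_mul, map_inv, hlamP, inv_one, mul_one, inv_mul_cancel_right]
  refine ⟨MulEquiv.ofBijective α ⟨hinj, hsurj⟩, fun g =>
    ⟨(p - 1) * ((lam g).toAdd.val.choose 2), ?_⟩⟩
  show g * (β ^ _ * z⁻¹ ^ _) = _
  rw [pow_mul, show z ^ (p - 1) = z⁻¹ from eq_inv_of_mul_eq_one_left (by
    rw [← pow_succ, Nat.sub_add_cancel (Fact.out : p.Prime).one_le, hzp]), mul_assoc]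

/-- In the case of a commutator subgroup of order `p`, translations enlarge orbits. -/
lemma translate_orbit {p : ℕ} [Fact p.Prime] (z β : G) (hzo : orderOf z = p)
    (hβj : ∀ j, 0 < j → j < p → β ^ j ∉ Subgroup.zpowers z)
    (g : G) (hcl : ∀ i : ℕ, ∀ y ∈ MulAction.orbit (MulAut G) g, y ∉ Subgroup.center G →
      y * z ^ i ∈ MulAction.orbit (MulAut G) g)
    (hmove : ∀ j < p, ∃ i : ℕ, g * β ^ j * z ^ i ∈ MulAction.orbit (MulAut G) g)
    (hnc : g ∉ Subgroup.center G) :
    p * p ≤ Nat.card (MulAction.orbit (MulAut G) g) := by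
  have hp := (Fact.out : p.Prime)
  have hzp : z ^ p = 1 := hzo ▸ pow_orderOf_eq_one z
  have hncall : ∀ y ∈ MulAction.orbit (MulAut G) g, y ∉ Subgroup.center G := by
    rintro y ⟨a, rfl⟩ hy
    apply hnc
    rw [Subgroup.mem_center_iff] at hy ⊢
    intro x
    have h : a x * a g = a g * a x := hy (a x)
    rw [← map_mul, ← map_mul] at h
    exact a.injective h
  have hmem : ∀ v : Fin p × Fin p, g * β ^ (v.1 : ℕ) * z ^ (v.2 : ℕ) ∈
      MulAction.orbit (MulAut G) g := by
    intro v
    obtain ⟨i, hi⟩ := hmove v.1 v.1.2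
    have h2 := hcl ((v.2 : ℕ) + (p - 1) * i) _ hi (hncall _ hi)
    have h3 : z ^ i * z ^ ((v.2 : ℕ) + (p - 1) * i) = z ^ (v.2 : ℕ) := by
      rw [← pow_add, show i + ((v.2 : ℕ) + (p - 1) * i) = (v.2 : ℕ) + p * i by
        obtain ⟨p', rfl⟩ := Nat.exists_eq_add_of_le hp.one_le
        rw [Nat.add_sub_cancel_left]; ring, pow_add, pow_mul, hzp, one_pow, mul_one]
    rwa [mul_assoc (g * β ^ (v.1 : ℕ)), h3] at h2
  refine le_of_eq_of_le ?_ (Nat.card_le_card_of_injective (fun v : Fin p × Fin p =>
    (⟨_, hmem v⟩ : MulAction.orbit (MulAut G) g)) ?_)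
  · rw [Nat.card_prod, Nat.card_fin]
  · intro v w hvw
    have h : g * β ^ (v.1 : ℕ) * z ^ (v.2 : ℕ) = g * β ^ (w.1 : ℕ) * z ^ (w.2 : ℕ) :=
      congrArg Subtype.val hvw
    rw [mul_assoc, mul_assoc, mul_right_inj] at h
    have key : ∀ a b : Fin p, ∀ c d : ℕ, (a : ℕ) ≤ b → β ^ (a : ℕ) * z ^ c = β ^ (b : ℕ) * z ^ d →
        a = b := by
      intro a b c d hab he
      by_contra hne
      have hlt : (a : ℕ) < b := lt_of_le_of_ne hab fun e => hne (Fin.ext e)
      refine hβj ((b : ℕ) - a) (by omega) (by omega) ?_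
      have h5 : β ^ ((b : ℕ) - a) = z ^ c * (z ^ d)⁻¹ := by
        rw [← mul_right_inj (β ^ (a : ℕ)), ← pow_add, Nat.add_sub_of_le hab, ← mul_assoc, he,
          mul_inv_cancel_right]
      rw [h5]
      exact Subgroup.mul_mem _ (Subgroup.npow_mem_zpowers _ _)
        (Subgroup.inv_mem _ (Subgroup.npow_mem_zpowers _ _))
    have h12 : v.1 = w.1 := by
      rcases le_total (v.1 : ℕ) w.1 with h' | h'
      · exact key _ _ _ _ h' h
      · exact (key _ _ _ _ h' h.symm).symm
    rw [h12, mul_right_inj] at h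
    refine Prod.ext h12 (Fin.ext (pow_injOn_Iio_orderOf ?_ ?_ h))
    · rw [hzo]; exact v.2.2
    · rw [hzo]; exact w.2.2

lemma arith1 {p M N Z S : ℕ} (hp : 1 ≤ p) (a1 : p * M ≤ N) (a2 : p * (p + 1) * Z ≤ N)
    (hS : S + M = N) : (p + 1) * (p - 1) * Z + p * S ≤ (p + 1) * S := by
  obtain ⟨j, rfl⟩ : ∃ j, p = j + 1 := ⟨p - 1, by omega⟩
  rw [Nat.add_sub_cancel]
  subst hS
  have h1 : (j + 1) * ((j + 1 + 1) * j * Z) ≤ (j + 1) * S := by
    have h2 := Nat.mul_le_mul_left j a2
    nlinarith
  have h3 := Nat.le_of_mul_le_mul_left h1 (Nat.succ_pos j)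
  nlinarith

lemma arith2 {p Z S : ℕ} (hp : 1 ≤ p) (h : p * Z ≤ S) :
    p * p * (p - 1) * Z + p * S ≤ p * p * S := by
  obtain ⟨j, rfl⟩ : ∃ j, p = j + 1 := ⟨p - 1, by omega⟩
  rw [Nat.add_sub_cancel]
  have h1 := Nat.mul_le_mul_left ((j + 1) * j) h
  nlinarith

lemma arith3 {p K N Z S : ℕ} (hp : 2 ≤ p) (hS : S + K = N) (hK : K * p = N)
    (a2 : p * p * Z ≤ N) : p * p * (p - 1) * Z + p * S ≤ p * p * S := by
  refine arith2 (by omega) ?_
  obtain ⟨j, rfl⟩ : ∃ j, p = j + 2 := ⟨p - 2, by omega⟩
  subst hS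
  have h1 : S = (j + 1) * K := by nlinarith
  subst h1
  have h2 : (j + 2) * ((j + 2) * Z) ≤ (j + 2) * K := by nlinarith
  have h3 := Nat.le_of_mul_le_mul_left h2 (by omega)
  nlinarith

/-- The bound, in the form `p * orbits ≤ #G`. -/
theorem main (hna : ¬ IsMulCommutative G) :
    (Nat.card G).minFac * Nat.card (MulAction.orbitRel.Quotient (MulAut G) G) ≤ Nat.card G := by
  classical
  set p := (Nat.card G).minFac with hpdef
  have hG1 : Nat.card G ≠ 1 := fun h => hna (by
    haveI := (Nat.card_eq_one_iff_unique.1 h).1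
    exact ⟨⟨fun a b => Subsingleton.elim _ _⟩⟩)
  haveI : Fact p.Prime := ⟨Nat.minFac_prime hG1⟩
  have hp : p.Prime := Fact.out
  have hdiv : ∀ d, d ∣ Nat.card G → d ≠ 1 → p ≤ d := fun d hd h1 =>
    Nat.minFac_le_of_dvd (by
      have := Nat.pos_of_dvd_of_pos hd Nat.card_pos
      omega) hd
  set n : G → ℕ := fun x => (Subgroup.centralizer ({x} : Set G)).index with hn
  have hn1 : ∀ x, x ∉ Subgroup.center G → p ≤ n x := fun x hx =>
    hdiv _ (Subgroup.index_dvd_card _) fun h => hx (by
      rw [Subgroup.mem_center_iff]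
      intro y
      exact Subgroup.mem_centralizer_singleton_iff.1 (Subgroup.index_eq_one.1 h ▸ Subgroup.mem_top y))
  have hnorb : ∀ x, n x ≤ Nat.card (MulAction.orbit (MulAut G) x) := index_le_orbit
  have hnc : ∀ g, g ∉ Subgroup.center G → p ≤ Nat.card (MulAction.orbit (MulAut G) g) :=
    fun g hg => (hn1 g hg).trans (hnorb g)
  have hcards := Subgroup.card_mul_index (Subgroup.center G)
  -- the index of the centre
  have hZ2 : (Subgroup.center G).index = p * p ∨ p * (p + 1) ≤ (Subgroup.center G).index := by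
    have hcyc : ¬ IsCyclic (G ⧸ Subgroup.center G) := fun _ => hna
      (MonoidHom.isMulCommutative_of_isCyclic_of_ker_le_center (QuotientGroup.mk' (Subgroup.center G))
        (QuotientGroup.ker_mk' _).le)
    set d := (Subgroup.center G).index with hd
    have hd1 : d ≠ 1 := by
      intro h
      haveI : Subsingleton (G ⧸ Subgroup.center G) := (Nat.card_eq_one_iff_unique.1 h).1
      exact hcyc isCyclic_of_subsingleton
    have hdvd : d ∣ Nat.card G := Subgroup.index_dvd_card _
    obtain ⟨r, hr, hrd⟩ := Nat.exists_prime_and_dvd hd1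
    obtain ⟨e, he⟩ := hrd
    have hrp : p ≤ r := hdiv r ((Dvd.intro e he.symm).trans hdvd) hr.one_lt.ne'
    have he1 : e ≠ 1 := by
      rintro rfl
      rw [mul_one] at he
      haveI := Fact.mk hr
      exact hcyc (isCyclic_of_prime_card (p := r) he)
    have hep : p ≤ e := hdiv e ((Dvd.intro_left r he.symm).trans hdvd) he1
    rw [he]
    rcases hrp.eq_or_lt with rfl | hlt
    · rcases hep.eq_or_lt with rfl | hlt'
      · exact Or.inl rfl
      · exact Or.inr (Nat.mul_le_mul_left p hlt')
    · exact Or.inr (by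
        rw [mul_comm r e]; exact Nat.mul_le_mul hep hlt)
  by_cases hW : Subgroup.closure {x : G | n x ≤ p} ≠ ⊤
  · -- many classes are big
    set M := Subgroup.closure {x : G | n x ≤ p} with hM
    have hZM : Subgroup.center G ≤ M := fun x hx => Subgroup.subset_closure (by
      show (Subgroup.centralizer ({x} : Set G)).index ≤ p
      rw [Subgroup.index_eq_one.2 (eq_top_iff.2 fun y _ =>
        Subgroup.mem_centralizer_singleton_iff.2 (Subgroup.mem_center_iff.1 hx y))]
      exact hp.one_le)
    have hMi : p ≤ M.index := hdiv _ (Subgroup.index_dvd_card _) (fun h => hW (Subgroup.index_eq_one.1 h))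
    refine orbit_count hp.pos (Nat.succ_pos p) ((M : Set G)ᶜ) (fun g hg hgz => hg (hZM hgz))
      (fun g hg => ?_) hnc ?_
    · have : ¬ n g ≤ p := fun h => hg (Subgroup.subset_closure h)
      exact le_trans (by omega) (hnorb g)
    · have hS : ((M : Set G)ᶜ).ncard + Nat.card M = Nat.card G := by
        rw [← Set.ncard_add_ncard_compl (M : Set G), add_comm]
        rfl
      have hMc := Subgroup.card_mul_index M
      have hidx : p * (p + 1) ≤ (Subgroup.center G).index := by
        refine hZ2.resolve_left fun h => hW (eq_top_iff.2 fun x _ => Subgroup.subset_closure ?_)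
        show (Subgroup.centralizer ({x} : Set G)).index ≤ p
        by_cases hx : x ∈ Subgroup.center G
        · rw [Subgroup.index_eq_one.2 (eq_top_iff.2 fun y _ =>
            Subgroup.mem_centralizer_singleton_iff.2 (Subgroup.mem_center_iff.1 hx y))]
          exact hp.one_le
        · have hlt : Subgroup.center G < Subgroup.centralizer ({x} : Set G) := by
            refine lt_of_le_of_ne (Subgroup.center_le_centralizer _) fun e => hx ?_
            rw [e]
            exact Subgroup.mem_centralizer_singleton_iff.2 rfl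
          have h1 := Subgroup.relIndex_mul_index hlt.le
          rw [h] at h1
          have h2 : (Subgroup.center G).relIndex (Subgroup.centralizer ({x} : Set G)) ≠ 1 :=
            fun e => hlt.not_ge (Subgroup.relIndex_eq_one.1 e)
          have h3 := hdiv _ (((Dvd.intro _ h1).trans (h ▸ dvd_rfl : p * p ∣ (Subgroup.center G).index)).trans
            (Subgroup.index_dvd_card _)) h2
          by_contra hlt2
          have h4 : p * (p + 1) ≤ (Subgroup.center G).relIndex (Subgroup.centralizer ({x} : Set G)) *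
              (Subgroup.centralizer ({x} : Set G)).index := Nat.mul_le_mul h3 (by omega)
          rw [h1] at h4
          have := hp.pos
          nlinarith
      refine arith1 hp.one_le ?_ ?_ hS
      · calc p * Nat.card M ≤ M.index * Nat.card M := Nat.mul_le_mul_right _ hMi
          _ = Nat.card G := by rw [mul_comm]; exact hMc
      · calc p * (p + 1) * Nat.card (Subgroup.center G)
            ≤ (Subgroup.center G).index * Nat.card (Subgroup.center G) :=
              Nat.mul_le_mul_right _ hidx
          _ = Nat.card G := by rw [mul_comm]; exact hcards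
  push Not at hW
  -- the group has class two
  have hnorm : ∀ s, n s ≤ p → ∀ g, g ^ p * s = s * g ^ p ∧ ∀ h, ⁅g, h⁆ * s = s * ⁅g, h⁆ := by
    intro s hs g
    by_cases hsz : s ∈ Subgroup.center G
    · exact ⟨Subgroup.mem_center_iff.1 hsz _, fun h => Subgroup.mem_center_iff.1 hsz _⟩
    have hidx : (Subgroup.centralizer ({s} : Set G)).index = p := le_antisymm hs (hn1 s hsz)
    haveI := Subgroup.normal_of_index_eq_minFac_card hidx
    refine ⟨Subgroup.mem_centralizer_singleton_iff.1 ?_, fun h =>
      Subgroup.mem_centralizer_singleton_iff.1 ?_⟩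
    · rw [← hidx]
      exact Subgroup.pow_index_mem _ g
    · haveI : IsCyclic (G ⧸ Subgroup.centralizer ({s} : Set G)) :=
        isCyclic_of_prime_card (p := p) hidx
      letI := IsCyclic.commGroup (α := G ⧸ Subgroup.centralizer ({s} : Set G))
      apply (QuotientGroup.eq_one_iff _).1
      show QuotientGroup.mk' _ ⁅g, h⁆ = 1
      rw [map_commutatorElement, commutatorElement_eq_one_iff_mul_comm]
      exact mul_comm _ _
  have hcenmem : ∀ y : G, (∀ s, n s ≤ p → y * s = s * y) → y ∈ Subgroup.center G := by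
    intro y hy
    rw [Subgroup.mem_center_iff]
    intro g
    have hle : Subgroup.closure {x : G | n x ≤ p} ≤ Subgroup.centralizer ({y} : Set G) :=
      (Subgroup.closure_le _).2 fun s hs => Subgroup.mem_centralizer_singleton_iff.2 (hy s hs).symm
    rw [hW] at hle
    exact Subgroup.mem_centralizer_singleton_iff.1 (hle (Subgroup.mem_top g))
  have hpow : ∀ g : G, g ^ p ∈ Subgroup.center G := fun g =>
    hcenmem _ fun s hs => (hnorm s hs g).1
  have h2 : commutator G ≤ Subgroup.center G := by
    rw [commutator_def, Subgroup.commutator_le]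
    exact fun g _ h _ => hcenmem _ fun s hs => (hnorm s hs g).2 h
  set φ := commHom (G := G) h2 with hφ
  have hφcard : ∀ x, Nat.card (φ x).range = n x := commHom_range_card h2
  have hcp : ∀ x g : G, ⁅x, g⁆ ^ p = 1 := fun x g => by
    show φ x g ^ p = 1
    rw [← map_pow]
    show ⁅x, g ^ p⁆ = 1
    rw [commutatorElement_eq_one_iff_mul_comm]
    exact Subgroup.mem_center_iff.1 (hpow g) x
  have hco : ∀ x g : G, ⁅x, g⁆ ≠ 1 → orderOf ⁅x, g⁆ = p :=
    fun x g h => orderOf_eq_prime (hcp x g) h
  have hcmem : ∀ x g : G, ⁅x, g⁆ ∈ (φ x).range := fun x g => ⟨g, rfl⟩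
  have hline : ∀ x g : G, n x ≤ p → ⁅x, g⁆ ≠ 1 → (φ x).range = Subgroup.zpowers ⁅x, g⁆ := by
    intro x g hx hg
    refine (Subgroup.eq_of_le_of_card_ge (Subgroup.zpowers_le.2 (hcmem x g)) ?_).symm
    rw [hφcard, Nat.card_zpowers, hco x g hg]
    exact hx
  by_cases hbig : ∃ u, ¬ n u ≤ p
  · -- classes of size at least `p ^ 2` fill `p` cosets of the centre
    obtain ⟨u, hu⟩ := hbig
    have hbigsq : ∀ x, ¬ n x ≤ p → p * p ≤ n x := by
      intro x hx
      have hP : IsPGroup p (φ x).range := fun y => ⟨1, by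
        obtain ⟨g, hg⟩ := y.2
        rw [pow_one]
        apply Subtype.ext
        rw [Subgroup.coe_pow, Subgroup.coe_one, ← hg]
        exact hcp x g⟩
      obtain ⟨k, hk⟩ := IsPGroup.iff_card.1 hP
      rw [hφcard] at hk
      rw [hk] at hx ⊢
      rcases k with - | - | k
      · simp [hp.one_le] at hx
      · simp at hx
      · calc p * p = p ^ 2 := (sq p).symm
          _ ≤ _ := Nat.pow_le_pow_right hp.pos (by omega)
    have hswap : ∀ x y : G, ⁅x, y⁆ = ⁅y, x⁆⁻¹ := fun x y => (commutatorElement_inv y x).symm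
    obtain ⟨v, hv, huv⟩ : ∃ v : G, ¬ n v ≤ p ∧ ⁅u, v⁆ ≠ 1 := by
      obtain ⟨a, ha⟩ : ∃ a : G, ⁅u, a⁆ ≠ 1 := by
        by_contra h
        push Not at h
        apply hu
        show (Subgroup.centralizer ({u} : Set G)).index ≤ p
        rw [Subgroup.index_eq_one.2 (eq_top_iff.2 fun y _ =>
          Subgroup.mem_centralizer_singleton_iff.2
            (commutatorElement_eq_one_iff_mul_comm.1 (h y)).symm)]
        exact hp.one_le
      obtain ⟨b, hb⟩ : ∃ b : G, ⁅u, b⁆ ∉ Subgroup.zpowers ⁅u, a⁆ := by
        by_contra h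
        push Not at h
        apply hu
        rw [← hφcard]
        refine le_trans (Subgroup.card_le_of_le (H := (φ u).range)
          (K := Subgroup.zpowers ⁅u, a⁆) ?_) ?_
        · rintro _ ⟨g, rfl⟩; exact h g
        · rw [Nat.card_zpowers, hco u a ha]
      have hb1 : ⁅u, b⁆ ≠ 1 := fun e => hb (e ▸ Subgroup.one_mem _)
      by_cases hna' : n a ≤ p
      swap
      · exact ⟨a, hna', ha⟩
      by_cases hnb : n b ≤ p
      swap
      · exact ⟨b, hnb, hb1⟩
      refine ⟨u * a, fun hle => ?_, ?_⟩
      · have hau : ⁅a, u⁆ ≠ 1 := by rw [hswap, Ne, inv_eq_one]; exact ha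
        have hbu : ⁅b, u⁆ ≠ 1 := by rw [hswap, Ne, inv_eq_one]; exact hb1
        have hab : ⁅a, b⁆ = 1 := by
          by_contra hne
          have e1 : Subgroup.zpowers ⁅a, b⁆ = Subgroup.zpowers ⁅a, u⁆ := by
            rw [← hline a b hna' hne, hline a u hna' hau]
          have hne' : ⁅b, a⁆ ≠ 1 := by rw [hswap, Ne, inv_eq_one]; exact hne
          have e2 : Subgroup.zpowers ⁅b, a⁆ = Subgroup.zpowers ⁅b, u⁆ := by
            rw [← hline b a hnb hne', hline b u hnb hbu]
          rw [hswap b a, Subgroup.zpowers_inv, e1, hswap a u, hswap b u, Subgroup.zpowers_inv,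
            Subgroup.zpowers_inv] at e2
          exact hb (e2.symm ▸ Subgroup.mem_zpowers _)
        have e3 : ⁅u * a, a⁆ = ⁅u, a⁆ := by
          rw [comm_mul_left h2, commutatorElement_self, mul_one]
        have e4 : ⁅u * a, b⁆ = ⁅u, b⁆ := by rw [comm_mul_left h2, hab, mul_one]
        have h5 := hline (u * a) a hle (e3 ▸ ha)
        rw [e3] at h5
        exact hb (h5 ▸ e4 ▸ hcmem (u * a) b)
      · rw [comm_mul_right h2, commutatorElement_self, one_mul]; exact ha
    have huz : u ∉ Subgroup.center G := fun h => huv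
      (commutatorElement_eq_one_iff_mul_comm.2 (Subgroup.mem_center_iff.1 h v).symm)
    set rep : Fin p → G := fun i => if (i : ℕ) = 0 then v else u ^ (i : ℕ) with hrep
    have hrepn : ∀ i, ¬ n (rep i) ≤ p := by
      intro i
      simp only [hrep]
      split_ifs with h
      · exact hv
      · have hcent : Subgroup.centralizer ({u ^ (i : ℕ)} : Set G) =
            Subgroup.centralizer ({u} : Set G) := by
          ext g
          rw [Subgroup.mem_centralizer_singleton_iff, Subgroup.mem_centralizer_singleton_iff]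
          refine ⟨fun hg => ?_, fun hg => (Commute.pow_right hg _).eq⟩
          obtain ⟨j, hj⟩ : ∃ j, (i : ℕ) * j % p = 1 := by
            obtain ⟨x, hx⟩ := (ZMod.isUnit_iff_coprime (i : ℕ) p).2 ((hp.coprime_iff_not_dvd.2
              (fun hd => absurd (Nat.le_of_dvd (by omega) hd) (by omega))).symm) |>.exists_right_inv
            refine ⟨x.val, ?_⟩
            have h' : ((((i : ℕ) * x.val : ℕ)) : ZMod p) = ((1 : ℕ) : ZMod p) := by
              push_cast; rw [ZMod.natCast_zmod_val, hx]
            have := (ZMod.natCast_eq_natCast_iff' _ _ p).1 h'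
            rwa [Nat.mod_eq_of_lt hp.one_lt] at this
          have hu' : u = (u ^ (i : ℕ)) ^ j * ((u ^ p) ^ ((i : ℕ) * j / p))⁻¹ := by
            rw [← pow_mul, ← pow_mul]
            conv_rhs => arg 1; rw [← Nat.mod_add_div ((i : ℕ) * j) p, hj]
            rw [pow_add, pow_one, mul_inv_cancel_right]
          rw [hu']
          exact (Commute.mul_right (Commute.pow_right hg j)
            (Subgroup.mem_center_iff.1 (inv_mem (pow_mem (hpow u) _)) g)).eq
        intro hle
        apply hu
        show (Subgroup.centralizer ({u} : Set G)).index ≤ p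
        rw [← hcent]
        exact hle
    set S : Set G := {x | ¬ n x ≤ p} with hS
    have hScard : p * Nat.card (Subgroup.center G) ≤ S.ncard := by
      have hmem : ∀ v : Fin p × Subgroup.center G, rep v.1 * v.2 ∈ S := by
        intro w
        have he : Subgroup.centralizer ({rep w.1 * (w.2 : G)} : Set G) =
            Subgroup.centralizer ({rep w.1} : Set G) := by
          ext g
          rw [Subgroup.mem_centralizer_singleton_iff, Subgroup.mem_centralizer_singleton_iff,
            ← mul_assoc, mul_assoc (rep w.1), ← Subgroup.mem_center_iff.1 w.2.2 g, ← mul_assoc,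
            mul_left_inj]
        show ¬ (Subgroup.centralizer ({rep w.1 * (w.2 : G)} : Set G)).index ≤ p
        rw [he]
        exact hrepn w.1
      have hbnd := Nat.card_le_card_of_injective (fun w : Fin p × Subgroup.center G =>
        (⟨_, hmem w⟩ : S)) (fun w w' hww => by
        have h : rep w.1 * (w.2 : G) = rep w'.1 * (w'.2 : G) := congrArg Subtype.val hww
        have hcomm : ∀ a b : Fin p, ∀ c d : Subgroup.center G, rep a * (c : G) = rep b * (d : G) →
            (a : ℕ) = 0 → (b : ℕ) = 0 := by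
          intro a b c d he ha
          by_contra hb
          simp only [hrep, if_pos ha, if_neg hb] at he
          refine huv (commutatorElement_eq_one_iff_mul_comm.2 ?_)
          rw [show v = u ^ (b : ℕ) * ((d : G) * (c : G)⁻¹) by
            rw [← mul_assoc, ← he, mul_inv_cancel_right]]
          exact (((Commute.refl u).pow_right _).mul_right
            (Subgroup.mem_center_iff.1 (mul_mem d.2 (inv_mem c.2)) u)).eq
        have key : ∀ a b : Fin p, ∀ c d : Subgroup.center G, rep a * (c : G) = rep b * (d : G) →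
            (a : ℕ) ≤ b → a = b := by
          intro a b c d he hab
          rcases Nat.eq_zero_or_pos (a : ℕ) with ha | ha
          · exact Fin.ext (ha.trans (hcomm a b c d he ha).symm)
          · by_contra hne
            have hlt : (a : ℕ) < b := lt_of_le_of_ne hab fun e => hne (Fin.ext e)
            simp only [hrep, if_neg ha.ne', if_neg (ha.trans hlt).ne'] at he
            have hmem' : u ^ ((b : ℕ) - a) ∈ Subgroup.center G := by
              have e : u ^ ((b : ℕ) - a) = (c : G) * (d : G)⁻¹ := by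
                rw [← mul_right_inj (u ^ (a : ℕ)), ← pow_add, Nat.add_sub_of_le hab, ← mul_assoc,
                  he, mul_inv_cancel_right]
              rw [e]; exact mul_mem c.2 (inv_mem d.2)
            have ho : orderOf (QuotientGroup.mk' (Subgroup.center G) u) = p := by
              refine orderOf_eq_prime ?_ fun e => huz ((QuotientGroup.eq_one_iff u).1 e)
              rw [← map_pow]
              exact (QuotientGroup.eq_one_iff _).2 (hpow u)
            have hd := orderOf_dvd_of_pow_eq_one (x := QuotientGroup.mk' (Subgroup.center G) u)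
              (show _ ^ ((b : ℕ) - a) = 1 by
                rw [← map_pow]; exact (QuotientGroup.eq_one_iff _).2 hmem')
            rw [ho] at hd
            exact absurd (Nat.le_of_dvd (by omega) hd) (by omega)
        have h12 : w.1 = w'.1 := by
          rcases le_total (w.1 : ℕ) w'.1 with h' | h'
          · exact key _ _ _ _ h h'
          · exact (key _ _ _ _ h.symm h').symm
        rw [h12, mul_right_inj] at h
        exact Prod.ext h12 (Subtype.ext h))
      rw [Nat.card_prod, Nat.card_fin] at hbnd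
      exact hbnd
    refine orbit_count hp.pos (Nat.mul_pos hp.pos hp.pos) S (fun g hg hgz => hg ?_)
      (fun g hg => (hbigsq g hg).trans (hnorb g)) hnc ?_
    · show (Subgroup.centralizer ({g} : Set G)).index ≤ p
      rw [Subgroup.index_eq_one.2 (eq_top_iff.2 fun y _ =>
        Subgroup.mem_centralizer_singleton_iff.2 (Subgroup.mem_center_iff.1 hgz y))]
      exact hp.one_le
    · exact arith2 hp.one_le hScard
  push Not at hbig
  -- the derived subgroup has order `p`
  obtain ⟨a, b, hab⟩ : ∃ a b : G, ⁅a, b⁆ ≠ 1 := by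
    by_contra h
    push Not at h
    exact hna ⟨⟨fun x y => commutatorElement_eq_one_iff_mul_comm.1 (h x y)⟩⟩
  set z := ⁅a, b⁆ with hz
  have hzc : z ∈ Subgroup.center G :=
    h2 (Subgroup.commutator_mem_commutator (Subgroup.mem_top _) (Subgroup.mem_top _))
  have hzo : orderOf z = p := hco a b hab
  have hzp : z ^ p = 1 := hcp a b
  have hTa : ∀ g, ⁅a, g⁆ ∈ Subgroup.zpowers z := fun g => hline a b (hbig a) hab ▸ hcmem a g
  have hTb : (φ b).range = Subgroup.zpowers z := by
    have hba : ⁅b, a⁆ ≠ 1 := by rw [← commutatorElement_inv a b, Ne, inv_eq_one]; exact hab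
    rw [hline b a (hbig b) hba, hz, ← commutatorElement_inv a b, Subgroup.zpowers_inv]
  have hall : ∀ c g : G, ⁅c, g⁆ ∈ Subgroup.zpowers z := by
    intro c g
    by_cases h1 : ⁅c, a⁆ = 1
    · by_cases h3 : ⁅c, b⁆ = 1
      · have h4 : ⁅a * c, b⁆ = z := by rw [comm_mul_left h2, h3, mul_one]
        have h5 := hline (a * c) b (hbig _) (h4 ▸ hab)
        rw [h4] at h5
        have h6 : ⁅a * c, g⁆ ∈ Subgroup.zpowers z := h5 ▸ hcmem (a * c) g
        rw [comm_mul_left h2] at h6
        exact (Subgroup.mul_mem_cancel_left _ (hTa g)).1 h6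
      · have h5 := hline c b (hbig c) h3
        have h7 : ⁅c, b⁆ ∈ Subgroup.zpowers z := by
          rw [← hTb, ← commutatorElement_inv b c]
          exact Subgroup.inv_mem _ (hcmem b c)
        exact Subgroup.zpowers_le.2 h7 (h5 ▸ hcmem c g)
    · have h5 := hline c a (hbig c) h1
      have h7 : ⁅c, a⁆ ∈ Subgroup.zpowers z := by
        rw [← commutatorElement_inv a c]; exact Subgroup.inv_mem _ (hTa c)
      exact Subgroup.zpowers_le.2 h7 (h5 ▸ hcmem c g)
  -- classes are cosets of the derived subgroup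
  have hclass : ∀ y : G, y ∉ Subgroup.center G → ∀ i : ℕ, ∃ g : G, g * y * g⁻¹ = y * z ^ i := by
    intro y hy i
    obtain ⟨g, hg⟩ : ∃ g : G, ⁅y, g⁆ ≠ 1 := by
      by_contra h
      push Not at h
      exact hy (Subgroup.mem_center_iff.2 fun g => (commutatorElement_eq_one_iff_mul_comm.1 (h g)).symm)
    have hr : (φ y).range = Subgroup.zpowers z := by
      rw [hline y g (hbig y) hg]
      refine Subgroup.eq_of_le_of_card_ge (Subgroup.zpowers_le.2 (hall y g)) ?_
      rw [Nat.card_zpowers, Nat.card_zpowers, hco y g hg, hzo]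
    obtain ⟨g', hg'⟩ : (z ^ i)⁻¹ ∈ (φ y).range := by
      rw [hr]; exact Subgroup.inv_mem _ (Subgroup.npow_mem_zpowers _ _)
    have hg'' : ⁅g', y⁆ = z ^ i := by
      rw [← commutatorElement_inv y g', show ⁅y, g'⁆ = (z ^ i)⁻¹ from hg', inv_inv]
    refine ⟨g', ?_⟩
    rw [Subgroup.mem_center_iff.1 (pow_mem hzc i) y, ← hg'', commutatorElement_def,
      inv_mul_cancel_right]
  -- it is enough to find a translation
  suffices key : ∃ (lam : G →* Multiplicative (ZMod p)) (β : G) (α : MulAut G),
      lam ≠ 1 ∧ (∀ c ∈ Subgroup.center G, lam c = 1) ∧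
      (∀ j, 0 < j → j < p → β ^ j ∉ Subgroup.zpowers z) ∧ lam β = 1 ∧ β ^ p ∈ Subgroup.zpowers z ∧
      ∀ g, ∃ i : ℕ, α g = g * β ^ (lam g).toAdd.val * z ^ i by
    obtain ⟨lam, β, α, hlam, hlamZ, hβj, hlamβ, hβpz, hα⟩ := key
    refine orbit_count hp.pos (Nat.mul_pos hp.pos hp.pos) {g | lam g ≠ 1}
      (fun g hg hgz => hg (hlamZ g hgz)) (fun g hg => ?_) hnc ?_
    · have hgz : g ∉ Subgroup.center G := fun h => hg (hlamZ g h)
      refine translate_orbit z β hzo hβj g ?_ ?_ hgz
      · intro i y hy hyc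
        obtain ⟨x, hx⟩ := hclass y hyc i
        rw [← hx]
        obtain ⟨a', rfl⟩ := hy
        exact ⟨MulAut.conj x * a', rfl⟩
      · set k := (lam g).toAdd with hk
        have hk0 : k ≠ 0 := fun h => hg (toAdd_eq_zero.1 h)
        have hiter : ∀ m : ℕ, ∃ i : ℕ, (α ^ m) g = g * β ^ (m * k.val) * z ^ i ∧
            lam ((α ^ m) g) = lam g := by
          intro m
          induction m with
          | zero => exact ⟨0, by simp, rfl⟩
          | succ m ih =>
            obtain ⟨i, hi, hil⟩ := ih
            obtain ⟨i', hi'⟩ := hα ((α ^ m) g)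
            rw [hil] at hi'
            refine ⟨i + i', ?_, ?_⟩
            · rw [pow_succ', MulAut.mul_apply, hi', hi, Nat.succ_mul, pow_add β, pow_add z]
              have hzi : z ^ i * β ^ k.val = β ^ k.val * z ^ i :=
                (Subgroup.mem_center_iff.1 (pow_mem hzc i) _).symm
              simp only [mul_assoc]
              rw [← mul_assoc (z ^ i), hzi]
              simp only [mul_assoc, hk]
            · rw [pow_succ', MulAut.mul_apply, hi', map_mul, map_mul, map_pow, map_pow, hlamβ,
                hlamZ z hzc, one_pow, one_pow, mul_one, mul_one, hil]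
        intro j hj
        obtain ⟨i, hi, -⟩ := hiter ((j : ZMod p) * k⁻¹).val
        have hmod : ((j : ZMod p) * k⁻¹).val * k.val % p = j := by
          have h' : (((((j : ZMod p) * k⁻¹).val * k.val) : ℕ) : ZMod p) = (j : ZMod p) := by
            push_cast
            rw [ZMod.natCast_zmod_val, ZMod.natCast_zmod_val, mul_assoc, inv_mul_cancel₀ hk0, mul_one]
          have := (ZMod.natCast_eq_natCast_iff' _ _ p).1 h'
          rwa [Nat.mod_eq_of_lt hj] at this
        set t := ((j : ZMod p) * k⁻¹).val * k.val with ht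
        obtain ⟨i₁, hi₁⟩ : ∃ i₁ : ℕ, β ^ t = β ^ j * z ^ i₁ := by
          have hzf : IsOfFinOrder z := isOfFinOrder_of_finite z
          obtain ⟨i₁, hi₁⟩ := hzf.mem_powers_iff_mem_zpowers.2
            (Subgroup.pow_mem _ hβpz (t / p))
          refine ⟨i₁, ?_⟩
          rw [show z ^ i₁ = (β ^ p) ^ (t / p) from hi₁, ← pow_mul, ← pow_add, ← hmod,
            Nat.mod_add_div]
        refine ⟨i₁ + i, ?_⟩
        rw [pow_add, ← mul_assoc, mul_assoc g, ← hi₁, ← hi]
        exact ⟨α ^ ((j : ZMod p) * k⁻¹).val, rfl⟩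
    · set T : Set G := {g | lam g ≠ 1} with hT
      have hTc : T.ncard + Nat.card lam.ker = Nat.card G := by
        rw [← Set.ncard_add_ncard_compl (lam.ker : Set G), add_comm]
        rfl
      have hker : lam.ker.index = p := by
        rw [Subgroup.index_ker]
        have hle : Nat.card lam.range ∣ p := by
          refine (Subgroup.card_subgroup_dvd_card lam.range).trans (dvd_of_eq ?_)
          rw [Nat.card_congr Multiplicative.toAdd, Nat.card_zmod]
        rcases (Nat.dvd_prime hp).1 hle with h | h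
        · exact absurd (MonoidHom.range_eq_bot_iff.1 (Subgroup.eq_bot_of_card_eq _ h)) hlam
        · exact h
      have hkc := Subgroup.card_mul_index lam.ker
      rw [hker] at hkc
      have hidx : p * p ≤ (Subgroup.center G).index := by
        rcases hZ2 with h | h
        · rw [h]
        · exact le_trans (Nat.mul_le_mul_left p (Nat.le_succ p)) h
      have a2 : p * p * Nat.card (Subgroup.center G) ≤ Nat.card G := by
        calc p * p * Nat.card (Subgroup.center G)
            ≤ (Subgroup.center G).index * Nat.card (Subgroup.center G) :=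
              Nat.mul_le_mul_right _ hidx
          _ = Nat.card G := by rw [mul_comm]; exact hcards
      exact arith3 hp.two_le hTc hkc a2
  -- commutation with a noncentral element
  have hmk : ∀ (w : G), Subgroup.zpowers w = Subgroup.zpowers z → ∀ y : G, y ∉ Subgroup.center G →
      ∃ lam : G →* Multiplicative (ZMod p), lam ≠ 1 ∧ (∀ c ∈ Subgroup.center G, lam c = 1) ∧
        lam y = 1 ∧ ∀ g, ⁅y, g⁆ = w ^ (lam g).toAdd.val := by
    intro w hw y hy
    have hwo : orderOf w = p := by rw [← Nat.card_zpowers, hw, Nat.card_zpowers, hzo]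
    have hex : ∀ g, ∃ k : ℕ, w ^ k = ⁅y, g⁆ := fun g =>
      (isOfFinOrder_of_finite w).mem_powers_iff_mem_zpowers.2 (hw.symm ▸ hall y g)
    choose k hk using hex
    have huniq : ∀ i j : ℕ, w ^ i = w ^ j → (i : ZMod p) = (j : ZMod p) := fun i j h => by
      rw [ZMod.natCast_eq_natCast_iff, ← hwo]
      exact pow_eq_pow_iff_modEq.1 h
    let lam : G →* Multiplicative (ZMod p) :=
      { toFun := fun g => Multiplicative.ofAdd ((k g : ℕ) : ZMod p)
        map_one' := by
          rw [huniq (k 1) 0 (by rw [hk, pow_zero, commutatorElement_one_right]), Nat.cast_zero,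
            ofAdd_zero]
        map_mul' := fun g h => by
          rw [← ofAdd_add, ← Nat.cast_add, huniq (k (g * h)) (k g + k h) (by
            rw [pow_add, hk, hk, hk, comm_mul_right h2])] }
    have hlam : ∀ g, ⁅y, g⁆ = w ^ (lam g).toAdd.val := fun g => by
      rw [← hk]
      show w ^ k g = w ^ ((k g : ℕ) : ZMod p).val
      rw [ZMod.val_natCast, ← hwo, pow_mod_orderOf]
    have h1 : ∀ g, lam g = 1 ↔ ⁅y, g⁆ = 1 := fun g => by
      constructor
      · intro h
        rw [hlam, h]; simp
      · intro h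
        show Multiplicative.ofAdd ((k g : ℕ) : ZMod p) = 1
        rw [huniq (k g) 0 (by rw [hk, h, pow_zero]), Nat.cast_zero, ofAdd_zero]
    refine ⟨lam, fun h => hy (Subgroup.mem_center_iff.2 fun g => ?_), fun c hc => (h1 c).2 ?_,
      (h1 y).2 (commutatorElement_self y), hlam⟩
    · exact (commutatorElement_eq_one_iff_mul_comm.1 ((h1 g).1 (DFunLike.congr_fun h g))).symm
    · rw [commutatorElement_eq_one_iff_mul_comm]
      exact Subgroup.mem_center_iff.1 hc y
  have hanc : a ∉ Subgroup.center G := fun h => hab (by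
    rw [hz, commutatorElement_eq_one_iff_mul_comm]
    exact (Subgroup.mem_center_iff.1 h b).symm)
  have hprime : ∀ (y : G) (K : Subgroup G), y ^ p ∈ K → y ∉ K →
      ∀ j, 0 < j → j < p → y ^ j ∉ K := by
    intro y K hyp hy j hj hjp hmem
    apply hy
    have hcop : Nat.Coprime j p :=
      (hp.coprime_iff_not_dvd.2 fun hd => absurd (Nat.le_of_dvd hj hd) (by omega)).symm
    have hb' := Nat.gcd_eq_gcd_ab j p
    rw [hcop.gcd_eq_one, Nat.cast_one] at hb'
    rw [← zpow_one y, hb', zpow_add, zpow_mul, zpow_mul, zpow_natCast, zpow_natCast]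
    exact K.mul_mem (K.zpow_mem hmem _) (K.zpow_mem hyp _)
  by_cases hw : ∃ w ∈ Subgroup.center G, w ^ p = 1 ∧ w ∉ Subgroup.zpowers z
  · obtain ⟨w, hwc, hwp, hwz⟩ := hw
    obtain ⟨lam, hlam, hlamZ, -, -⟩ := hmk z rfl a hanc
    obtain ⟨α, hα⟩ := exists_aut lam w 1 (Subgroup.one_mem _) (one_pow _)
      (by rw [hwp, one_pow]) (fun g => by
        rw [inv_one, one_pow, one_mul]; exact (Subgroup.mem_center_iff.1 hwc g).symm)
      (map_one lam) (hlamZ w hwc)
    refine ⟨lam, w, α, hlam, hlamZ, hprime w _ (hwp ▸ Subgroup.one_mem _) hwz, hlamZ w hwc,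
      hwp ▸ Subgroup.one_mem _, fun g => ⟨0, ?_⟩⟩
    obtain ⟨i, hi⟩ := hα g
    rw [hi, one_pow, pow_zero]
  push Not at hw
  -- the centre has a unique subgroup of order `p`
  letI : CommGroup (Subgroup.center G) :=
    { (inferInstance : Group (Subgroup.center G)) with
      mul_comm := fun x y => Subtype.ext (Subgroup.mem_center_iff.1 y.2 x) }
  let pw : Subgroup.center G →* Subgroup.center G := powMonoidHom p
  have hkerle : Nat.card pw.ker ≤ p := by
    rw [← hzo, ← Nat.card_zpowers]
    exact Nat.card_le_card_of_injective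
      (fun c : pw.ker => (⟨((c : Subgroup.center G) : G),
        hw _ (c : Subgroup.center G).2 (congrArg Subtype.val c.2)⟩ : Subgroup.zpowers z))
      (fun c d h => Subtype.ext (Subtype.ext (congrArg (fun v : Subgroup.zpowers z => (v : G)) h)))
  have hQ : Nat.card (Subgroup.center G ⧸ pw.range) ≤ p := by
    refine le_of_eq_of_le ?_ hkerle
    show pw.range.index = Nat.card pw.ker
    have h1 := Subgroup.card_mul_index pw.range
    have h3 := Subgroup.card_mul_index pw.ker
    rw [Subgroup.index_ker] at h3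
    have hpos : 0 < Nat.card pw.range := Nat.card_pos
    nlinarith
  let π : G → Subgroup.center G ⧸ pw.range := fun g => QuotientGroup.mk ⟨g ^ p, hpow g⟩
  have hnorm' : ∀ y c : G, c ∈ Subgroup.center G → y ∉ Subgroup.center G →
      y * c ∉ Subgroup.center G := fun y c hc hy h =>
    hy ((Subgroup.mul_mem_cancel_right _ hc).1 h)
  obtain ⟨β, hβc, hβp⟩ : ∃ β : G, β ∉ Subgroup.center G ∧ β ^ p = z ^ p.choose 2 := by
    suffices H : ∃ y : G, y ∉ Subgroup.center G ∧
        π y = QuotientGroup.mk ⟨z ^ p.choose 2, pow_mem hzc _⟩ by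
      obtain ⟨y, hy, hπy⟩ := H
      obtain ⟨c, hc⟩ := QuotientGroup.eq.1 hπy
      refine ⟨y * (c : G), hnorm' y c c.2 hy, ?_⟩
      have hc' : (c : G) ^ p = (y ^ p)⁻¹ * z ^ p.choose 2 := congrArg Subtype.val hc
      have hcy : Commute y (c : G) := Subgroup.mem_center_iff.1 c.2 y
      rw [hcy.mul_pow, hc', mul_inv_cancel_left]
    have hπmul : ∀ x y : G,
        π (x * y) = π x * π y * QuotientGroup.mk ⟨⁅y, x⁆ ^ p.choose 2,
          pow_mem (h2 (Subgroup.commutator_mem_commutator (Subgroup.mem_top _)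
            (Subgroup.mem_top _))) _⟩ := fun x y => by
      rw [← QuotientGroup.mk_mul, ← QuotientGroup.mk_mul]
      exact congrArg QuotientGroup.mk (Subtype.ext (mul_pow_class_two h2 x y p))
    have hbnc : ∀ y : G, ⁅a, y⁆ ≠ 1 → y ∉ Subgroup.center G := fun y hy h => hy (by
      rw [commutatorElement_eq_one_iff_mul_comm]; exact Subgroup.mem_center_iff.1 h a)
    rcases hp.eq_two_or_odd' with h | h
    · -- the even case
      have hch : p.choose 2 = 1 := by rw [h]; rfl
      have hba : ⁅b, a⁆ = z := by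
        rw [← commutatorElement_inv a b, ← hz, inv_eq_iff_mul_eq_one, ← sq, ← h, hzp]
      by_cases h1 : π a = QuotientGroup.mk ⟨z ^ p.choose 2, pow_mem hzc _⟩
      · exact ⟨a, hanc, h1⟩
      by_cases h3 : π b = QuotientGroup.mk ⟨z ^ p.choose 2, pow_mem hzc _⟩
      · exact ⟨b, hbnc b hab, h3⟩
      have hkey : ∀ (Q : Type _) [Group Q] [Finite Q] (x y ζ : Q), Nat.card Q ≤ 2 → x ≠ ζ → y ≠ ζ →
          x * y * ζ = ζ := by
        intro Q _ _ x y ζ hc hx hy
        haveI := Fintype.ofFinite Q
        rw [Nat.card_eq_fintype_card] at hc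
        have hxy : x = y := by
          by_contra hne
          have : ({x, y, ζ} : Finset Q).card ≤ 2 := (Finset.card_le_univ _).trans hc
          rw [Finset.card_insert_of_notMem (by simp [hne, hx]),
            Finset.card_insert_of_notMem (by simp [hy]), Finset.card_singleton] at this
          omega
        subst hxy
        have hord : orderOf x ∣ 2 := by
          have h1 : 0 < Fintype.card Q := Fintype.card_pos
          have h4 : Fintype.card Q = 1 ∨ Fintype.card Q = 2 := by omega
          rcases h4 with h4 | h4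
          · exact (orderOf_dvd_card.trans (dvd_of_eq h4)).trans (one_dvd 2)
          · exact orderOf_dvd_card.trans (dvd_of_eq h4)
        rw [← sq, orderOf_dvd_iff_pow_eq_one.1 hord, one_mul]
      refine ⟨a * b, hbnc _ ?_, ?_⟩
      · rw [comm_mul_right h2, commutatorElement_self, one_mul]; exact hab
      · rw [hπmul]
        have e : (⟨⁅b, a⁆ ^ p.choose 2, pow_mem (h2 (Subgroup.commutator_mem_commutator
            (Subgroup.mem_top _) (Subgroup.mem_top _))) _⟩ : Subgroup.center G) =
            ⟨z ^ p.choose 2, pow_mem hzc _⟩ := Subtype.ext (by show _ ^ _ = _ ^ _; rw [hba])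
        rw [e]
        exact hkey _ _ _ _ (hQ.trans h.le) h1 h3
    · -- the odd case
      obtain ⟨m, hm⟩ : p ∣ p.choose 2 := hp.dvd_choose_self (by norm_num) (by
        rcases h with ⟨k, hk⟩
        have := hp.two_le
        omega)
      have hpz : z ^ p.choose 2 = 1 := by rw [hm, pow_mul, hzp, one_pow]
      have hhom : ∀ x y : G, π (x * y) = π x * π y := fun x y => by
        rw [hπmul]
        have e : (⟨⁅y, x⁆ ^ p.choose 2, pow_mem (h2 (Subgroup.commutator_mem_commutator
            (Subgroup.mem_top _) (Subgroup.mem_top _))) _⟩ : Subgroup.center G) = 1 :=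
          Subtype.ext (by show _ ^ _ = _; rw [hm, pow_mul, hcp, one_pow]; rfl)
        rw [e, QuotientGroup.mk_one, mul_one]
      let πh : G →* Subgroup.center G ⧸ pw.range := MonoidHom.mk' π hhom
      have e1 : (QuotientGroup.mk ⟨z ^ p.choose 2, pow_mem hzc _⟩ :
          Subgroup.center G ⧸ pw.range) = 1 := by
        rw [show (⟨z ^ p.choose 2, pow_mem hzc _⟩ : Subgroup.center G) = 1 from Subtype.ext hpz]
        rfl
      rw [e1]
      by_cases h1 : π a = 1
      · exact ⟨a, hanc, h1⟩
      · have hoa : orderOf (π a) = p := orderOf_eq_prime (by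
          show (QuotientGroup.mk ⟨a ^ p, hpow a⟩ : Subgroup.center G ⧸ pw.range) ^ p = 1
          rw [← QuotientGroup.mk_pow]
          exact (QuotientGroup.eq_one_iff _).2 ⟨_, rfl⟩) h1
        have htop : Subgroup.zpowers (π a) = ⊤ := by
          refine Subgroup.eq_top_of_le_card _ ?_
          rw [Nat.card_zpowers, hoa]
          exact hQ
        obtain ⟨i, hi⟩ := (isOfFinOrder_of_finite (π a)).mem_powers_iff_mem_zpowers.2
          (htop ▸ Subgroup.mem_top (π b)⁻¹)
        refine ⟨a ^ i * b, hbnc _ ?_, ?_⟩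
        · rw [comm_mul_right h2, commutatorElement_eq_one_iff_mul_comm.2
            ((Commute.refl a).pow_right i).eq, one_mul]
          exact hab
        · show πh (a ^ i * b) = 1
          rw [map_mul, map_pow]
          show π a ^ i * π b = 1
          rw [show π a ^ i = (π b)⁻¹ from hi, inv_mul_cancel]
  obtain ⟨lam, hlam, hlamZ, hlamβ, hβcomm⟩ := hmk z⁻¹ (Subgroup.zpowers_inv ..) β hβc
  obtain ⟨α, hα⟩ := exists_aut lam β z hzc hzp hβp (fun g => by
    rw [← hβcomm, commutatorElement_def, inv_mul_cancel_right, inv_mul_cancel_right])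
    (hlamZ z hzc) hlamβ
  have hjc := hprime β (Subgroup.center G) (hpow β) hβc
  exact ⟨lam, β, α, hlam, hlamZ,
    fun j hj hjp hmem => hjc j hj hjp (Subgroup.zpowers_le.2 hzc hmem), hlamβ,
    hβp ▸ Subgroup.npow_mem_zpowers _ _, hα⟩

end Cfsg.Agent.AutOrbits
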