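import Cfsg.Agent.Lib.PLocal.FF.Factor
import Mathlib.GroupTheory.SchurZassenhaus

/-!
A prime acting on some subgroup of a `p`-group already acts on a characteristic subgroup of a
Sylow `p`-subgroup, for constrained `p`-soluble groups.
-/

set_option autoImplicit false
set_option linter.style.haveILetI false
open scoped Pointwise

namespace Cfsg.Agent.Automizer

open Cfsg.Agent

universe u v

variable {G : Type u} [Group G] {H : Type v} [Group H]

/-- Some `q`-element normalizes and does not centralize `K`. -/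
def Moves (q : ℕ) (K : Subgroup G) : Prop :=
  ∃ y ∈ Subgroup.normalizer (K : Set G), y ∉ Subgroup.centralizer (K : Set G) ∧ ∃ k, orderOf y = q ^ k

/-- `K` is a characteristic subgroup of `T`. -/
def CharIn (T K : Subgroup G) : Prop :=
  K ≤ T ∧ (K.subgroupOf T).Characteristic

theorem pow_qpart [Finite G] {q : ℕ} (hq : q.Prime) (g : G) :
    ∃ b : ℕ, b.Coprime q ∧ ∃ a, orderOf (g ^ b) = q ^ a := by
  obtain ⟨a, b, hb, hab⟩ := Nat.exists_eq_pow_mul_and_not_dvd (orderOf_pos g).ne' q hq.ne_one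
  refine ⟨b, ((hq.coprime_iff_not_dvd).2 hb).symm, a, ?_⟩
  have hb0 : b ≠ 0 := fun h => hb (h ▸ dvd_zero q)
  rw [orderOf_pow' g hb0, hab, Nat.gcd_mul_left_left, Nat.mul_div_cancel _ (Nat.pos_of_ne_zero hb0)]

theorem moves_of_image [Finite G] {q : ℕ} (hq : q.Prime) (f : G →* H) {K : Subgroup G} {g : G}
    (hg : g ∈ Subgroup.normalizer (K : Set G)) {k : ℕ} (ho : orderOf (f g) = q ^ k)
    (hc : f g ∉ Subgroup.centralizer ((K.map f : Subgroup H) : Set H)) : Moves q K := by
  obtain ⟨b, hb, a, ha⟩ := pow_qpart hq g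
  refine ⟨g ^ b, pow_mem hg b, fun h => hc ?_, a, ha⟩
  have h2 : f (g ^ b) ∈ Subgroup.centralizer ((K.map f : Subgroup H) : Set H) := by
    refine Subgroup.mem_centralizer_iff.2 ?_
    rintro _ ⟨x, hx, rfl⟩
    rw [← map_mul, ← map_mul, Subgroup.mem_centralizer_iff.1 h x hx]
  rw [map_pow] at h2
  have hcop : (orderOf (f g)).Coprime b := by
    rw [ho]; exact (Nat.Coprime.pow_left k hb.symm)
  have hmem : f g ∈ Subgroup.zpowers (f g ^ b) := by
    obtain ⟨m, hm⟩ := exists_pow_eq_self_of_coprime hcop.symm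
    exact (congrArg (fun w => w ∈ Subgroup.zpowers (f g ^ b)) hm).mp (pow_mem (Subgroup.mem_zpowers _) m)
  exact Subgroup.zpowers_le.2 h2 hmem

theorem moves_of_dvd [Finite G] {q : ℕ} [hq : Fact q.Prime] {K : Subgroup G}
    (h : q ∣ ((Subgroup.centralizer (K : Set G)).subgroupOf (Subgroup.normalizer (K : Set G))).index) :
    Moves q K := by
  set N := Subgroup.normalizer (K : Set G)
  set C := (Subgroup.centralizer (K : Set G)).subgroupOf N with hC
  rw [Subgroup.index] at h
  obtain ⟨x, hx⟩ := exists_prime_orderOf_dvd_card' q h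
  obtain ⟨g, rfl⟩ := QuotientGroup.mk'_surjective C x
  obtain ⟨b, hb, a, ha⟩ := pow_qpart hq.out g
  refine ⟨(g ^ b : N), SetLike.coe_mem _, fun hmem => ?_, a, by rw [Subgroup.orderOf_coe, ha]⟩
  have h1 : QuotientGroup.mk' C (g ^ b) = 1 := (QuotientGroup.eq_one_iff _).2 hmem
  rw [map_pow, ← orderOf_dvd_iff_pow_eq_one, hx] at h1
  exact (hq.out.coprime_iff_not_dvd).1 hb.symm h1

theorem dvd_of_moves [Finite G] {q : ℕ} [hq : Fact q.Prime] {K : Subgroup G} (h : Moves q K) :
    q ∣ ((Subgroup.centralizer (K : Set G)).subgroupOf (Subgroup.normalizer (K : Set G))).index := by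
  obtain ⟨y, hy, hyc, k, hk⟩ := h
  set N := Subgroup.normalizer (K : Set G)
  set C := (Subgroup.centralizer (K : Set G)).subgroupOf N with hC
  have hne : QuotientGroup.mk' C (⟨y, hy⟩ : N) ≠ 1 := fun e => hyc ((QuotientGroup.eq_one_iff (N := C) (⟨y, hy⟩ : N)).1 e)
  have hd : orderOf (QuotientGroup.mk' C (⟨y, hy⟩ : N)) ∣ q ^ k := by
    refine (orderOf_map_dvd _ _).trans (dvd_of_eq ?_)
    rw [← hk]
    exact (Subgroup.orderOf_coe (⟨y, hy⟩ : N)).symm
  obtain ⟨j, hj, e⟩ := (Nat.dvd_prime_pow hq.out).1 hd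
  rw [Subgroup.index]
  refine dvd_trans ?_ (orderOf_dvd_natCard (QuotientGroup.mk' C (⟨y, hy⟩ : N)))
  rw [e]
  refine dvd_pow_self q fun h0 => hne ?_
  rwa [h0, pow_zero, orderOf_eq_one_iff] at e

theorem CharIn.normalizer_le {T K : Subgroup G} (h : CharIn T K) :
    Subgroup.normalizer (T : Set G) ≤ Subgroup.normalizer (K : Set G) := by
  haveI := h.2
  set N := Subgroup.normalizer (T : Set G)
  haveI : (T.subgroupOf N).Normal := Subgroup.normal_in_normalizer
  intro g hg
  rw [Subgroup.mem_normalizer_iff]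
  intro x
  have key : ∀ (g : G), g ∈ N → ∀ x ∈ K, g * x * g⁻¹ ∈ K := by
    intro g hg x hx
    have h1 := Subgroup.characteristic_iff_le_comap.1 h.2 (T.normalizerMonoidHom ⟨g, hg⟩)
      (show (⟨x, h.1 hx⟩ : T) ∈ K.subgroupOf T from hx)
    exact h1
  refine ⟨key g hg x, fun hx => ?_⟩
  have := key g⁻¹ (inv_mem hg) _ hx
  simpa [mul_assoc] using this

theorem charIn_comap {T : Subgroup G} {T' : Subgroup H} (f : G →* H) (hmap : T.map f = T')
    (hker : (f.ker.subgroupOf T).Characteristic) {K' : Subgroup H} (hK : CharIn T' K') :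
    CharIn T (T ⊓ K'.comap f) := by
  refine ⟨inf_le_left, ?_⟩
  set ψ : T →* T' := (f.comp T.subtype).codRestrict T' (fun x => hmap ▸ ⟨x, x.2, rfl⟩) with hψ
  have hsurj : Function.Surjective ψ := by
    rintro ⟨y, hy⟩
    rw [← hmap] at hy
    obtain ⟨x, hx, rfl⟩ := hy
    exact ⟨⟨x, hx⟩, rfl⟩
  have hk : ψ.ker = f.ker.subgroupOf T := by
    ext x
    rw [MonoidHom.mem_ker, Subgroup.mem_subgroupOf, MonoidHom.mem_ker]
    exact Subtype.ext_iff
  have heq : (T ⊓ K'.comap f).subgroupOf T = (K'.subgroupOf T').comap ψ := by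
    ext x
    exact ⟨fun h => h.2, fun h => ⟨x.2, h⟩⟩
  rw [heq, Subgroup.characteristic_iff_le_comap]
  intro τ x hx
  have hτ : ψ.ker.map τ.toMonoidHom = ψ.ker := by
    rw [hk]; exact Subgroup.characteristic_iff_map_eq.1 hker τ
  set σ : T' ≃* T' := (QuotientGroup.quotientKerEquivOfSurjective ψ hsurj).symm.trans
    ((QuotientGroup.congr ψ.ker ψ.ker τ hτ).trans (QuotientGroup.quotientKerEquivOfSurjective ψ hsurj))
    with hσ
  have hcom : σ (ψ x) = ψ (τ x) := by
    rw [hσ, MulEquiv.trans_apply, MulEquiv.trans_apply,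
      show (QuotientGroup.quotientKerEquivOfSurjective ψ hsurj).symm (ψ x) = QuotientGroup.mk' ψ.ker x from
        (QuotientGroup.quotientKerEquivOfSurjective ψ hsurj).symm_apply_eq.2 rfl]
    rfl
  have h1 := Subgroup.characteristic_iff_le_comap.1 hK.2 σ (show ψ x ∈ K'.subgroupOf T' from hx)
  show ψ (τ x) ∈ K'.subgroupOf T'
  rw [← hcom]
  exact h1

theorem charIn_omega [Finite G] {p : ℕ} [Fact p.Prime] (T : Subgroup G) :
    CharIn T (Cfsg.omegaOne p (T ⊓ Subgroup.centralizer (T : Set G))) := by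
  refine ⟨(OmegaOne.le p _).trans inf_le_left, ?_⟩
  set Z := Cfsg.omegaOne p ((⊤ : Subgroup T) ⊓ Subgroup.centralizer ((⊤ : Subgroup T) : Set T)) with hZ
  have e : Z.map T.subtype = Cfsg.omegaOne p (T ⊓ Subgroup.centralizer (T : Set G)) := by
    rw [hZ, OmegaOne.map_center _ T.subtype_injective.injOn, ← MonoidHom.range_eq_map,
      Subgroup.range_subtype]
  rw [← e, Subgroup.subgroupOf, Subgroup.comap_map_eq_self_of_injective T.subtype_injective,
    Subgroup.characteristic_iff_map_eq]
  intro σ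
  rw [hZ, OmegaOne.map_center _ σ.injective.injOn, Subgroup.map_top_of_surjective _ σ.surjective]

theorem charIn_thompson {p : ℕ} (T : Subgroup G) :
    CharIn T (Cfsg.thompsonSubgroupOf p T) := by
  refine ⟨Thompson.thompsonSubgroupOf_le p T, ?_⟩
  rw [Cfsg.thompsonSubgroupOf, Subgroup.subgroupOf,
    Subgroup.comap_map_eq_self_of_injective T.subtype_injective]
  exact Thompson.thompsonSubgroup_characteristic p T

theorem pPrimeCore_quotient_core [Finite G] (p : ℕ) [hp : Fact p.Prime] :
    letI := (PBasic.pPrimeCore_characteristic p G)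
    Cfsg.pPrimeCore p (G ⧸ Cfsg.pPrimeCore p G) = ⊥ := by
  haveI := PBasic.pPrimeCore_characteristic p G
  set D := Cfsg.pPrimeCore p G with hD
  haveI := PBasic.pPrimeCore_characteristic p (G ⧸ D)
  set E := (Cfsg.pPrimeCore p (G ⧸ D)).comap (QuotientGroup.mk' D) with hE
  have hle : E ≤ D := by
    refine le_sSup ⟨inferInstance, ?_⟩
    have h := Subgroup.card_mul_index (D.subgroupOf E)
    have hDE : D ≤ E := fun d hd => by
      show QuotientGroup.mk' D d ∈ Cfsg.pPrimeCore p (G ⧸ D)
      rw [show QuotientGroup.mk' D d = 1 from (QuotientGroup.eq_one_iff d).2 hd]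
      exact one_mem _
    rw [Nat.card_congr (Subgroup.subgroupOfEquivOfLe hDE).toEquiv] at h
    rw [← h]
    refine Nat.Coprime.mul_left (PBasic.pPrimeCore_coprime p G) ?_
    have h2 : (D.subgroupOf E).index = Nat.card (Cfsg.pPrimeCore p (G ⧸ D)) := by
      rw [show D.subgroupOf E = ((QuotientGroup.mk' D).subgroupComap (Cfsg.pPrimeCore p (G ⧸ D))).ker by
        ext x
        rw [MonoidHom.mem_ker, Subgroup.mem_subgroupOf, ← QuotientGroup.eq_one_iff (N := D) (x : G)]
        rw [Subtype.ext_iff]; rfl, Subgroup.index_ker, MonoidHom.range_eq_top.2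
        (MonoidHom.subgroupComap_surjective_of_surjective _ _ (QuotientGroup.mk'_surjective D)),
        Subgroup.card_top]
    rw [h2]
    exact PBasic.pPrimeCore_coprime p _
  rw [eq_bot_iff]
  intro x hx
  obtain ⟨g, rfl⟩ := QuotientGroup.mk'_surjective D x
  exact Subgroup.mem_bot.2 ((QuotientGroup.eq_one_iff g).2 (hle hx))

/-- Elements of a `q`-power order reaching outside the centralizer. -/
theorem moves_or_mem [Finite G] {q : ℕ} [hq : Fact q.Prime] (K : Subgroup G)
    (h : q ∣ Nat.card (Subgroup.normalizer (K : Set G))) :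
    Moves q K ∨ q ∣ Nat.card (Subgroup.centralizer (K : Set G)) := by
  rw [← Subgroup.card_mul_index ((Subgroup.centralizer (K : Set G)).subgroupOf
    (Subgroup.normalizer (K : Set G)))] at h
  rcases hq.out.dvd_mul.1 h with h | h
  · right
    rwa [Nat.card_congr (Subgroup.subgroupOfEquivOfLe (Subgroup.centralizer_le_normalizer _)).toEquiv] at h
  · exact Or.inl (moves_of_dvd h)

/-- The Sylow normalizer part, or the centralizer of `Ω₁(Z(T))`, has order divisible by `q`. -/
theorem dvd_factor [Finite G] {p q : ℕ} [hp : Fact p.Prime] [hq : Fact q.Prime] (hsep : Cfsg.IsPSolvable p G)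
    (hO : Cfsg.pPrimeCore p G = ⊥) (hpq : p ≠ q) (h23 : ¬ ((p = 2 ∧ q = 3) ∨ (p = 3 ∧ q = 2)))
    (hqd : q ∣ Nat.card G) (T : Sylow p G) :
    q ∣ Nat.card (Subgroup.normalizer (Cfsg.thompsonSubgroupOf p (T : Subgroup G) : Set G)) ∨
      q ∣ Nat.card (Subgroup.centralizer
        (Cfsg.omegaOne p ((T : Subgroup G) ⊓ Subgroup.centralizer ((T : Subgroup G) : Set G)) : Set G)) := by
  classical
  set W := FF.zClosure p G with hW
  set C := Subgroup.centralizer (W : Set G) with hC
  have hWe := FF.zClosure_ea hsep hO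
  have hOq : Cfsg.pCore p (G ⧸ C) = ⊥ := FF.pCore_quotient_zClosure
  haveI : (Cfsg.thompsonSubgroup p G).Normal := by
    haveI := Thompson.thompsonSubgroup_characteristic p G
    infer_instance
  set N := (Cfsg.thompsonSubgroup p G).map (QuotientGroup.mk' C) with hN
  haveI : N.Normal := Subgroup.Normal.map inferInstance _ (QuotientGroup.mk'_surjective C)
  have S := FF.setting_semi W hsep hWe hOq N
  set Hs := N.map (SemidirectProduct.inr : _ →* FF.Semi W) with hH
  set K := ((Cfsg.pPrimeCore p ↥N).map N.subtype).map (SemidirectProduct.inr : _ →* FF.Semi W) with hK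
  have hHmap : Hs = (Cfsg.thompsonSubgroup p G).map (FF.toSemi W) := by
    rw [hH, hN, Subgroup.map_map]; rfl
  have hgen : Hs = Subgroup.closure {t | FF.Tv p (FF.inV W).range Hs t} := by
    refine le_antisymm ?_ ((Subgroup.closure_le _).2 fun t ht => FF.Tv.mem ht)
    rw [show Hs ≤ _ ↔ (Cfsg.thompsonSubgroup p G).map (FF.toSemi W) ≤
      Subgroup.closure {t | FF.Tv p (FF.inV W).range Hs t} by rw [← hHmap]]
    rw [Cfsg.thompsonSubgroup, sSup_eq_iSup', Subgroup.map_iSup]
    refine iSup_le fun A => ?_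
    have hoff := FF.off_image W hsep hWe hOq N (Thompson.isMaxEAIn_top_iff.2 A.2)
      (Subgroup.map_mono (le_sSup A.2))
    rw [FF.Off.eq_closure S hoff]
    exact Subgroup.closure_mono fun t ht => ht.2
  have hHq : ¬ q ∣ Nat.card Hs := by
    have key : ∀ l : Finset (FF.Semi W), (∀ a ∈ l, FF.Tv p (FF.inV W).range Hs a) →
        ∃ M : Subgroup (FF.Semi W), M ≤ Hs ∧ Hs ≤ Subgroup.normalizer (M : Set _) ∧
          ¬ q ∣ Nat.card M ∧ ∀ a ∈ l, a ∈ M := by
      intro l
      induction l using Finset.induction with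
      | empty =>
        intro _
        exact ⟨⊥, bot_le, Subgroup.le_normalizer_of_normal, by
          rw [Subgroup.card_bot]; exact hq.out.not_dvd_one, by simp⟩
      | @insert a l hal ih =>
        intro hl
        have ha := hl a (Finset.mem_insert_self a l)
        obtain ⟨M, hM, hMn, hMq, hMl⟩ := ih fun b hb => hl b (Finset.mem_insert_of_mem hb)
        have hcn := (FF.factor S hgen ha).2.2.2.2.2
        have hcl := FF.comp_le S ha
        have hcard : ¬ q ∣ Nat.card (FF.comp K a) := by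
          intro hd
          obtain ⟨hc1, -⟩ := FF.card_comp_inf S ha
          have hcore := FF.commutator_core S ha
          obtain ⟨hc2, heq⟩ := FF.card_comp_inf S ha
          rw [← hc1] at hd
          rcases (Nat.Prime.dvd_mul hq.out).1 hd with hd | hd
          · rw [← heq] at hd
            rcases hcore with ⟨rfl, h3⟩ | ⟨rfl, h2, -⟩
            · haveI : Fact (Nat.Prime 3) := ⟨Nat.prime_three⟩
              obtain ⟨k, hk⟩ := IsPGroup.iff_card.1 h3
              rw [hk] at hd
              exact h23 (Or.inl ⟨rfl, (Nat.prime_dvd_prime_iff_eq hq.out Nat.prime_three).1 (hq.out.dvd_of_dvd_pow hd)⟩)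
            · haveI : Fact (Nat.Prime 2) := ⟨Nat.prime_two⟩
              obtain ⟨k, hk⟩ := IsPGroup.iff_card.1 h2
              rw [hk] at hd
              exact h23 (Or.inr ⟨rfl, (Nat.prime_dvd_prime_iff_eq hq.out Nat.prime_two).1 (hq.out.dvd_of_dvd_pow hd)⟩)
          · exact hpq ((Nat.prime_dvd_prime_iff_eq hq.out hp.out).1 hd).symm
        refine ⟨FF.comp K a ⊔ M, sup_le hcl hM, ?_, ?_, ?_⟩
        · intro g hg
          rw [Subgroup.mem_normalizer_iff_map_conj_eq, Subgroup.map_sup,
            Subgroup.mem_normalizer_iff_map_conj_eq.1 (hcn hg), Subgroup.mem_normalizer_iff_map_conj_eq.1 (hMn hg)]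
        · intro hd
          have hnn : FF.comp K a ≤ Subgroup.normalizer (M : Set _) := hcl.trans hMn
          haveI := Subgroup.normal_subgroupOf_of_le_normalizer (sup_le hnn Subgroup.le_normalizer)
          haveI : (M.subgroupOf (FF.comp K a)).Normal := Subgroup.normal_subgroupOf_of_le_normalizer hnn
          rw [← Subgroup.card_mul_index (M.subgroupOf (FF.comp K a ⊔ M)),
            Nat.card_congr (Subgroup.subgroupOfEquivOfLe (le_sup_right : M ≤ FF.comp K a ⊔ M)).toEquiv] at hd
          rcases hq.out.dvd_mul.1 hd with hd | hd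
          · exact hMq hd
          · refine hcard (hd.trans ?_)
            rw [Subgroup.index, Nat.card_congr
              (QuotientGroup.quotientInfEquivProdNormalizerQuotient (FF.comp K a) M hnn).symm.toEquiv]
            exact Subgroup.card_quotient_dvd_card _
        · intro b hb
          rcases Finset.mem_insert.1 hb with rfl | hb
          · exact Subgroup.mem_sup_left (FF.self_mem_comp K b)
          · exact Subgroup.mem_sup_right (hMl b hb)
    obtain ⟨M, hM, -, hMq, hMl⟩ := key (Set.toFinite {t | FF.Tv p (FF.inV W).range Hs t}).toFinset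
      (fun a ha => by simpa using ha)
    have : Hs ≤ M := hgen.le.trans ((Subgroup.closure_le _).2 fun t ht =>
      hMl t ((Set.Finite.mem_toFinset _).2 ht))
    rwa [← le_antisymm hM this]
  set L := Cfsg.thompsonSubgroup p G ⊔ C with hL
  haveI : L.Normal := inferInstance
  obtain ⟨R, hR⟩ := PBasic.exists_sylow_subgroupOf T L
  have hRmap : (R : Subgroup L).map L.subtype = (T : Subgroup G) ⊓ L := by
    rw [hR, Subgroup.subgroupOf_map_subtype]
  have hJT : Cfsg.thompsonSubgroupOf p (T : Subgroup G) ≤ L :=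
    ((le_iSup (fun S : Sylow p G => Cfsg.thompsonSubgroupOf p (S : Subgroup G)) T).trans
      OmegaOne.thompsonSubgroup_eq_iSup.ge).trans le_sup_left
  have hJeq := Thompson.thompsonSubgroupOf_eq_of_le
    (le_inf (Thompson.thompsonSubgroupOf_le p _) hJT) (inf_le_left : (T : Subgroup G) ⊓ L ≤ _)
  have hfr := Sylow.normalizer_sup_eq_top R
  rw [hRmap] at hfr
  have hNJ : Subgroup.normalizer (((T : Subgroup G) ⊓ L : Subgroup G) : Set G) ≤
      Subgroup.normalizer (Cfsg.thompsonSubgroupOf p (T : Subgroup G) : Set G) :=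
    hJeq ▸ Thompson.normalizer_le_normalizer_thompsonSubgroupOf p _
  set NJ := Subgroup.normalizer (Cfsg.thompsonSubgroupOf p (T : Subgroup G) : Set G)
  have htop : NJ ⊔ L = ⊤ := top_le_iff.1 (hfr.ge.trans (sup_le_sup_right hNJ L))
  rw [← Subgroup.card_mul_index L] at hqd
  rcases hq.out.dvd_mul.1 hqd with h | h
  · right
    set ψ : L →* FF.Semi W := (FF.toSemi W).comp L.subtype with hψ
    rw [← Subgroup.card_mul_index ψ.ker, Subgroup.index_ker] at h
    rcases hq.out.dvd_mul.1 h with h | h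
    · have hker : ψ.ker.map L.subtype ≤ C := by
        rintro _ ⟨x, hx, rfl⟩
        exact (FF.toSemi_eq_one W).1 hx
      refine (h.trans ?_).trans (Subgroup.card_dvd_of_le (Subgroup.centralizer_le (le_iSup (fun S : Sylow p G =>
        Cfsg.omegaOne p ((S : Subgroup G) ⊓ Subgroup.centralizer ((S : Subgroup G) : Set G))) T)))
      rw [Nat.card_congr (ψ.ker.equivMapOfInjective L.subtype L.subtype_injective).toEquiv]
      exact Subgroup.card_dvd_of_le hker
    · refine absurd (h.trans (Subgroup.card_dvd_of_le ?_)) hHq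
      rintro _ ⟨⟨x, hx⟩, rfl⟩
      have hle : L ≤ Hs.comap (FF.toSemi W) := by
        refine sup_le ?_ ?_
        · exact fun j hj => hHmap ▸ ⟨j, hj, rfl⟩
        · intro c hc
          rw [Subgroup.mem_comap, (FF.toSemi_eq_one W).2 hc]
          exact one_mem _
      exact hle hx
  · left
    refine h.trans ?_
    rw [← Subgroup.relIndex_top_right L, ← htop, Subgroup.relIndex_sup_right]
    exact Subgroup.index_dvd_card _

/-- The main reduction inside a constrained group. -/
theorem exists_char {p q : ℕ} [hp : Fact p.Prime] [hq : Fact q.Prime] (hpq : p ≠ q)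
    (h23 : ¬ ((p = 2 ∧ q = 3) ∨ (p = 3 ∧ q = 2))) : ∀ (n : ℕ) (X : Type u) [Group X] [Finite X],
    Nat.card X = n → Cfsg.IsPSolvable p X → Cfsg.pPrimeCore p X = ⊥ → q ∣ Nat.card X → ∀ T : Sylow p X,
      ∃ K : Subgroup X, CharIn (T : Subgroup X) K ∧ Moves q K := by
  intro n
  induction n using Nat.strong_induction_on with
  | _ n ih =>
  intro X _ _ hn hsep hO hqd T
  set J := Cfsg.thompsonSubgroupOf p (T : Subgroup X) with hJ
  set Z := Cfsg.omegaOne p ((T : Subgroup X) ⊓ Subgroup.centralizer ((T : Subgroup X) : Set X)) with hZ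
  have hZJ : Z ≤ J := by
    intro z hz
    obtain ⟨A, hA⟩ := Thompson.exists_isMaxEAIn p (T : Subgroup X)
    refine Thompson.le_thompsonSubgroupOf hA (OmegaOne.mem_of_centralizes hA ((OmegaOne.le p _ hz).1) ?_
      (OmegaOne.pow_eq_one (OmegaOne.center_comm _) hz))
    exact Subgroup.centralizer_le (Thompson.thompsonSubgroupOf_le p _) (OmegaOne.le_centralizer_center p _ hz)
  have hC : Moves q J ∨ q ∣ Nat.card (Subgroup.centralizer (Z : Set X)) := by
    rcases dvd_factor hsep hO hpq h23 hqd T with h | h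
    · exact (moves_or_mem J h).imp id fun h => h.trans (Subgroup.card_dvd_of_le (Subgroup.centralizer_le hZJ))
    · exact Or.inr h
  rcases hC with h | hqC
  · exact ⟨J, charIn_thompson _, h⟩
  set C := Subgroup.centralizer (Z : Set X) with hCdef
  have hTC : (T : Subgroup X) ≤ C := Subgroup.le_centralizer_iff.1 (OmegaOne.le_centralizer_center p _)
  have hQC : Cfsg.pCore p X ≤ C := (PBasic.pCore_le_sylow T).trans hTC
  have hZT : Z ≤ (T : Subgroup X) := (charIn_omega (p := p) (T : Subgroup X)).1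
  set Z' : Subgroup C := Z.subgroupOf C with hZ'
  have hZc : Z' ≤ Subgroup.center C := fun z hz => Subgroup.mem_center_iff.2 fun c =>
    Subtype.ext (Subgroup.mem_centralizer_iff.1 c.2 z hz).symm
  haveI : Z'.Normal := ⟨fun z hz g => by
    rwa [Subgroup.mem_center_iff.1 (hZc hz) g, mul_inv_cancel_right]⟩
  have hZne : Z ≠ ⊥ := by
    have hXnt : Nontrivial X := Finite.one_lt_card_iff_nontrivial.1
      (hq.out.one_lt.trans_le (Nat.le_of_dvd Nat.card_pos hqd))
    have hTne : (T : Subgroup X) ≠ ⊥ := by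
      intro hb
      have h1 : (Nat.card X).Coprime p := by
        refine ((hp.out.coprime_iff_not_dvd).2 fun hd => ?_).symm
        exact T.ne_bot_of_dvd_card hd hb
      have : (⊤ : Subgroup X) ≤ Cfsg.pPrimeCore p X := le_sSup ⟨inferInstance, by rwa [Subgroup.card_top]⟩
      rw [hO] at this
      obtain ⟨x, hx⟩ := exists_ne (1 : X)
      exact hx (Subgroup.mem_bot.1 (this (Subgroup.mem_top x)))
    haveI : Nontrivial (T : Subgroup X) := (Subgroup.nontrivial_iff_ne_bot _).2 hTne
    have hc := IsPGroup.center_nontrivial T.isPGroup'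
    obtain ⟨k, hk⟩ := IsPGroup.iff_card.1 (T.isPGroup'.to_subgroup (Subgroup.center (T : Subgroup X)))
    have hk0 : k ≠ 0 := fun h0 => by
      rw [h0, pow_zero] at hk
      exact absurd hk (Finite.one_lt_card_iff_nontrivial.2 hc).ne'
    obtain ⟨z, hz⟩ := exists_prime_orderOf_dvd_card' (G := Subgroup.center (T : Subgroup X)) p
      (hk ▸ dvd_pow_self p hk0)
    intro hb
    have hzZ : ((z : (T : Subgroup X)) : X) ∈ Z := OmegaOne.mem
      ⟨(z : (T : Subgroup X)).2, Subgroup.mem_centralizer_iff.2 fun t ht =>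
        congrArg Subtype.val (Subgroup.mem_center_iff.1 z.2 ⟨t, ht⟩)⟩
      (congrArg (fun w : Subgroup.center (T : Subgroup X) => ((w : (T : Subgroup X)) : X))
        (orderOf_dvd_iff_pow_eq_one.1 (dvd_of_eq hz)))
    rw [hb, Subgroup.mem_bot] at hzZ
    rw [← Subgroup.orderOf_coe, ← Subgroup.orderOf_coe, hzZ, orderOf_one] at hz
    exact hp.out.one_lt.ne hz
  have hO' : Cfsg.pPrimeCore p (C ⧸ Z') = ⊥ := by
    haveI := PBasic.pPrimeCore_characteristic p (C ⧸ Z')
    set f := QuotientGroup.mk' Z'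
    set E := (Cfsg.pPrimeCore p (C ⧸ Z')).comap f with hE
    have hZE : Z' ≤ E := fun z hz => by
      show f z ∈ Cfsg.pPrimeCore p (C ⧸ Z')
      rw [show f z = 1 from (QuotientGroup.eq_one_iff z).2 hz]
      exact one_mem _
    have hcardZ : Nat.card Z' = Nat.card Z :=
      Nat.card_congr (Subgroup.subgroupOfEquivOfLe (hZT.trans hTC)).toEquiv
    obtain ⟨i, hi⟩ := IsPGroup.iff_card.1 (T.isPGroup'.to_le hZT)
    have hidx : (Z'.subgroupOf E).index = Nat.card (Cfsg.pPrimeCore p (C ⧸ Z')) := by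
      rw [show Z'.subgroupOf E = (f.subgroupComap (Cfsg.pPrimeCore p (C ⧸ Z'))).ker by
        ext x
        rw [MonoidHom.mem_ker, Subgroup.mem_subgroupOf, ← QuotientGroup.eq_one_iff (N := Z') (x : C)]
        rw [Subtype.ext_iff]; rfl, Subgroup.index_ker, MonoidHom.range_eq_top.2
        (MonoidHom.subgroupComap_surjective_of_surjective _ _ (QuotientGroup.mk'_surjective Z')),
        Subgroup.card_top]
    haveI : (Z'.subgroupOf E).Normal := inferInstance
    have hcop : (Nat.card (Z'.subgroupOf E)).Coprime (Z'.subgroupOf E).index := by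
      rw [Nat.card_congr (Subgroup.subgroupOfEquivOfLe hZE).toEquiv, hcardZ, hi, hidx]
      exact Nat.Coprime.pow_left i (PBasic.pPrimeCore_coprime p (C ⧸ Z')).symm
    obtain ⟨D, hD⟩ := Subgroup.exists_right_complement'_of_coprime hcop
    haveI : D.Normal := by
      refine ⟨fun d hd g => ?_⟩
      obtain ⟨⟨⟨z, hz⟩, ⟨e, he⟩⟩, hze⟩ := hD.2 g
      simp only at hze
      have hzc : ∀ w : E, z * w = w * z := fun w =>
        Subtype.ext (Subgroup.mem_center_iff.1 (hZc hz) (w : C)).symm
      rw [← hze, show z * e * d * (z * e)⁻¹ = z * (e * d * e⁻¹) * z⁻¹ by group, hzc, mul_inv_cancel_right]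
      exact mul_mem (mul_mem he hd) (inv_mem he)
    have hDcard : (Nat.card D).Coprime p := by
      rw [show Nat.card D = (Z'.subgroupOf E).index from (hD.symm.index_eq_card).symm, hidx]
      exact PBasic.pPrimeCore_coprime p _
    haveI := PBasic.pPrimeCore_characteristic p E
    have hDle : D ≤ Cfsg.pPrimeCore p E := le_sSup ⟨inferInstance, hDcard⟩
    set M := ((Cfsg.pPrimeCore p E).map E.subtype).map C.subtype with hM
    have hMn : ((Cfsg.pPrimeCore p E).map E.subtype).Normal := inferInstance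
    have hMcop : (Nat.card M).Coprime p := by
      rw [hM, Subgroup.card_map_of_injective C.subtype_injective,
        Subgroup.card_map_of_injective E.subtype_injective]
      exact PBasic.pPrimeCore_coprime p E
    have hMbot : M = ⊥ := by
      have hMc : M ≤ Subgroup.centralizer (Cfsg.pCore p X : Set X) := by
        rintro _ ⟨m, hm, rfl⟩
        refine Subgroup.mem_centralizer_iff.2 fun x hx => ?_
        have hxC : x ∈ C := hQC hx
        haveI : (Cfsg.pCore p X).Normal := FittingCores.pCore_normal p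
        have h1 : ((m : C) : X) * x * ((m : C) : X)⁻¹ * x⁻¹ ∈ Cfsg.pCore p X :=
          mul_mem ((FittingCores.pCore_normal p).conj_mem x hx _) (inv_mem hx)
        have h2 : ((m : C) : X) * x * ((m : C) : X)⁻¹ * x⁻¹ ∈ M := by
          refine ⟨m * (⟨x, hxC⟩ * m⁻¹ * (⟨x, hxC⟩ : C)⁻¹), mul_mem hm (hMn.conj_mem _ (inv_mem hm) _), ?_⟩
          simp [mul_assoc]
        have h3 := PBasic.eq_one_of_isPGroup_of_coprime (PBasic.pCore_isPGroup p X) h1
          ((Subgroup.orderOf_dvd_natCard _ h2).trans dvd_rfl |> fun hd => hMcop.coprime_dvd_left hd)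
        rw [mul_inv_eq_one, mul_inv_eq_iff_eq_mul] at h3
        exact h3.symm
      have hMp : IsPGroup p M :=
        (PBasic.pCore_isPGroup p X).to_le (hMc.trans (PSolvable.centralizer_pCore_le hsep hO))
      obtain ⟨j, hj⟩ := IsPGroup.iff_card.1 hMp
      rw [← Subgroup.card_eq_one, hj]
      rcases j with _ | j
      · exact pow_zero _
      · rw [hj] at hMcop
        exact absurd hMcop (fun hc => hp.out.one_lt.ne' (Nat.dvd_one.1
          (hc ▸ Nat.dvd_gcd (dvd_pow_self p j.succ_ne_zero) dvd_rfl)))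
    have hD1 : D = ⊥ := le_bot_iff.1 (hDle.trans (le_of_eq (by
      rw [hM, Subgroup.map_eq_bot_iff_of_injective _ C.subtype_injective,
        Subgroup.map_eq_bot_iff_of_injective _ E.subtype_injective] at hMbot
      exact hMbot)))
    have h1 : Nat.card (Cfsg.pPrimeCore p (C ⧸ Z')) = 1 := by
      rw [← hidx, hD.symm.index_eq_card, hD1, Subgroup.card_bot]
    exact Subgroup.card_eq_one.1 h1
  have hcard : Nat.card (C ⧸ Z') < n := by
    have h1 := Subgroup.card_eq_card_quotient_mul_card_subgroup Z'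
    have h2 : 1 < Nat.card Z' := by
      rw [Nat.card_congr (Subgroup.subgroupOfEquivOfLe (hZT.trans hTC)).toEquiv]
      exact (Subgroup.one_lt_card_iff_ne_bot _).2 hZne
    have h3 := Subgroup.card_le_card_group C
    have h4 : Nat.card (C ⧸ Z') * 1 < Nat.card (C ⧸ Z') * Nat.card Z' :=
      Nat.mul_lt_mul_of_pos_left h2 Nat.card_pos
    omega
  have hqQ : q ∣ Nat.card (C ⧸ Z') := by
    rw [Subgroup.card_eq_card_quotient_mul_card_subgroup Z'] at hqC
    refine (hq.out.dvd_mul.1 hqC).resolve_right fun h => ?_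
    rw [Nat.card_congr (Subgroup.subgroupOfEquivOfLe (hZT.trans hTC)).toEquiv] at h
    obtain ⟨i, hi⟩ := IsPGroup.iff_card.1 (T.isPGroup'.to_le hZT)
    rw [hi] at h
    exact hpq ((Nat.prime_dvd_prime_iff_eq hq.out hp.out).1 (hq.out.dvd_of_dvd_pow h)).symm
  set f := QuotientGroup.mk' Z' with hf
  obtain ⟨K', hK', y, hy, hyc, k, hk⟩ := ih _ hcard (C ⧸ Z') rfl (PSolvable.quotient _ (PSolvable.subgroup C hsep))
    hO' hqQ ((T.subtype hTC).mapSurjective (QuotientGroup.mk'_surjective Z'))
  rw [Sylow.coe_mapSurjective, Sylow.coe_subtype] at hK'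
  set TC := (T : Subgroup X).subgroupOf C with hTCdef
  have hkerchar : (f.ker.subgroupOf TC).Characteristic := by
    have hch := (charIn_omega (p := p) (T : Subgroup X)).2
    rw [Subgroup.characteristic_iff_le_comap] at hch ⊢
    intro φ x hx
    rw [Subgroup.mem_comap, Subgroup.mem_subgroupOf, QuotientGroup.ker_mk', Subgroup.mem_subgroupOf]
    rw [Subgroup.mem_subgroupOf, QuotientGroup.ker_mk', Subgroup.mem_subgroupOf] at hx
    set e := Subgroup.subgroupOfEquivOfLe hTC
    have h1 := hch (e.symm.trans (φ.trans e)) (show e x ∈ Z.subgroupOf (T : Subgroup X) from hx)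
    rw [Subgroup.mem_comap] at h1
    simp [e, Subgroup.mem_subgroupOf] at h1
    exact h1
  have hKc := charIn_comap f rfl hkerchar hK'
  have hZ'T : Z' ≤ TC := fun z hz => hZT hz
  have hK'T : K' ≤ TC.map f := hK'.1
  set K₁ := TC ⊓ K'.comap f with hK₁
  have hK₁map : K₁.map f = K' := by
    refine le_antisymm ?_ fun w hw => ?_
    · rintro _ ⟨x, hx, rfl⟩; exact hx.2
    · obtain ⟨x, hx, rfl⟩ := hK'T hw
      exact ⟨x, ⟨hx, hw⟩, rfl⟩
  have hK₁eq : K₁ = K'.comap f := le_antisymm inf_le_right fun x hx => by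
    refine ⟨?_, hx⟩
    obtain ⟨t, ht, e⟩ := hK'T hx
    simp only [hf, QuotientGroup.mk'_apply] at e
    rw [QuotientGroup.eq] at e
    rw [show x = t * (t⁻¹ * x) by group]
    exact mul_mem ht (hZ'T e)
  obtain ⟨g, rfl⟩ := QuotientGroup.mk'_surjective Z' y
  have hg : g ∈ Subgroup.normalizer (K₁ : Set C) := by
    rw [hK₁eq, Subgroup.mem_normalizer_iff]
    intro w
    rw [Subgroup.mem_comap, Subgroup.mem_comap, map_mul, map_mul, map_inv]
    exact Subgroup.mem_normalizer_iff.1 hy _
  obtain ⟨y₁, hy₁, hy₁c, k₁, hk₁⟩ := moves_of_image hq.out f hg hk (by rwa [hK₁map])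
  refine ⟨K₁.map C.subtype, ⟨?_, ?_⟩, (y₁ : X), ?_, fun h => hy₁c ?_, k₁, by rw [Subgroup.orderOf_coe, hk₁]⟩
  · rintro _ ⟨x, hx, rfl⟩; exact hx.1
  · have h := hKc.2
    rw [Subgroup.characteristic_iff_le_comap] at h ⊢
    intro φ x hx
    obtain ⟨w, hw, hwx⟩ := hx
    set e := Subgroup.subgroupOfEquivOfLe hTC
    have hwe : e.symm x = ⟨w, hw.1⟩ := e.symm_apply_eq.2 (Subtype.ext hwx.symm)
    have h1 := h (e.trans (φ.trans e.symm)) (show (⟨w, hw.1⟩ : TC) ∈ K₁.subgroupOf TC from hw)
    rw [Subgroup.mem_comap] at h1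
    refine ⟨(e.symm (φ x) : TC), ?_, rfl⟩
    have h2 : (e.trans (φ.trans e.symm)).toMonoidHom (⟨w, hw.1⟩ : TC) = e.symm (φ x) := by
      show e.symm (φ (e ⟨w, hw.1⟩)) = _
      rw [← hwe, MulEquiv.apply_symm_apply]
    rw [h2] at h1
    exact h1
  · rw [Subgroup.mem_normalizer_iff]
    intro w
    constructor
    · rintro ⟨v, hv, rfl⟩
      exact ⟨y₁ * v * y₁⁻¹, (Subgroup.mem_normalizer_iff.1 hy₁ v).1 hv, rfl⟩
    · rintro ⟨v, hv, e⟩
      refine ⟨y₁⁻¹ * v * y₁, (Subgroup.mem_normalizer_iff.1 hy₁ _).2 (by simpa [mul_assoc] using hv), ?_⟩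
      have e' : (v : X) = y₁ * w * (y₁ : X)⁻¹ := e
      show (y₁ : X)⁻¹ * v * y₁ = w
      rw [e']; group
  · exact Subgroup.mem_centralizer_iff.2 fun v hv =>
      Subtype.ext (Subgroup.mem_centralizer_iff.1 h v ⟨v, hv, rfl⟩)

end Cfsg.Agent.Automizer
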