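import Cfsg.Agent.Lib.FGStruct.SingularClasses

/-!
The prime graph on class sizes: far apart primes disconnect it.
-/

set_option autoImplicit false
set_option linter.style.haveILetI false
open scoped Pointwise

namespace Cfsg.Agent.ClassSizeGraph

open Cfsg.Agent.SingularClasses

variable {G : Type*} [Group G]

/-- Adjacency of primes. -/
def Adj (G : Type*) [Group G] (r s : ℕ) : Prop := ∃ g : G, r * s ∣ cl g

/-- Equal or adjacent. -/
def Near (G : Type*) [Group G] (r s : ℕ) : Prop := r = s ∨ Adj G r s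

/-- No class size meets the neighbourhoods of both primes. -/
def Far (G : Type*) [Group G] (r s : ℕ) : Prop :=
  ∀ (m : G) (t t' : ℕ), t.Prime → t'.Prime → t ∣ cl m → t' ∣ cl m → Near G r t → Near G s t' → False

theorem near_of_dvd {r t : ℕ} {g : G} (hr : r.Prime) (ht : t.Prime) (h1 : r ∣ cl g) (h2 : t ∣ cl g) :
    Near G r t := by
  by_cases e : r = t
  · exact Or.inl e
  · exact Or.inr ⟨g, ((Nat.coprime_primes hr ht).2 e).mul_dvd_of_dvd_of_dvd h1 h2⟩

theorem near_refl (r : ℕ) : Near G r r := Or.inl rfl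

theorem Far.symm {r s : ℕ} (h : Far G r s) : Far G s r :=
  fun m t t' ht ht' h1 h2 a b => h m t' t ht' ht h2 h1 b a

variable [Finite G]

theorem cl_one : cl (1 : G) = 1 :=
  Subgroup.index_eq_one.2 (eq_top_iff.2 fun c _ => mem_cent.2 (by simp))

theorem cl_zpow_dvd {x u : G} (h : u ∈ Subgroup.zpowers x) : cl u ∣ cl x :=
  cl_dvd fun c hc => by
    obtain ⟨j, rfl⟩ := h
    exact ((show Commute c x from hc).zpow_right j).eq

/-- A non-central part of prime power order. -/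
theorem exists_primary (x : G) (hx : cl x ≠ 1) :
    ∃ (x' : G) (p k : ℕ), p.Prime ∧ orderOf x' = p ^ k ∧ cl x' ≠ 1 ∧ cl x' ∣ cl x := by
  induction hn : orderOf x using Nat.strong_induction_on generalizing x with
  | _ n ih =>
    subst hn
    have hne : orderOf x ≠ 1 := fun e => hx (by rw [orderOf_eq_one_iff.1 e, cl_one])
    haveI : Fact (orderOf x).minFac.Prime := ⟨Nat.minFac_prime hne⟩
    obtain ⟨u, v, huv, hu, hv, ⟨k, hk⟩, hcv⟩ := PBasic.exists_pPart_mul (p := (orderOf x).minFac) x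
    by_cases hcu : cl u = 1
    · have huc : ∀ c : G, Commute c u := fun c =>
        mem_cent.1 ((Subgroup.index_eq_one.1 hcu).ge (Subgroup.mem_top c))
      have hvx : cl v ∣ cl x := cl_zpow_dvd hv
      have hxv : cl x ∣ cl v := cl_dvd fun c hc => huv ▸ ((huc c).mul_right (show Commute c v from hc)).eq
      have hdvd : orderOf v ∣ orderOf x := orderOf_dvd_of_mem_zpowers hv
      have hlt : orderOf v < orderOf x := lt_of_le_of_ne (Nat.le_of_dvd (orderOf_pos x) hdvd) fun e => by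
        rw [e, Nat.coprime_comm, (Fact.out : (orderOf x).minFac.Prime).coprime_iff_not_dvd] at hcv
        exact hcv (Nat.minFac_dvd _)
      obtain ⟨x', p, j, hp, hj, h1, h2⟩ := ih _ hlt v (fun e => hx (Nat.eq_one_of_dvd_one (e ▸ hxv))) rfl
      exact ⟨x', p, j, hp, hj, h1, h2.trans hvx⟩
    · exact ⟨u, _, k, Fact.out, hk, hcu, cl_zpow_dvd hu⟩

/-- The core of the argument. -/
theorem core (hconn : ∀ S : Set ℕ, (∃ p ∈ S, (p.Prime ∧ ∃ g : G, p ∣ cl g)) →
      (∃ q ∉ S, (q.Prime ∧ ∃ g : G, q ∣ cl g)) →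
      ∃ p q : ℕ, (p.Prime ∧ ∃ g : G, p ∣ cl g) ∧ (q.Prime ∧ ∃ g : G, q ∣ cl g) ∧ p ∈ S ∧ q ∉ S ∧
        (∃ g : G, p * q ∣ cl g))
    {r s : ℕ} (hr : r.Prime) (hs : s.Prime) (hfar : Far G r s) {x0 y0 : G} (hx0 : r ∣ cl x0) (hy0 : s ∣ cl y0)
    {p : ℕ} [hp : Fact p.Prime] {z : G} {k0 : ℕ} (hzk : orderOf z = p ^ k0) (hzb : cl z ≠ 1)
    (hzx : cl z ∣ cl x0) (hzG : ∀ g : G, Commute z (g * z * g⁻¹)) (hpy : p ∣ cl y0) : False := by
  have hnr : ∀ t, t.Prime → t ∣ cl z → Near G r t := fun t ht h => near_of_dvd hr ht hx0 (h.trans hzx)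
  have hsp : Near G s p := near_of_dvd hs hp.out hy0 hpy
  have hbad : ∀ m : G, p ∣ cl m → ∀ t, t.Prime → t ∣ cl m → Near G r t → False := fun m hm t ht h hn =>
    hfar m t p ht hp.out h hm hn hsp
  have hpa : ¬ p ∣ cl z := fun h => hbad z h p hp.out h (hnr p hp.out h)
  have hstar : ∀ x : G, p ∣ orderOf x → ¬ Nat.Coprime (cl x) (cl z) → ¬ p ∣ cl x := by
    intro x _ h hpx
    obtain ⟨t, ht, h1, h2⟩ := Nat.Prime.not_coprime_iff_dvd.1 h
    exact hbad x hpx t ht h1 (hnr t ht h2)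
  have hz1 : z ≠ 1 := fun e => hzb (by rw [e, cl_one])
  have hpz : p ∣ orderOf z := by
    rw [hzk]
    refine dvd_pow_self p fun e0 => hz1 ?_
    rwa [e0, pow_zero, orderOf_eq_one_iff] at hzk
  obtain ⟨P, hPz⟩ := exists_sylow_le hpa
  have hzg : IsPGroup p (Subgroup.zpowers z) := IsPGroup.of_card (n := k0) (by rw [Nat.card_zpowers, hzk])
  have hzn : (P : Subgroup G) ≤ Subgroup.normalizer ((Subgroup.zpowers z : Subgroup G) : Set G) := by
    refine le_trans hPz fun c hc => Subgroup.mem_normalizer_fintype fun w hw => ?_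
    obtain ⟨j, rfl⟩ := hw
    show c * z ^ j * c⁻¹ ∈ _
    rw [((show Commute c z from mem_cent.1 hc).zpow_right j).eq, mul_inv_cancel_right]
    exact zpow_mem (Subgroup.mem_zpowers z) j
  have hzP : z ∈ (P : Subgroup G) :=
    (P.is_maximal' (P.2.to_sup_of_normal_right' hzg hzn) le_sup_left).le
      (Subgroup.mem_sup_right (Subgroup.mem_zpowers z))
  obtain ⟨hPn, hab, hCeq⟩ := sylow_structure P hzP (fun u hu => mem_cent.1 (hPz hu)) hzk hpz hzb hzG hstar
  haveI := hPn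
  set C := Subgroup.centralizer ((P : Subgroup G) : Set G) with hC
  have hCz : C = Subgroup.centralizer ({z} : Set G) :=
    (sup_eq_right.2 fun u hu => Subgroup.mem_centralizer_iff.2 fun v hv => hab u hu v hv).symm.trans hCeq.symm
  have hCidx : C.index = cl z := by rw [hCz]; rfl
  haveI hCn : C.Normal := ⟨fun c hc g => Subgroup.mem_centralizer_iff.2 fun u hu => by
    have e := Subgroup.mem_centralizer_iff.1 hc _ (hPn.conj_mem u hu g⁻¹)
    rw [inv_inv] at e
    calc u * (g * c * g⁻¹) = g * (g⁻¹ * u * g * c) * g⁻¹ := by group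
      _ = g * (c * (g⁻¹ * u * g)) * g⁻¹ := by rw [e]
      _ = g * c * g⁻¹ * u := by group⟩
  have hPu : ∀ R : Sylow p G, (R : Subgroup G) = P := fun R => by
    obtain ⟨g, hg⟩ := MulAction.exists_smul_eq G P R
    rw [← hg, Sylow.coe_subgroup_smul]
    exact (inferInstance : (P : Subgroup G).Normal).conj_smul_eq_self g
  have hpu : ∀ u : G, (∃ k, orderOf u = p ^ k) → u ∈ (P : Subgroup G) := by
    intro u ⟨k, hk⟩
    obtain ⟨R, hR⟩ := (IsPGroup.of_card (G := Subgroup.zpowers u) (n := k)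
      (by rw [Nat.card_zpowers, hk])).exists_le_sylow
    exact hPu R ▸ hR (Subgroup.mem_zpowers u)
  have hiff : ∀ g : G, g ∈ C ↔ ¬ p ∣ cl g := by
    intro g
    constructor
    · intro hg hd
      exact P.not_dvd_index (hd.trans (Subgroup.index_dvd_of_le fun u hu =>
        mem_cent.2 (Subgroup.mem_centralizer_iff.1 hg u hu)))
    · intro hg
      obtain ⟨R, hR⟩ := exists_sylow_le hg
      rw [hPu R] at hR
      exact Subgroup.mem_centralizer_iff.2 fun u hu => mem_cent.1 (hR hu)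
  have hlift : ∀ m ∈ C, ∀ w, w ∣ cl m → ∃ n : G, w ∣ cl n ∧ cl z ∣ cl n := by
    intro m hm w hw
    obtain ⟨u, v, huv, hu, hv, hku, hcv⟩ := PBasic.exists_pPart_mul (p := p) m
    have hvC : v ∈ C := Subgroup.zpowers_le.2 hm hv
    have huP : u ∈ (P : Subgroup G) := hpu u hku
    have hzv : Commute z v := (mem_cent.1 (hCz.le hvC)).symm
    have hcop : Nat.Coprime (orderOf v) (orderOf z) := hzk ▸ hcv.pow_right k0
    have hcomm : ∀ c : G, c * (z * v) = z * v * c → c * z = z * c ∧ c * v = v * c := by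
      intro c hcc
      obtain ⟨i, hi⟩ := exists_pow_eq_self_of_coprime (x := z) (n := orderOf v) hcop
      have h1 : Commute c ((z * v) ^ orderOf v) := (show Commute c (z * v) from hcc).pow_right _
      rw [hzv.mul_pow, pow_orderOf_eq_one, mul_one] at h1
      have h2 := h1.pow_right i
      rw [hi] at h2
      refine ⟨h2.eq, ?_⟩
      have h3 : Commute c (z⁻¹ * (z * v)) := h2.inv_right.mul_right (show Commute c (z * v) from hcc)
      rwa [inv_mul_cancel_left] at h3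
    refine ⟨z * v, hw.trans (cl_dvd fun c hcc => ?_), cl_dvd fun c hcc => (hcomm c hcc).1⟩
    obtain ⟨h1, h2⟩ := hcomm c hcc
    have hcC : c ∈ C := hCz.ge (mem_cent.2 h1)
    have hcu : Commute c u := (Subgroup.mem_centralizer_iff.1 hcC u huP).symm
    exact huv ▸ (hcu.mul_right (show Commute c v from h2)).eq
  have hzC : z ∈ C := hCz.ge (mem_cent.2 rfl)
  have hx0C : x0 ∈ C := (hiff x0).2 fun h => hbad x0 h r hr hx0 (near_refl r)
  by_cases hra : r ∣ cl z
  · -- the neighbours of `r` are all the classes inside `C`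
    set S : Set ℕ := {t | ∃ m ∈ C, t ∣ cl m} with hS
    have hSr : ∀ t, t.Prime → t ∈ S → Near G r t := by
      rintro t ht ⟨m, hm, htm⟩
      obtain ⟨n, hn1, hn2⟩ := hlift m hm t htm
      exact near_of_dvd hr ht (hra.trans hn2) hn1
    have hsS : s ∉ S := fun h => hbad y0 hpy s hs hy0 (hSr s hs h)
    obtain ⟨a, b, ⟨ha, -⟩, -, haS, hbS, e, he⟩ :=
      hconn S ⟨r, ⟨z, hzC, hra⟩, hr, z, hra⟩ ⟨s, hsS, hs, y0, hy0⟩
    have heC : e ∉ C := fun h => hbS ⟨e, h, (dvd_mul_left b a).trans he⟩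
    have hpe : p ∣ cl e := not_not.1 fun h => heC ((hiff e).2 h)
    exact hbad e hpe a ha ((dvd_mul_right a b).trans he) (hSr a ha haS)
  have hsep : ∀ w, w.Prime → w ∣ cl y0 → ∀ m ∈ C, ¬ w ∣ cl m := by
    intro w hw hwy m hm hwm
    obtain ⟨n, hn1, hn2⟩ := hlift m hm w hwm
    exact hfar n _ w (Nat.minFac_prime hzb) hw ((Nat.minFac_dvd _).trans hn2) hn1
      (hnr _ (Nat.minFac_prime hzb) (Nat.minFac_dvd _)) (near_of_dvd hs hw hy0 hwy)
  -- `C` is generated by its centre and the centraliser of `y0`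
  set E := (Subgroup.centralizer ({y0} : Set G)).subgroupOf C ⊔ Subgroup.center C with hE
  have hcent : ∀ m : C, (Subgroup.centralizer ({m} : Set C)).index ∣ cl (m : G) := by
    intro m
    have e : Subgroup.centralizer ({m} : Set C) = (Subgroup.centralizer ({(m : G)} : Set G)).subgroupOf C := by
      ext c
      rw [Subgroup.mem_subgroupOf, mem_cent, mem_cent]
      exact Subtype.ext_iff
    rw [e]
    show (Subgroup.centralizer ({(m : G)} : Set G)).relIndex C ∣ _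
    rw [PBasic.relIndex_eq_relIndex_sup]
    exact Subgroup.relIndex_dvd_index_of_le le_sup_right
  have hEtop : E = ⊤ := by
    refine Subgroup.eq_top_of_card_eq _ (Nat.dvd_antisymm (Subgroup.card_subgroup_dvd_card _)
      ((Nat.dvd_iff_prime_pow_dvd_dvd _ _).2 fun w j hw hd => ?_))
    haveI : Fact w.Prime := ⟨hw⟩
    have hsyl : ∀ R : Sylow w C, (R : Subgroup C) ≤ E → w ^ j ∣ Nat.card E := fun R hR =>
      (R.pow_dvd_card_of_pow_dvd_card hd).trans (Subgroup.card_dvd_of_le hR)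
    by_cases hwy : w ∣ cl y0
    · obtain ⟨R⟩ := (inferInstance : Nonempty (Sylow w C))
      refine hsyl R (le_trans (fun c hc => Subgroup.mem_center_iff.2 fun m => ?_) le_sup_right)
      have htop : Subgroup.centralizer ((R : Subgroup C) : Set C) = ⊤ := by
        refine Counting.eq_top_of_conj_cover _ fun m => ?_
        have hnd : ¬ w ∣ (Subgroup.centralizer ({m} : Set C)).index := fun h =>
          hsep w hw hwy m m.2 (h.trans (hcent m))
        obtain ⟨R', hR'⟩ := exists_sylow_le hnd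
        obtain ⟨g, hg⟩ := MulAction.exists_smul_eq C R R'
        refine ⟨g, Subgroup.mem_centralizer_iff.2 fun v hv => ?_⟩
        have hv' : g * v * g⁻¹ ∈ (R' : Subgroup C) := by
          rw [← hg, Sylow.coe_subgroup_smul]
          exact Subgroup.smul_mem_pointwise_smul _ _ _ hv
        have e := mem_cent.1 (hR' hv')
        calc v * (g⁻¹ * m * g) = g⁻¹ * (g * v * g⁻¹ * m) * g := by group
          _ = g⁻¹ * (m * (g * v * g⁻¹)) * g := by rw [e]
          _ = g⁻¹ * m * g * v := by group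
      exact (Subgroup.mem_centralizer_iff.1 (htop.ge (Subgroup.mem_top m)) c hc).symm
    · have hnd : ¬ w ∣ ((Subgroup.centralizer ({y0} : Set G)).subgroupOf C).index := fun h => hwy (h.trans (by
        show (Subgroup.centralizer ({y0} : Set G)).relIndex C ∣ _
        rw [PBasic.relIndex_eq_relIndex_sup]
        exact Subgroup.relIndex_dvd_index_of_le le_sup_right))
      obtain ⟨R, hR⟩ := exists_sylow_le hnd
      exact hsyl R (hR.trans le_sup_left)
  have hdec : ∀ c : C, ∃ d v : G, d * y0 = y0 * d ∧ (∀ m ∈ C, m * v = v * m) ∧ (c : G) = d * v ∧ d ∈ C := by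
    intro c
    obtain ⟨d, hd, v, hv, rfl⟩ := Subgroup.mem_sup_of_normal_right.1 (hEtop.ge (Subgroup.mem_top c) : c ∈ E)
    exact ⟨d, v, mem_cent.1 (Subgroup.mem_subgroupOf.1 hd),
      fun m hm => congrArg Subtype.val (Subgroup.mem_center_iff.1 hv ⟨m, hm⟩), rfl, d.2⟩
  haveI : Fact r.Prime := ⟨hr⟩
  have hRC : ∀ R : Sylow r G, (R : Subgroup G) ≤ C := by
    intro R
    obtain ⟨R1, hR1⟩ := exists_sylow_le (H := C) (p := r) (hCidx ▸ hra)
    obtain ⟨g, hg⟩ := MulAction.exists_smul_eq G R1 R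
    rw [← hg, Sylow.coe_subgroup_smul, ← (inferInstance : C.Normal).conj_smul_eq_self g]
    exact Subgroup.pointwise_smul_le_pointwise_smul_iff.2 hR1
  obtain ⟨R0, hR0⟩ := exists_sylow_le (H := Subgroup.centralizer ({y0} : Set G)) (p := r)
    fun h => hbad y0 hpy r hr h (near_refl r)
  have hall : ∀ (R : Sylow r G) (ρ : G), ρ ∈ (R : Subgroup G) → ρ * y0 = y0 * ρ := by
    intro R ρ hρ
    obtain ⟨c, hcC, hc⟩ := conj_mem_of_sylow R (hRC R) (hRC R0)
    obtain ⟨d, v, hd, hv, hcd, -⟩ := hdec ⟨c, hcC⟩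
    have h1 := mem_cent.1 (hR0 (hc ρ hρ))
    have h2 : c * ρ * c⁻¹ = d * ρ * d⁻¹ := by
      rw [show c = d * v from hcd]
      calc d * v * ρ * (d * v)⁻¹ = d * (v * ρ) * v⁻¹ * d⁻¹ := by group
        _ = d * (ρ * v) * v⁻¹ * d⁻¹ := by rw [← hv ρ (hRC R hρ)]
        _ = d * ρ * d⁻¹ := by group
    rw [h2] at h1
    have hdy : Commute d y0 := hd
    have h3 : Commute (d⁻¹ * (d * ρ * d⁻¹) * d) y0 := ((hdy.inv_left).mul_left h1).mul_left hdy
    rwa [show d⁻¹ * (d * ρ * d⁻¹) * d = ρ by group] at h3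
  obtain ⟨d, v, hd, hv, hxd, hdC⟩ := hdec ⟨x0, hx0C⟩
  have hy0C : y0 ∉ C := fun h => (hiff y0).1 h hpy
  have hyd : y0 * d ∉ C := fun hh => hy0C ((mul_mem_cancel_right hdC).1 hh)
  have hpd : p ∣ cl (y0 * d) := not_not.1 fun hh => hyd ((hiff _).2 hh)
  obtain ⟨R, hR⟩ := exists_sylow_le (H := Subgroup.centralizer ({y0 * d} : Set G)) (p := r)
    fun hh => hbad _ hpd r hr hh (near_refl r)
  refine R.not_dvd_index (hx0.trans (Subgroup.index_dvd_of_le fun ρ hρ => mem_cent.2 ?_))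
  have h1 : Commute ρ (y0 * d) := mem_cent.1 (hR hρ)
  have h2 : Commute ρ y0 := hall R ρ hρ
  have h3 := h2.inv_right.mul_right h1
  rw [inv_mul_cancel_left] at h3
  have h4 : Commute ρ v := hv ρ (hRC R hρ)
  rw [show x0 = d * v from hxd]
  exact (h3.mul_right h4).eq

/-- Two primes far apart contradict connectedness. -/
theorem not_far (hconn : ∀ S : Set ℕ, (∃ p ∈ S, (p.Prime ∧ ∃ g : G, p ∣ cl g)) →
      (∃ q ∉ S, (q.Prime ∧ ∃ g : G, q ∣ cl g)) →
      ∃ p q : ℕ, (p.Prime ∧ ∃ g : G, p ∣ cl g) ∧ (q.Prime ∧ ∃ g : G, q ∣ cl g) ∧ p ∈ S ∧ q ∉ S ∧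
        (∃ g : G, p * q ∣ cl g))
    {r s : ℕ} (hr : r.Prime ∧ ∃ g : G, r ∣ cl g) (hs : s.Prime ∧ ∃ g : G, s ∣ cl g) : ¬ Far G r s := by
  intro hfar
  obtain ⟨hr, x0, hx0⟩ := hr
  obtain ⟨hs, y0, hy0⟩ := hs
  obtain ⟨z, p, k, hp, hk, hz1, hzd⟩ := exists_primary x0 fun e => hr.ne_one (Nat.dvd_one.1 (e ▸ hx0))
  obtain ⟨w, q, l, hq, hl, hw1, hwd⟩ := exists_primary y0 fun e => hs.ne_one (Nat.dvd_one.1 (e ▸ hy0))
  have hnr : ∀ t, t.Prime → t ∣ cl z → Near G r t := fun t ht h => near_of_dvd hr ht hx0 (h.trans hzd)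
  have hns : ∀ t, t.Prime → t ∣ cl w → Near G s t := fun t ht h => near_of_dvd hs ht hy0 (h.trans hwd)
  have hco : Nat.Coprime (cl w) (cl z) := by_contra fun h => by
    obtain ⟨t, ht, h1, h2⟩ := Nat.Prime.not_coprime_iff_dvd.1 h
    exact hfar z t t ht ht h2 h2 (hnr t ht h2) (hns t ht h1)
  haveI : Fact p.Prime := ⟨hp⟩
  by_cases h : Nat.Coprime (cl (w * z)) (cl z)
  · have hdvd : cl (w * z) ∣ cl w := h.dvd_of_dvd_mul_right (cl_mul_dvd hco)
    obtain ⟨h1, h2⟩ := dvd_of_product (k0 := k) (hk ▸ pow_orderOf_eq_one z) hz1 hco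
      (le_antisymm (Nat.le_of_dvd (Nat.pos_of_ne_zero (cl_pos w)) hdvd) (le_cl_mul_left hco))
    exact core hconn hr hs hfar hx0 hy0 hk hz1 hzd h2 (h1.trans hwd)
  · haveI : Fact q.Prime := ⟨hq⟩
    obtain ⟨t, ht, h1, h2⟩ := Nat.Prime.not_coprime_iff_dvd.1 h
    have e : cl (z * w) = cl (w * z) := by
      rw [show z * w = z * (w * z) * z⁻¹ by group, cl_conj]
    have h' : Nat.Coprime (cl (z * w)) (cl w) := by_contra fun hh => by
      obtain ⟨t', ht', h3, h4⟩ := Nat.Prime.not_coprime_iff_dvd.1 hh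
      exact hfar _ t t' ht ht' h1 (e ▸ h3) (hnr t ht h2) (hns t' ht' h4)
    have hdvd : cl (z * w) ∣ cl z := h'.dvd_of_dvd_mul_right (cl_mul_dvd hco.symm)
    obtain ⟨h3, h4⟩ := dvd_of_product (k0 := l) (hl ▸ pow_orderOf_eq_one w) hw1 hco.symm
      (le_antisymm (Nat.le_of_dvd (Nat.pos_of_ne_zero (cl_pos z)) hdvd) (le_cl_mul_left hco.symm))
    exact core hconn hs hr hfar.symm hy0 hx0 hl hw1 hwd h4 (h3.trans hzd)

end Cfsg.Agent.ClassSizeGraph
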