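import Mathlib
import Cfsg.Prelude.Def_Transfer
import Cfsg.Prelude.Def_EvenTechniques
import Cfsg.Agent.Lib.LocalEven.Frattini
import Cfsg.Agent.Lib.Transfer.PGroup
import Cfsg.Agent.Lib.Solvable.NilpotentFrattini

/-!
Lower bounds for the rank of a `p`-group of class two with elementary abelian central Frattini
subgroup: a maximal elementary abelian subgroup is large.
-/

set_option autoImplicit false
set_option linter.style.haveILetI false

namespace Cfsg.Agent.ClassTwoRank

open scoped commutatorElement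

section Quadratic

/-- A quadratic map into an elementary abelian 2-group with only the trivial zero: the
source has at most the square of the order of the target. -/
theorem card_le_of_anisotropic {Q Φ : Type*} [CommGroup Q] [Finite Q] [CommGroup Φ] [Finite Φ]
    (hΦ : ∀ y : Φ, y ^ 2 = 1) {m l : ℕ} (hQ : Nat.card Q = 2 ^ m) (hl : Nat.card Φ = 2 ^ l)
    (q : Q → Φ) (c : Q → Q →* Φ) (hq : ∀ x y, q (x * y) = q x * q y * c y x)
    (hq1 : q 1 = 1) (hz : ∀ x, q x = 1 → x = 1) : m ≤ 2 * l := by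
  classical
  letI := Fintype.ofFinite Q
  letI := Fintype.ofFinite Φ
  haveI hexp : HasEnoughRootsOfUnity ℤ (Monoid.exponent Φ) := by
    have h2 : Monoid.exponent Φ ∣ 2 := Monoid.exponent_dvd_of_forall_pow_eq_one hΦ
    rcases (Nat.dvd_prime Nat.prime_two).1 h2 with h | h <;> rw [h]
    · infer_instance
    · refine ⟨⟨-1, ?_⟩, inferInstance⟩
      exact IsPrimitiveRoot.neg_one 0 (by norm_num)
  haveI : Finite (Φ →* ℤˣ) := inferInstance
  letI := Fintype.ofFinite (Φ →* ℤˣ)
  by_contra hlt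
  push Not at hlt
  set S : (Φ →* ℤˣ) → ℤ := fun χ => ∑ x : Q, (χ (q x) : ℤ) with hS
  -- each sum is highly divisible by two
  have hdiv : ∀ χ, (2 : ℤ) ^ (l + 1) ∣ S χ := by
    intro χ
    have hsq : (2 : ℤ) ^ (2 * l + 1) ∣ S χ ^ 2 := by
      have e : S χ ^ 2 = ∑ h : Q, (χ (q h) : ℤ) * ∑ x : Q, (χ (c h x) : ℤ) := by
        calc S χ ^ 2 = ∑ x : Q, (χ (q x) : ℤ) * ∑ y : Q, (χ (q y) : ℤ) := by
              rw [hS, sq, Finset.sum_mul]
          _ = ∑ x : Q, ∑ h : Q, (χ (q h) : ℤ) * (χ (c h x) : ℤ) := by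
              refine Finset.sum_congr rfl fun x _ => ?_
              rw [← Equiv.sum_comp (Equiv.mulLeft x) (fun y => (χ (q y) : ℤ)), Finset.mul_sum]
              refine Finset.sum_congr rfl fun h _ => ?_
              rw [Equiv.coe_mulLeft, hq, map_mul, map_mul, Units.val_mul, Units.val_mul]
              have h1 : (χ (q x) : ℤ) * (χ (q x) : ℤ) = 1 := by
                rw [← Units.val_mul, Int.units_mul_self, Units.val_one]
              calc (χ (q x) : ℤ) * ((χ (q x) : ℤ) * (χ (q h) : ℤ) * (χ (c h x) : ℤ))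
                  = ((χ (q x) : ℤ) * (χ (q x) : ℤ)) * ((χ (q h) : ℤ) * (χ (c h x) : ℤ)) := by ring
                _ = _ := by rw [h1, one_mul]
          _ = _ := by rw [Finset.sum_comm]; exact Finset.sum_congr rfl fun h _ => (Finset.mul_sum ..).symm
      rw [e]
      refine Finset.dvd_sum fun h _ => Dvd.dvd.mul_left ?_ _
      by_cases hh : ∀ x, χ (c h x) = 1
      · rw [Finset.sum_congr rfl (fun x _ => by rw [hh x]), Finset.sum_const, Finset.card_univ,
          ← Nat.card_eq_fintype_card, hQ, Units.val_one, nsmul_eq_mul, mul_one]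
        push_cast
        exact pow_dvd_pow 2 hlt
      · push Not at hh
        obtain ⟨x₀, hx₀⟩ := hh
        have h0 : ∑ x : Q, (χ (c h x) : ℤ) = 0 := by
          have h1 : (χ (c h x₀) : ℤ) * ∑ x : Q, (χ (c h x) : ℤ) = ∑ x : Q, (χ (c h x) : ℤ) := by
            rw [Finset.mul_sum]
            refine Eq.trans (Finset.sum_congr rfl fun x _ => ?_)
              (Equiv.sum_comp (Equiv.mulLeft x₀) (fun x => (χ (c h x) : ℤ)))
            rw [Equiv.coe_mulLeft, map_mul, map_mul, Units.val_mul]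
          have h2 : (χ (c h x₀) : ℤ) = -1 := by
            rcases Int.units_eq_one_or (χ (c h x₀)) with h' | h'
            · exact absurd h' hx₀
            · rw [h']; rfl
          rw [h2] at h1
          linarith
        rw [h0]; exact dvd_zero _
    have h2 : ((2 : ℤ) ^ l) ∣ S χ := by
      refine (Int.pow_dvd_pow_iff two_ne_zero).1 (dvd_trans ?_ hsq)
      rw [← pow_mul, mul_comm l 2]
      exact pow_dvd_pow 2 (Nat.le_succ _)
    obtain ⟨t, ht⟩ := h2
    rw [ht, mul_pow, ← pow_mul, mul_comm l 2, pow_succ] at hsq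
    have h3 : (2 : ℤ) ∣ t ^ 2 := (mul_dvd_mul_iff_left (pow_ne_zero _ two_ne_zero)).1 hsq
    rw [ht, pow_succ]
    exact mul_dvd_mul_left _ (Int.prime_two.dvd_of_dvd_pow h3)
  -- orthogonality
  have hsum : ∑ χ : Φ →* ℤˣ, S χ = (2 : ℤ) ^ l := by
    rw [hS, Finset.sum_comm, Finset.sum_eq_single (1 : Q)]
    · simp only [hq1, map_one, Units.val_one, Finset.sum_const, Finset.card_univ, nsmul_eq_mul, mul_one]
      rw [← Nat.card_eq_fintype_card, CommGroup.card_monoidHom_of_hasEnoughRootsOfUnity, hl]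
      push_cast; ring
    · intro x _ hx
      obtain ⟨χ₀, hχ₀⟩ := CommGroup.exists_apply_ne_one_of_hasEnoughRootsOfUnity Φ ℤ
        (fun h => hx (hz x h) : q x ≠ 1)
      have h1 : (χ₀ (q x) : ℤ) * ∑ χ : Φ →* ℤˣ, (χ (q x) : ℤ) = ∑ χ : Φ →* ℤˣ, (χ (q x) : ℤ) := by
        rw [Finset.mul_sum]
        refine Eq.trans (Finset.sum_congr rfl fun χ _ => ?_)
          (Equiv.sum_comp (Equiv.mulLeft χ₀) (fun χ => (χ (q x) : ℤ)))
        rw [Equiv.coe_mulLeft, MonoidHom.mul_apply, Units.val_mul]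
      have h2 : (χ₀ (q x) : ℤ) = -1 := by
        rcases Int.units_eq_one_or (χ₀ (q x)) with h' | h'
        · exact absurd h' hχ₀
        · rw [h']; rfl
      rw [h2] at h1
      linarith
    · intro h; exact absurd (Finset.mem_univ _) h
  have h := Finset.dvd_sum (s := Finset.univ) fun χ _ => hdiv χ
  rw [hsum, pow_succ] at h
  have := (mul_dvd_mul_iff_left (pow_ne_zero l (two_ne_zero : (2 : ℤ) ≠ 0))).1
    (show (2 : ℤ) ^ l * 2 ∣ 2 ^ l * 1 by rw [mul_one]; exact h)
  exact absurd (Int.eq_one_of_dvd_one (by norm_num) this) (by norm_num)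

end Quadratic

variable {P : Type*} [Group P] [Finite P] {p : ℕ} [hp : Fact p.Prime]

/-- The rank is at least the exponent of an elementary abelian subgroup. -/
theorem le_pRank {A : Subgroup P} {k : ℕ} (hA : IsMulCommutative A) (he : ∀ a ∈ A, a ^ p = 1)
    (hk : p ^ k ≤ Nat.card A) : k ≤ Cfsg.pRank p P := by
  refine le_csSup ⟨Nat.card P, ?_⟩ ⟨A, hA, he, hk⟩
  rintro j ⟨B, -, -, hB⟩
  exact (Nat.lt_pow_self hp.out.one_lt).le.trans (hB.trans (Subgroup.card_le_card_group B))

/-- The rank of an elementary abelian group. -/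
theorem pRank_eq {n : ℕ} (hc : ∀ a b : P, a * b = b * a) (he : ∀ a : P, a ^ p = 1)
    (hn : Nat.card P = p ^ n) : Cfsg.pRank p P = n := by
  refine le_antisymm ?_ (le_pRank (A := ⊤) (.of_setLike_mul_comm fun a _ b _ => hc a b)
    (fun a _ => he a) (by rw [Subgroup.card_top, hn]))
  refine csSup_le' ?_
  rintro j ⟨B, -, -, hB⟩
  exact (Nat.pow_le_pow_iff_right hp.out.one_lt).1 (hB.trans (hn ▸ Subgroup.card_le_card_group B))

/-- Generators of `A` modulo a subgroup. -/
theorem exists_gens {k : ℕ} : ∀ {H A : Subgroup P}, IsPGroup p P → H ≤ A →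
    Nat.card A = p ^ k * Nat.card H → ∃ a : Fin k → P, (∀ i, a i ∈ A) ∧ A ≤ H ⊔ Subgroup.closure (Set.range a) := by
  induction k using Nat.strong_induction_on with
  | _ k ih =>
  intro H A hP hHA hc
  by_cases heq : A ≤ H
  · exact ⟨fun _ => 1, fun _ => one_mem _, heq.trans le_sup_left⟩
  obtain ⟨x, hxA, hxH⟩ := SetLike.not_le_iff_exists.1 heq
  set H' := H ⊔ Subgroup.zpowers x
  have hH'A : H' ≤ A := sup_le hHA (Subgroup.zpowers_le.2 hxA)
  have hlt : H < H' := lt_of_le_of_ne le_sup_left fun h =>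
    hxH (h ▸ Subgroup.mem_sup_right (Subgroup.mem_zpowers x))
  obtain ⟨i, hi⟩ := IsPGroup.iff_card.1 (hP.to_subgroup H)
  obtain ⟨i', hi'⟩ := IsPGroup.iff_card.1 (hP.to_subgroup H')
  obtain ⟨j, hj⟩ := IsPGroup.iff_card.1 (hP.to_subgroup A)
  have hii : i < i' := by
    have := Set.ncard_lt_ncard hlt
    change Nat.card H < Nat.card H' at this
    rw [hi, hi'] at this
    exact (Nat.pow_lt_pow_iff_right hp.out.one_lt).1 this
  have hij : i' ≤ j := by
    have := Subgroup.card_le_of_le hH'A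
    rw [hi', hj] at this
    exact (Nat.pow_le_pow_iff_right hp.out.one_lt).1 this
  have hjk : j = k + i := by
    rw [hj, hi, ← pow_add] at hc
    exact Nat.pow_right_injective hp.out.two_le hc
  obtain ⟨k', rfl⟩ : ∃ k', k = k' + 1 := ⟨k - 1, by omega⟩
  obtain ⟨a, ha, hA⟩ := ih (j - i') (by omega) hP hH'A
    (by rw [hj, hi', ← pow_add, Nat.sub_add_cancel hij])
  let a' : Fin (k' + 1) → P := Fin.cases x (fun t => if h : (t : ℕ) < j - i' then a ⟨t, h⟩ else 1)
  refine ⟨a', fun t => ?_, hA.trans (sup_le (sup_le le_sup_left ?_) ?_)⟩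
  · induction t using Fin.cases with
    | zero => exact hxA
    | succ t =>
      simp only [a', Fin.cases_succ]
      split_ifs with h
      · exact ha _
      · exact one_mem _
  · refine le_trans ?_ le_sup_right
    exact Subgroup.zpowers_le.2 (Subgroup.subset_closure ⟨0, rfl⟩)
  · refine le_trans ?_ le_sup_right
    rw [Subgroup.closure_le]
    rintro _ ⟨t, rfl⟩
    refine Subgroup.subset_closure ⟨Fin.succ ⟨t, by omega⟩, ?_⟩
    simp [a', t.2]

/-- The index of a centralizer in class two. -/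
theorem index_centralizer_le {w : ℕ} {A F : Subgroup P} (hP : IsPGroup p P)
    (hFA : F ≤ A) (hF : F ≤ Subgroup.center P) (hcomm : ∀ x y : P, ⁅x, y⁆ ∈ F)
    (hc : Nat.card A = p ^ w * Nat.card F) :
    (Subgroup.centralizer (A : Set P)).index ≤ Nat.card F ^ w := by
  obtain ⟨a, ha, hA⟩ := exists_gens hP hFA hc
  set C := Subgroup.centralizer (A : Set P) with hC
  rw [Subgroup.index_eq_card, ← Nat.card_fin w, ← Nat.card_fun]
  refine Nat.card_le_card_of_injective
    (fun z : P ⧸ C => fun i => (⟨⁅z.out, a i⁆, hcomm _ _⟩ : F)) ?_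
  intro z z' h
  rw [← QuotientGroup.out_eq' z, ← QuotientGroup.out_eq' z', QuotientGroup.eq]
  refine Subgroup.mem_centralizer_iff.2 ?_
  intro b hb
  have hle : A ≤ Subgroup.centralizer ({z.out⁻¹ * z'.out} : Set P) := by
    refine hA.trans (sup_le (hF.trans (Subgroup.center_le_centralizer _)) ?_)
    rw [Subgroup.closure_le]
    rintro _ ⟨i, rfl⟩
    rw [SetLike.mem_coe, Subgroup.mem_centralizer_singleton_iff]
    have e : ⁅z.out, a i⁆ = ⁅z'.out, a i⁆ := congrArg Subtype.val (congrFun h i)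
    simp only [commutatorElement_def] at e
    have e' : z.out * a i * z.out⁻¹ = z'.out * a i * z'.out⁻¹ := mul_right_cancel e
    calc a i * (z.out⁻¹ * z'.out) = z.out⁻¹ * (z.out * a i * z.out⁻¹) * z'.out := by group
      _ = z.out⁻¹ * (z'.out * a i * z'.out⁻¹) * z'.out := by rw [e']
      _ = z.out⁻¹ * z'.out * a i := by group
  exact Subgroup.mem_centralizer_singleton_iff.1 (hle hb)

/-- Structure of a maximal elementary abelian subgroup above the Frattini subgroup. -/
theorem exists_max_elementary (hF : frattini P ≤ Subgroup.center P)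
    (hFe : ∀ y ∈ frattini P, y ^ p = 1) :
    ∃ A : Subgroup P, frattini P ≤ A ∧ IsMulCommutative A ∧ (∀ a ∈ A, a ^ p = 1) ∧
      ∀ x ∈ Subgroup.centralizer (A : Set P), x ^ p = 1 → x ∈ A := by
  obtain ⟨A, ⟨hFA, hAc, hAe⟩, hmax⟩ := (Set.toFinite {A : Subgroup P |
    frattini P ≤ A ∧ IsMulCommutative A ∧ ∀ a ∈ A, a ^ p = 1}).exists_maximal
    ⟨frattini P, le_rfl, .of_setLike_mul_comm fun a _ b hb =>
      (Subgroup.mem_center_iff.1 (hF hb) a), hFe⟩
  refine ⟨A, hFA, hAc, hAe, fun x hx hxp => ?_⟩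
  have hcl : ∀ y ∈ A ⊔ Subgroup.zpowers x, ∃ a ∈ A, ∃ i : ℤ, y = a * x ^ i := by
    intro y hy
    have hnorm : Subgroup.zpowers x ≤ Subgroup.normalizer (A : Set P) :=
      Subgroup.zpowers_le.2 (Subgroup.centralizer_le_normalizer _ hx)
    rw [← SetLike.mem_coe, Subgroup.coe_mul_of_right_le_normalizer_left _ _ hnorm] at hy
    obtain ⟨a, ha, z, hz, rfl⟩ := hy
    obtain ⟨i, rfl⟩ := hz
    exact ⟨a, ha, i, rfl⟩
  have hcx : ∀ a ∈ A, ∀ i : ℤ, Commute a (x ^ i) := fun a ha i =>
    (show Commute a x from Subgroup.mem_centralizer_iff.1 hx a ha).zpow_right i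
  have := hmax (y := A ⊔ Subgroup.zpowers x) ⟨hFA.trans le_sup_left, .of_setLike_mul_comm (by
    intro u hu v hv
    obtain ⟨a, ha, i, rfl⟩ := hcl u hu
    obtain ⟨b, hb, j, rfl⟩ := hcl v hv
    have hab : Commute a b := setLike_mul_comm ha hb
    exact ((hab.mul_right (hcx a ha j)).mul_left
      ((hcx b hb i).symm.mul_right (Commute.zpow_zpow_self x i j))).eq), by
    intro u hu
    obtain ⟨a, ha, i, rfl⟩ := hcl u hu
    rw [(hcx a ha i).mul_pow, hAe a ha, one_mul, ← zpow_natCast, ← zpow_mul, mul_comm, zpow_mul,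
      zpow_natCast, hxp, one_zpow]⟩ le_sup_left
  exact this (Subgroup.mem_sup_right (Subgroup.mem_zpowers x))

/-- The Frattini subgroup in class two. -/
theorem frattini_facts (hP : IsPGroup p P) (hcl : ∀ x y : P, ⁅x, y⁆ ∈ Subgroup.center P)
    (hpc : ∀ x : P, x ^ p ∈ Subgroup.center P) :
    frattini P ≤ Subgroup.center P ∧ (∀ x y : P, ⁅x, y⁆ ∈ frattini P) ∧ (∀ x : P, x ^ p ∈ frattini P) := by
  haveI := hP.isNilpotent
  refine ⟨LEFrattini.frattini_le (p := p) hcl hpc, fun x y => ?_, PGroupBasics.pow_mem_frattini hP⟩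
  exact SolvStruct.commutator_le_frattini P
    (Subgroup.commutator_mem_commutator (Subgroup.mem_top x) (Subgroup.mem_top y))

/-- The rank of the Frattini quotient. -/
theorem pRank_quotient (hP : IsPGroup p P) {n : ℕ} (hn : (frattini P).index = p ^ n) :
    Cfsg.pRank p (P ⧸ frattini P) = n := by
  haveI := hP.isNilpotent
  refine pRank_eq ?_ ?_ (by rw [← Subgroup.index_eq_card, hn])
  · intro a b
    induction a using QuotientGroup.induction_on with
    | H a =>
    induction b using QuotientGroup.induction_on with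
    | H b =>
    rw [← QuotientGroup.mk_mul, ← QuotientGroup.mk_mul, QuotientGroup.eq]
    have : (a * b)⁻¹ * (b * a) = ⁅b⁻¹, a⁻¹⁆ := by rw [commutatorElement_def]; group
    rw [this]
    exact SolvStruct.commutator_le_frattini P
      (Subgroup.commutator_mem_commutator (Subgroup.mem_top _) (Subgroup.mem_top _))
  · intro a
    induction a using QuotientGroup.induction_on with
    | H a =>
    rw [← QuotientGroup.mk_pow, QuotientGroup.eq_one_iff]
    exact PGroupBasics.pow_mem_frattini hP a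

/-- The rank of the Frattini subgroup. -/
theorem pRank_frattini {l : ℕ} (hF : frattini P ≤ Subgroup.center P)
    (hFe : ∀ y ∈ frattini P, y ^ p = 1) (hl : Nat.card (frattini P) = p ^ l) :
    Cfsg.pRank p (frattini P) = l :=
  pRank_eq (fun a b => Subtype.ext (Subgroup.mem_center_iff.1 (hF b.2) a))
    (fun a => Subtype.ext (hFe a a.2)) hl

/-- Class at most two means central commutators. -/
theorem commutator_central [Group.IsNilpotent P] (hcl : Group.nilpotencyClass P ≤ 2) (x y : P) :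
    ⁅x, y⁆ ∈ Subgroup.center P := by
  rw [Subgroup.mem_center_iff]
  intro z
  have h1 : ⁅⁅x, y⁆, z⁆ ∈ Subgroup.lowerCentralSeries (⊤ : Subgroup P) 2 :=
    Subgroup.commutator_mem_commutator
      (Subgroup.commutator_mem_commutator (Subgroup.mem_top x) (Subgroup.mem_top y)) (Subgroup.mem_top z)
  rw [Subgroup.lowerCentralSeries_eq_bot_iff_nilpotencyClass_le.2 hcl, Subgroup.mem_bot] at h1
  exact (commutatorElement_eq_one_iff_mul_comm.1 h1).symm

end Cfsg.Agent.ClassTwoRank
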