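import Cfsg.Prelude.Def_SolvableStructure
import Mathlib.GroupTheory.Sylow
import Mathlib.GroupTheory.Nilpotent
import Mathlib.GroupTheory.SchurZassenhaus
import Mathlib.GroupTheory.SpecificGroups.Cyclic

/-!
Normal Hall subgroups for the primes `≥ k` (Sylow towers), their transfer along order types, and the tower of a
supersolvable group.
-/

set_option autoImplicit false

namespace Cfsg.Agent.SylowTower

universe u v

def PrimesGE (k n : ℕ) : Prop := ∀ q : ℕ, q.Prime → q ∣ n → k ≤ q

def HallGE {G : Type*} [Group G] (k : ℕ) (N : Subgroup G) : Prop :=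
  PrimesGE k (Nat.card N) ∧ ∀ q : ℕ, q.Prime → q ∣ N.index → q < k

/-- `G` has a normal Hall subgroup for the primes `≥ k`, for every `k ≥ k₀`. -/
def TowerFrom (k₀ : ℕ) (G : Type*) [Group G] : Prop :=
  ∀ k : ℕ, k₀ ≤ k → ∃ N : Subgroup G, N.Normal ∧ HallGE k N

lemma PrimesGE.dvd {k a b : ℕ} (h : PrimesGE k b) (hab : a ∣ b) : PrimesGE k a :=
  fun q hq hqa => h q hq (hqa.trans hab)

variable {G : Type u} [Group G]

lemma coprime_of_primesGE {k a b : ℕ} (ha : PrimesGE k a) (hb : ∀ q : ℕ, q.Prime → q ∣ b → q < k) :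
    Nat.Coprime a b :=
  Nat.coprime_of_dvd fun q hq h1 h2 => absurd (ha q hq h1) (not_le.2 (hb q hq h2))

lemma mem_iff_primesGE {k : ℕ} {N : Subgroup G} [N.Normal] (h : HallGE k N) (g : G) :
    g ∈ N ↔ PrimesGE k (orderOf g) := by
  refine ⟨fun hg => h.1.dvd (Subgroup.orderOf_dvd_natCard _ hg), fun hg => ?_⟩
  have h1 : orderOf (g : G ⧸ N) ∣ N.index := by
    rw [Subgroup.index_eq_card]; exact orderOf_dvd_natCard _
  have h2 : orderOf (g : G ⧸ N) ∣ orderOf g := orderOf_map_dvd (QuotientGroup.mk' N) g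
  have h3 : orderOf (g : G ⧸ N) = 1 :=
    Nat.eq_one_of_dvd_coprimes (coprime_of_primesGE hg h.2) h2 h1
  exact (QuotientGroup.eq_one_iff g).1 (orderOf_eq_one_iff.1 h3)

lemma card_primesGE {k : ℕ} {N : Subgroup G} [N.Normal] (h : HallGE k N) :
    Nat.card {g : G // PrimesGE k (orderOf g)} = Nat.card N :=
  Nat.card_congr (Equiv.subtypeEquivRight fun g => (mem_iff_primesGE h g).symm)

lemma card_eq_of_hallGE {H : Type v} [Group H] (hcard : Nat.card G = Nat.card H) {k : ℕ}
    {N : Subgroup G} {M : Subgroup H} (hN : HallGE k N) (hM : HallGE k M) : Nat.card N = Nat.card M := by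
  have hG : Nat.card N * N.index = Nat.card M * M.index := by
    rw [Subgroup.card_mul_index, Subgroup.card_mul_index, hcard]
  exact Nat.dvd_antisymm ((coprime_of_primesGE hN.1 hM.2).dvd_of_dvd_mul_right ⟨_, hG.symm⟩)
    ((coprime_of_primesGE hM.1 hN.2).dvd_of_dvd_mul_right ⟨_, hG⟩)

/-- Two finite groups with the same order type are in an order-preserving bijection. -/
lemma exists_equiv_of_orderType {H : Type v} [Group H] [Finite G] [Finite H]
    (hT : ∀ m : ℕ, Nat.card {g : G // orderOf g = m} = Nat.card {h : H // orderOf h = m}) :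
    ∃ e : G ≃ H, ∀ g, orderOf (e g) = orderOf g := by
  have hf : ∀ m : ℕ, Nonempty ({g : G // orderOf g = m} ≃ {h : H // orderOf h = m}) :=
    fun m => ⟨(Finite.equivFin _).trans ((finCongr (hT m)).trans (Finite.equivFin _).symm)⟩
  exact ⟨Equiv.ofFiberEquiv fun m => (hf m).some, fun g => Equiv.ofFiberEquiv_map _ g⟩

lemma card_eq_of_orderType {H : Type v} [Group H] [Finite G] [Finite H]
    (hT : ∀ m : ℕ, Nat.card {g : G // orderOf g = m} = Nat.card {h : H // orderOf h = m}) :
    Nat.card G = Nat.card H := by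
  obtain ⟨e, _⟩ := exists_equiv_of_orderType hT; exact Nat.card_congr e

/-- A tower passes along an order type; moreover each member is solvable. -/
theorem towerFrom_of_orderType {H : Type v} [Group H] [Finite G] [Finite H] {k₀ : ℕ}
    (hT : ∀ m : ℕ, Nat.card {g : G // orderOf g = m} = Nat.card {h : H // orderOf h = m})
    (hG : TowerFrom k₀ G) :
    ∀ k : ℕ, k₀ ≤ k → ∃ N : Subgroup H, N.Normal ∧ HallGE k N ∧ Group.IsSolvable N := by
  obtain ⟨e, he⟩ := exists_equiv_of_orderType hT
  have hcard : Nat.card G = Nat.card H := Nat.card_congr e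
  intro k hk
  suffices ∀ j k : ℕ, k₀ ≤ k → Nat.card H + 1 ≤ k + j →
      ∃ N : Subgroup H, N.Normal ∧ HallGE k N ∧ Group.IsSolvable N from
    this (Nat.card H + 1) k hk (by omega)
  intro j
  induction j with
  | zero =>
    intro k _ hkj
    refine ⟨⊥, inferInstance, ⟨?_, ?_⟩, inferInstance⟩
    · intro q hq hd; rw [Subgroup.card_bot, Nat.dvd_one] at hd; exact absurd hd hq.ne_one
    · intro q hq hd; rw [Subgroup.index_bot] at hd
      have := Nat.le_of_dvd Nat.card_pos hd; omega
  | succ j ih =>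
    intro k hk hkj
    obtain ⟨M, hMn, hM, hMs⟩ := ih (k+1) (by omega) (by omega)
    by_cases hkp : k.Prime
    swap
    · refine ⟨M, hMn, ⟨fun q hq hd => Nat.le_of_succ_le (hM.1 q hq hd), fun q hq hd => ?_⟩, hMs⟩
      rcases lt_or_eq_of_le (Nat.lt_succ_iff.1 (hM.2 q hq hd)) with h | h
      · exact h
      · exact absurd (h ▸ hq) hkp
    haveI : Fact k.Prime := ⟨hkp⟩
    obtain ⟨P⟩ := (inferInstance : Nonempty (Sylow k H))
    obtain ⟨a, ha⟩ := P.isPGroup'.exists_card_eq
    have hcop : Nat.Coprime (Nat.card M) (Nat.card (P : Subgroup H)) := by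
      rw [ha]
      refine Nat.Coprime.pow_right _ (Nat.coprime_comm.1 ?_)
      rw [hkp.coprime_iff_not_dvd]
      intro hd
      have := hM.1 k hkp hd
      omega
    set S : Subgroup H := M ⊔ (P : Subgroup H) with hS
    have hrel : M.relIndex S = k ^ a := by
      rw [hS, sup_comm, Subgroup.relIndex_sup_right, ← Subgroup.inf_relIndex_right,
        Subgroup.inf_eq_bot_of_coprime hcop, Subgroup.relIndex_bot_left, ha]
    have hScard : Nat.card S = Nat.card M * k ^ a := by
      rw [← Subgroup.relIndex_bot_left S, ← Subgroup.relIndex_mul_relIndex ⊥ M S bot_le le_sup_left,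
        Subgroup.relIndex_bot_left, hrel]
    have hHall : HallGE k S := by
      refine ⟨fun q hq hd => ?_, fun q hq hd => ?_⟩
      · rw [hScard] at hd
        rcases (Nat.Prime.dvd_mul hq).1 hd with h | h
        · exact Nat.le_of_succ_le (hM.1 q hq h)
        · exact ((Nat.prime_dvd_prime_iff_eq hq hkp).1 (hq.dvd_of_dvd_pow h)).ge
      · have h1 := hM.2 q hq (hd.trans (Subgroup.index_dvd_of_le le_sup_left))
        rcases lt_or_eq_of_le (Nat.lt_succ_iff.1 h1) with h | h
        · exact h
        · subst h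
          exact absurd (hd.trans (Subgroup.index_dvd_of_le le_sup_right)) P.not_dvd_index
    obtain ⟨N, hN, hNH⟩ := hG k hk
    have hset : {h : H | PrimesGE k (orderOf h)} = (S : Set H) := by
      refine (Set.eq_of_subset_of_ncard_le ?_ ?_ (Set.toFinite _)).symm
      · intro h hh; exact hHall.1.dvd (Subgroup.orderOf_dvd_natCard _ hh)
      · rw [← Nat.card_coe_set_eq, ← Nat.card_coe_set_eq]
        refine le_of_eq ?_
        calc Nat.card {h : H // PrimesGE k (orderOf h)}
            = Nat.card {g : G // PrimesGE k (orderOf g)} :=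
              (Nat.card_congr (Equiv.subtypeEquiv e fun g => by rw [he g])).symm
          _ = Nat.card N := card_primesGE hNH
          _ = Nat.card S := card_eq_of_hallGE hcard hNH hHall
    have hmem : ∀ h : H, h ∈ S ↔ PrimesGE k (orderOf h) := fun h => by
      have := Set.ext_iff.1 hset h; exact this.symm
    refine ⟨S, ⟨fun n hn g => ?_⟩, hHall, ?_⟩
    · rw [hmem] at hn ⊢
      have : orderOf (g * n * g⁻¹) = orderOf n := by
        rw [← MulAut.conj_apply]; exact MulEquiv.orderOf_eq _ _
      rwa [this]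
    · haveI : (M.subgroupOf S).Normal := Subgroup.Normal.subgroupOf hMn S
      haveI : Group.IsSolvable M := hMs
      haveI : Group.IsSolvable (S ⧸ M.subgroupOf S) :=
        haveI : Group.IsNilpotent (S ⧸ M.subgroupOf S) :=
          (IsPGroup.of_card (show Nat.card (S ⧸ M.subgroupOf S) = k ^ a from hrel)).isNilpotent
        inferInstance
      refine solvable_of_ker_le_range (Subgroup.inclusion (le_sup_left : M ≤ S))
        (QuotientGroup.mk' (M.subgroupOf S)) ?_
      rw [QuotientGroup.ker_mk', Subgroup.inclusion_range]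

/-- A group with an order type of a group with a full tower is solvable. -/
theorem isSolvable_of_orderType {H : Type v} [Group H] [Finite G] [Finite H]
    (hT : ∀ m : ℕ, Nat.card {g : G // orderOf g = m} = Nat.card {h : H // orderOf h = m})
    (hG : TowerFrom 0 G) : Group.IsSolvable H := by
  obtain ⟨N, _, hN, hs⟩ := towerFrom_of_orderType hT hG 0 le_rfl
  have : N = ⊤ := by
    rw [← Subgroup.index_eq_one]
    by_contra h
    obtain ⟨q, hq, hd⟩ := Nat.exists_prime_and_dvd h
    exact absurd (hN.2 q hq hd) (Nat.not_lt_zero q)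
  subst this
  exact solvable_of_surjective (f := (⊤ : Subgroup H).subtype) fun h => ⟨⟨h, trivial⟩, rfl⟩

lemma exists_normal_prime [Finite G] [Nontrivial G] (hG : Cfsg.IsSupersolvable G) :
    ∃ (C : Subgroup G), C.Normal ∧ (Nat.card C).Prime := by
  obtain ⟨n, H, h0, hn, hnor, hstep⟩ := hG
  obtain ⟨i, hi1, hi2⟩ : ∃ i : Fin n, H i.castSucc = ⊥ ∧ H i.succ ≠ ⊥ := by
    by_contra hc
    push Not at hc
    have : ∀ i, H i = ⊥ := fun i => Fin.induction h0 (fun j hj => hc j hj) i
    exact bot_ne_top ((this _).symm.trans hn)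
  obtain ⟨g, hg⟩ := hstep i
  rw [hi1, bot_sup_eq] at hg
  have hg1 : g ≠ 1 := by rintro rfl; exact hi2 (hg.trans (Subgroup.zpowers_one_eq_bot))
  obtain ⟨q, hq, d, hd⟩ := Nat.exists_prime_and_dvd (mt orderOf_eq_one_iff.1 hg1)
  have hord : orderOf (g ^ d) = q := by
    rw [orderOf_pow' _ (by rintro rfl; simp [(orderOf_pos g).ne'] at hd), hd,
      Nat.gcd_eq_right (dvd_mul_left d q), Nat.mul_div_cancel _ (Nat.pos_of_ne_zero
        (by rintro rfl; simp [(orderOf_pos g).ne'] at hd))]
  refine ⟨Subgroup.zpowers (g ^ d), ⟨fun x hx y => ?_⟩, by rwa [Nat.card_zpowers, hord]⟩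
  have hxH : y * x * y⁻¹ ∈ Subgroup.zpowers g := by
    rw [← hg]
    refine (hnor i.succ).conj_mem x ?_ y
    rw [hg]
    exact (Subgroup.zpowers_le.2 (Subgroup.pow_mem _ (Subgroup.mem_zpowers g) d)) hx
  obtain ⟨j, hj⟩ := (mem_powers_iff_mem_zpowers).2 hxH
  have hq' : (y * x * y⁻¹) ^ q = 1 := by
    have : x ^ q = 1 := by
      rw [← hord]
      exact orderOf_dvd_iff_pow_eq_one.1 (orderOf_dvd_of_mem_zpowers hx)
    rw [conj_pow, this, mul_one, mul_inv_cancel]
  simp only at hj
  rw [← hj, ← pow_mul, ← orderOf_dvd_iff_pow_eq_one, hd, mul_comm j] at hq'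
  obtain ⟨l, hl⟩ := (Nat.mul_dvd_mul_iff_left hq.pos).1 hq'
  rw [← hj, hl, pow_mul]
  exact Subgroup.pow_mem _ (Subgroup.mem_zpowers _) l

lemma isSupersolvable_quotient (hG : Cfsg.IsSupersolvable G) (C : Subgroup G) [C.Normal] :
    Cfsg.IsSupersolvable (G ⧸ C) := by
  obtain ⟨n, H, h0, hn, hnor, hstep⟩ := hG
  have hs := QuotientGroup.mk'_surjective C
  refine ⟨n, fun i => (H i).map (QuotientGroup.mk' C), by simp [h0], ?_, fun i => (hnor i).map _ hs,
    fun i => ?_⟩
  · simpa [hn] using Subgroup.map_top_of_surjective _ hs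
  · obtain ⟨g, hg⟩ := hstep i
    refine ⟨QuotientGroup.mk' C g, ?_⟩
    simp only [hg, Subgroup.map_sup, MonoidHom.map_zpowers]

theorem towerFrom_of_isSupersolvable : ∀ (G : Type u) [Group G] [Finite G],
    Cfsg.IsSupersolvable G → TowerFrom 0 G := by
  intro G _ _ hG
  suffices ∀ (n : ℕ) (G : Type u) [Group G] [Finite G], Nat.card G ≤ n →
      Cfsg.IsSupersolvable G → TowerFrom 0 G from this _ G le_rfl hG
  intro n
  induction n with
  | zero => intro G _ _ h; exact absurd h (not_le.2 Nat.card_pos)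
  | succ n ih =>
    intro G _ _ hcard hG k _
    rcases subsingleton_or_nontrivial G with hsub | hnt
    · refine ⟨⊥, inferInstance, ⟨?_, ?_⟩⟩
      · intro q hq hd; rw [Subgroup.card_bot, Nat.dvd_one] at hd; exact absurd hd hq.ne_one
      · intro q hq hd
        rw [Subgroup.index_bot, Nat.card_of_subsingleton (1 : G), Nat.dvd_one] at hd
        exact absurd hd hq.ne_one
    obtain ⟨C, hCn, hCp⟩ := exists_normal_prime hG
    have hidx : Nat.card C * C.index = Nat.card G := C.card_mul_index
    have hlt : Nat.card (G ⧸ C) ≤ n := by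
      rw [← Subgroup.index_eq_card]
      have := hCp.two_le
      nlinarith [Nat.pos_of_ne_zero (Subgroup.index_ne_zero_of_finite (H := C))]
    obtain ⟨L', hL'n, hL'⟩ := ih (G ⧸ C) hlt (isSupersolvable_quotient hG C) k (Nat.zero_le k)
    set L := L'.comap (QuotientGroup.mk' C) with hL
    have hLn : L.Normal := hL'n.comap _
    have hCL : C ≤ L := fun x hx => by
      simp [hL, (QuotientGroup.eq_one_iff x).2 hx]
    have hLidx : L.index = L'.index :=
      L'.index_comap_of_surjective (QuotientGroup.mk'_surjective C)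
    have hrel : C.relIndex L = Nat.card L' := by
      have h1 : C.relIndex L * L.index = Nat.card L' * L'.index := by
        rw [Subgroup.relIndex_mul_index hCL, Subgroup.card_mul_index, Subgroup.index_eq_card]
      rw [hLidx] at h1
      exact Nat.eq_of_mul_eq_mul_right (Nat.pos_of_ne_zero Subgroup.index_ne_zero_of_finite) h1
    have hLcard : Nat.card L = Nat.card C * Nat.card L' := by
      rw [← Subgroup.relIndex_bot_left L, ← Subgroup.relIndex_mul_relIndex ⊥ C L bot_le hCL,
        Subgroup.relIndex_bot_left, hrel]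
    set q := Nat.card C with hq
    by_cases hqk : k ≤ q
    · refine ⟨L, hLn, ⟨fun r hr hd => ?_, fun r hr hd => hL'.2 r hr (hLidx ▸ hd)⟩⟩
      rw [hLcard] at hd
      rcases (Nat.Prime.dvd_mul hr).1 hd with h | h
      · exact ((Nat.prime_dvd_prime_iff_eq hr hCp).1 h).symm ▸ hqk
      · exact hL'.1 r hr h
    push Not at hqk
    set C' := C.subgroupOf L with hC'
    haveI : C'.Normal := Subgroup.Normal.subgroupOf hCn L
    have hC'card : Nat.card C' = q := Nat.card_congr (Subgroup.subgroupOfEquivOfLe hCL).toEquiv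
    have hC'idx : C'.index = Nat.card L' := hrel
    have hsmall : ∀ r : ℕ, r.Prime → r ∣ q → r < k := fun r hr hd =>
      ((Nat.prime_dvd_prime_iff_eq hr hCp).1 hd).trans_lt hqk
    -- `C` is central in `L`
    have hcent : ∀ (c : L), c ∈ C' → ∀ l : L, l * c = c * l := by
      let φ : L →* MulAut C' := MulAut.conjNormal
      haveI : Fact (Nat.card C').Prime := ⟨hC'card ▸ hCp⟩
      haveI : IsCyclic C' := isCyclic_of_prime_card (p := Nat.card C') rfl
      have hker : C' ≤ φ.ker := by
        intro c hc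
        rw [MonoidHom.mem_ker]
        ext x
        have hcom : (⟨c, hc⟩ : C') * x = x * ⟨c, hc⟩ :=
          IsCyclic.isMulCommutative.is_comm.comm _ _
        have hcom' : c * (x : L) = (x : L) * c := congrArg Subtype.val hcom
        simp only [φ, MulAut.conjNormal_apply, MulAut.one_apply]
        rw [hcom', mul_inv_cancel_right]
      have h1 : Nat.card φ.range ∣ Nat.card L' := by
        rw [← Subgroup.index_ker, ← hC'idx]; exact Subgroup.index_dvd_of_le hker
      have h2 : Nat.card φ.range ∣ q - 1 := by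
        have := φ.range.card_subgroup_dvd_card
        rwa [IsCyclic.card_mulAut, hC'card, Nat.totient_prime hCp] at this
      have h3 : Nat.card φ.range = 1 := by
        refine Nat.eq_one_of_dvd_coprimes ?_ h1 h2
        refine coprime_of_primesGE hL'.1 fun r hr hd => ?_
        have := Nat.le_of_dvd (by have := hCp.two_le; omega) hd
        omega
      intro c hc l
      have hl : φ l = 1 := by
        have hbot := Subgroup.eq_bot_of_card_eq _ h3
        rw [← Subgroup.mem_bot, ← hbot]; exact ⟨l, rfl⟩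
      have := congrArg (fun f : MulAut C' => ((f ⟨c, hc⟩ : C') : L)) hl
      simp only [φ, MulAut.conjNormal_apply, MulAut.one_apply] at this
      exact mul_inv_eq_iff_eq_mul.1 this
    have hcop : Nat.Coprime (Nat.card C') C'.index := by
      rw [hC'card, hC'idx]; exact (coprime_of_primesGE hL'.1 hsmall).symm
    obtain ⟨K, hK⟩ := Subgroup.exists_right_complement'_of_coprime hcop
    have hKcard : Nat.card K = Nat.card L' := by rw [← hC'idx]; exact hK.symm.index_eq_card.symm
    haveI hKn : K.Normal := ⟨fun x hx l => by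
      obtain ⟨⟨c, m⟩, hcm⟩ := hK.surjective l
      simp only at hcm
      subst hcm
      have hmx : (m : L) * x * (m : L)⁻¹ ∈ K := K.mul_mem (K.mul_mem m.2 hx) (K.inv_mem m.2)
      have := hcent c c.2 ((m : L) * x * (m : L)⁻¹)
      have e : (c : L) * m * x * ((c : L) * m)⁻¹ = (m : L) * x * (m : L)⁻¹ := by
        rw [mul_inv_rev, ← mul_assoc, mul_assoc (c : L) _ x, mul_assoc (c : L) _ (m : L)⁻¹]
        rw [← this, mul_inv_cancel_right]
      rwa [e]⟩
    have hKhall : HallGE k K := by
      refine ⟨hKcard ▸ hL'.1, fun r hr hd => hsmall r hr ?_⟩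
      rwa [show K.index = Nat.card C' from hK.index_eq_card, hC'card] at hd
    refine ⟨K.map L.subtype, ⟨fun x hx g => ?_⟩, ?_, fun r hr hd => ?_⟩
    · obtain ⟨y, hy, rfl⟩ := hx
      refine ⟨⟨g * y * g⁻¹, hLn.conj_mem _ y.2 g⟩, ?_, rfl⟩
      rw [SetLike.mem_coe, mem_iff_primesGE hKhall] at hy ⊢
      rw [← Subgroup.orderOf_coe] at hy ⊢
      have : orderOf (g * (y : G) * g⁻¹) = orderOf (y : G) := by
        rw [← MulAut.conj_apply]; exact MulEquiv.orderOf_eq _ _
      simpa [this] using hy
    · rw [Subgroup.card_subtype]; exact hKhall.1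
    · rw [Subgroup.index_map_subtype] at hd
      rcases (Nat.Prime.dvd_mul hr).1 hd with h | h
      · exact hKhall.2 r hr h
      · exact hL'.2 r hr (hLidx ▸ h)

end Cfsg.Agent.SylowTower
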