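import Cfsg.Agent.Lib.FGStruct.AbelianCyclic
import Cfsg.Agent.Lib.FGStruct.SylowTower
import Cfsg.Agent.Lib.Solvable.Fitting
import Mathlib.GroupTheory.SchurZassenhaus

/-!
A solvable group all whose abelian subgroups are cyclic has normal Hall subgroups for the primes `≥ k`, `k ≥ 5`.
-/

set_option autoImplicit false
set_option linter.style.haveILetI false

namespace Cfsg.Agent.ComplTower

open Cfsg.Agent.SylowTower

universe u

variable {G : Type u} [Group G] [Finite G]

lemma isMulCommutative_of_odd_pGroup {P : Type u} [Group P] [Finite P] (hab : AbCyc.AbCyclic P) {s : ℕ}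
    [Fact s.Prime] (hs : s ≠ 2) (hP : IsPGroup s P) : IsMulCommutative P := by
  rcases AbCyc.structure_of_pGroup hab hP with hc | ⟨h2, -⟩
  · haveI := hc
    exact IsCyclic.isMulCommutative
  · exact absurd h2 hs

/-- The Sylow subgroup for the largest prime, if at least five, is normal. -/
theorem sylow_normal [Group.IsSolvable G] (hab : AbCyc.AbCyclic G) {s : ℕ} [hs : Fact s.Prime]
    (hs5 : 5 ≤ s) (hmax : ∀ q, q.Prime → q ∣ Nat.card G → q ≤ s) (S : Sylow s G) :
    (S : Subgroup G).Normal := by
  haveI hScomm := isMulCommutative_of_odd_pGroup (hab.subgroup (S : Subgroup G)) (s := s) (by omega) S.2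
  have hcent : ∀ r : Nat.Primes,
      Cfsg.pCore (r : ℕ) G ≤ Subgroup.centralizer ((S : Subgroup G) : Set G) := by
    intro r y hy
    rw [Subgroup.mem_centralizer_iff]
    intro x hx
    haveI := Fact.mk r.2
    by_cases hrs : (r : ℕ) = s
    · rw [hrs] at hy
      have hyS := FittingCores.pCore_le_sylow S hy
      exact congrArg Subtype.val (mul_comm' (⟨x, hx⟩ : (S : Subgroup G)) ⟨y, hyS⟩)
    set R := Cfsg.pCore (r : ℕ) G with hR
    haveI : R.Normal := FittingCores.pCore_normal _
    by_cases hR1 : R = ⊥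
    · rw [hR1, Subgroup.mem_bot] at hy
      subst hy
      simp
    have hrd : (r : ℕ) ∣ Nat.card G := by
      obtain ⟨m, hm⟩ := IsPGroup.iff_card.1 (FittingCores.pCore_isPGroup (G := G) (r : ℕ))
      rcases Nat.eq_zero_or_pos m with rfl | hm0
      · rw [pow_zero] at hm
        exact absurd (Subgroup.card_eq_one.1 hm) hR1
      · exact (hm ▸ dvd_pow_self _ hm0.ne' : (r : ℕ) ∣ Nat.card R).trans R.card_subgroup_dvd_card
    have hlt : (r : ℕ) < s := lt_of_le_of_ne (hmax _ r.2 hrd) hrs
    obtain ⟨k, hk⟩ := IsPGroup.iff_orderOf.1 S.2 ⟨x, hx⟩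
    rw [Subgroup.orderOf_mk] at hk
    have h1 := AbCyc.aut_trivial (hab.subgroup R) (FittingCores.pCore_isPGroup _) hs.out hs5 hlt
      (MulAut.conjNormal (H := R) x) (k := k) (by rw [← map_pow, ← hk, pow_orderOf_eq_one, map_one])
    have h2 := congrArg Subtype.val (DFunLike.congr_fun h1 (⟨y, hy⟩ : R))
    rw [MulAut.conjNormal_apply] at h2
    exact mul_inv_eq_iff_eq_mul.1 h2
  have hle : (S : Subgroup G) ≤ Cfsg.fittingSubgroup G := by
    refine le_trans (fun x hx => ?_) FittingCores.centralizer_fitting_le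
    rw [Subgroup.mem_centralizer_iff]
    intro y hy
    have hy' : y ∈ Subgroup.centralizer ((S : Subgroup G) : Set G) := by
      have : Cfsg.fittingSubgroup G ≤ Subgroup.centralizer ((S : Subgroup G) : Set G) := by
        rw [FittingCores.fitting_eq_iSup_pCore]; exact iSup_le hcent
      exact this hy
    exact (Subgroup.mem_centralizer_iff.1 hy' x hx).symm
  set F := Cfsg.fittingSubgroup G
  haveI : Group.IsNilpotent F := FittingCores.fitting_nilpotent
  obtain ⟨T, hT⟩ := (S.2.comap_of_injective F.subtype F.subtype_injective).exists_le_sylow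
  have hSle : (S : Subgroup G) ≤ Cfsg.pCore s G := fun x hx =>
    FittingCores.sylow_le_pCore_of_nilpotent FittingCores.fitting_normal s T
      ⟨⟨x, hle hx⟩, hT hx, rfl⟩
  rw [← le_antisymm (FittingCores.pCore_le_sylow S) hSle]
  exact FittingCores.pCore_normal s

theorem towerFrom_five : ∀ (n : ℕ) (G : Type u) [Group G] [Finite G], Nat.card G ≤ n →
    Group.IsSolvable G → AbCyc.AbCyclic G → TowerFrom 5 G := by
  intro n
  induction n with
  | zero => intro G _ _ h; exact absurd h (not_le.2 Nat.card_pos)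
  | succ n ih =>
    intro G _ _ hn hsol hab k hk
    haveI := hsol
    classical
    by_cases hall : ∀ q, q.Prime → q ∣ Nat.card G → q < k
    · exact ⟨⊥, inferInstance, fun q hq hd => by rw [Subgroup.card_bot] at hd; exact absurd hd hq.not_dvd_one,
        fun q hq hd => hall q hq (Subgroup.index_bot (G := G) ▸ hd)⟩
    push Not at hall
    obtain ⟨q₀, hq₀, hq₀d, hq₀k⟩ := hall
    have hne : (Nat.card G).primeFactors.Nonempty :=
      ⟨q₀, Nat.mem_primeFactors.2 ⟨hq₀, hq₀d, Nat.card_pos.ne'⟩⟩
    set s := (Nat.card G).primeFactors.max' hne with hsdef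
    have hsmem := Finset.max'_mem _ hne
    obtain ⟨hsp, hsd, -⟩ := Nat.mem_primeFactors.1 hsmem
    have hmax : ∀ q, q.Prime → q ∣ Nat.card G → q ≤ s := fun q hq hd =>
      Finset.le_max' _ q (Nat.mem_primeFactors.2 ⟨hq, hd, Nat.card_pos.ne'⟩)
    have hks : k ≤ s := hq₀k.trans (hmax q₀ hq₀ hq₀d)
    haveI := Fact.mk hsp
    obtain ⟨S⟩ : Nonempty (Sylow s G) := inferInstance
    haveI hSn : (S : Subgroup G).Normal := sylow_normal hab (hk.trans hks) hmax S
    obtain ⟨T, hT⟩ := Subgroup.exists_right_complement'_of_coprime (N := (S : Subgroup G))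
      S.card_coprime_index
    have hTlt : Nat.card T ≤ n := by
      have h1 := hT.card_mul_card
      have h2 : 2 ≤ Nat.card (S : Subgroup G) :=
        le_trans hsp.two_le (Nat.le_of_dvd Nat.card_pos (S.dvd_card_of_dvd_card hsd))
      have h3 : 0 < Nat.card T := Nat.card_pos
      nlinarith
    obtain ⟨N', hN'n, hN'1, hN'2⟩ := ih T hTlt inferInstance (hab.subgroup T) k hk
    set N₀ := N'.map T.subtype with hN₀
    have hN₀T : N₀ ≤ T := Subgroup.map_subtype_le _
    have hN₀c : Nat.card N₀ = Nat.card N' := Subgroup.card_map_of_injective T.subtype_injective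
    set N := (S : Subgroup G) ⊔ N₀ with hN
    have hNn : N.Normal := by
      rw [← Subgroup.normalizer_eq_top_iff, eq_top_iff, ← hT.sup_eq_top]
      refine sup_le (le_trans le_sup_left Subgroup.le_normalizer) ?_
      intro t ht
      rw [Subgroup.mem_normalizer_iff]
      have hmap : ∀ u ∈ T, ∀ x ∈ N, u * x * u⁻¹ ∈ N := by
        intro u hu x hx
        have : N.map (MulAut.conj u).toMonoidHom ≤ N := by
          rw [hN, Subgroup.map_sup]
          refine sup_le_sup ?_ ?_
          · rintro _ ⟨y, hy, rfl⟩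
            exact hSn.conj_mem y hy u
          · rintro _ ⟨y, ⟨z, hz, rfl⟩, rfl⟩
            exact ⟨⟨u, hu⟩ * z * ⟨u, hu⟩⁻¹, hN'n.conj_mem z hz _, rfl⟩
        exact this ⟨x, hx, rfl⟩
      intro x
      refine ⟨hmap t ht x, fun hx => ?_⟩
      have := hmap t⁻¹ (T.inv_mem ht) _ hx
      simpa [mul_assoc] using this
    have hcop : Nat.Coprime (Nat.card (S : Subgroup G)) (Nat.card N₀) := by
      have h1 := hT.symm.index_eq_card ▸ S.card_coprime_index
      exact h1.coprime_dvd_right (Subgroup.card_dvd_of_le hN₀T)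
    have hinf : (S : Subgroup G) ⊓ N₀ = ⊥ := Subgroup.inf_eq_bot_of_coprime hcop
    have hNc : Nat.card N = Nat.card (S : Subgroup G) * Nat.card N₀ := by
      have hrel : (S : Subgroup G).relIndex N = Nat.card N₀ := by
        rw [hN, sup_comm, Subgroup.relIndex_sup_right, ← Subgroup.inf_relIndex_right, hinf,
          Subgroup.relIndex_bot_left]
      rw [← Subgroup.relIndex_bot_left N, ← Subgroup.relIndex_mul_relIndex ⊥ (S : Subgroup G) N bot_le le_sup_left,
        Subgroup.relIndex_bot_left, hrel]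
    refine ⟨N, hNn, fun q hq hd => ?_, fun q hq hd => ?_⟩
    · rw [hNc, hN₀c] at hd
      rcases hq.dvd_mul.1 hd with h | h
      · obtain ⟨a, ha⟩ := IsPGroup.iff_card.1 S.2
        rw [ha] at h
        exact hks.trans ((Nat.prime_dvd_prime_iff_eq hq hsp).1 (hq.dvd_of_dvd_pow h)).ge
      · exact hN'1 q hq h
    · refine hN'2 q hq ?_
      have h1 := Subgroup.card_mul_index N
      rw [hNc, hN₀c, ← hT.card_mul_card, mul_assoc] at h1
      have h2 := Nat.eq_of_mul_eq_mul_left Nat.card_pos h1
      rw [← Subgroup.card_mul_index N'] at h2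
      exact (Nat.eq_of_mul_eq_mul_left Nat.card_pos h2) ▸ hd

end Cfsg.Agent.ComplTower
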