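import Mathlib
import Cfsg.Agent.Lib.Solvable.Fitting

/-!
Counting the subnormalizer of a `p`-subgroup (Casolo's formula).

For each element `g` the poset of `g`-invariant `p`-subgroups carries a unique weight whose sum
over every upper interval is `1`; summing over `g` localises at `N(R)/R`.
-/

set_option autoImplicit false
set_option linter.style.haveILetI false

namespace Cfsg.Agent.Subnormalizer

open scoped Classical

noncomputable local instance instFintypeOfFinite {α : Type*} [Finite α] : Fintype α := Fintype.ofFinite α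

universe u

section Coweight

variable {α : Type*} [PartialOrder α]

/-- A weight whose sum over each upper interval of `s` is one. -/
def IsCoweight (s : Finset α) (c : α → ℤ) : Prop :=
  ∀ x ∈ s, ∑ y ∈ s.filter (x ≤ ·), c y = 1

lemma filter_le_eq_insert {s : Finset α} {x : α} (hx : x ∈ s) :
    s.filter (x ≤ ·) = insert x (s.filter (x < ·)) := by
  ext y
  simp only [Finset.mem_filter, Finset.mem_insert]
  constructor
  · rintro ⟨hy, h⟩
    rcases h.eq_or_lt with h | h
    · exact Or.inl h.symm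
    · exact Or.inr ⟨hy, h⟩
  · rintro (rfl | ⟨hy, h⟩)
    · exact ⟨hx, le_rfl⟩
    · exact ⟨hy, h.le⟩

lemma IsCoweight.apply_eq {s : Finset α} {c : α → ℤ} (h : IsCoweight s c) {x : α} (hx : x ∈ s) :
    c x = 1 - ∑ y ∈ s.filter (x < ·), c y := by
  have h1 := h x hx
  rw [filter_le_eq_insert hx, Finset.sum_insert (by simp)] at h1
  linarith

lemma exists_isCoweight [Finite α] (s : Finset α) : ∃ c, IsCoweight s c := by
  let F : ∀ x : α, (∀ y, x < y → ℤ) → ℤ := fun x rec =>
    1 - ∑ y ∈ (s.filter (x < ·)).attach, rec y.1 (Finset.mem_filter.1 y.2).2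
  let c : α → ℤ := (wellFounded_gt (α := α)).fix F
  refine ⟨c, fun x hx => ?_⟩
  have hc : c x = 1 - ∑ y ∈ s.filter (x < ·), c y := by
    show (wellFounded_gt (α := α)).fix F x = _
    rw [WellFounded.fix_eq]
    show 1 - ∑ y ∈ (s.filter (x < ·)).attach, c y.1 = _
    rw [Finset.sum_attach]
  rw [filter_le_eq_insert hx, Finset.sum_insert (by simp), hc]
  ring

lemma IsCoweight.unique [Finite α] {s : Finset α} {c c' : α → ℤ} (h : IsCoweight s c)
    (h' : IsCoweight s c') : ∀ x ∈ s, c x = c' x := by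
  intro x
  induction x using WellFoundedGT.induction with
  | ind x ih =>
    intro hx
    rw [h.apply_eq hx, h'.apply_eq hx]
    congr 1
    exact Finset.sum_congr rfl fun y hy =>
      ih y (Finset.mem_filter.1 hy).2 (Finset.mem_filter.1 hy).1

lemma IsCoweight.of_upper {s t : Finset α} {c : α → ℤ} (h : IsCoweight s c) (hts : t ⊆ s)
    (hup : ∀ x ∈ t, ∀ y ∈ s, x ≤ y → y ∈ t) : IsCoweight t c := by
  intro x hx
  rw [← h x (hts hx)]
  refine Finset.sum_congr ?_ fun _ _ => rfl
  ext y
  simp only [Finset.mem_filter]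
  exact ⟨fun hy => ⟨hts hy.1, hy.2⟩, fun hy => ⟨hup x hx y hy.1 hy.2, hy.2⟩⟩

lemma IsCoweight.sum_retraction [Finite α] {s : Finset α} {c c' : α → ℤ} (r : α → α)
    (hr : ∀ x ∈ s, r x ∈ s) (hle : ∀ x ∈ s, r x ≤ x) (hidem : ∀ x ∈ s, r (r x) = r x)
    (hmono : ∀ x ∈ s, ∀ y ∈ s, x ≤ y → r x ≤ r y) (h : IsCoweight s c)
    (h' : IsCoweight (s.filter fun x => r x = x) c') :
    ∑ x ∈ s, c x = ∑ x ∈ s.filter (fun x => r x = x), c' x := by
  set s' := s.filter fun x => r x = x with hs'
  let d : α → ℤ := fun z => ∑ y ∈ s.filter (fun y => r y = z), c y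
  have hmap : ∀ y ∈ s, r y ∈ s' := fun y hy => Finset.mem_filter.2 ⟨hr y hy, hidem y hy⟩
  have hd : IsCoweight s' d := by
    intro x hx
    obtain ⟨hxs, hrx⟩ := Finset.mem_filter.1 hx
    rw [← h x hxs,
      ← Finset.sum_fiberwise_of_maps_to (g := r) (t := s'.filter (x ≤ ·)) (fun y hy => ?_) c]
    · refine Finset.sum_congr rfl fun z hz => ?_
      show ∑ y ∈ s.filter (fun y => r y = z), c y = _
      refine Finset.sum_congr ?_ fun _ _ => rfl
      ext y
      simp only [Finset.mem_filter]
      constructor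
      · rintro ⟨hy, rfl⟩
        exact ⟨⟨hy, (Finset.mem_filter.1 hz).2.trans (hle y hy)⟩, rfl⟩
      · rintro ⟨⟨hy, -⟩, h2⟩
        exact ⟨hy, h2⟩
    · obtain ⟨hys, hxy⟩ := Finset.mem_filter.1 hy
      exact Finset.mem_filter.2 ⟨hmap y hys, hrx ▸ hmono x hxs y hys hxy⟩
  rw [← Finset.sum_fiberwise_of_maps_to (g := r) (t := s') hmap c]
  exact Finset.sum_congr rfl fun z hz => hd.unique h' z hz

lemma IsCoweight.comp_image {β : Type*} [PartialOrder β] {t : Finset β} {φ : β → α}
    (hφ : ∀ a ∈ t, ∀ b ∈ t, φ a ≤ φ b ↔ a ≤ b) {c : α → ℤ}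
    (h : IsCoweight (t.image φ) c) : IsCoweight t (c ∘ φ) := by
  intro x hx
  rw [← h (φ x) (Finset.mem_image_of_mem φ hx), Finset.filter_image, Finset.sum_image]
  · refine Finset.sum_congr ?_ fun _ _ => rfl
    ext y
    simp only [Finset.mem_filter]
    exact ⟨fun hy => ⟨hy.1, (hφ x hx y hy.1).2 hy.2⟩, fun hy => ⟨hy.1, (hφ x hx y hy.1).1 hy.2⟩⟩
  · intro a ha b hb hab
    have ha' := (Finset.mem_filter.1 ha).1
    have hb' := (Finset.mem_filter.1 hb).1
    exact le_antisymm ((hφ a ha' b hb').1 hab.le) ((hφ b hb' a ha').1 hab.ge)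

end Coweight

variable {G : Type u} [Group G] (p : ℕ)

/-- Maximal `p`-subgroups. -/
def IsSyl (R : Subgroup G) : Prop :=
  IsPGroup p R ∧ ∀ X : Subgroup G, IsPGroup p X → R ≤ X → X = R

variable [Finite G]

omit [Finite G] in
lemma IsSyl.exists_sylow {R : Subgroup G} (h : IsSyl p R) :
    ∃ Q : Sylow p G, (Q : Subgroup G) = R :=
  ⟨⟨R, h.1, @fun X hX hle => h.2 X hX hle⟩, rfl⟩

omit [Finite G] in
lemma isSyl_sylow (Q : Sylow p G) : IsSyl p (Q : Subgroup G) :=
  ⟨Q.isPGroup', fun _ hX hle => Q.is_maximal' hX hle⟩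

/-- The `g`-invariant `p`-subgroups. -/
noncomputable def invSubgroups (g : G) : Finset (Subgroup G) :=
  Finset.univ.filter fun R => IsPGroup p R ∧ g ∈ Subgroup.normalizer (R : Set G)

lemma mem_invSubgroups {g : G} {R : Subgroup G} :
    R ∈ invSubgroups p g ↔ IsPGroup p R ∧ g ∈ Subgroup.normalizer (R : Set G) := by
  simp [invSubgroups]

/-- The weight on the invariant `p`-subgroups. -/
noncomputable def cw (g : G) : Subgroup G → ℤ :=
  (exists_isCoweight (invSubgroups p g)).choose

lemma isCoweight_cw (g : G) : IsCoweight (invSubgroups p g) (cw p g) :=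
  (exists_isCoweight (invSubgroups p g)).choose_spec

/-- The total local weight of a subgroup. -/
noncomputable def totWeight (R : Subgroup G) : ℤ :=
  ∑ g ∈ Finset.univ.filter (fun g => g ∈ Subgroup.normalizer (R : Set G)), cw p g R

lemma bot_mem_invSubgroups (g : G) : (⊥ : Subgroup G) ∈ invSubgroups p g := by
  rw [mem_invSubgroups]
  refine ⟨IsPGroup.of_bot, ?_⟩
  rw [Subgroup.mem_normalizer_iff]
  intro h
  simp [Subgroup.mem_bot]

variable [Fact p.Prime]

lemma lt_inf_normalizer {R X : Subgroup G} (hX : IsPGroup p X) (h : R < X) :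
    R < X ⊓ Subgroup.normalizer (R : Set G) := by
  haveI : Group.IsNilpotent X := hX.isNilpotent
  have h1 : R.subgroupOf X < ⊤ := by
    rw [lt_top_iff_ne_top, Ne, Subgroup.subgroupOf_eq_top]
    exact h.not_ge
  have h2 := Group.normalizerCondition_of_isNilpotent _ h1
  obtain ⟨⟨x, hx⟩, hxn, hxR⟩ := Set.exists_of_ssubset h2
  have hn : x ∈ Subgroup.normalizer (R : Set G) := by
    have h3 := Subgroup.mem_normalizer_iff.1 hxn
    rw [Subgroup.mem_normalizer_iff]
    intro y
    constructor
    · intro hy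
      exact (h3 ⟨y, h.le hy⟩).1 hy
    · intro hy
      have hyX : y ∈ X := by
        have := X.mul_mem (X.mul_mem (X.inv_mem hx) (h.le hy)) hx
        simpa [mul_assoc] using this
      exact (h3 ⟨y, hyX⟩).2 hy
  exact lt_of_le_of_ne (le_inf h.le Subgroup.le_normalizer) fun e =>
    hxR (show x ∈ R from e ▸ ⟨hx, hn⟩)

section Local

variable (R : Subgroup G)

/-- Subgroups of `N(R)/R` as subgroups of `G`. -/
def lift (T : Subgroup (Subgroup.normalizer (R : Set G) ⧸
    R.subgroupOf (Subgroup.normalizer (R : Set G)))) : Subgroup G :=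
  (T.comap (QuotientGroup.mk' _)).map (Subgroup.normalizer (R : Set G)).subtype

variable {R}

omit [Finite G] in
lemma mem_lift {T : Subgroup (Subgroup.normalizer (R : Set G) ⧸
    R.subgroupOf (Subgroup.normalizer (R : Set G)))} {x : G} :
    x ∈ lift R T ↔ ∃ h : x ∈ Subgroup.normalizer (R : Set G),
      QuotientGroup.mk' _ (⟨x, h⟩ : Subgroup.normalizer (R : Set G)) ∈ T := by
  constructor
  · rintro ⟨y, hy, rfl⟩; exact ⟨y.2, hy⟩
  · rintro ⟨h, hx⟩; exact ⟨⟨x, h⟩, hx, rfl⟩

omit [Finite G] in
lemma lift_le_iff {T T' : Subgroup (Subgroup.normalizer (R : Set G) ⧸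
    R.subgroupOf (Subgroup.normalizer (R : Set G)))} : lift R T ≤ lift R T' ↔ T ≤ T' := by
  rw [lift, lift, Subgroup.map_le_map_iff_of_injective (Subgroup.subtype_injective _),
    Subgroup.comap_le_comap_of_surjective (QuotientGroup.mk'_surjective _)]

omit [Finite G] in
lemma lift_bot : lift R ⊥ = R := by
  rw [lift, MonoidHom.comap_bot, QuotientGroup.ker_mk',
    Subgroup.map_subgroupOf_eq_of_le Subgroup.le_normalizer]

omit [Finite G] [Fact p.Prime] in
lemma isPGroup_lift (hR : IsPGroup p R) {T : Subgroup (Subgroup.normalizer (R : Set G) ⧸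
    R.subgroupOf (Subgroup.normalizer (R : Set G)))} :
    IsPGroup p (lift R T) ↔ IsPGroup p T := by
  constructor
  · intro h
    have h1 : IsPGroup p (T.comap (QuotientGroup.mk'
        (R.subgroupOf (Subgroup.normalizer (R : Set G))))) :=
      h.of_equiv (Subgroup.equivMapOfInjective _ _ (Subgroup.subtype_injective _)).symm
    have h2 := h1.map (QuotientGroup.mk' (R.subgroupOf (Subgroup.normalizer (R : Set G))))
    rwa [Subgroup.map_comap_eq_self_of_surjective (QuotientGroup.mk'_surjective _)] at h2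
  · intro h
    refine (h.comap_of_ker_isPGroup _ ?_).map _
    rw [QuotientGroup.ker_mk']
    exact hR.comap_subtype

omit [Finite G] [Fact p.Prime] in
lemma exists_lift_eq (hR : IsPGroup p R) {X : Subgroup G} (hX : IsPGroup p X) (hle : R ≤ X)
    (hN : X ≤ Subgroup.normalizer (R : Set G)) :
    ∃ T : Subgroup (Subgroup.normalizer (R : Set G) ⧸
      R.subgroupOf (Subgroup.normalizer (R : Set G))), IsPGroup p T ∧ lift R T = X := by
  have h1 : lift R ((X.subgroupOf _).map (QuotientGroup.mk' _)) = X := by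
    rw [lift, Subgroup.comap_map_eq, QuotientGroup.ker_mk', sup_eq_left.2 (fun y hy => hle hy),
      Subgroup.map_subgroupOf_eq_of_le hN]
  exact ⟨_, (isPGroup_lift p hR).1 (h1.symm ▸ hX), h1⟩

omit [Finite G] in
lemma mem_normalizer_lift {g : G} (hg : g ∈ Subgroup.normalizer (R : Set G))
    {T : Subgroup (Subgroup.normalizer (R : Set G) ⧸
      R.subgroupOf (Subgroup.normalizer (R : Set G)))} :
    g ∈ Subgroup.normalizer (lift R T : Set G) ↔
      QuotientGroup.mk' _ (⟨g, hg⟩ : Subgroup.normalizer (R : Set G)) ∈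
        Subgroup.normalizer (SetLike.coe T) := by
  rw [Subgroup.mem_normalizer_iff, Subgroup.mem_normalizer_iff]
  constructor
  · intro h w
    obtain ⟨⟨x, hx⟩, rfl⟩ := QuotientGroup.mk'_surjective _ w
    rw [← map_inv, ← map_mul, ← map_mul]
    constructor
    · intro hw
      obtain ⟨h', hw'⟩ := mem_lift.1 ((h x).1 (mem_lift.2 ⟨hx, hw⟩))
      exact hw'
    · intro hw
      obtain ⟨h', hw'⟩ := mem_lift.1 ((h x).2 (mem_lift.2
        ⟨mul_mem (mul_mem hg hx) (inv_mem hg), hw⟩))
      exact hw'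
  · intro h x
    constructor
    · intro hx
      obtain ⟨hxN, hxT⟩ := mem_lift.1 hx
      refine mem_lift.2 ⟨mul_mem (mul_mem hg hxN) (inv_mem hg), ?_⟩
      have := (h _).1 hxT
      rwa [← map_inv, ← map_mul, ← map_mul] at this
    · intro hx
      obtain ⟨hcN, hcT⟩ := mem_lift.1 hx
      have hxN : x ∈ Subgroup.normalizer (R : Set G) := by
        have := mul_mem (mul_mem (inv_mem hg) hcN) hg
        simpa [mul_assoc] using this
      refine mem_lift.2 ⟨hxN, (h _).2 ?_⟩
      rw [← map_inv, ← map_mul, ← map_mul]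
      exact hcT

lemma cw_local (hR : IsPGroup p R) {g : G} (hg : g ∈ Subgroup.normalizer (R : Set G)) :
    cw p g R =
      cw p (QuotientGroup.mk' _ (⟨g, hg⟩ : Subgroup.normalizer (R : Set G))) (⊥ : Subgroup
        (Subgroup.normalizer (R : Set G) ⧸ R.subgroupOf (Subgroup.normalizer (R : Set G)))) := by
  set w := QuotientGroup.mk' (R.subgroupOf (Subgroup.normalizer (R : Set G)))
    (⟨g, hg⟩ : Subgroup.normalizer (R : Set G)) with hw
  rw [(isCoweight_cw p g).apply_eq ((mem_invSubgroups p).2 ⟨hR, hg⟩),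
    (isCoweight_cw p w).apply_eq (bot_mem_invSubgroups p w)]
  congr 1
  set A := (invSubgroups p g).filter (R < ·) with hA
  set B := (invSubgroups p w).filter (⊥ < ·) with hB
  have hAc : IsCoweight A (cw p g) :=
    (isCoweight_cw p g).of_upper (Finset.filter_subset _ _) fun x hx y hy hxy =>
      Finset.mem_filter.2 ⟨hy, (Finset.mem_filter.1 hx).2.trans_le hxy⟩
  have hBc : IsCoweight B (cw p w) :=
    (isCoweight_cw p w).of_upper (Finset.filter_subset _ _) fun x hx y hy hxy =>
      Finset.mem_filter.2 ⟨hy, (Finset.mem_filter.1 hx).2.trans_le hxy⟩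
  obtain ⟨c', hc'⟩ := exists_isCoweight (A.filter fun X => X ⊓ Subgroup.normalizer (R : Set G) = X)
  have himg : B.image (lift R) = A.filter fun X => X ⊓ Subgroup.normalizer (R : Set G) = X := by
    ext X
    simp only [Finset.mem_image, Finset.mem_filter, hA, hB, mem_invSubgroups, inf_eq_left]
    constructor
    · rintro ⟨T, ⟨⟨hT1, hT2⟩, hT3⟩, rfl⟩
      refine ⟨⟨⟨(isPGroup_lift p hR).2 hT1, (mem_normalizer_lift hg).2 hT2⟩, ?_⟩,
        Subgroup.map_subtype_le _⟩
      exact lt_of_le_of_ne ((lift_bot (R := R)).ge.trans (lift_le_iff.2 bot_le)) fun e =>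
        hT3.not_ge (lift_le_iff.1 (e.ge.trans (lift_bot (R := R)).ge))
    · rintro ⟨⟨⟨hX1, hX2⟩, hX3⟩, hX4⟩
      obtain ⟨T, hT, rfl⟩ := exists_lift_eq p hR hX1 hX3.le hX4
      refine ⟨T, ⟨⟨hT, (mem_normalizer_lift hg).1 hX2⟩, bot_lt_iff_ne_bot.2 ?_⟩, rfl⟩
      rintro rfl
      exact hX3.ne lift_bot.symm
  rw [hAc.sum_retraction (fun X => X ⊓ Subgroup.normalizer (R : Set G)) ?_
    (fun _ _ => inf_le_left) (fun X _ => by simp) (fun _ _ _ _ h => inf_le_inf_right _ h) hc',
    ← himg, Finset.sum_image fun a _ b _ h => le_antisymm (lift_le_iff.1 h.le) (lift_le_iff.1 h.ge)]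
  · rw [← himg] at hc'
    exact Finset.sum_congr rfl fun T hT =>
      ((hc'.comp_image (fun _ _ _ _ => lift_le_iff)).unique hBc) T hT
  · intro X hX
    obtain ⟨hX1, hX2⟩ := Finset.mem_filter.1 hX
    obtain ⟨hXp, hXn⟩ := (mem_invSubgroups p).1 hX1
    refine Finset.mem_filter.2 ⟨(mem_invSubgroups p).2 ⟨hXp.to_le inf_le_left, ?_⟩,
      lt_inf_normalizer p hXp hX2⟩
    rw [Subgroup.mem_normalizer_iff]
    intro y
    have hgy : y ∈ Subgroup.normalizer (R : Set G) ↔
        g * y * g⁻¹ ∈ Subgroup.normalizer (R : Set G) := by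
      rw [Subgroup.mul_mem_cancel_right _ (inv_mem hg), Subgroup.mul_mem_cancel_left _ hg]
    simp only [Subgroup.mem_inf, ← Subgroup.mem_normalizer_iff.1 hXn y, ← hgy]

lemma totWeight_local (hR : IsPGroup p R) :
    totWeight p R = (Nat.card R : ℤ) * totWeight p (⊥ : Subgroup
      (Subgroup.normalizer (R : Set G) ⧸ R.subgroupOf (Subgroup.normalizer (R : Set G)))) := by
  have e1 : totWeight p R = ∑ n : Subgroup.normalizer (R : Set G), cw p (n : G) R := by
    rw [totWeight]
    exact Finset.sum_subtype _ (fun x => by simp) _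
  rw [e1, Finset.sum_congr rfl fun n _ => cw_local p hR n.2,
    ← Finset.sum_fiberwise Finset.univ
      (fun n : Subgroup.normalizer (R : Set G) =>
        (QuotientGroup.mk n : Subgroup.normalizer (R : Set G) ⧸
          R.subgroupOf (Subgroup.normalizer (R : Set G)))), totWeight, Finset.mul_sum]
  refine Finset.sum_congr ?_ fun w _ => ?_
  · ext w
    simp only [Finset.mem_univ, Finset.mem_filter, true_and, true_iff]
    rw [Subgroup.mem_normalizer_iff]
    intro h
    simp [Subgroup.mem_bot]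
  · rw [Finset.sum_congr rfl (fun n hn =>
      congrArg (fun v => cw p v ⊥) (Finset.mem_filter.1 hn).2 :
      ∀ n ∈ Finset.univ.filter (fun n : Subgroup.normalizer (R : Set G) =>
        (QuotientGroup.mk n : Subgroup.normalizer (R : Set G) ⧸
          R.subgroupOf (Subgroup.normalizer (R : Set G))) = w),
        cw p (QuotientGroup.mk' _ n) ⊥ = cw p w ⊥), Finset.sum_const, nsmul_eq_mul]
    congr 2
    obtain ⟨n₀, rfl⟩ := QuotientGroup.mk_surjective w
    rw [← Nat.card_congr (Subgroup.subgroupOfEquivOfLe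
      (Subgroup.le_normalizer (H := R))).toEquiv, Nat.card_eq_fintype_card]
    refine Finset.card_nbij' (fun n => n₀⁻¹ * n) (fun k => n₀ * k) ?_ ?_ ?_ ?_ |>.trans
      (Fintype.card_of_subtype (Finset.univ.filter
        fun n => n ∈ R.subgroupOf (Subgroup.normalizer (R : Set G))) (fun x => by simp)).symm
    · intro n hn
      simp only [Finset.mem_coe, Finset.mem_filter, Finset.mem_univ, true_and] at hn ⊢
      exact QuotientGroup.eq.1 hn.symm
    · intro k hk
      simp only [Finset.mem_coe, Finset.mem_filter, Finset.mem_univ, true_and] at hk ⊢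
      exact (QuotientGroup.eq.2 (by simpa using hk)).symm
    · intro n _; simp
    · intro k _; simp

lemma isSyl_iff_local (hR : IsPGroup p R) :
    IsSyl p R ↔ IsSyl p (⊥ : Subgroup
      (Subgroup.normalizer (R : Set G) ⧸ R.subgroupOf (Subgroup.normalizer (R : Set G)))) := by
  constructor
  · rintro ⟨-, h⟩
    refine ⟨IsPGroup.of_bot, fun T hT _ => ?_⟩
    have h1 := h (lift R T) ((isPGroup_lift p hR).2 hT)
      ((lift_bot (R := R)).ge.trans (lift_le_iff.2 bot_le))
    exact le_antisymm (lift_le_iff.1 (h1.le.trans lift_bot.ge)) bot_le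
  · rintro ⟨-, h⟩
    refine ⟨hR, fun X hX hle => ?_⟩
    by_contra hne
    have hlt := lt_inf_normalizer p hX (lt_of_le_of_ne hle (Ne.symm hne))
    obtain ⟨T, hT, hTX⟩ := exists_lift_eq p hR (hX.to_le inf_le_left) hlt.le inf_le_right
    rw [h T hT bot_le, lift_bot] at hTX
    exact hlt.ne hTX

end Local

lemma card_normalizer_eq (P Q : Sylow p G) :
    Nat.card (Subgroup.normalizer ((Q : Subgroup G) : Set G)) =
      Nat.card (Subgroup.normalizer ((P : Subgroup G) : Set G)) := by
  have e1 := Subgroup.card_mul_index (Subgroup.normalizer ((Q : Subgroup G) : Set G))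
  have e2 := Subgroup.card_mul_index (Subgroup.normalizer ((P : Subgroup G) : Set G))
  have f1 : Nat.card (Sylow p G) = (Subgroup.normalizer ((Q : Subgroup G) : Set G)).index :=
    Sylow.card_eq_index_normalizer Q
  have f2 : Nat.card (Sylow p G) = (Subgroup.normalizer ((P : Subgroup G) : Set G)).index :=
    Sylow.card_eq_index_normalizer P
  rw [← f1] at e1
  rw [← f2] at e2
  exact Nat.eq_of_mul_eq_mul_right Nat.card_pos (e1.trans e2.symm)

lemma sum_normalizer_syl :
    ∑ R ∈ Finset.univ.filter (fun R : Subgroup G => IsSyl p R),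
      (Nat.card (Subgroup.normalizer (R : Set G)) : ℤ) = Nat.card G := by
  let P₀ : Sylow p G := Classical.arbitrary _
  have h1 : ∑ R ∈ Finset.univ.filter (fun R : Subgroup G => IsSyl p R),
      (Nat.card (Subgroup.normalizer (R : Set G)) : ℤ) =
      ∑ Q : Sylow p G, (Nat.card (Subgroup.normalizer ((Q : Subgroup G) : Set G)) : ℤ) := by
    refine (Finset.sum_nbij (fun Q : Sylow p G => (Q : Subgroup G)) ?_ ?_ ?_ ?_).symm
    · exact fun Q _ => Finset.mem_coe.2 (Finset.mem_filter.2 ⟨Finset.mem_univ _, isSyl_sylow p Q⟩)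
    · exact fun Q _ Q' _ h => Sylow.ext h
    · intro R hR
      obtain ⟨Q, hQ⟩ := IsSyl.exists_sylow p (Finset.mem_filter.1 hR).2
      exact ⟨Q, Finset.mem_univ _, hQ⟩
    · exact fun Q _ => rfl
  rw [h1, Finset.sum_congr rfl (fun Q _ => show _ =
    (Nat.card (Subgroup.normalizer ((P₀ : Subgroup G) : Set G)) : ℤ) from ?_),
    Finset.sum_const, Finset.card_univ, nsmul_eq_mul, ← Nat.card_eq_fintype_card,
    Sylow.card_eq_index_normalizer P₀, mul_comm]
  · exact_mod_cast Subgroup.card_mul_index (Subgroup.normalizer ((P₀ : Subgroup G) : Set G))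
  · exact congrArg _ (card_normalizer_eq p P₀ Q)

omit [Fact p.Prime] in
/-- Summing the weights over elements first or over subgroups first. -/
lemma sum_swap (H : Subgroup G) :
    ∑ g : G, ∑ R ∈ (invSubgroups p g).filter (H ≤ ·), cw p g R =
      ∑ R ∈ Finset.univ.filter (fun R : Subgroup G => IsPGroup p R ∧ H ≤ R), totWeight p R := by
  refine Finset.sum_comm' fun g R => ?_
  simp [mem_invSubgroups]
  tauto

/-- The local weight is supported on the Sylow subgroups. -/
theorem totWeight_eq : ∀ (n : ℕ) (G : Type u) [Group G] [Finite G], Nat.card G ≤ n →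
    ∀ R : Subgroup G, IsPGroup p R →
      totWeight p R = if IsSyl p R then (Nat.card (Subgroup.normalizer (R : Set G)) : ℤ) else 0 := by
  intro n
  induction n with
  | zero =>
    intro G _ _ hn
    exact absurd hn (by have := Nat.card_pos (α := G); omega)
  | succ n ih =>
    intro G _ _ hn
    have hne : ∀ R : Subgroup G, IsPGroup p R → R ≠ ⊥ →
        totWeight p R = if IsSyl p R then (Nat.card (Subgroup.normalizer (R : Set G)) : ℤ) else 0 := by
      intro R hR hR0
      set N := Subgroup.normalizer (R : Set G) with hN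
      have hcard := Subgroup.card_mul_index (R.subgroupOf N)
      have hRc : Nat.card (R.subgroupOf N) = Nat.card R :=
        Nat.card_congr (Subgroup.subgroupOfEquivOfLe Subgroup.le_normalizer).toEquiv
      have hQ : Nat.card (N ⧸ R.subgroupOf N) ≤ n := by
        have h2 : 2 ≤ Nat.card (R.subgroupOf N) := by
          rw [hRc]; exact (Subgroup.one_lt_card_iff_ne_bot R).2 hR0
        have h3 : Nat.card N ≤ n + 1 := (Subgroup.card_le_card_group _).trans hn
        rw [← hcard] at h3
        show (R.subgroupOf N).index ≤ n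
        have h4 : 2 * (R.subgroupOf N).index ≤ n + 1 := (Nat.mul_le_mul_right _ h2).trans h3
        omega
      rw [totWeight_local p hR, ih _ hQ ⊥ IsPGroup.of_bot]
      by_cases hs : IsSyl p R
      · rw [if_pos hs, if_pos ((isSyl_iff_local p hR).1 hs), Subgroup.normalizer_eq_top]
        rw [Subgroup.card_top, ← hRc, ← hcard]
        push_cast
        rfl
      · rw [if_neg hs, if_neg (fun h => hs ((isSyl_iff_local p hR).2 h)), mul_zero]
    intro R hR
    rcases ne_or_eq R ⊥ with hR0 | rfl
    · exact hne R hR hR0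
    set S := Finset.univ.filter (fun R : Subgroup G => IsPGroup p R ∧ ⊥ ≤ R) with hS
    have htot : ∑ R ∈ S, totWeight p R = Nat.card G := by
      rw [← sum_swap p ⊥, Finset.sum_congr rfl fun g _ => show _ = (1 : ℤ) from
        isCoweight_cw p g ⊥ (bot_mem_invSubgroups p g)]
      simp
    have hsyl : ∑ R ∈ S, (if IsSyl p R then (Nat.card (Subgroup.normalizer (R : Set G)) : ℤ) else 0) =
        Nat.card G := by
      rw [← Finset.sum_filter, ← sum_normalizer_syl (G := G) p]
      refine Finset.sum_congr ?_ fun _ _ => rfl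
      ext R
      simp only [hS, Finset.mem_filter, Finset.mem_univ, true_and, bot_le, and_true]
      exact ⟨fun h => h.2, fun h => ⟨h.1, h⟩⟩
    have hbot : (⊥ : Subgroup G) ∈ S := Finset.mem_filter.2 ⟨Finset.mem_univ _, hR, le_rfl⟩
    rw [← Finset.add_sum_erase S _ hbot] at htot hsyl
    have herase : ∑ R ∈ S.erase ⊥, totWeight p R = ∑ R ∈ S.erase ⊥,
        (if IsSyl p R then (Nat.card (Subgroup.normalizer (R : Set G)) : ℤ) else 0) :=
      Finset.sum_congr rfl fun R hR' =>
        hne R (Finset.mem_filter.1 (Finset.mem_of_mem_erase hR')).2.1 (Finset.ne_of_mem_erase hR')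
    linarith

/-- Some invariant `p`-subgroup over `H`. -/
def InSN (H : Subgroup G) (g : G) : Prop :=
  ∃ R : Subgroup G, IsPGroup p R ∧ H ≤ R ∧ g ∈ Subgroup.normalizer (R : Set G)

omit [Finite G] in
lemma mem_normalizer_sInf {g : G} (s : Set (Subgroup G))
    (h : ∀ R ∈ s, g ∈ Subgroup.normalizer (R : Set G)) :
    g ∈ Subgroup.normalizer (SetLike.coe (sInf s)) := by
  rw [Subgroup.mem_normalizer_iff]
  intro y
  simp only [Subgroup.mem_sInf]
  exact forall₂_congr fun R hR => Subgroup.mem_normalizer_iff.1 (h R hR) y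

lemma sum_cw_eq (H : Subgroup G) (g : G) :
    ∑ R ∈ (invSubgroups p g).filter (H ≤ ·), cw p g R = if InSN p H g then 1 else 0 := by
  by_cases hg : InSN p H g
  · obtain ⟨R₀, h0p, h0H, h0g⟩ := hg
    rw [if_pos ⟨R₀, h0p, h0H, h0g⟩]
    set s : Set (Subgroup G) := {R | IsPGroup p R ∧ H ≤ R ∧ g ∈ Subgroup.normalizer (R : Set G)}
    set K := sInf s with hK
    have hKH : H ≤ K := le_sInf fun R hR => hR.2.1
    have hKmem : K ∈ invSubgroups p g := (mem_invSubgroups p).2
      ⟨h0p.to_le (sInf_le ⟨h0p, h0H, h0g⟩), mem_normalizer_sInf s fun R hR => hR.2.2⟩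
    rw [← isCoweight_cw p g K hKmem]
    refine Finset.sum_congr ?_ fun _ _ => rfl
    ext R
    simp only [Finset.mem_filter]
    refine ⟨fun ⟨hR, hHR⟩ => ⟨hR, sInf_le ?_⟩, fun ⟨hR, hKR⟩ => ⟨hR, hKH.trans hKR⟩⟩
    exact ⟨((mem_invSubgroups p).1 hR).1, hHR, ((mem_invSubgroups p).1 hR).2⟩
  · rw [if_neg hg]
    refine Finset.sum_eq_zero fun R hR => absurd ?_ hg
    obtain ⟨hR1, hR2⟩ := Finset.mem_filter.1 hR
    exact ⟨R, ((mem_invSubgroups p).1 hR1).1, hR2, ((mem_invSubgroups p).1 hR1).2⟩

/-- Casolo's formula. -/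
theorem card_inSN (H : Subgroup G) (P : Sylow p G) :
    Nat.card {g : G // InSN p H g} =
      Nat.card {Q : Sylow p G // H ≤ (Q : Subgroup G)} *
        Nat.card (Subgroup.normalizer ((P : Subgroup G) : Set G)) := by
  have h1 := sum_swap p H
  rw [Finset.sum_congr rfl fun g _ => sum_cw_eq p H g, Finset.sum_boole,
    Finset.sum_congr rfl (fun R hR => totWeight_eq p _ G le_rfl R (Finset.mem_filter.1 hR).2.1),
    ← Finset.sum_filter] at h1
  have h2 : ∑ R ∈ (Finset.univ.filter (fun R : Subgroup G => IsPGroup p R ∧ H ≤ R)).filter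
      (fun R => IsSyl p R), (Nat.card (Subgroup.normalizer (R : Set G)) : ℤ) =
      ∑ Q ∈ Finset.univ.filter (fun Q : Sylow p G => H ≤ (Q : Subgroup G)),
        (Nat.card (Subgroup.normalizer ((P : Subgroup G) : Set G)) : ℤ) := by
    refine (Finset.sum_nbij (fun Q : Sylow p G => (Q : Subgroup G)) ?_ ?_ ?_ ?_).symm
    · exact fun Q hQ => Finset.mem_filter.2 ⟨Finset.mem_filter.2
        ⟨Finset.mem_univ _, Q.isPGroup', (Finset.mem_filter.1 hQ).2⟩, isSyl_sylow p Q⟩
    · exact fun Q _ Q' _ h => Sylow.ext h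
    · intro R hR
      obtain ⟨hR1, hR2⟩ := Finset.mem_filter.1 hR
      obtain ⟨Q, rfl⟩ := IsSyl.exists_sylow p hR2
      exact ⟨Q, Finset.mem_filter.2 ⟨Finset.mem_univ _, (Finset.mem_filter.1 hR1).2.2⟩, rfl⟩
    · exact fun Q _ => (congrArg _ (card_normalizer_eq p P Q)).symm
  rw [h2, Finset.sum_const, nsmul_eq_mul] at h1
  rw [Nat.card_eq_fintype_card (α := {g : G // InSN p H g}), Fintype.card_subtype,
    Nat.card_eq_fintype_card (α := {Q : Sylow p G // H ≤ (Q : Subgroup G)}), Fintype.card_subtype]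
  exact_mod_cast h1

omit [Fact p.Prime] in
/-- Counting the `x` with `x H x⁻¹ ≤ P` in two ways. -/
lemma card_conj_le (H : Subgroup G) (P : Subgroup G) :
    Nat.card {x : G // H.map (MulAut.conj x).toMonoidHom ≤ P} =
      Nat.card {K : Subgroup G // K ≤ P ∧ ∃ g : G, K = H.map (MulAut.conj g).toMonoidHom} *
        Nat.card (Subgroup.normalizer (H : Set G)) := by
  set N := Subgroup.normalizer (H : Set G)
  have hN : ∀ n ∈ N, H.map (MulAut.conj n).toMonoidHom = H := by
    intro n hn
    ext x
    rw [Subgroup.mem_map_equiv]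
    have := Subgroup.mem_normalizer_iff.1 hn (n⁻¹ * x * n)
    simp only [MulAut.conj_symm_apply]
    rw [this]
    simp [mul_assoc]
  have hmul : ∀ a b : G, H.map (MulAut.conj (a * b)).toMonoidHom =
      (H.map (MulAut.conj b).toMonoidHom).map (MulAut.conj a).toMonoidHom := fun a b => by
    rw [Subgroup.map_map]; congr 1; ext; simp [mul_assoc]
  let f : G ⧸ N → Subgroup G := Quotient.lift (fun x => H.map (MulAut.conj x).toMonoidHom) (by
    intro a b hab
    replace hab := QuotientGroup.leftRel_apply.1 hab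
    show H.map (MulAut.conj a).toMonoidHom = H.map (MulAut.conj b).toMonoidHom
    conv_rhs => rw [show b = a * (a⁻¹ * b) by group, hmul, hN _ hab])
  have hf : Function.Injective f := by
    intro a b
    induction a using QuotientGroup.induction_on with
    | H a =>
    induction b using QuotientGroup.induction_on with
    | H b =>
      intro h
      apply QuotientGroup.eq.2
      have h' : H.map (MulAut.conj a).toMonoidHom = H.map (MulAut.conj b).toMonoidHom := h
      rw [Subgroup.mem_normalizer_iff]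
      intro x
      have h3 := SetLike.ext_iff.1 h' (b * x * b⁻¹)
      rw [Subgroup.mem_map_equiv, Subgroup.mem_map_equiv] at h3
      simp only [MulAut.conj_symm_apply, mul_assoc, inv_mul_cancel_left, mul_inv_cancel,
        mul_one, inv_mul_cancel] at h3
      rw [← h3]
      simp [mul_assoc]
  have h1 : Nat.card {x : G // H.map (MulAut.conj x).toMonoidHom ≤ P} =
      Nat.card N * Nat.card {q : G ⧸ N // f q ≤ P} := by
    rw [← Nat.card_prod]
    exact Nat.card_congr (QuotientGroup.preimageMkEquivSubgroupProdSet N {q | f q ≤ P})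
  rw [h1, mul_comm]
  congr 1
  refine Nat.card_eq_of_bijective (fun q => ⟨f q.1, q.2, ?_⟩) ⟨fun a b h => ?_, fun K => ?_⟩
  · obtain ⟨x, hx⟩ := QuotientGroup.mk_surjective q.1
    exact ⟨x, by rw [← hx]; rfl⟩
  · exact Subtype.ext (hf (congrArg Subtype.val h))
  · obtain ⟨K, hKP, g, rfl⟩ := K
    exact ⟨⟨QuotientGroup.mk g, hKP⟩, rfl⟩

/-- The number of Sylow subgroups over `H` against conjugates of `H` in `P`. -/
lemma lambda_eq (H : Subgroup G) (P : Sylow p G) :
    Nat.card {Q : Sylow p G // H ≤ (Q : Subgroup G)} *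
        Nat.card (Subgroup.normalizer ((P : Subgroup G) : Set G)) =
      Nat.card {K : Subgroup G //
          K ≤ (P : Subgroup G) ∧ ∃ g : G, K = H.map (MulAut.conj g).toMonoidHom} *
        Nat.card (Subgroup.normalizer (H : Set G)) := by
  rw [← card_conj_le]
  symm
  have hcj : ∀ x : G, H.map (MulAut.conj x).toMonoidHom ≤ (P : Subgroup G) ↔
      H ≤ (P : Subgroup G).map (MulAut.conj x⁻¹).toMonoidHom := fun x => by
    constructor
    · intro h y hy
      refine ⟨x * y * x⁻¹, h ⟨y, hy, rfl⟩, ?_⟩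
      simp [mul_assoc]
    · rintro h _ ⟨y, hy, rfl⟩
      obtain ⟨u, hu, rfl⟩ := h hy
      simpa [mul_assoc, SetLike.mem_coe] using (show u ∈ (P : Subgroup G) from hu)
  set N := Subgroup.normalizer ((P : Subgroup G) : Set G)
  have hN : ∀ n ∈ N, (P : Subgroup G).map (MulAut.conj n).toMonoidHom = P := by
    intro n hn
    ext x
    rw [Subgroup.mem_map_equiv]
    have := Subgroup.mem_normalizer_iff.1 hn (n⁻¹ * x * n)
    simp only [MulAut.conj_symm_apply]
    rw [this]
    simp [mul_assoc]
  -- `x ↦ x⁻¹` turns the set into a union of left cosets of `N`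
  have h0 : Nat.card {x : G // H.map (MulAut.conj x).toMonoidHom ≤ (P : Subgroup G)} =
      Nat.card {x : G // H ≤ (P : Subgroup G).map (MulAut.conj x).toMonoidHom} :=
    Nat.card_congr ((Equiv.inv G).subtypeEquiv fun x => hcj x)
  rw [h0]
  let f : G ⧸ N → Sylow p G := Quotient.lift
    (fun x => (⟨(P : Subgroup G).map (MulAut.conj x).toMonoidHom, P.isPGroup'.map _,
      @fun X hX hle => by
        have h1 : (P : Subgroup G) ≤ X.map (MulAut.conj x).symm.toMonoidHom := by
          intro y hy
          exact ⟨MulAut.conj x y, hle ⟨y, hy, rfl⟩, (MulAut.conj x).symm_apply_apply y⟩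
        have h2 := P.is_maximal' (hX.map _) h1
        conv_rhs => rw [← h2, Subgroup.map_map]
        convert (Subgroup.map_id X).symm using 2
        ext y
        exact (MulAut.conj x).apply_symm_apply y⟩ : Sylow p G)) (by
    intro a b hab
    replace hab := QuotientGroup.leftRel_apply.1 hab
    apply Sylow.ext
    show (P : Subgroup G).map (MulAut.conj a).toMonoidHom = (P : Subgroup G).map (MulAut.conj b).toMonoidHom
    conv_rhs => rw [← mul_inv_cancel_left a b, show (MulAut.conj (a * (a⁻¹ * b))).toMonoidHom =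
      (MulAut.conj a).toMonoidHom.comp (MulAut.conj (a⁻¹ * b)).toMonoidHom by ext; simp [mul_assoc],
      ← Subgroup.map_map, hN _ hab])
  have hf : Function.Bijective f := by
    refine ((Nat.bijective_iff_surjective_and_card f).2 ⟨fun Q => ?_, ?_⟩)
    · obtain ⟨g, hg⟩ := MulAction.exists_smul_eq G P Q
      exact ⟨QuotientGroup.mk g, Sylow.ext (by rw [← hg]; rfl)⟩
    · exact (Sylow.card_eq_index_normalizer P).symm
  have h1 : Nat.card {x : G // H ≤ (P : Subgroup G).map (MulAut.conj x).toMonoidHom} =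
      Nat.card N * Nat.card {q : G ⧸ N // H ≤ (f q : Subgroup G)} := by
    rw [← Nat.card_prod]
    exact Nat.card_congr
      (QuotientGroup.preimageMkEquivSubgroupProdSet N {q | H ≤ (f q : Subgroup G)})
  rw [h1, mul_comm]
  congr 1
  exact Nat.card_congr ((Equiv.ofBijective f hf).subtypeEquiv fun _ => Iff.rfl)

/-- Subnormality in `⟨H, g⟩` of a `p`-subgroup. -/
lemma isSubnormal_iff_inSN {H : Subgroup G} (hH : IsPGroup p H) (g : G) :
    (H.subgroupOf (H ⊔ Subgroup.zpowers g)).IsSubnormal ↔ InSN p H g := by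
  set X := H ⊔ Subgroup.zpowers g with hX
  constructor
  · intro hs
    have h1 := FittingCores.le_pCore_of_isSubnormal hs hH.comap_subtype
    refine ⟨(Cfsg.pCore p X).map X.subtype, (FittingCores.pCore_isPGroup p).map _, ?_, ?_⟩
    · intro h hh
      exact ⟨⟨h, le_sup_left (b := Subgroup.zpowers g) hh⟩, h1 (show h ∈ H from hh), rfl⟩
    · have hgX : g ∈ X := (le_sup_right : Subgroup.zpowers g ≤ X) (Subgroup.mem_zpowers g)
      haveI := FittingCores.pCore_normal (G := X) p
      rw [Subgroup.mem_normalizer_iff]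
      intro y
      constructor
      · rintro ⟨z, hz, rfl⟩
        exact ⟨⟨g, hgX⟩ * z * ⟨g, hgX⟩⁻¹, Subgroup.Normal.conj_mem inferInstance z hz _, rfl⟩
      · rintro ⟨z, hz, hzy⟩
        refine ⟨⟨g, hgX⟩⁻¹ * z * ⟨g, hgX⟩, ?_, ?_⟩
        · simpa using Subgroup.Normal.conj_mem inferInstance z hz (⟨g, hgX⟩⁻¹ : X)
        · show g⁻¹ * (z : G) * g = y
          rw [show (z : G) = g * y * g⁻¹ from hzy]; group
  · rintro ⟨R, hR, hHR, hgR⟩
    have hXN : X ≤ Subgroup.normalizer (R : Set G) :=
      sup_le (hHR.trans Subgroup.le_normalizer) (Subgroup.zpowers_le.2 hgR)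
    haveI hRn : (R.subgroupOf X).Normal := Subgroup.normal_subgroupOf_of_le_normalizer hXN
    haveI : Group.IsNilpotent (R.subgroupOf X) :=
      (hR.comap_subtype (K := X)).isNilpotent
    have hall : ∀ H' : Subgroup (R.subgroupOf X), H'.IsSubnormal := by
      intro H'
      induction H' using WellFoundedGT.induction with
      | ind H' ih =>
        rcases eq_or_ne H' ⊤ with rfl | hne
        · exact Subgroup.IsSubnormal.top
        · exact Subgroup.IsSubnormal.step _ _ Subgroup.le_normalizer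
            (ih _ (Group.normalizerCondition_of_isNilpotent H' hne.lt_top))
            Subgroup.normal_in_normalizer
    exact Subgroup.IsSubnormal.trans (fun y hy => hHR hy) (hall _) hRn.isSubnormal

end Cfsg.Agent.Subnormalizer
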