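import Mathlib
import Cfsg.Agent.Lib.FGStruct.Subnormalizer

/-!
The number of `x` with `x H x⁻¹ ≤ P` along a quotient by a `p`-group or a `p'`-group.
-/

set_option autoImplicit false
set_option linter.style.haveILetI false

namespace Cfsg.Agent.ConjCount

universe u v

variable {G : Type u} [Group G]

/-- The number of `x` conjugating `H` into `P`. -/
noncomputable def cnt (P H : Subgroup G) : ℕ :=
  Nat.card {x : G // H.map (MulAut.conj x).toMonoidHom ≤ P}

lemma map_conj_le_iff {P H : Subgroup G} {x : G} :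
    H.map (MulAut.conj x).toMonoidHom ≤ P ↔ ∀ h ∈ H, x * h * x⁻¹ ∈ P := by
  constructor
  · exact fun h y hy => h ⟨y, hy, rfl⟩
  · rintro h _ ⟨y, hy, rfl⟩; exact h y hy

lemma cnt_self [Finite G] (P : Subgroup G) :
    cnt P P = Nat.card (Subgroup.normalizer (P : Set G)) := by
  refine Nat.card_congr (Equiv.subtypeEquivRight fun x => ?_)
  constructor
  · intro h
    have he : P.map (MulAut.conj x).toMonoidHom = P := Subgroup.eq_of_le_of_card_ge h
      (Subgroup.card_map_of_injective (f := (MulAut.conj x).toMonoidHom) (MulAut.conj x).injective).ge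
    rw [Subgroup.mem_normalizer_iff]
    intro y
    conv_rhs => rw [← he]
    rw [Subgroup.mem_map_equiv]
    simp [mul_assoc]
  · intro h
    exact map_conj_le_iff.2 fun y hy => (Subgroup.mem_normalizer_iff.1 h y).1 hy

variable {G₂ : Type v} [Group G₂]

lemma map_mem_iff_of_ker_le (f : G →* G₂) {P : Subgroup G} (h : f.ker ≤ P) (y : G) :
    f y ∈ P.map f ↔ y ∈ P := by
  refine ⟨?_, fun hy => ⟨y, hy, rfl⟩⟩
  rintro ⟨q, hq, hqy⟩
  rw [show y = q * (q⁻¹ * y) by group]
  exact P.mul_mem hq (h (by rw [MonoidHom.mem_ker, map_mul, map_inv, hqy, inv_mul_cancel]))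

lemma conj_map_iff_of_ker_le (f : G →* G₂) {P H : Subgroup G} (h : f.ker ≤ P) (x : G) :
    (H.map f).map (MulAut.conj (f x)).toMonoidHom ≤ P.map f ↔
      H.map (MulAut.conj x).toMonoidHom ≤ P := by
  rw [map_conj_le_iff, map_conj_le_iff]
  constructor
  · intro h1 y hy
    rw [← map_mem_iff_of_ker_le f h, map_mul, map_mul, map_inv]
    exact h1 _ ⟨y, hy, rfl⟩
  · rintro h1 _ ⟨y, hy, rfl⟩
    rw [← map_inv, ← map_mul, ← map_mul]
    exact ⟨_, h1 y hy, rfl⟩

variable [Finite G] {p : ℕ} [Fact p.Prime]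

/-- Reduction modulo a normal `p`-subgroup. -/
lemma cnt_pKernel (f : G →* G₂) (hf : Function.Surjective f) (hker : IsPGroup p f.ker)
    (P : Sylow p G) (H : Subgroup G) :
    cnt (P : Subgroup G) H = Nat.card f.ker * cnt ((P : Subgroup G).map f) (H.map f) := by
  have hle : f.ker ≤ (P : Subgroup G) := hker.le_sylow_of_normal P
  rw [cnt, cnt, ← Nat.card_prod]
  let s : G₂ → G := Function.surjInv hf
  have hs : ∀ y, f (s y) = y := Function.surjInv_eq hf
  refine (Nat.card_eq_of_bijective (fun w : f.ker × {y : G₂ //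
      (H.map f).map (MulAut.conj y).toMonoidHom ≤ (P : Subgroup G).map f} =>
    (⟨(w.1 : G) * s w.2.1, (conj_map_iff_of_ker_le f hle _).1 (by
      rw [map_mul, MonoidHom.mem_ker.1 w.1.2, one_mul, hs]; exact w.2.2)⟩ :
      {x : G // H.map (MulAut.conj x).toMonoidHom ≤ (P : Subgroup G)})) ⟨?_, ?_⟩).symm
  · intro a b hab
    have h : (a.1 : G) * s a.2.1 = (b.1 : G) * s b.2.1 := congrArg Subtype.val hab
    have h2 : a.2.1 = b.2.1 := by
      have := congrArg f h
      rwa [map_mul, map_mul, MonoidHom.mem_ker.1 a.1.2, MonoidHom.mem_ker.1 b.1.2, one_mul,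
        one_mul, hs, hs] at this
    rw [h2, mul_left_inj] at h
    exact Prod.ext (Subtype.ext h) (Subtype.ext h2)
  · rintro ⟨x, hx⟩
    refine ⟨(⟨x * (s (f x))⁻¹, ?_⟩, ⟨f x, (conj_map_iff_of_ker_le f hle x).2 hx⟩), Subtype.ext ?_⟩
    · rw [MonoidHom.mem_ker, map_mul, map_inv, hs, mul_inv_cancel]
    · show x * (s (f x))⁻¹ * s (f x) = x
      rw [inv_mul_cancel_right]

/-- Reduction modulo a normal subgroup of order prime to `p`. -/
lemma cnt_coprimeKernel (f : G →* G₂) (hf : Function.Surjective f)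
    (hker : (Nat.card f.ker).Coprime p) (P : Sylow p G) {H : Subgroup G} (hH : IsPGroup p H) :
    cnt (P : Subgroup G) H = Nat.card (f.ker ⊓ Subgroup.centralizer (H : Set G) : Subgroup G) *
      cnt ((P : Subgroup G).map f) (H.map f) := by
  have hdisj : ∀ z, z ∈ (P : Subgroup G) → z ∈ f.ker → z = 1 := by
    intro z hzP hzK
    obtain ⟨k, hk⟩ := IsPGroup.iff_card.1 P.isPGroup'
    have h1 : (Nat.card (P : Subgroup G)).Coprime (Nat.card f.ker) := by
      rw [hk]; exact Nat.Coprime.pow_left _ hker.symm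
    exact Subgroup.mem_bot.1 ((Subgroup.disjoint_of_coprime_natCard h1).le_bot ⟨hzP, hzK⟩)
  have hlift : ∀ y : G₂, (H.map f).map (MulAut.conj y).toMonoidHom ≤ (P : Subgroup G).map f →
      ∃ x, f x = y ∧ H.map (MulAut.conj x).toMonoidHom ≤ (P : Subgroup G) := by
    intro y hy
    obtain ⟨x₀, rfl⟩ := hf y
    set U := (P : Subgroup G) ⊔ f.ker with hU
    have hHU : H.map (MulAut.conj x₀).toMonoidHom ≤ U := by
      rw [map_conj_le_iff]
      intro h hh
      obtain ⟨q, hq, hqe⟩ := map_conj_le_iff.1 hy (f h) ⟨h, hh, rfl⟩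
      rw [show x₀ * h * x₀⁻¹ = q * (q⁻¹ * (x₀ * h * x₀⁻¹)) by group]
      exact Subgroup.mul_mem_sup hq (by
        rw [MonoidHom.mem_ker, map_mul, map_inv, map_mul, map_mul, map_inv, hqe, inv_mul_cancel])
    have hPU : (P : Subgroup G) ≤ U := le_sup_left
    obtain ⟨Q, hQ⟩ := ((hH.map (MulAut.conj x₀).toMonoidHom).comap_subtype (K := U)).exists_le_sylow
    obtain ⟨u, hu⟩ := MulAction.exists_smul_eq U Q (P.subtype hPU)
    obtain ⟨q, hq, m, hm, hqm⟩ := Subgroup.mem_sup_of_normal_right.1 u.2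
    refine ⟨m * x₀, by rw [map_mul, MonoidHom.mem_ker.1 hm, one_mul], map_conj_le_iff.2 fun h hh => ?_⟩
    have h1 : x₀ * h * x₀⁻¹ ∈ H.map (MulAut.conj x₀).toMonoidHom := ⟨h, hh, rfl⟩
    have h2 : (⟨x₀ * h * x₀⁻¹, hHU h1⟩ : U) ∈ (Q : Subgroup U) := hQ h1
    have h3 : u * ⟨x₀ * h * x₀⁻¹, hHU h1⟩ * u⁻¹ ∈ ((u • Q : Sylow p U) : Subgroup U) :=
      ⟨_, h2, rfl⟩
    rw [hu] at h3
    have h4 : (u : G) * (x₀ * h * x₀⁻¹) * (u : G)⁻¹ ∈ (P : Subgroup G) := h3
    rw [show m * x₀ * h * (m * x₀)⁻¹ = q⁻¹ * ((u : G) * (x₀ * h * x₀⁻¹) * (u : G)⁻¹) * q by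
      rw [← hqm]; group]
    exact Subgroup.mul_mem _ (Subgroup.mul_mem _ (Subgroup.inv_mem _ hq) h4) hq
  choose s hs1 hs2 using hlift
  rw [cnt, cnt, ← Nat.card_prod]
  refine (Nat.card_eq_of_bijective (fun w : (f.ker ⊓ Subgroup.centralizer (H : Set G) : Subgroup G) ×
      {y : G₂ // (H.map f).map (MulAut.conj y).toMonoidHom ≤ (P : Subgroup G).map f} =>
    (⟨s w.2.1 w.2.2 * (w.1 : G), map_conj_le_iff.2 fun h hh => by
      rw [show s w.2.1 w.2.2 * (w.1 : G) * h * (s w.2.1 w.2.2 * (w.1 : G))⁻¹ =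
        s w.2.1 w.2.2 * ((w.1 : G) * h * (w.1 : G)⁻¹) * (s w.2.1 w.2.2)⁻¹ by group,
        ← (Subgroup.mem_centralizer_iff.1 w.1.2.2 h hh), mul_inv_cancel_right]
      exact map_conj_le_iff.1 (hs2 _ w.2.2) h hh⟩ :
      {x : G // H.map (MulAut.conj x).toMonoidHom ≤ (P : Subgroup G)})) ⟨?_, ?_⟩).symm
  · intro a b hab
    have h : s a.2.1 a.2.2 * (a.1 : G) = s b.2.1 b.2.2 * (b.1 : G) := congrArg Subtype.val hab
    have h2 : a.2 = b.2 := by
      apply Subtype.ext
      have := congrArg f h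
      rwa [map_mul, map_mul, MonoidHom.mem_ker.1 a.1.2.1, MonoidHom.mem_ker.1 b.1.2.1, mul_one,
        mul_one, hs1, hs1] at this
    rw [h2, mul_right_inj] at h
    exact Prod.ext (Subtype.ext h) h2
  · rintro ⟨x, hx⟩
    have hy : (H.map f).map (MulAut.conj (f x)).toMonoidHom ≤ (P : Subgroup G).map f := by
      rw [map_conj_le_iff]
      rintro _ ⟨h, hh, rfl⟩
      rw [← map_inv, ← map_mul, ← map_mul]
      exact ⟨_, map_conj_le_iff.1 hx h hh, rfl⟩
    set x' := s (f x) hy with hx'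
    have hmK : x'⁻¹ * x ∈ f.ker := by
      rw [MonoidHom.mem_ker, map_mul, map_inv, hs1, inv_mul_cancel]
    refine ⟨(⟨x'⁻¹ * x, hmK, Subgroup.mem_centralizer_iff.2 fun h hh => ?_⟩, ⟨f x, hy⟩),
      Subtype.ext (mul_inv_cancel_left x' x)⟩
    have h1 := map_conj_le_iff.1 hx h hh
    have h2 := map_conj_le_iff.1 (hs2 (f x) hy) h hh
    have h3 : (x * h * x⁻¹) * (x' * h * x'⁻¹)⁻¹ = 1 := by
      refine hdisj _ (Subgroup.mul_mem _ h1 (Subgroup.inv_mem _ h2)) ?_
      simp only [MonoidHom.mem_ker, map_mul, map_inv, hx', hs1]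
      group
    rw [mul_inv_eq_one] at h3
    calc h * (x'⁻¹ * x) = x'⁻¹ * (x' * h * x'⁻¹) * x := by group
      _ = x'⁻¹ * x * h := by rw [← h3]; group

/-- The subnormalizer is counted by `cnt`. -/
lemma card_subnormalizer (H : Subgroup G) (hH : IsPGroup p H) (P : Sylow p G) :
    Nat.card {g : G // ((H).subgroupOf (H ⊔ Subgroup.zpowers g)).IsSubnormal} =
      cnt (P : Subgroup G) H := by
  rw [Nat.card_congr (Equiv.subtypeEquivRight fun g => Subnormalizer.isSubnormal_iff_inSN p hH g),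
    Subnormalizer.card_inSN p H P, Subnormalizer.lambda_eq p H P, cnt,
    Subnormalizer.card_conj_le]

end Cfsg.Agent.ConjCount
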