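import Cfsg.Agent.Lib.FGStruct.KulakoffCount

/-!
# Subgroups of order `p ^ b` modulo `p ^ 2` in an arbitrary finite group

* `add_mul_cyclic_modEq`: if `p ^ (b + 1)` divides `|G|`, then
  `s + p * c ≡ 1 + p [MOD p ^ 2]` for the number `s` of subgroups of order `p ^ b` and the number
  `c` of cyclic subgroups of order `p ^ (b + 1)`.
* `cyclic_count`: `c` is `0` or `1` modulo `p`.
-/

set_option autoImplicit false
set_option linter.style.haveILetI false
set_option linter.unusedSectionVars false

open scoped Pointwise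
open MulAction

namespace Cfsg.Agent.CyclicCount

universe u

variable {G : Type u} [Group G] [Finite G] {p : ℕ} [hp : Fact p.Prime]

/-- The sets of a given size with a given stabiliser of the same size are the cosets. -/
theorem card_stab_eq [DecidableEq G] [Fintype G] (H : Subgroup G) {k : ℕ} (hk : Nat.card H = k) :
    Nat.card {s : Finset G // s.card = k ∧ stabilizer G s = H} * k = Nat.card G := by
  classical
  let f : (Σ s : {s : Finset G // s.card = k ∧ stabilizer G s = H}, {x : G // x ∈ s.1}) → G := fun w => w.2.1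
  have hf : Function.Bijective f := by
    constructor
    · rintro ⟨⟨s, hs⟩, x, hx⟩ ⟨⟨t, ht⟩, y, hy⟩ h
      obtain rfl : x = y := h
      have hst : s = t := by
        ext z
        rw [SubgroupCount.mem_iff_of_card_stabilizer (by rw [hs.2, hk, hs.1]) hx z,
          SubgroupCount.mem_iff_of_card_stabilizer (by rw [ht.2, hk, ht.1]) hy z, hs.2, ht.2]
      subst hst
      rfl
    · intro x
      let s : Finset G := Finset.univ.filter (fun z => z * x⁻¹ ∈ H)
      have hs : s.card = k := by
        rw [← hk, ← Fintype.card_subtype, ← Nat.card_eq_fintype_card]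
        exact Nat.card_congr
          { toFun := fun z => ⟨z.1 * x⁻¹, z.2⟩
            invFun := fun h => ⟨h.1 * x, by simpa using h.2⟩
            left_inv := fun z => Subtype.ext (by simp)
            right_inv := fun h => Subtype.ext (by simp) }
      have hst : stabilizer G s = H := by
        ext g
        rw [mem_stabilizer_iff]
        constructor
        · intro hg
          have hxs : x ∈ s := by simp [s, H.one_mem]
          have h := Finset.smul_mem_smul_finset (a := g) hxs
          rw [hg] at h
          simpa [s] using h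
        · intro hg
          ext z
          rw [← Finset.inv_smul_mem_iff]
          simp [s, mul_assoc, H.mul_mem_cancel_left (H.inv_mem hg)]
      exact ⟨⟨⟨s, hs, hst⟩, x, by simp [s, H.one_mem]⟩, rfl⟩
  have h := Nat.card_congr (Equiv.ofBijective f hf)
  rw [Nat.card_sigma] at h
  rw [← h, Finset.sum_congr rfl (g := fun _ => k) (fun s _ => ?_)]
  · rw [Finset.sum_const, Finset.card_univ, smul_eq_mul, ← Nat.card_eq_fintype_card]
  · rw [Nat.card_eq_fintype_card, Fintype.card_coe]
    exact s.2.1

/-- The sets stabilised by `L` are the unions of cosets of `L`. -/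
theorem card_stab_ge [DecidableEq G] [Fintype G] (L : Subgroup G) (r : ℕ) :
    Nat.card {s : Finset G // s.card = r * Nat.card L ∧ L ≤ stabilizer G s} = L.index.choose r := by
  classical
  set Q := Quotient (QuotientGroup.rightRel L)
  haveI : Fintype Q := Fintype.ofFinite Q
  let π : G → Q := Quotient.mk''
  have hrel : ∀ x y : G, π x = π y ↔ y * x⁻¹ ∈ L := fun x y =>
    Quotient.eq''.trans QuotientGroup.rightRel_apply
  have hfib : ∀ q : Q, (Finset.univ.filter fun x => π x = q).card = Nat.card L := by
    intro q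
    obtain ⟨x₀, rfl⟩ : ∃ x, π x = q := Quotient.exists_rep q
    rw [← Fintype.card_subtype, ← Nat.card_eq_fintype_card]
    exact Nat.card_congr
      { toFun := fun y => ⟨y.1 * x₀⁻¹, (hrel x₀ y.1).1 y.2.symm⟩
        invFun := fun l => ⟨l.1 * x₀, ((hrel x₀ (l.1 * x₀)).2 (by simp)).symm⟩
        left_inv := fun y => Subtype.ext (by simp)
        right_inv := fun l => Subtype.ext (by simp) }
  have hQ : Fintype.card Q = L.index := by
    rw [← Nat.card_eq_fintype_card, Nat.card_congr (QuotientGroup.quotientRightRelEquivQuotientLeftRel L),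
      Subgroup.index_eq_card]
  have hpre : ∀ t : Finset Q, (Finset.univ.filter fun x => π x ∈ t).card = t.card * Nat.card L := by
    intro t
    rw [Finset.card_eq_sum_card_fiberwise (s := Finset.univ.filter fun x => π x ∈ t) (f := π) (t := t) (fun x hx => (Finset.mem_filter.1 hx).2),
      Finset.sum_congr rfl (g := fun _ => Nat.card L) (fun q hq => ?_), Finset.sum_const, smul_eq_mul]
    rw [← hfib q, Finset.filter_filter]
    congr 1
    ext x
    simp only [Finset.mem_filter, Finset.mem_univ, true_and]
    exact ⟨fun h => h.2, fun h => ⟨h ▸ hq, h⟩⟩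
  have hback : ∀ s : Finset G, L ≤ stabilizer G s → (Finset.univ.filter fun x => π x ∈ s.image π) = s := by
    intro s hs
    ext x
    simp only [Finset.mem_filter, Finset.mem_univ, true_and, Finset.mem_image]
    refine ⟨fun ⟨y, hy, hyx⟩ => ?_, fun hx => ⟨x, hx, rfl⟩⟩
    have h := Finset.smul_mem_smul_finset (a := x * y⁻¹) hy
    rwa [mem_stabilizer_iff.1 (hs ((hrel y x).1 hyx)), smul_eq_mul, inv_mul_cancel_right] at h
  rw [← hQ, ← Finset.card_univ (α := Q), ← Finset.card_powersetCard,
    ← Fintype.card_coe, ← Nat.card_eq_fintype_card]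
  refine Nat.card_congr
    { toFun := fun s => ⟨s.1.image π, Finset.mem_powersetCard.2 ⟨Finset.subset_univ _, ?_⟩⟩
      invFun := fun t => ⟨Finset.univ.filter fun x => π x ∈ t.1, ?_, ?_⟩
      left_inv := fun s => Subtype.ext (hback s.1 s.2.2)
      right_inv := fun t => Subtype.ext ?_ }
  · have h := hpre (s.1.image π)
    rw [hback s.1 s.2.2, s.2.1] at h
    exact (Nat.eq_of_mul_eq_mul_right Nat.card_pos h).symm
  · rw [hpre, (Finset.mem_powersetCard.1 t.2).2]
  · intro l hl
    rw [mem_stabilizer_iff]
    ext z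
    rw [← Finset.inv_smul_mem_iff, smul_eq_mul]
    simp only [Finset.mem_filter, Finset.mem_univ, true_and]
    rw [(hrel (l⁻¹ * z) z).2 (by simpa using hl)]
  · ext q
    simp only [Finset.mem_image, Finset.mem_filter, Finset.mem_univ, true_and]
    refine ⟨fun ⟨x, hx, hxq⟩ => hxq ▸ hx, fun hq => ?_⟩
    obtain ⟨x, rfl⟩ : ∃ x, π x = q := Quotient.exists_rep q
    exact ⟨x, hq, rfl⟩

/-- **Wielandt's count, one step further.** -/
theorem choose_add_modEq (b N : ℕ) (hN : Nat.card G = p ^ (b + 1) * N) :
    Nat.choose (Nat.card G) (p ^ (b + 1)) + p * N ≡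
      Nat.card {H : Subgroup G // Nat.card H = p ^ b} * Nat.choose (p * N) p +
        p * N * Nat.card {H : Subgroup G // Nat.card H = p ^ (b + 1) ∧ IsCyclic H} [MOD p ^ 2 * N] := by
  classical
  haveI := Fintype.ofFinite G
  haveI := Fintype.ofFinite (Subgroup G)
  set k := p ^ (b + 1) with hk
  have hk0 : 0 < k := pow_pos hp.out.pos _
  set Pk := (Finset.univ : Finset G).powersetCard k
  have hPk : ∀ s, s ∈ Pk ↔ s.card = k := fun s => by simp [Pk, Finset.mem_powersetCard]
  set Ls := Finset.univ.filter (fun L : Subgroup G => Nat.card L = p ^ b)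
  set Hs := Finset.univ.filter (fun H : Subgroup G => Nat.card H = k)
  set e : Finset G → ℕ := fun s => Nat.card (stabilizer G s) with he
  set good := Pk.filter (fun s => e s = k)
  set mid := Pk.filter (fun s => e s = p ^ b)
  set rest := Pk.filter (fun s => e s ≠ k ∧ e s ≠ p ^ b)
  have hne : p ^ b ≠ k := fun h => by
    have := Nat.pow_right_injective hp.out.two_le h
    omega
  have hbin : Nat.choose (Nat.card G) k = good.card + mid.card + rest.card := by
    rw [Nat.card_eq_fintype_card, ← Finset.card_univ, ← Finset.card_powersetCard]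
    show Pk.card = _
    rw [← Finset.card_filter_add_card_filter_not (s := Pk) (fun s => e s = k), Nat.add_assoc]
    congr 1
    rw [← Finset.card_filter_add_card_filter_not (s := Pk.filter fun s => ¬ e s = k) (fun s => e s = p ^ b),
      Finset.filter_filter, Finset.filter_filter]
    congr 1
    exact congrArg Finset.card (Finset.filter_congr fun s _ =>
      ⟨fun h => h.2, fun h => ⟨fun h' => hne (h.symm.trans h'), h⟩⟩)
  have hdvd : ∀ s ∈ Pk, ∃ j ≤ b + 1, e s = p ^ j := fun s hs => by
    obtain ⟨j, hj, hje⟩ := (Nat.dvd_prime_pow hp.out).1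
      (((hPk s).1 hs) ▸ SubgroupCount.card_stabilizer_dvd s)
    exact ⟨j, hj, hje⟩
  -- the sets with small stabiliser
  have hrest : p ^ 2 * N ∣ rest.card := by
    letI : MulAction G {s : Finset G // s ∈ rest} :=
      { smul := fun g s => ⟨g • s.1, by
          obtain ⟨h1, h2⟩ := Finset.mem_filter.1 s.2
          have hc : e (g • s.1) = e s.1 := by
            simp only [he]
            rw [stabilizer_smul_eq_stabilizer_map_conj, Subgroup.card_map_of_injective (MulEquiv.injective _)]
          exact Finset.mem_filter.2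
            ⟨(hPk _).2 ((Finset.card_smul_finset g s.1).trans ((hPk _).1 h1)), hc ▸ h2⟩⟩
        one_smul := fun s => Subtype.ext (one_smul G _)
        mul_smul := fun a b s => Subtype.ext (mul_smul a b _) }
    rw [← Fintype.card_coe, ← Nat.card_eq_fintype_card,
      Nat.card_congr (selfEquivSigmaOrbitsQuotientStabilizer G _)]
    haveI : Finite (orbitRel.Quotient G {s : Finset G // s ∈ rest}) :=
      Finite.of_surjective _ Quotient.mk''_surjective
    haveI := Fintype.ofFinite (orbitRel.Quotient G {s : Finset G // s ∈ rest})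
    rw [Nat.card_sigma]
    refine Finset.dvd_sum fun ω _ => ?_
    have hst : stabilizer G ω.out = stabilizer G ω.out.1 := by
      ext g
      simp only [mem_stabilizer_iff]
      exact Subtype.ext_iff
    rw [hst, ← Subgroup.index_eq_card]
    obtain ⟨h1, h2, h3⟩ := Finset.mem_filter.1 ω.out.2
    obtain ⟨j, hj, hje⟩ := hdvd _ h1
    have hjb : j + 2 ≤ b + 1 := by
      rcases Nat.lt_or_ge j b with h | h
      · omega
      · rcases Nat.eq_or_lt_of_le h with h' | h'
        · exact absurd (by rw [hje, h']) h3
        · exact absurd (by rw [hje, show j = b + 1 from by omega]) h2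
    have hmul := (stabilizer G ω.out.1).card_mul_index
    rw [show Nat.card (stabilizer G ω.out.1) = p ^ j from hje, hN] at hmul
    have hp' : k = p ^ j * (p ^ (b + 1 - j - 2) * p ^ 2) := by
      rw [hk, ← pow_add, ← pow_add]; congr 1; omega
    have hidx : (stabilizer G ω.out.1).index = p ^ (b + 1 - j - 2) * (p ^ 2 * N) :=
      Nat.eq_of_mul_eq_mul_left (pow_pos hp.out.pos j) (hmul.trans (by rw [hp']; ring))
    rw [hidx]
    exact dvd_mul_left _ _
  -- the good sets
  have hgood : ∀ H ∈ Hs, (good.filter (fun s => stabilizer G s = H)).card = N := fun H hH => by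
    have hHc : Nat.card H = k := (Finset.mem_filter.1 hH).2
    have h := card_stab_eq H hHc
    rw [hN, mul_comm k N] at h
    rw [← Nat.eq_of_mul_eq_mul_right hk0 h, ← Fintype.card_coe, ← Nat.card_eq_fintype_card]
    exact Nat.card_congr (Equiv.subtypeEquivRight fun s => by
      simp only [good, Finset.mem_filter, hPk]
      exact ⟨fun h => ⟨h.1.1, h.2⟩, fun h => ⟨⟨h.1, by simp only [he]; rw [h.2, hHc]⟩, h.2⟩⟩)
  have hmaps : ∀ s ∈ good, stabilizer G s ∈ Hs := fun s hs =>
    Finset.mem_filter.2 ⟨Finset.mem_univ _, (Finset.mem_filter.1 hs).2⟩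
  have hgoodc : good.card = Hs.card * N := by
    rw [Finset.card_eq_sum_card_fiberwise hmaps, Finset.sum_congr rfl hgood, Finset.sum_const, smul_eq_mul]
  -- pairs
  set w : Subgroup G → ℕ := fun H => (Ls.filter (fun L => L ≤ H)).card with hw
  have hpairs : Ls.card * Nat.choose (p * N) p = mid.card + N * ∑ H ∈ Hs, w H := by
    have h1 : ∑ L ∈ Ls, (Pk.filter (fun s => L ≤ stabilizer G s)).card = Ls.card * Nat.choose (p * N) p := by
      rw [Finset.sum_congr rfl (g := fun _ => Nat.choose (p * N) p) fun L hL => ?_, Finset.sum_const,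
        smul_eq_mul]
      have hLc : Nat.card L = p ^ b := (Finset.mem_filter.1 hL).2
      have hidx : L.index = p * N := by
        have h := L.card_mul_index
        rw [hLc, hN, hk, pow_succ, mul_assoc] at h
        exact Nat.eq_of_mul_eq_mul_left (pow_pos hp.out.pos _) h
      rw [← hidx, ← card_stab_ge L p, ← Fintype.card_coe, ← Nat.card_eq_fintype_card]
      exact Nat.card_congr (Equiv.subtypeEquivRight fun s => by
        rw [Finset.mem_filter, hPk, hLc, ← pow_succ'])
    have h2 : ∑ L ∈ Ls, (Pk.filter (fun s => L ≤ stabilizer G s)).card =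
        ∑ s ∈ Pk, w (stabilizer G s) := by
      simp only [hw, Finset.card_filter]
      exact Finset.sum_comm
    rw [← h1, h2, ← Finset.sum_filter_add_sum_filter_not Pk (fun s => e s = k), Nat.add_comm]
    congr 1
    · rw [← Finset.sum_filter_add_sum_filter_not (Pk.filter fun s => ¬ e s = k) (fun s => e s = p ^ b),
        Finset.filter_filter, Finset.filter_filter]
      have hz : ∑ s ∈ Pk.filter (fun s => ¬ e s = k ∧ ¬ e s = p ^ b), w (stabilizer G s) = 0 := by
        refine Finset.sum_eq_zero fun s hs => ?_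
        obtain ⟨hs1, hs2, hs3⟩ := Finset.mem_filter.1 hs
        refine Finset.card_eq_zero.2 (Finset.filter_eq_empty_iff.2 fun L hL hle => ?_)
        obtain ⟨j, hj, hje⟩ := hdvd s hs1
        have h := Subgroup.card_le_of_le hle
        rw [(Finset.mem_filter.1 hL).2, show Nat.card (stabilizer G s) = p ^ j from hje,
          Nat.pow_le_pow_iff_right hp.out.one_lt] at h
        rcases Nat.eq_or_lt_of_le h with h' | h'
        · exact hs3 (by rw [hje, h'])
        · exact hs2 (by rw [hje, show j = b + 1 from by omega])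
      rw [hz, add_zero, show mid.card = ∑ _s ∈ mid, 1 from Finset.card_eq_sum_ones _]
      refine Finset.sum_congr ?_ fun s hs => ?_
      · exact Finset.filter_congr fun s _ => ⟨fun h => h.2, fun h => ⟨fun h' => hne (h.symm.trans h'), h⟩⟩
      · have hsb : Nat.card (stabilizer G s) = p ^ b := (Finset.mem_filter.1 hs).2
        rw [hw, Finset.card_eq_one]
        refine ⟨stabilizer G s, Finset.ext fun L => ?_⟩
        simp only [Finset.mem_filter, Finset.mem_singleton, Ls, Finset.mem_univ, true_and]
        exact ⟨fun h => Subgroup.eq_of_le_of_card_ge h.2 (by rw [hsb, h.1]), fun h => by rw [h]; exact ⟨hsb, le_rfl⟩⟩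
    · rw [← Finset.sum_fiberwise_of_maps_to hmaps, Finset.mul_sum]
      refine Finset.sum_congr rfl fun H hH => ?_
      rw [Finset.sum_congr rfl (g := fun _ => w H) fun s hs => by rw [(Finset.mem_filter.1 hs).2],
        Finset.sum_const, smul_eq_mul, hgood H hH]
  -- the subgroups inside one subgroup
  have hin : ∀ H ∈ Hs, w H + (if IsCyclic H then p else 0) ≡ 1 + p [MOD p ^ 2] := by
    intro H hH
    have hHc : Nat.card H = p ^ (b + 1) := (Finset.mem_filter.1 hH).2
    have hwH : w H = Nat.card {L : Subgroup H // Nat.card L = p ^ b} := by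
      rw [Nat.card_congr (MaximalCount.equivBelow H (p ^ b)), Nat.card_eq_fintype_card, Fintype.card_subtype]
      show ((Finset.univ.filter fun L : Subgroup G => Nat.card L = p ^ b).filter fun L => L ≤ H).card = _
      rw [Finset.filter_filter]
      exact congrArg Finset.card (Finset.filter_congr fun L _ => and_comm)
    rw [hwH]
    split_ifs with hc
    · rw [SubgroupCount.card_subgroups_cyclic hp.out (hHc ▸ Nat.pow_dvd_pow p (by omega))]
    · rw [add_zero]
      have hb : 1 ≤ b := by
        by_contra hb
        obtain rfl : b = 0 := by omega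
        exact hc (isCyclic_of_prime_card (p := p) (by rw [hHc, pow_one]))
      exact (KulakoffCount.count (b + 1) H hHc b hb (by omega) hc).1 (Or.inr rfl)
  have hsum : ∑ H ∈ Hs, w H + p * (Hs.filter fun H : Subgroup G => IsCyclic H).card ≡
      Hs.card * (1 + p) [MOD p ^ 2] := by
    have h := Nat.ModEq.sum fun H hH => hin H hH
    rwa [Finset.sum_add_distrib, ← Finset.sum_filter, Finset.sum_const, Finset.sum_const, smul_eq_mul,
      smul_eq_mul, mul_comm _ p] at h
  have hs1 : Hs.card ≡ 1 [MOD p] := by
    have h := SubgroupCount.card_subgroups_modEq_one (G := G) p (b + 1) hp.out ⟨N, hN⟩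
    rwa [Nat.card_eq_fintype_card, Fintype.card_subtype] at h
  rw [show Nat.card {H : Subgroup G // Nat.card H = p ^ b} = Ls.card from by
      rw [Nat.card_eq_fintype_card, Fintype.card_subtype],
    show Nat.card {H : Subgroup G // Nat.card H = k ∧ IsCyclic H} = (Hs.filter fun H : Subgroup G => IsCyclic H).card from by
      rw [Nat.card_eq_fintype_card, Fintype.card_subtype, Finset.filter_filter],
    hpairs, hbin, hgoodc]
  have h3 : Hs.card * N * p ≡ p * N [MOD p ^ 2 * N] := by
    have := hs1.mul_right' (p * N)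
    rwa [one_mul, show p * (p * N) = p ^ 2 * N from by ring,
      show Hs.card * (p * N) = Hs.card * N * p from by ring] at this
  have h4 : N * (∑ H ∈ Hs, w H) + p * N * (Hs.filter fun H : Subgroup G => IsCyclic H).card ≡
      Hs.card * N + Hs.card * N * p [MOD p ^ 2 * N] := by
    have := hsum.mul_left' N
    rwa [mul_add, show N * (p * (Hs.filter fun H : Subgroup G => IsCyclic H).card) =
        p * N * (Hs.filter fun H : Subgroup G => IsCyclic H).card from by ring,
      show N * (Hs.card * (1 + p)) = Hs.card * N + Hs.card * N * p from by ring,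
      show N * p ^ 2 = p ^ 2 * N from by ring] at this
  have h0 : rest.card ≡ 0 [MOD p ^ 2 * N] := Nat.modEq_zero_iff_dvd.2 hrest
  calc Hs.card * N + mid.card + rest.card + p * N
      ≡ Hs.card * N + mid.card + 0 + Hs.card * N * p [MOD p ^ 2 * N] := (h0.add_left _).add h3.symm
    _ = mid.card + (Hs.card * N + Hs.card * N * p) := by ring
    _ ≡ mid.card + (N * (∑ H ∈ Hs, w H) + p * N * (Hs.filter fun H : Subgroup G => IsCyclic H).card)
        [MOD p ^ 2 * N] := h4.symm.add_left _
    _ = _ := (add_assoc _ _ _).symm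

/-- Subgroups of order `p ^ b` against cyclic subgroups of order `p ^ (b + 1)`. -/
theorem add_mul_cyclic_modEq (b : ℕ) (hdvd : p ^ (b + 1) ∣ Nat.card G) :
    Nat.card {H : Subgroup G // Nat.card H = p ^ b} +
      p * Nat.card {H : Subgroup G // Nat.card H = p ^ (b + 1) ∧ IsCyclic H} ≡ 1 + p [MOD p ^ 2] := by
  classical
  obtain ⟨N, hN⟩ := hdvd
  have hN0 : 0 < N := Nat.pos_of_ne_zero fun h => Nat.card_pos.ne' (by rw [hN, h, mul_zero])
  haveI : NeZero (Nat.card G) := ⟨Nat.card_pos.ne'⟩
  let Z := Multiplicative (ZMod (Nat.card G))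
  have hC : Nat.card Z = Nat.card G := by
    rw [show Nat.card Z = Nat.card (ZMod (Nat.card G)) from Nat.card_congr Multiplicative.toAdd, Nat.card_zmod]
  haveI : Finite Z := Finite.of_equiv _ Multiplicative.ofAdd
  have h1 := choose_add_modEq (G := G) (p := p) b N hN
  have h2 := choose_add_modEq (G := Z) (p := p) b N (hC.trans hN)
  have hb : p ^ b ∣ Nat.card Z := hC.trans hN ▸ ⟨p * N, by ring⟩
  have hone : Nat.card {H : Subgroup Z // Nat.card H = p ^ (b + 1) ∧ IsCyclic H} = 1 := by
    rw [Nat.card_congr (Equiv.subtypeEquivRight fun H : Subgroup Z =>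
      ⟨fun h => h.1, fun h => ⟨h, inferInstance⟩⟩)]
    exact SubgroupCount.card_subgroups_cyclic hp.out ⟨N, hC.trans hN⟩
  rw [SubgroupCount.card_subgroups_cyclic hp.out hb, hone, hC, one_mul, mul_one] at h2
  set s := Nat.card {H : Subgroup G // Nat.card H = p ^ b}
  set c := Nat.card {H : Subgroup G // Nat.card H = p ^ (b + 1) ∧ IsCyclic H}
  set C := Nat.choose (p * N - 1) (p - 1)
  have hchoose : Nat.choose (p * N) p = N * C := by
    obtain ⟨n, hn⟩ : ∃ n, p * N = n + 1 :=
      ⟨p * N - 1, (Nat.sub_add_cancel (Nat.mul_pos hp.out.pos hN0)).symm⟩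
    obtain ⟨q, hq⟩ : ∃ q, p = q + 1 := ⟨p - 1, (Nat.sub_add_cancel hp.out.pos).symm⟩
    have h := Nat.add_one_mul_choose_eq n q
    rw [← hn, ← hq] at h
    have hC2 : C = n.choose q := by
      show Nat.choose (p * N - 1) (p - 1) = _
      rw [hn, Nat.add_sub_cancel, hq, Nat.add_sub_cancel]
    rw [hC2]
    refine Nat.eq_of_mul_eq_mul_right hp.out.pos (h.symm.trans ?_)
    ring
  rw [hchoose] at h1 h2
  have key : C * 1 + p ≡ C * s + p * c [MOD p ^ 2] := by
    refine Nat.ModEq.mul_right_cancel' hN0.ne' ?_
    rw [add_mul, add_mul, mul_one, mul_comm C N, show C * s * N = s * (N * C) from by ring,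
      show p * c * N = p * N * c from by ring]
    exact h2.symm.trans h1
  have hC1 : C ≡ 1 [MOD p] := by
    have hs := SubgroupCount.card_subgroups_modEq_one (G := G) p b hp.out ⟨p * N, by rw [hN]; ring⟩
    haveI := hp
    obtain ⟨q, hq⟩ : ∃ q, p = q + 1 := ⟨p - 1, (Nat.sub_add_cancel hp.out.pos).symm⟩
    obtain ⟨M, hM⟩ : ∃ M, N = M + 1 := ⟨N - 1, (Nat.sub_add_cancel hN0).symm⟩
    have h := Choose.choose_modEq_choose_mod_mul_choose_div_nat (p := p) (n := p * N - 1) (k := p - 1)
    have e : p * N - 1 = (p - 1) + p * M := by rw [hM, hq, Nat.mul_succ, Nat.add_sub_cancel]; omega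
    rw [e, Nat.add_mul_mod_self_left, Nat.mod_eq_of_lt (show p - 1 < p from by omega),
      Nat.choose_self, Nat.div_eq_of_lt (show p - 1 < p from by omega), Nat.choose_zero_right, ← e] at h
    simpa using h
  have hp2 : p ≡ C * p [MOD p ^ 2] := by
    have := (hC1.symm).mul_right' p
    rwa [one_mul, ← pow_two] at this
  have hpc : p * c ≡ C * (p * c) [MOD p ^ 2] := by
    have := hp2.mul_right c
    rwa [mul_assoc] at this
  refine (Nat.ModEq.cancel_left_of_coprime (c := C) ?_ ?_).symm
  · rw [Nat.coprime_iff_gcd_eq_one.symm, Nat.coprime_comm]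
    refine Nat.Coprime.pow_right 2 ?_
    rw [Nat.coprime_comm, Nat.Prime.coprime_iff_not_dvd hp.out]
    intro h
    have h' := hC1.symm.trans (Nat.modEq_zero_iff_dvd.2 h)
    exact hp.out.ne_one (Nat.dvd_one.1 (Nat.modEq_zero_iff_dvd.1 h'))
  · rw [mul_add, mul_add]
    exact ((hp2.symm.add_left _).trans key).trans (hpc.add_left _)

/-- A normal subgroup is fixed by conjugation. -/
theorem conj_smul_normal {H : Type u} [Group H] (N : Subgroup H) [hN : N.Normal] (g : H) :
    MulAut.conj g • N = N := by
  ext x
  rw [Subgroup.mem_pointwise_smul_iff_inv_smul_mem]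
  constructor
  · intro hx; simpa [MulAut.smul_def, mul_assoc] using hN.conj_mem _ hx g
  · intro hx; simpa [MulAut.smul_def, mul_assoc] using hN.conj_mem _ hx g⁻¹

/-- Conjugation commutes with the inclusion of a subgroup. -/
theorem conj_smul_map_subtype {H : Type u} [Group H] {P : Subgroup H} (K : Subgroup P) (g : P) :
    (MulAut.conj g • K).map P.subtype = MulAut.conj (g : H) • K.map P.subtype := by
  ext x
  rw [Subgroup.mem_pointwise_smul_iff_inv_smul_mem]
  constructor
  · rintro ⟨y, hy, rfl⟩
    rw [SetLike.mem_coe, Subgroup.mem_pointwise_smul_iff_inv_smul_mem] at hy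
    exact ⟨_, hy, by simp [MulAut.smul_def]⟩
  · rintro ⟨y, hy, hxy⟩
    refine ⟨MulAut.conj g • y, Subgroup.smul_mem_pointwise_smul _ _ _ hy, ?_⟩
    show (g : H) * y * (g : H)⁻¹ = x
    rw [show (y : H) = _ from hxy]
    simp [MulAut.smul_def, mul_assoc]

/-- The number of cyclic subgroups of order `p ^ (b + 1)` modulo `p`, for odd `p`. -/
theorem cyclic_count (hp2 : p ≠ 2) (b : ℕ) (hdvd : p ^ (b + 1) ∣ Nat.card G) :
    Nat.card {H : Subgroup G // Nat.card H = p ^ (b + 1) ∧ IsCyclic H} ≡ 0 [MOD p] ∨
      Nat.card {H : Subgroup G // Nat.card H = p ^ (b + 1) ∧ IsCyclic H} ≡ 1 [MOD p] := by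
  classical
  rcases Nat.eq_zero_or_pos b with rfl | hb
  · right
    rw [Nat.card_congr (Equiv.subtypeEquivRight fun H : Subgroup G =>
      ⟨fun h => h.1, fun h => ⟨h, isCyclic_of_prime_card (p := p) (by rw [h, zero_add, pow_one])⟩⟩)]
    exact SubgroupCount.card_subgroups_modEq_one p 1 hp.out hdvd
  obtain ⟨P⟩ : Nonempty (Sylow p G) := inferInstance
  obtain ⟨m, hm⟩ := IsPGroup.iff_card.1 P.isPGroup'
  have hle : b + 1 ≤ m := by
    have hPm : m = (Nat.card G).factorization p := Nat.pow_right_injective hp.out.two_le (hm.symm.trans P.card_eq_multiplicity)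
    rw [hPm]
    exact (Nat.Prime.pow_dvd_iff_le_factorization hp.out Nat.card_pos.ne').1 hdvd
  -- `P` acts on the cyclic subgroups of this order
  let X := {H : Subgroup G // Nat.card H = p ^ (b + 1) ∧ IsCyclic H}
  have hX : ∀ (g : G) (H : X), Nat.card ↥(MulAut.conj g • H.1) = p ^ (b + 1) ∧ IsCyclic ↥(MulAut.conj g • H.1) := by
    intro g H
    refine ⟨(Nat.card_congr (Subgroup.equivSMul (MulAut.conj g) H.1).toEquiv).symm.trans H.2.1, ?_⟩
    haveI := H.2.2
    exact isCyclic_of_surjective _ (Subgroup.equivSMul (MulAut.conj g) H.1).surjective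
  letI : MulAction (P : Subgroup G) X :=
    { smul := fun g H => ⟨MulAut.conj (g : G) • H.1, hX _ H⟩
      one_smul := fun H => Subtype.ext (by
        show MulAut.conj ((1 : (P : Subgroup G)) : G) • H.1 = H.1
        rw [OneMemClass.coe_one, map_one, one_smul])
      mul_smul := fun a c H => Subtype.ext (by
        show MulAut.conj ((a * c : (P : Subgroup G)) : G) • H.1 =
          MulAut.conj (a : G) • MulAut.conj (c : G) • H.1
        rw [Subgroup.coe_mul, map_mul, mul_smul]) }
  have hfix : ∀ H : X, H ∈ fixedPoints (P : Subgroup G) X →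
      H.1 ≤ (P : Subgroup G) ∧ (H.1.subgroupOf (P : Subgroup G)).Normal := by
    intro H hH
    have hn : ∀ g ∈ (P : Subgroup G), ∀ x ∈ H.1, g * x * g⁻¹ ∈ H.1 := fun g hg x hx => by
      have h : MulAut.conj g • H.1 = H.1 := congrArg Subtype.val (hH ⟨g, hg⟩)
      have h' := Subgroup.smul_mem_pointwise_smul x (MulAut.conj g) H.1 hx
      rw [h] at h'
      exact h'
    have hPn : (P : Subgroup G) ≤ Subgroup.normalizer (H.1 : Set G) := fun g hg =>
      Subgroup.mem_normalizer_iff.2 fun x => ⟨hn g hg x, fun h => by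
        simpa [mul_assoc] using hn g⁻¹ (inv_mem hg) _ h⟩
    have hsup : IsPGroup p ↥(H.1 ⊔ (P : Subgroup G)) :=
      IsPGroup.to_sup_of_normal_left' (IsPGroup.of_card H.2.1) P.isPGroup' hPn
    have hle : H.1 ≤ (P : Subgroup G) := by
      rw [← P.3 hsup le_sup_right]; exact le_sup_left
    exact ⟨hle, ⟨fun x hx g => hn g g.2 x hx⟩⟩
  have hmod := P.isPGroup'.card_modEq_card_fixedPoints X
  by_cases hPc : IsCyclic P
  · right
    refine hmod.trans ?_
    have : Nat.card (fixedPoints (P : Subgroup G) X) = 1 := by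
      rw [Nat.card_eq_one_iff_unique]
      haveI := hPc
      have huniq := SubgroupCount.card_subgroups_cyclic (G := (P : Subgroup G)) hp.out
        (β := b + 1) (hm ▸ Nat.pow_dvd_pow p hle)
      obtain ⟨⟨hss⟩, ⟨K, hK⟩⟩ := Nat.card_eq_one_iff_unique.1 huniq
      refine ⟨⟨fun A B => ?_⟩, ?_⟩
      · obtain ⟨hA, -⟩ := hfix A.1 A.2
        obtain ⟨hB, -⟩ := hfix B.1 B.2
        have h := hss ⟨A.1.1.subgroupOf (P : Subgroup G), by
            rw [Nat.card_congr (Subgroup.subgroupOfEquivOfLe hA).toEquiv]; exact A.1.2.1⟩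
          ⟨B.1.1.subgroupOf (P : Subgroup G), by
            rw [Nat.card_congr (Subgroup.subgroupOfEquivOfLe hB).toEquiv]; exact B.1.2.1⟩
        refine Subtype.ext (Subtype.ext ?_)
        exact Subgroup.subgroupOf_inj.1 (congrArg Subtype.val h) |> fun e => by
          rwa [inf_eq_left.2 hA, inf_eq_left.2 hB] at e
      · refine ⟨⟨⟨K.map (P : Subgroup G).subtype, by
          rw [Subgroup.card_map_of_injective (Subgroup.subtype_injective _), hK],
          isCyclic_of_surjective _ (Subgroup.equivMapOfInjective _ _ (Subgroup.subtype_injective _)).surjective⟩, ?_⟩⟩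
        intro g
        refine Subtype.ext ?_
        show MulAut.conj (g : G) • K.map (P : Subgroup G).subtype = K.map (P : Subgroup G).subtype
        haveI : IsMulCommutative (P : Subgroup G) := IsCyclic.isMulCommutative
        haveI : K.Normal := ⟨fun x hx c => by rwa [mul_comm' c x, mul_inv_cancel_right]⟩
        have h : MulAut.conj g • K = K := conj_smul_normal K g
        rw [← conj_smul_map_subtype K g, h]
    rw [this]
  · left
    refine hmod.trans ?_
    have hk1 := (KulakoffCount.count m (P : Subgroup G) hm b hb (by omega) hPc).1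
      (Or.inl fun h => hp2 h.1)
    have hk2 := add_mul_cyclic_modEq (G := (P : Subgroup G)) (p := p) b (hm ▸ Nat.pow_dvd_pow p hle)
    set cP := Nat.card {H : Subgroup (P : Subgroup G) // Nat.card H = p ^ (b + 1) ∧ IsCyclic H}
    have h3 : p * cP ≡ p * 0 [MOD p * p] := by
      rw [mul_zero, ← pow_two]
      exact (hk1.add_left_cancel (hk2.trans (by rw [add_zero])))
    have h4 : cP ≡ 0 [MOD p] := Nat.ModEq.mul_left_cancel' hp.out.ne_zero h3
    refine Nat.ModEq.trans ?_ h4
    -- the fixed points are the normal cyclic subgroups of `P`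
    letI : MulAction (P : Subgroup G) {H : Subgroup (P : Subgroup G) // Nat.card H = p ^ (b + 1) ∧ IsCyclic H} :=
      { smul := fun g H => ⟨MulAut.conj g • H.1,
          (Nat.card_congr (Subgroup.equivSMul (MulAut.conj g) H.1).toEquiv).symm.trans H.2.1,
          (Subgroup.equivSMul (MulAut.conj g) H.1).isCyclic.1 H.2.2⟩
        one_smul := fun H => Subtype.ext (by
          show MulAut.conj (1 : (P : Subgroup G)) • H.1 = H.1
          rw [map_one, one_smul])
        mul_smul := fun a c H => Subtype.ext (by
          show MulAut.conj (a * c) • H.1 = MulAut.conj a • MulAut.conj c • H.1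
          rw [map_mul, mul_smul]) }
    refine Nat.ModEq.trans ?_ (P.isPGroup'.card_modEq_card_fixedPoints _).symm
    refine congrArg (fun n : ℕ => n % p) ?_
    refine Nat.card_congr
      { toFun := fun H => ⟨⟨H.1.1.subgroupOf (P : Subgroup G), by
            rw [Nat.card_congr (Subgroup.subgroupOfEquivOfLe (hfix H.1 H.2).1).toEquiv]; exact H.1.2.1,
            (Subgroup.subgroupOfEquivOfLe (hfix H.1 H.2).1).isCyclic.2 H.1.2.2⟩, fun g => Subtype.ext ?_⟩
        invFun := fun K => ⟨⟨K.1.1.map (P : Subgroup G).subtype, by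
            rw [Subgroup.card_map_of_injective (Subgroup.subtype_injective _)]; exact K.1.2.1,
            (Subgroup.equivMapOfInjective _ _ (Subgroup.subtype_injective _)).isCyclic.1 K.1.2.2⟩,
          fun g => Subtype.ext ?_⟩
        left_inv := fun H => Subtype.ext (Subtype.ext (Subgroup.map_subgroupOf_eq_of_le (hfix H.1 H.2).1))
        right_inv := fun K => Subtype.ext (Subtype.ext
          (Subgroup.comap_map_eq_self_of_injective (Subgroup.subtype_injective _) _)) }
    · show MulAut.conj g • H.1.1.subgroupOf (P : Subgroup G) = H.1.1.subgroupOf (P : Subgroup G)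
      haveI := (hfix H.1 H.2).2
      exact conj_smul_normal _ g
    · show MulAut.conj (g : G) • K.1.1.map (P : Subgroup G).subtype = K.1.1.map (P : Subgroup G).subtype
      have h : MulAut.conj g • K.1.1 = K.1.1 := congrArg Subtype.val (K.2 g)
      rw [← conj_smul_map_subtype K.1.1 g, h]

end Cfsg.Agent.CyclicCount
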