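import Cfsg.Agent.Lib.Solvable.Fitting
import Cfsg.Agent.Lib.Transfer.Basic

/-!
Pairs `(G, N)` in which every coset of `N` outside `N` consists of elements of one order.
-/

set_option autoImplicit false
set_option linter.style.haveILetI false

namespace Cfsg.Agent.EqOrder

open Cfsg.Agent

variable {G : Type*} [Group G] [Finite G]

theorem isPGroup_of_not_le (N : Subgroup G) [hn : N.Normal]
    (heq : ∀ x : G, x ∉ N → ∀ n ∈ N, orderOf (x * n) = orderOf x) {r : ℕ} (hr : r.Prime)
    (h : ¬ Cfsg.pCore r G ≤ N) : IsPGroup r N := by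
  haveI := Fact.mk hr
  haveI hR : (Cfsg.pCore r G).Normal := FittingCores.pCore_normal r
  obtain ⟨x, hx, hxN⟩ := SetLike.not_le_iff_exists.1 h
  obtain ⟨k, hk⟩ := IsPGroup.iff_orderOf.1 (FittingCores.pCore_isPGroup (G := G) r) ⟨x, hx⟩
  rw [Subgroup.orderOf_mk] at hk
  rw [PBasic.isPGroup_iff_forall_coprime]
  intro n hnr
  apply Subtype.ext
  show (n : G) = 1
  have h1 : (orderOf ((x * (n : G) : G) : G ⧸ Cfsg.pCore r G)) ∣ r ^ k :=
    (orderOf_map_dvd (QuotientGroup.mk' _) _).trans (by rw [heq x hxN _ n.2, hk])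
  rw [QuotientGroup.mk_mul, (QuotientGroup.eq_one_iff x).2 hx, one_mul] at h1
  have h2 : orderOf ((n : G) : G ⧸ Cfsg.pCore r G) ∣ orderOf n := by
    rw [← Subgroup.orderOf_coe n]
    exact orderOf_map_dvd (QuotientGroup.mk' _) _
  have h3 := Nat.eq_one_of_dvd_coprimes (hnr.pow_right k) h2 h1
  rw [orderOf_eq_one_iff, QuotientGroup.eq_one_iff] at h3
  exact PBasic.eq_one_of_isPGroup_of_coprime (FittingCores.pCore_isPGroup r) h3 (by rwa [Subgroup.orderOf_coe])

theorem comparable (N : Subgroup G) [hn : N.Normal] (hN1 : N ≠ ⊥)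
    (heq : ∀ x : G, x ∉ N → ∀ n ∈ N, orderOf (x * n) = orderOf x) :
    (N ≤ Cfsg.fittingSubgroup G ∨ Cfsg.fittingSubgroup G ≤ N) ∧
      (N < Cfsg.fittingSubgroup G → IsPrimePow (Nat.card (Cfsg.fittingSubgroup G))) := by
  classical
  refine ⟨?_, ?_⟩
  · by_cases h : ∀ r : Nat.Primes, Cfsg.pCore (r : ℕ) G ≤ N
    · exact Or.inr (by rw [FittingCores.fitting_eq_iSup_pCore]; exact iSup_le h)
    · push Not at h
      obtain ⟨r, hr⟩ := h
      haveI := Fact.mk r.2
      exact Or.inl ((FittingCores.le_pCore hn (isPGroup_of_not_le N heq r.2 hr)).trans (FittingCores.pCore_le_fitting r.2))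
  · intro hlt
    obtain ⟨r, hr⟩ : ∃ r : Nat.Primes, ¬ Cfsg.pCore (r : ℕ) G ≤ N := by
      by_contra hc
      push Not at hc
      exact hlt.not_ge (by rw [FittingCores.fitting_eq_iSup_pCore]; exact iSup_le hc)
    haveI := Fact.mk r.2
    have hNr := isPGroup_of_not_le N heq r.2 hr
    have hle : Cfsg.fittingSubgroup G ≤ Cfsg.pCore (r : ℕ) G := by
      rw [FittingCores.fitting_eq_iSup_pCore]
      refine iSup_le fun s => ?_
      by_cases hs : (s : ℕ) = r
      · rw [hs]
      · haveI := Fact.mk s.2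
        have hsN : Cfsg.pCore (s : ℕ) G ≤ N := by
          by_contra hc
          have hNs := isPGroup_of_not_le N heq s.2 hc
          exact hN1 (disjoint_self.1 (IsPGroup.disjoint_of_ne (s : ℕ) r hs N N hNs hNr))
        exact hsN.trans (FittingCores.le_pCore hn hNr)
    obtain ⟨k, hk⟩ := IsPGroup.iff_card.1 ((FittingCores.pCore_isPGroup (G := G) (r : ℕ)).to_le hle)
    rw [hk]
    refine (Nat.Prime.isPrimePow r.2).pow ?_
    rintro rfl
    rw [pow_zero, Subgroup.card_eq_one] at hk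
    exact hlt.not_ge (hk ▸ bot_le)

end Cfsg.Agent.EqOrder
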