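import Mathlib.RingTheory.Polynomial.Cyclotomic.Factorization
import Mathlib.RingTheory.Polynomial.Cyclotomic.Roots
import Mathlib.RingTheory.AdjoinRoot
import Mathlib.FieldTheory.Minpoly.Field
import Mathlib.LinearAlgebra.Basis.VectorSpace
import Mathlib.LinearAlgebra.FiniteDimensional.Basic
import Mathlib.Algebra.CharP.Frobenius
import Mathlib.Algebra.Field.ZMod

/-!
An endomorphism of prime order `q` of a `ZMod p`-space without nonzero fixed points: semilinearity when `p`
is a primitive root modulo `q`, and the converse under transitivity.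
-/

set_option autoImplicit false
set_option linter.style.haveILetI false

namespace Cfsg.Agent.FpfPrim

open Polynomial

variable {p q : ℕ} [Fact p.Prime] [Fact q.Prime]

lemma not_dvd_of_ne (hpq : p ≠ q) : ¬ p ∣ q := fun h =>
  hpq ((Nat.prime_dvd_prime_iff_eq Fact.out Fact.out).1 h)

lemma orderOf_unit (hpq : p ≠ q) :
    orderOf (ZMod.unitOfCoprime p ((Fact.out : p.Prime).coprime_iff_not_dvd.2 (not_dvd_of_ne hpq))) =
      orderOf (p : ZMod q) := by
  rw [← orderOf_units, ZMod.coe_unitOfCoprime]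

lemma natDegree_cyc : (cyclotomic q (ZMod p)).natDegree = q - 1 := by
  rw [natDegree_cyclotomic, Nat.totient_prime Fact.out]

lemma irreducible_cyc (hpq : p ≠ q) (hord : orderOf (p : ZMod q) = q - 1) :
    Irreducible (cyclotomic q (ZMod p)) :=
  ZMod.irreducible_of_dvd_cyclotomic_of_natDegree (not_dvd_of_ne hpq) dvd_rfl
    (by rw [natDegree_cyc, orderOf_unit hpq, hord])

/-- Elements with the same nonzero values: a linear equivalence carrying `v` to `w`. -/
lemma exists_linearEquiv {K V : Type*} [Field K] [AddCommGroup V] [Module K V] {v w : V} (hv : v ≠ 0)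
    (hw : w ≠ 0) : ∃ e : V ≃ₗ[K] V, e v = w := by
  obtain ⟨f, hf⟩ : ∃ f : V →ₗ[K] K, f v ≠ 0 ∧ f w ≠ 0 := by
    have hex : ∀ u : V, u ≠ 0 → ∃ f : V →ₗ[K] K, f u ≠ 0 := by
      intro u hu
      by_contra! h
      exact hu ((Module.forall_dual_apply_eq_zero_iff K u).1 h)
    obtain ⟨f, hf⟩ := hex v hv
    obtain ⟨g, hg⟩ := hex w hw
    by_cases hfw : f w = 0
    · by_cases hgv : g v = 0
      · exact ⟨f + g, by simp [hgv, hf], by simp [hfw, hg]⟩
      · exact ⟨g, hgv, hg⟩
    · exact ⟨f, hf, hfw⟩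
  obtain ⟨hfv, hfw⟩ := hf
  let L : V →ₗ[K] V := LinearMap.id + f.smulRight ((f v)⁻¹ • (w - v))
  let L' : V →ₗ[K] V := LinearMap.id - f.smulRight ((f w)⁻¹ • (w - v))
  have h1 : ∀ x, L' (L x) = x := by
    intro x
    have hfL : f (L x) = f x * (f v)⁻¹ * f w := by
      change f (x + f x • (f v)⁻¹ • (w - v)) = _
      rw [map_add, map_smul, map_smul, map_sub, smul_eq_mul, smul_eq_mul]
      field_simp
      ring
    change L x - f (L x) • (f w)⁻¹ • (w - v) = x
    rw [hfL, smul_smul, mul_assoc, mul_inv_cancel₀ hfw, mul_one]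
    change x + f x • (f v)⁻¹ • (w - v) - _ = x
    rw [smul_smul, add_sub_cancel_right]
  have h2 : ∀ x, L (L' x) = x := by
    intro x
    have hfL : f (L' x) = f x * (f w)⁻¹ * f v := by
      change f (x - f x • (f w)⁻¹ • (w - v)) = _
      rw [map_sub, map_smul, map_smul, map_sub, smul_eq_mul, smul_eq_mul]
      field_simp
      ring
    change L' x + f (L' x) • (f v)⁻¹ • (w - v) = x
    rw [hfL, smul_smul, mul_assoc, mul_inv_cancel₀ hfv, mul_one]
    change x - f x • (f w)⁻¹ • (w - v) + _ = x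
    rw [smul_smul, sub_add_cancel]
  refine ⟨LinearEquiv.ofLinearMap L L' (LinearMap.ext h2) (LinearMap.ext h1), ?_⟩
  change v + f v • (f v)⁻¹ • (w - v) = w
  rw [smul_smul, mul_inv_cancel₀ hfv, one_smul, add_sub_cancel]

/-- If `p` is a primitive root modulo `q`, the centraliser is transitive on nonzero vectors, and `T`
is conjugate to each of its nontrivial powers. -/
theorem exists_auto {V : Type*} [AddCommGroup V] [Module (ZMod p) V] [Finite V] (hpq : p ≠ q)
    (hord : orderOf (p : ZMod q) = q - 1) (T : Module.End (ZMod p) V)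
    (hsum : ∀ v : V, ∑ k ∈ Finset.range q, (T ^ k) v = 0) :
    (∀ v w : V, v ≠ 0 → w ≠ 0 → ∃ β : V ≃+ V, (∀ x, β (T x) = T (β x)) ∧ β v = w) ∧
      ∀ i : ℕ, ¬ q ∣ i → ∃ β : V ≃+ V, ∀ x, β (T x) = (T ^ i) (β x) := by
  classical
  set Φ := cyclotomic q (ZMod p) with hΦ
  haveI : Fact (Irreducible Φ) := ⟨irreducible_cyc hpq hord⟩
  have haev : aeval T Φ = 0 := by
    rw [hΦ, cyclotomic_prime, map_sum]
    ext v
    simp only [map_pow, aeval_X, LinearMap.coe_sum, Finset.sum_apply, LinearMap.zero_apply]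
    exact hsum v
  let φ : AdjoinRoot Φ →+* Module.End (ZMod p) V :=
    Ideal.Quotient.lift _ (aeval T).toRingHom (by
      intro g hg
      obtain ⟨h, rfl⟩ := Ideal.mem_span_singleton.1 hg
      simp [haev])
  letI : Module (AdjoinRoot Φ) V := Module.compHom V φ
  set ζ := AdjoinRoot.root Φ with hζ
  have hφζ : φ ζ = T := by
    change aeval T X = T
    exact aeval_X T
  have hsmul : ∀ (k : ℕ) (x : V), (T ^ k) x = ζ ^ k • x := by
    intro k x
    rw [← hφζ, ← map_pow]
    rfl
  constructor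
  · intro v w hv hw
    obtain ⟨e, he⟩ := exists_linearEquiv (K := AdjoinRoot Φ) hv hw
    refine ⟨e.toAddEquiv, fun x => ?_, he⟩
    have h1 := hsmul 1
    simp only [pow_one] at h1
    simp only [LinearEquiv.coe_toAddEquiv, h1]
    exact e.map_smul ζ x
  · intro i hi
    haveI : CharP (AdjoinRoot Φ) p := charP_of_injective_algebraMap (algebraMap (ZMod p) _).injective p
    haveI : ExpChar (AdjoinRoot Φ) p := ExpChar.prime Fact.out
    obtain ⟨k, hk⟩ : ∃ k : ℕ, (p : ZMod q) ^ k = (i : ZMod q) := by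
      have hu : (i : ZMod q) ≠ 0 := fun h => hi ((ZMod.natCast_eq_zero_iff i q).1 h)
      set u := ZMod.unitOfCoprime p ((Fact.out : p.Prime).coprime_iff_not_dvd.2 (not_dvd_of_ne (q := q) hpq))
      have hgen : Subgroup.zpowers u = ⊤ := by
        apply Subgroup.eq_top_of_card_eq
        rw [Nat.card_zpowers, orderOf_unit hpq, hord, Nat.card_eq_fintype_card, ZMod.card_units]
      obtain ⟨k, hk⟩ := mem_powers_iff_mem_zpowers.2 (hgen ▸ Subgroup.mem_top (Units.mk0 _ hu))
      exact ⟨k, by simpa [u] using congrArg Units.val hk⟩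
    let σ : AdjoinRoot Φ →+* AdjoinRoot Φ := iterateFrobenius (AdjoinRoot Φ) p k
    have hζq : ζ ^ q = 1 := by
      have h : aeval ζ Φ = 0 := by rw [hζ, AdjoinRoot.aeval_eq, AdjoinRoot.mk_self]
      obtain ⟨g, hg⟩ := cyclotomic.dvd_X_pow_sub_one q (ZMod p)
      have h2 : aeval ζ (X ^ q - 1 : (ZMod p)[X]) = 0 := by rw [hg, map_mul, ← hΦ, h, zero_mul]
      simpa [sub_eq_zero] using h2
    have hσ : σ ζ = ζ ^ i := by
      change ζ ^ p ^ k = ζ ^ i
      have hmod : p ^ k % q = i % q := by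
        rw [← ZMod.natCast_eq_natCast_iff', Nat.cast_pow, hk]
      rw [← pow_mod_orderOf, ← pow_mod_orderOf (n := i)]
      have hd := orderOf_dvd_of_pow_eq_one hζq
      rw [← Nat.mod_mod_of_dvd _ hd, hmod, Nat.mod_mod_of_dvd _ hd]
    haveI : Module.Finite (AdjoinRoot Φ) V := Module.Finite.of_finite
    let b := Module.finBasis (AdjoinRoot Φ) V
    let β₀ : V →+ V :=
      { toFun := fun x => b.equivFun.symm fun j => σ (b.equivFun x j)
        map_zero' := by
          have : (fun j => σ (b.equivFun (0 : V) j)) = 0 := by ext j; simp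
          rw [this, map_zero]
        map_add' := fun x y => by
          rw [← map_add]
          congr 1
          ext j
          simp }
    have hinj : Function.Injective β₀ := by
      intro x y h
      apply b.equivFun.injective
      ext j
      exact σ.injective (congrFun (b.equivFun.symm.injective h) j)
    refine ⟨AddEquiv.ofBijective β₀ ⟨hinj, Finite.injective_iff_surjective.1 hinj⟩, fun x => ?_⟩
    change b.equivFun.symm (fun j => σ (b.equivFun (T x) j)) =
      (T ^ i) (b.equivFun.symm fun j => σ (b.equivFun x j))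
    have h1 := hsmul 1 x
    simp only [pow_one] at h1
    rw [hsmul, h1, ← map_smul]
    congr 1
    ext j
    rw [map_smul, Pi.smul_apply, Pi.smul_apply, smul_eq_mul, smul_eq_mul, map_mul, hσ]

/-- Transitive semilinear symmetry forces `p` to be a primitive root modulo `q`. -/
theorem orderOf_eq {V : Type*} [AddCommGroup V] [Module (ZMod p) V] [Finite V] [Nontrivial V]
    (hpq : p ≠ q) (T : Module.End (ZMod p) V) (hT1 : T ≠ 1)
    (hsum : ∀ v : V, ∑ k ∈ Finset.range q, (T ^ k) v = 0)
    (htr : ∀ v w : V, v ≠ 0 → w ≠ 0 → ∃ (β : V →ₗ[ZMod p] V) (i : ℕ),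
      Function.Injective β ∧ β ∘ₗ T = (T ^ i) ∘ₗ β ∧ β v = w)
    (hconj : ∀ i : ℕ, ¬ q ∣ i → ∃ β : V →ₗ[ZMod p] V, Function.Bijective β ∧ β ∘ₗ T = (T ^ i) ∘ₗ β) :
    orderOf (p : ZMod q) = q - 1 := by
  classical
  let W : V → Set V := fun v => Set.range fun f : (ZMod p)[X] => aeval T f v
  have hint : ∀ (β : V →ₗ[ZMod p] V) (i : ℕ), β ∘ₗ T = (T ^ i) ∘ₗ β →
      ∀ (f : (ZMod p)[X]) (v : V), β (aeval T f v) = aeval (T ^ i) f (β v) := by
    intro β i hβ f
    induction f using Polynomial.induction_on' with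
    | add f g hf hg => intro v; simp [map_add, hf, hg]
    | monomial n a =>
      intro v
      have hn : ∀ v, β ((T ^ n) v) = ((T ^ i) ^ n) (β v) := by
        induction n with
        | zero => intro v; rfl
        | succ n ih =>
          intro v
          rw [pow_succ, pow_succ, Module.End.mul_apply, Module.End.mul_apply, ih]
          exact congrArg _ (LinearMap.congr_fun hβ v)
      simp [aeval_monomial, Module.algebraMap_end_apply, hn]
  have hWsub : ∀ v w, v ∈ W w → W v ⊆ W w := by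
    rintro _ w ⟨g, rfl⟩ _ ⟨f, rfl⟩
    exact ⟨f * g, by simp⟩
  have hWle : ∀ v w, v ≠ 0 → w ≠ 0 → (W v).ncard ≤ (W w).ncard := by
    intro v w hv hw
    obtain ⟨β, i, hinj, hβ, rfl⟩ := htr v w hv hw
    rw [← Set.ncard_image_of_injective (W v) hinj]
    refine Set.ncard_le_ncard ?_ (Set.toFinite _)
    rintro _ ⟨_, ⟨f, rfl⟩, rfl⟩
    exact ⟨f.comp (X ^ i), by simp [hint β i hβ f v, aeval_comp]⟩
  have hWeq : ∀ v w, v ≠ 0 → w ≠ 0 → v ∈ W w → W v = W w := fun v w hv hw h =>
    Set.eq_of_subset_of_ncard_le (hWsub v w h) (hWle w v hw hv) (Set.toFinite _)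
  have hself : ∀ v, v ∈ W v := fun v => ⟨1, by simp⟩
  have hzero : ∀ (f : (ZMod p)[X]) (v : V), v ≠ 0 → aeval T f v = 0 → aeval T f = 0 := by
    intro f v hv hfv
    ext w
    rw [LinearMap.zero_apply]
    by_contra hfw
    have hw : w ≠ 0 := fun h => hfw (by rw [h, map_zero])
    have hz : aeval T f (v + w) = aeval T f w := by rw [map_add, hfv, zero_add]
    have hz0 : v + w ≠ 0 := fun h => hfw (by rw [← hz, h, map_zero])
    have e1 := hWeq _ w hfw hw ⟨f, rfl⟩
    have e2 := hWeq _ (v + w) hfw hz0 ⟨f, hz⟩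
    obtain ⟨g, hg⟩ : v + w ∈ W w := by rw [← e1, e2]; exact hself _
    have hvw : v ∈ W w := ⟨g - 1, by
      simp only [map_sub, map_one, LinearMap.sub_apply, Module.End.one_apply] at hg ⊢
      rw [hg, add_sub_cancel_right]⟩
    obtain ⟨h, hh⟩ : w ∈ W v := by rw [hWeq v w hv hw hvw]; exact hself w
    apply hfw
    simp only at hh
    rw [← hh, ← Module.End.mul_apply, ← map_mul, mul_comm, map_mul, Module.End.mul_apply, hfv, map_zero]
  set μ := minpoly (ZMod p) T with hμ
  obtain ⟨v₀, hv₀⟩ := exists_ne (0 : V)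
  haveI : Module.Finite (ZMod p) V := Module.Finite.of_finite
  have hint' : IsIntegral (ZMod p) T := IsIntegral.of_finite _ T
  have hμ0 : μ ≠ 0 := minpoly.ne_zero hint'
  have hμa : aeval T μ = 0 := minpoly.aeval _ T
  have hprime : Prime μ := by
    refine ⟨hμ0, fun hu => hv₀ ?_, fun f g hfg => ?_⟩
    · obtain ⟨g, hg⟩ := hu.exists_left_inv
      have := congrArg (fun h => aeval T h v₀) hg
      simp [hμa] at this
      exact this.symm
    · obtain ⟨h, hh⟩ := hfg
      have hfg0 : aeval T (f * g) = 0 := by rw [hh, map_mul, hμa, zero_mul]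
      by_cases hg0 : aeval T g v₀ = 0
      · exact Or.inr (minpoly.dvd _ _ (hzero g v₀ hv₀ hg0))
      · refine Or.inl (minpoly.dvd _ _ (hzero f _ hg0 ?_))
        rw [← Module.End.mul_apply, ← map_mul, hfg0, LinearMap.zero_apply]
  have hirr : Irreducible μ := hprime.irreducible
  have hμΦ : μ ∣ cyclotomic q (ZMod p) := by
    refine minpoly.dvd _ _ ?_
    rw [cyclotomic_prime, map_sum]
    ext v
    simp only [map_pow, aeval_X, LinearMap.coe_sum, Finset.sum_apply, LinearMap.zero_apply]
    exact hsum v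
  have hdeg : μ.natDegree = orderOf (p : ZMod q) := by
    rw [natDegree_of_dvd_cyclotomic_of_irreducible (K := ZMod p) (p := p) (f := 1) (n := q) (by simp)
      ((Fact.out : p.Prime).coprime_iff_not_dvd.2 (not_dvd_of_ne hpq)) hμΦ hirr, ← orderOf_units,
      ZMod.coe_unitOfCoprime, pow_one]
  refine le_antisymm ?_ ?_
  · rw [← hdeg, ← natDegree_cyc (p := p) (q := q)]
    exact natDegree_le_of_dvd hμΦ (cyclotomic_ne_zero _ _)
  · rw [← hdeg]
    haveI : Fact (Irreducible μ) := ⟨hirr⟩
    set ζ := AdjoinRoot.root μ with hζ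
    have hμζ : aeval ζ μ = 0 := by rw [hζ, AdjoinRoot.aeval_eq, AdjoinRoot.mk_self]
    have hζq : ζ ^ q = 1 := by
      obtain ⟨g, hg⟩ := hμΦ.trans (cyclotomic.dvd_X_pow_sub_one q (ZMod p))
      have h2 : aeval ζ (X ^ q - 1 : (ZMod p)[X]) = 0 := by rw [hg, map_mul, hμζ, zero_mul]
      simpa [sub_eq_zero] using h2
    have hζ1 : ζ ≠ 1 := by
      intro h
      apply hT1
      have h0 : aeval ζ (X - 1 : (ZMod p)[X]) = 0 := by simp [h]
      rw [hζ, AdjoinRoot.aeval_eq, AdjoinRoot.mk_eq_zero] at h0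
      obtain ⟨g, hg⟩ := h0
      have := congrArg (aeval T) hg
      rw [map_mul, hμa, zero_mul] at this
      simpa [sub_eq_zero] using this
    have hord : orderOf ζ = q := orderOf_eq_prime hζq hζ1
    have hroot : ∀ i, ¬ q ∣ i → (μ.map (algebraMap (ZMod p) (AdjoinRoot μ))).IsRoot (ζ ^ i) := by
      intro i hi
      obtain ⟨β, hbij, hβ⟩ := hconj i hi
      have h0 : aeval (T ^ i) μ = 0 := by
        ext w
        obtain ⟨v, rfl⟩ := hbij.2 w
        rw [← hint β i hβ, hμa, LinearMap.zero_apply, map_zero, LinearMap.zero_apply]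
      obtain ⟨g, hg⟩ := minpoly.dvd (ZMod p) T (show aeval T (μ.comp (X ^ i)) = 0 by simpa [aeval_comp] using h0)
      have h3 := congrArg (aeval ζ) hg
      rw [aeval_comp, map_mul, ← hμ, hμζ, zero_mul, map_pow, aeval_X] at h3
      rwa [IsRoot, eval_map_algebraMap]
    have hsub : (Finset.Ico 1 q).image (fun i => ζ ^ i) ⊆
        (μ.map (algebraMap (ZMod p) (AdjoinRoot μ))).roots.toFinset := by
      intro z hz
      obtain ⟨i, hi, rfl⟩ := Finset.mem_image.1 hz
      rw [Finset.mem_Ico] at hi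
      rw [Multiset.mem_toFinset, mem_roots (map_ne_zero hμ0)]
      exact hroot i fun hd => absurd (Nat.le_of_dvd (by omega) hd) (by omega)
    have hcard : ((Finset.Ico 1 q).image (fun i => ζ ^ i)).card = q - 1 := by
      rw [Finset.card_image_of_injOn, Nat.card_Ico]
      intro i hi j hj hij
      simp only [Finset.coe_Ico, Set.mem_Ico] at hi hj
      exact pow_injOn_Iio_orderOf (by simp [hord]; omega) (by simp [hord]; omega) hij
    calc q - 1 = _ := hcard.symm
      _ ≤ _ := Finset.card_le_card hsub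
      _ ≤ _ := Multiset.toFinset_card_le _
      _ ≤ _ := card_roots' _
      _ ≤ _ := natDegree_map_le

end Cfsg.Agent.FpfPrim
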