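import Cfsg.Agent.Lib.FGStruct.FrobeniusData
import Cfsg.Agent.Lib.FGStruct.ComplementTower
import Cfsg.Agent.Lib.Char.Burnside

/-!
Groups with the order type of a Frobenius group.
-/

set_option autoImplicit false
set_option linter.style.haveILetI false

namespace Cfsg.Agent.FrobOrderType

open Cfsg.Agent.FrobData Cfsg.Agent.SylowTower

universe u v

variable {F : Type u} {G : Type v} [Group F] [Finite F] [Group G] [Finite G]

/-- A group with the order type of a Frobenius group has a Frobenius kernel and complement of the same orders. -/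
theorem exists_data_of_orderType {K C : Subgroup F} (h : FData K C)
    (hT : ∀ m : ℕ, Nat.card {g : F // orderOf g = m} = Nat.card {g : G // orderOf g = m}) :
    ∃ K' H' : Subgroup G, FData K' H' ∧ Nat.card K' = Nat.card K ∧ Nat.card H' = Nat.card C := by
  classical
  obtain ⟨e, he⟩ := exists_equiv_of_orderType hT
  haveI := h.normal
  haveI := h.isNilpotent
  set m := Nat.card K with hm
  set c := Nat.card C with hc
  have hcard : Nat.card G = m * c := by
    rw [← Nat.card_congr e, ← h.compl.card_mul_card]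
  have hdich : ∀ g : G, orderOf g ∣ m ∨ orderOf g ∣ c := fun g => by
    have := h.orderOf_dvd (e.symm g)
    rwa [← he, Equiv.apply_symm_apply] at this
  have hcop : Nat.Coprime m c := h.coprime
  have hm1 : 1 < m := K.one_lt_card_iff_ne_bot.2 h.kne
  have hc1 : 1 < c := C.one_lt_card_iff_ne_bot.2 h.hne
  -- normal Sylow subgroups of `G`
  have hsyl : ∀ p : ℕ, p.Prime → p ∣ m → ∀ P : Sylow p G,
      (P : Subgroup G).Normal ∧ Nat.Coprime (Nat.card (P : Subgroup G)) c := by
    intro p hp hpm P
    haveI := Fact.mk hp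
    have hpc : ¬ p ∣ c := fun hd => hp.ne_one (Nat.eq_one_of_dvd_coprimes hcop hpm hd)
    have hPc : Nat.card (P : Subgroup G) = p ^ m.factorization p := by
      rw [P.card_eq_multiplicity, hcard, Nat.factorization_mul (by omega) (by omega), Finsupp.add_apply,
        Nat.factorization_eq_zero_of_not_dvd hpc, add_zero]
    obtain ⟨S⟩ : Nonempty (Sylow p K) := inferInstance
    have hSn : (S : Subgroup K).Normal := inferInstance
    have hSc : Nat.card (S : Subgroup K) = p ^ m.factorization p := S.card_eq_multiplicity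
    have hF : Nat.card {g : F // orderOf g ∣ p ^ m.factorization p} = p ^ m.factorization p := by
      rw [← hSc]
      refine (Nat.card_eq_of_bijective
        (fun x : (S : Subgroup K) => (⟨((x : K) : F), ?_⟩ : {g : F // orderOf g ∣ Nat.card (S : Subgroup K)}))
        ⟨?_, ?_⟩).symm
      · rw [Subgroup.orderOf_coe, Subgroup.orderOf_coe]; exact orderOf_dvd_natCard x
      · intro x y hxy
        exact Subtype.ext (Subtype.ext (congrArg Subtype.val hxy :))
      · rintro ⟨g, hg⟩
        rw [hSc] at hg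
        have hgK : g ∈ K := (h.mem_iff g).2 (hg.trans (Nat.ordProj_dvd m p))
        have hp' : IsPGroup p (Subgroup.zpowers (⟨g, hgK⟩ : K)) := by
          obtain ⟨j, -, hj⟩ := (Nat.dvd_prime_pow hp).1 hg
          exact IsPGroup.of_card (n := j) (by rw [Nat.card_zpowers, ← Subgroup.orderOf_coe, hj])
        obtain ⟨S', hS'⟩ := hp'.exists_le_sylow
        letI := Sylow.unique_of_normal S hSn
        exact ⟨⟨⟨g, hgK⟩, Subsingleton.elim S' S ▸ hS' (Subgroup.mem_zpowers _)⟩, rfl⟩
    have hset : ∀ g : G, g ∈ P ↔ orderOf g ∣ p ^ m.factorization p := by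
      have hsub : ((P : Subgroup G) : Set G) = {g : G | orderOf g ∣ p ^ m.factorization p} := by
        refine Set.eq_of_subset_of_ncard_le (fun g hg => hPc ▸ Subgroup.orderOf_dvd_natCard _ hg) ?_
          (Set.toFinite _)
        rw [← Nat.card_coe_set_eq, ← Nat.card_coe_set_eq]
        refine le_of_eq (Eq.trans ?_ hPc.symm)
        exact (Nat.card_congr (Equiv.subtypeEquiv e fun g => by change orderOf g ∣ _ ↔ orderOf (e g) ∣ _; rw [he g])).symm.trans hF
      exact fun g => Set.ext_iff.1 hsub g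
    refine ⟨⟨fun g hg x => ?_⟩, hPc ▸ (hp.coprime_iff_not_dvd.2 hpc).pow_left _⟩
    change x * g * x⁻¹ ∈ P
    rw [hset, ← MulAut.conj_apply, MulEquiv.orderOf_eq, ← hset]
    exact hg
  set K' := sSup {N : Subgroup G | N.Normal ∧ (Nat.Coprime (Nat.card N) c ∧ N ≤ Cfsg.fittingSubgroup G)}
    with hK'
  have hK'n : K'.Normal := Subgroup.sSup_normal _ fun _ hN => hN.1
  haveI := hK'n
  have hK'P : Nat.Coprime (Nat.card K') c ∧ K' ≤ Cfsg.fittingSubgroup G := by
    refine FittingCores.sSup_normal_induction (fun N => Nat.Coprime (Nat.card N) c ∧ N ≤ Cfsg.fittingSubgroup G)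
      ⟨by simp, bot_le⟩ ?_ (fun N hN => hN)
    intro A B hA hB ha hb
    refine ⟨(ha.1.mul_left hb.1).coprime_dvd_left ?_, sup_le ha.2 hb.2⟩
    haveI := hA
    have hd : A.relIndex (A ⊔ B) ∣ Nat.card B := by
      rw [Subgroup.relIndex_sup_left]; exact Subgroup.relIndex_dvd_card A B
    rw [← Subgroup.relIndex_bot_left (A ⊔ B),
      ← Subgroup.relIndex_mul_relIndex ⊥ A (A ⊔ B) bot_le le_sup_left, Subgroup.relIndex_bot_left]
    exact Nat.mul_dvd_mul_left _ hd
  have hK'm : Nat.card K' = m := by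
    refine Nat.dvd_antisymm (hK'P.1.dvd_of_dvd_mul_right (hcard ▸ K'.card_subgroup_dvd_card)) ?_
    rw [Nat.dvd_iff_prime_pow_dvd_dvd]
    intro p k hp hk
    rcases Nat.eq_zero_or_pos k with rfl | hk0
    · exact one_dvd _
    haveI := Fact.mk hp
    have hpm : p ∣ m := (dvd_pow_self p hk0.ne').trans hk
    obtain ⟨P⟩ : Nonempty (Sylow p G) := inferInstance
    obtain ⟨hPn, hPc⟩ := hsyl p hp hpm P
    have hle : (P : Subgroup G) ≤ K' :=
      le_sSup ⟨hPn, hPc, FittingCores.le_fitting hPn P.2.isNilpotent⟩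
    exact (P.pow_dvd_card_of_pow_dvd_card (hk.trans (hcard ▸ dvd_mul_right m c))).trans
      (Subgroup.card_dvd_of_le hle)
  have hidx : K'.index = c := by
    have h1 := K'.card_mul_index
    rw [hK'm, hcard] at h1
    exact Nat.eq_of_mul_eq_mul_left (by omega) h1
  have hmemK : ∀ g : G, orderOf g ∣ m → g ∈ K' := by
    intro g hg
    rw [← QuotientGroup.eq_one_iff (N := K'), ← orderOf_eq_one_iff]
    refine Nat.eq_one_of_dvd_coprimes hcop ((orderOf_map_dvd (QuotientGroup.mk' K') g).trans hg) ?_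
    rw [← hidx, Subgroup.index_eq_card]
    exact orderOf_dvd_natCard (G := G ⧸ K') _
  obtain ⟨H', hH'⟩ := Subgroup.exists_right_complement'_of_coprime (N := K') (by rw [hK'm, hidx]; exact hcop)
  have hH'c : Nat.card H' = c := by rw [← hidx, hH'.symm.index_eq_card]
  have hcent : ∀ k ∈ K', ∀ g : G, k ≠ 1 → g * k = k * g → g ∈ K' := by
    intro k hk g hk1 hgk
    by_contra hg
    have hgc : orderOf g ∣ c := (hdich g).resolve_left fun h' => hg (hmemK g h')
    have hkm : orderOf k ∣ m := hK'm ▸ Subgroup.orderOf_dvd_natCard _ hk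
    have hco : Nat.Coprime (orderOf g) (orderOf k) :=
      (hcop.symm.coprime_dvd_left hgc).coprime_dvd_right hkm
    have hmul := (show Commute g k from hgk).orderOf_mul_eq_mul_orderOf_of_coprime hco
    rcases hdich (g * k) with h' | h'
    · rw [hmul] at h'
      exact hg (hmemK g ((dvd_mul_right _ _).trans h'))
    · rw [hmul] at h'
      exact hk1 (orderOf_eq_one_iff.1
        (Nat.eq_one_of_dvd_coprimes hcop hkm ((dvd_mul_left _ _).trans h')))
  refine ⟨K', H', ⟨hK'n, hH', ?_, fun hb => ?_, fun hb => ?_⟩, hK'm, hH'c⟩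
  · intro g hg a ha hga
    obtain ⟨⟨k, b⟩, hkb⟩ := hH'.2 g
    simp only at hkb
    subst hkb
    have hinf : K' ⊓ H' = ⊥ := hH'.disjoint.eq_bot
    set t := (b : G) * a * (b : G)⁻¹ with ht
    have htH : t ∈ H' := H'.mul_mem (H'.mul_mem b.2 ha) (H'.inv_mem b.2)
    have h1 : (k : G) * t * (k : G)⁻¹ ∈ H' := by
      rw [ht, show (k : G) * ((b : G) * a * (b : G)⁻¹) * (k : G)⁻¹ =
        (k : G) * b * a * ((k : G) * b)⁻¹ by group]
      exact hga
    have h2 : (k : G) * t * (k : G)⁻¹ * t⁻¹ = 1 := by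
      have : (k : G) * t * (k : G)⁻¹ * t⁻¹ ∈ K' ⊓ H' := by
        refine ⟨?_, H'.mul_mem h1 (H'.inv_mem htH)⟩
        rw [show (k : G) * t * (k : G)⁻¹ * t⁻¹ = (k : G) * (t * (k : G)⁻¹ * t⁻¹) by group]
        exact K'.mul_mem k.2 (hK'n.conj_mem _ (K'.inv_mem k.2) t)
      rwa [hinf, Subgroup.mem_bot] at this
    have hkt : (k : G) * t = t * k := by
      have := congrArg (fun w => w * t * (k : G)) h2
      simpa [mul_assoc] using this
    have hk1 : (k : G) ≠ 1 := fun h' => hg (by rw [h', one_mul]; exact b.2)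
    have htK : t ∈ K' ⊓ H' := ⟨hcent k k.2 t hk1 hkt.symm, htH⟩
    rw [hinf, Subgroup.mem_bot, ht] at htK
    exact conj_eq_one_iff.1 htK
  · rw [hb, Subgroup.card_bot] at hK'm
    omega
  · rw [hb, Subgroup.card_bot] at hH'c
    omega

lemma card_complement_orderOf {K C : Subgroup F} (h : FData K C) {K' H' : Subgroup G} (h' : FData K' H')
    (hKc : Nat.card K' = Nat.card K) (hHc : Nat.card H' = Nat.card C)
    (hT : ∀ m : ℕ, Nat.card {g : F // orderOf g = m} = Nat.card {g : G // orderOf g = m}) (d : ℕ) :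
    Nat.card {a : C // orderOf a = d} = Nat.card {a : H' // orderOf a = d} := by
  by_cases hd1 : d = 1
  · subst hd1
    have h1 : ∀ (M : Type _) [Group M], Nat.card {a : M // orderOf a = 1} = 1 := fun M _ => by
      rw [Nat.card_eq_one_iff_exists]
      exact ⟨⟨1, orderOf_one⟩, fun x => Subtype.ext (orderOf_eq_one_iff.1 x.2)⟩
    have h2 : Nat.card {a : H' // orderOf a = 1} = 1 := by
      rw [Nat.card_eq_one_iff_exists]
      exact ⟨⟨1, orderOf_one⟩, fun x => Subtype.ext (orderOf_eq_one_iff.1 x.2)⟩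
    rw [h1 C, h2]
  by_cases hd : d ∣ Nat.card C
  · have h1 := h.card_orderOf hd hd1
    have h2 := h'.card_orderOf (hHc ▸ hd) hd1
    rw [hT d, h2, hKc] at h1
    exact (Nat.eq_of_mul_eq_mul_left Nat.card_pos h1).symm
  · haveI : IsEmpty {a : C // orderOf a = d} := ⟨fun a => hd (a.2 ▸ orderOf_dvd_natCard a.1)⟩
    haveI : IsEmpty {a : H' // orderOf a = d} := ⟨fun a => hd (hHc ▸ a.2 ▸ orderOf_dvd_natCard a.1)⟩
    rw [Nat.card_of_isEmpty, Nat.card_of_isEmpty]

theorem isSolvable_transfer {K C : Subgroup F} (h : FData K C)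
    (hT : ∀ m : ℕ, Nat.card {g : F // orderOf g = m} = Nat.card {g : G // orderOf g = m})
    (hF : Group.IsSolvable F) : Group.IsSolvable G := by
  obtain ⟨K', H', h', hKc, hHc⟩ := exists_data_of_orderType h hT
  rw [h'.isSolvable_iff]
  have hC : TowerFrom 5 C :=
    Cfsg.Agent.ComplTower.towerFrom_five _ C le_rfl (h.isSolvable_iff.1 hF) h.abCyclic
  obtain ⟨N, hNn, hN, hNs⟩ :=
    towerFrom_of_orderType (card_complement_orderOf h h' hKc hHc hT) hC 5 le_rfl
  haveI := hNn
  haveI := hNs
  have hidx0 : N.index ≠ 0 := Subgroup.index_ne_zero_of_finite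
  have hexp : ∃ a b, N.index = 2 ^ a * 3 ^ b := by
    refine ⟨N.index.factorization 2, N.index.factorization 3,
      Nat.eq_of_factorization_eq hidx0 (by positivity) fun r => ?_⟩
    rw [Nat.factorization_mul (by positivity) (by positivity), Finsupp.add_apply,
      Nat.prime_two.factorization_pow, Nat.prime_three.factorization_pow]
    by_cases hr2 : r = 2
    · subst hr2
      rw [Finsupp.single_eq_same, Finsupp.single_eq_of_ne (by norm_num), add_zero]
    by_cases hr3 : r = 3
    · subst hr3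
      rw [Finsupp.single_eq_same, Finsupp.single_eq_of_ne hr2, zero_add]
    rw [Finsupp.single_eq_of_ne hr2, Finsupp.single_eq_of_ne hr3, add_zero]
    by_contra hne
    rw [Nat.factorization_eq_zero_iff] at hne
    push Not at hne
    obtain ⟨hr, hrd, -⟩ := hne
    have hr5 := hN.2 r hr hrd
    have := hr.two_le
    interval_cases r <;> first | omega | norm_num at hr
  haveI : Group.IsSolvable (H' ⧸ N) :=
    Cfsg.Agent.Char.isSolvable_of_card_pq 2 3 Nat.prime_two Nat.prime_three _ (H' ⧸ N) rfl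
      (by rw [← Subgroup.index_eq_card]; exact hexp)
  exact solvable_of_ker_le_range N.subtype (QuotientGroup.mk' N)
    (by rw [QuotientGroup.ker_mk', Subgroup.range_subtype])

theorem main {C : Subgroup F} (hC : Cfsg.IsFrobeniusComplement C)
    (hT : ∀ m : ℕ, Nat.card {g : F // orderOf g = m} = Nat.card {g : G // orderOf g = m}) :
    (∃ H : Subgroup G, Cfsg.IsFrobeniusComplement H) ∧ (Group.IsSolvable G ↔ Group.IsSolvable F) := by
  obtain ⟨K, h⟩ := exists_data hC
  obtain ⟨K', H', h', -, -⟩ := exists_data_of_orderType h hT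
  exact ⟨⟨H', h'.isFrobeniusComplement⟩,
    fun hG => isSolvable_transfer h' (fun m => (hT m).symm) hG,
    fun hF => isSolvable_transfer h hT hF⟩

end Cfsg.Agent.FrobOrderType
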