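import Cfsg.Agent.Lib.FGStruct.AbelianOffender
import Cfsg.Agent.Lib.PLocal.FF.Factor
import Cfsg.Agent.Lib.Fischer.Dihedral
import Cfsg.Agent.Lib.LocalEven.Basic
import Cfsg.Agent.Lib.Solvable.Fitting

/-!
The normal closure of the abelian Thompson subgroup of a solvable group of characteristic two.
-/

set_option autoImplicit false
set_option linter.style.haveILetI false
open scoped commutatorElement Pointwise

namespace Cfsg.Agent.JComp

open Cfsg.Agent.FF

universe u

variable {X : Type u} [Group X] [Finite X]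

theorem sl2_two : Nonempty (Matrix.SpecialLinearGroup (Fin 2) (ZMod 2) ≃* Equiv.Perm (Fin 3)) := by
  let a : Matrix.SpecialLinearGroup (Fin 2) (ZMod 2) := ⟨!![1, 1; 0, 1], by decide⟩
  let b : Matrix.SpecialLinearGroup (Fin 2) (ZMod 2) := ⟨!![1, 0; 1, 1], by decide⟩
  have ha : orderOf a = 2 := orderOf_eq_prime (Subtype.ext (by decide)) (fun h => absurd (congrArg Subtype.val h) (by decide))
  have hb : orderOf b = 2 := orderOf_eq_prime (Subtype.ext (by decide)) (fun h => absurd (congrArg Subtype.val h) (by decide))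
  haveI : Fact (Nat.Prime 3) := ⟨Nat.prime_three⟩
  have hab : orderOf (a * b) = 3 := orderOf_eq_prime (Subtype.ext (by decide)) (fun h => absurd (congrArg Subtype.val h) (by decide))
  obtain ⟨e⟩ := Fischer.nonempty_mulEquiv_perm_three ha hb hab
  have htop : Subgroup.closure ({a, b} : Set (Matrix.SpecialLinearGroup (Fin 2) (ZMod 2))) = ⊤ := by
    refine Subgroup.eq_top_of_card_eq _ ?_
    rw [Nat.card_congr e.toEquiv, Nat.card_eq_fintype_card, Nat.card_eq_fintype_card, Fintype.card_perm,
      Fintype.card_fin]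
    decide
  exact ⟨Subgroup.topEquiv.symm.trans ((MulEquiv.subgroupCongr htop.symm).trans e)⟩

/-- The components spanned by the offenders of order two multiply to `H`. -/
theorem product_equiv {G : Type*} [Group G] [Finite G] [Fact (Nat.Prime 2)] {V H K : Subgroup G}
    (S : Setting 2 V H K) (hgen : H = Subgroup.closure {t | Tv 2 V H t}) (hne : H ≠ ⊥) :
    ∃ n : ℕ, 1 ≤ n ∧ Nonempty (H ≃* (Fin n → Equiv.Perm (Fin 3))) := by
  classical
  let Cs := {P : Subgroup G // ∃ t, Tv 2 V H t ∧ P = comp K t}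
  letI : Fintype Cs := Fintype.ofFinite _
  set e := Fintype.equivFin Cs
  let c : Fin (Fintype.card Cs) → Subgroup G := fun i => (e.symm i).1
  have hc : ∀ i, ∃ t, Tv 2 V H t ∧ c i = comp K t := fun i => (e.symm i).2
  have hother : ∀ (i j), i ≠ j → ∀ a, Tv 2 V H a → c i = comp K a → c j ≤ rest 2 V H K a := by
    intro i j hij a ha hi
    obtain ⟨b, hb, hj⟩ := hc j
    have hne' : comp K a ≠ comp K b := fun h => hij (e.symm.injective (Subtype.ext (hi.trans (h.trans hj.symm))))
    rw [hj]
    refine (Subgroup.closure_le _).2 fun t ht => Subgroup.subset_closure ⟨conjSet_tv S hb ht, ?_⟩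
    rwa [comp_eq ht]
  have hcomm : Pairwise fun i j => ∀ x y : G, x ∈ c i → y ∈ c j → Commute x y := by
    intro i j hij x y hx hy
    obtain ⟨a, ha, hi⟩ := hc i
    exact Subgroup.mem_centralizer_iff.1 ((rest_le S ha) (hother i j hij a ha hi hy)).1.2 x (hi ▸ hx)
  have hind : iSupIndep c := by
    intro i
    obtain ⟨a, ha, hi⟩ := hc i
    refine disjoint_iff.2 (le_bot_iff.1 ((inf_le_inf hi.le (iSup₂_le fun j hj => ?_)).trans
      (factor S hgen ha).2.2.1.le))
    exact hother i j (Ne.symm hj) a ha hi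
  have hsup : ⨆ i, c i = H := by
    refine le_antisymm (iSup_le fun i => ?_) ?_
    · obtain ⟨a, ha, hi⟩ := hc i
      exact hi ▸ comp_le S ha
    · refine hgen.le.trans ((Subgroup.closure_le _).2 fun t ht => ?_)
      refine Subgroup.mem_iSup_of_mem (e ⟨comp K t, t, ht, rfl⟩) ?_
      show t ∈ (e.symm (e ⟨comp K t, t, ht, rfl⟩)).1
      rw [Equiv.symm_apply_apply]
      exact self_mem_comp K t
  refine ⟨Fintype.card Cs, ?_, ?_⟩
  · by_contra hlt
    haveI : IsEmpty (Fin (Fintype.card Cs)) := by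
      rw [show Fintype.card Cs = 0 by omega]; exact Fin.isEmpty
    exact hne (hsup ▸ iSup_of_empty c)
  · obtain ⟨e3⟩ := sl2_two
    have he : ∀ i, Nonempty (c i ≃* Equiv.Perm (Fin 3)) := fun i => by
      obtain ⟨a, ha, hi⟩ := hc i
      obtain ⟨e2⟩ := comp_equiv S ha
      exact ⟨(MulEquiv.subgroupCongr hi).trans (e2.trans e3)⟩
    have hinj := Subgroup.injective_noncommPiCoprod_of_iSupIndep (hcomm := hcomm) hind
    have hr : (Subgroup.noncommPiCoprod hcomm).range = H := by rw [Subgroup.noncommPiCoprod_range, hsup]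
    exact ⟨((MonoidHom.ofInjective hinj).trans (MulEquiv.subgroupCongr hr)).symm.trans
      (MulEquiv.piCongrRight fun i => Classical.choice (he i))⟩

section Main

variable [Group.IsSolvable X]

theorem pPrimeCore_eq_bot (hF : Cfsg.fittingSubgroup X = Cfsg.pCore 2 X) : Cfsg.pPrimeCore 2 X = ⊥ := by
  haveI : Fact (Nat.Prime 2) := ⟨Nat.prime_two⟩
  have hO := LEBasic.pCore_isPGroup (p := 2) (G := X)
  haveI : (Cfsg.pCore 2 X).Normal := FittingCores.pCore_normal 2
  haveI := PBasic.pPrimeCore_characteristic 2 X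
  have hdisj : Cfsg.pCore 2 X ⊓ Cfsg.pPrimeCore 2 X = ⊥ := by
    obtain ⟨n, hn⟩ := IsPGroup.iff_card.1 hO
    refine Subgroup.card_eq_one.1 (Nat.eq_one_of_dvd_coprimes ((PBasic.pPrimeCore_coprime 2 X).symm.pow_left n)
      (hn ▸ Subgroup.card_dvd_of_le inf_le_left) (Subgroup.card_dvd_of_le inf_le_right))
  have hle : Cfsg.pPrimeCore 2 X ≤ Subgroup.centralizer (Cfsg.pCore 2 X : Set X) := by
    intro y hy
    refine Subgroup.mem_centralizer_iff.2 fun x hx => ?_
    have hc : y * x * y⁻¹ * x⁻¹ = 1 := by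
      refine Subgroup.mem_bot.1 (hdisj.le (Subgroup.mem_inf.2 ⟨?_, ?_⟩))
      · exact mul_mem ((inferInstance : (Cfsg.pCore 2 X).Normal).conj_mem x hx y) (inv_mem hx)
      · rw [show y * x * y⁻¹ * x⁻¹ = y * (x * y⁻¹ * x⁻¹) by group]
        exact mul_mem hy ((inferInstance : (Cfsg.pPrimeCore 2 X).Normal).conj_mem _ (inv_mem hy) x)
    exact (mul_inv_eq_iff_eq_mul.1 (mul_inv_eq_one.1 hc)).symm
  have hself := FittingCores.centralizer_fitting_le (G := X)
  rw [hF] at hself
  rw [← hdisj]
  exact (inf_eq_right.2 (hle.trans hself)).symm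

/-- The statement on `C`, the normal closure `Y` of `J(T)` and `N(J(T))`. -/
theorem main (hF : Cfsg.fittingSubgroup X = Cfsg.pCore 2 X) (T : Sylow 2 X) :
    ((Subgroup.centralizer (((T : Subgroup X) ⊓ Subgroup.centralizer ((T : Subgroup X) : Set X) : Subgroup X) : Set X)).normalCore
        ⊔ Subgroup.normalClosure (Cfsg.thompsonSubgroupAOf (T : Subgroup X) : Set X)
        ⊔ Subgroup.normalizer (Cfsg.thompsonSubgroupAOf (T : Subgroup X) : Set X) = ⊤) ∧
    (Subgroup.normalClosure (Cfsg.thompsonSubgroupAOf (T : Subgroup X) : Set X)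
        ≤ (Subgroup.centralizer (((T : Subgroup X) ⊓ Subgroup.centralizer ((T : Subgroup X) : Set X) : Subgroup X) : Set X)).normalCore
      ∨ ∃ n : ℕ, 1 ≤ n ∧
        Nonempty (↥(Subgroup.normalClosure (Cfsg.thompsonSubgroupAOf (T : Subgroup X) : Set X)) ⧸
            ((Subgroup.centralizer (((T : Subgroup X) ⊓ Subgroup.centralizer ((T : Subgroup X) : Set X) : Subgroup X) : Set X)).normalCore).subgroupOf
              (Subgroup.normalClosure (Cfsg.thompsonSubgroupAOf (T : Subgroup X) : Set X))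
          ≃* (Fin n → Equiv.Perm (Fin 3)))) := by
  classical
  haveI : Fact (Nat.Prime 2) := ⟨Nat.prime_two⟩
  set Z := (T : Subgroup X) ⊓ Subgroup.centralizer ((T : Subgroup X) : Set X) with hZ
  set C0 := (Subgroup.centralizer (Z : Set X)).normalCore with hC0
  set J := Cfsg.thompsonSubgroupAOf (T : Subgroup X) with hJ
  set Y := Subgroup.normalClosure (J : Set X) with hY
  have hO' := pPrimeCore_eq_bot hF
  have hsep : Cfsg.IsPSolvable 2 X := PSolvable.of_solvable inferInstance
  set O := Cfsg.pCore 2 X with hO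
  haveI : O.Normal := FittingCores.pCore_normal 2
  have hCO := PSolvable.centralizer_pCore_le hsep hO'
  have hOT : O ≤ (T : Subgroup X) := LEBasic.pCore_le_sylow T
  set W0 := Subgroup.normalClosure (Z : Set X) with hW0
  haveI : W0.Normal := Subgroup.normalClosure_normal
  have hWZ : W0 ≤ O ⊓ Subgroup.centralizer (O : Set X) := by
    haveI : (O ⊓ Subgroup.centralizer (O : Set X)).Normal := Subgroup.normal_inf_normal _ _
    refine Subgroup.normalClosure_le_normal fun z hz => ?_
    have hzc : z ∈ Subgroup.centralizer (O : Set X) := Subgroup.mem_centralizer_iff.2 fun o ho =>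
      Subgroup.mem_centralizer_iff.1 hz.2 o (hOT ho)
    exact ⟨hCO hzc, hzc⟩
  have hWab : ∀ a ∈ W0, ∀ b ∈ W0, a * b = b * a := fun a ha b hb =>
    Subgroup.mem_centralizer_iff.1 (hWZ hb).2 a (hWZ ha).1
  have hC0W : C0 = Subgroup.centralizer (W0 : Set X) := by
    refine le_antisymm ?_ ((Subgroup.normal_le_normalCore).2
      (Subgroup.centralizer_le Subgroup.subset_normalClosure))
    rw [Subgroup.le_centralizer_iff]
    exact Subgroup.normalClosure_le_normal
      (Subgroup.le_centralizer_iff.1 (Subgroup.normalCore_le (Subgroup.centralizer (Z : Set X))))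
  -- normal subgroups whose image modulo `C0` is a 2-group are trivial there
  have hkey : ∀ P : Subgroup X, P.Normal → C0 ≤ P → IsPGroup 2 (P.map (QuotientGroup.mk' C0)) → P ≤ C0 := by
    intro P hP hle hP2
    refine (Subgroup.normal_le_normalCore (hN := hP)).2 fun x hx => ?_
    haveI : (P.map (QuotientGroup.mk' C0)).Normal := hP.map _ (QuotientGroup.mk'_surjective C0)
    have hx' := LEBasic.normal_le_sylow hP2 (T.mapSurjective (QuotientGroup.mk'_surjective C0))
      ⟨x, hx, rfl⟩
    rw [Sylow.coe_mapSurjective] at hx'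
    obtain ⟨t, ht, e⟩ := hx'
    rw [QuotientGroup.mk'_apply, QuotientGroup.mk'_apply, QuotientGroup.eq] at e
    rw [show x = t * (t⁻¹ * x) by group]
    exact mul_mem (Subgroup.mem_centralizer_iff.2 fun z hz => (Subgroup.mem_centralizer_iff.1 hz.2 t ht).symm)
      (Subgroup.normalCore_le _ e)
  let V : Subgroup X :=
    { carrier := {w | w ∈ W0 ∧ w * w = 1}
      one_mem' := ⟨one_mem W0, one_mul 1⟩
      mul_mem' := fun {a b} ha hb => ⟨mul_mem ha.1 hb.1, by
        rw [show a * b * (a * b) = a * (b * a) * b by group, hWab b hb.1 a ha.1,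
          show a * (a * b) * b = (a * a) * (b * b) by group, ha.2, hb.2, one_mul]⟩
      inv_mem' := fun {a} ha => ⟨inv_mem ha.1, by rw [← mul_inv_rev, ha.2, inv_one]⟩ }
  have memV : ∀ w, w ∈ V ↔ w ∈ W0 ∧ w * w = 1 := fun w => Iff.rfl
  haveI : V.Normal := ⟨fun w hw g => ⟨(inferInstance : W0.Normal).conj_mem w hw.1 g, by
    rw [show g * w * g⁻¹ * (g * w * g⁻¹) = g * (w * w) * g⁻¹ by group, hw.2]; group⟩⟩
  have hV : Cfsg.IsElementaryAbelian 2 V :=
    ⟨⟨⟨fun a b => Subtype.ext (hWab a a.2.1 b b.2.1)⟩⟩, fun a ha => by rw [pow_two]; exact ha.2⟩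
  have hVT : V ≤ (T : Subgroup X) := fun v hv => hOT (hWZ hv.1).1
  have hW2 : IsPGroup 2 W0 := (T.isPGroup').to_le fun w hw => hOT (hWZ hw).1
  have hodd : ∀ k ∈ Subgroup.centralizer (V : Set X), Odd (orderOf k) → ∀ w ∈ W0, k * w = w * k := by
    intro k hk hkodd
    suffices ∀ n : ℕ, ∀ w ∈ W0, w ^ 2 ^ n = 1 → k * w = w * k by
      intro w hw
      obtain ⟨n, hn⟩ := IsPGroup.exists_orderOf_eq_pow hW2 ⟨w, hw⟩
      rw [← Subgroup.orderOf_coe] at hn
      exact this n w hw (by rw [← hn]; exact pow_orderOf_eq_one w)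
    intro n
    induction n with
    | zero => intro w _ h; rw [pow_zero, pow_one] at h; simp [h]
    | succ n ih =>
      intro w hw h
      have hsq := ih (w * w) (mul_mem hw hw) (by rw [← pow_two, ← pow_mul, ← pow_succ']; exact h)
      set u := w⁻¹ * (k * w * k⁻¹) with hu
      have hkw : k * w * k⁻¹ ∈ W0 := (inferInstance : W0.Normal).conj_mem w hw k
      have huW : u ∈ W0 := mul_mem (inv_mem hw) hkw
      have huu : u * u = 1 := by
        calc u * u = w⁻¹ * ((k * w * k⁻¹) * w⁻¹) * (k * w * k⁻¹) := by rw [hu]; group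
          _ = w⁻¹ * (w⁻¹ * (k * w * k⁻¹)) * (k * w * k⁻¹) := by rw [hWab _ hkw _ (inv_mem hw)]
          _ = (w * w)⁻¹ * (k * (w * w) * k⁻¹) := by group
          _ = 1 := by rw [hsq, mul_inv_cancel_right, inv_mul_cancel]
      obtain ⟨i, hi⟩ := IsPGroup.exists_orderOf_eq_pow hW2 ⟨u, huW⟩
      rw [← Subgroup.orderOf_coe] at hi
      exact SmallTwo.fix_of_fix hkodd ⟨i, hi⟩ (show k * w * k⁻¹ = w * u by rw [hu]; group)
        (Subgroup.mem_centralizer_iff.1 hk u ⟨huW, huu⟩).symm
  have hC0V : C0 = Subgroup.centralizer (V : Set X) := by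
    have hle : C0 ≤ Subgroup.centralizer (V : Set X) := hC0W.trans_le (Subgroup.centralizer_le fun w hw => hw.1)
    refine le_antisymm hle (hkey _ inferInstance hle ?_)
    rintro ⟨_, x, hx, rfl⟩
    obtain ⟨i, m, hm, hxo⟩ := Nat.exists_eq_two_pow_mul_odd (orderOf_pos x).ne'
    refine ⟨i, Subtype.ext ?_⟩
    rw [Subgroup.coe_pow, Subgroup.coe_one]
    show (QuotientGroup.mk' C0 x) ^ 2 ^ i = 1
    rw [← map_pow, QuotientGroup.mk'_apply, QuotientGroup.eq_one_iff, hC0W]
    have ho : orderOf (x ^ 2 ^ i) = m := by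
      rw [orderOf_pow' _ (pow_ne_zero _ two_ne_zero), hxo, Nat.gcd_eq_right (dvd_mul_right _ _),
        Nat.mul_div_cancel_left _ (pow_pos two_pos i)]
    exact Subgroup.mem_centralizer_iff.2 fun w hw =>
      (hodd _ (pow_mem hx _) (ho ▸ hm) w hw).symm
  have hOq : Cfsg.pCore 2 (X ⧸ Subgroup.centralizer (V : Set X)) = ⊥ := by
    set f := QuotientGroup.mk' (Subgroup.centralizer (V : Set X)) with hf
    haveI : (Cfsg.pCore 2 (X ⧸ Subgroup.centralizer (V : Set X))).Normal := FittingCores.pCore_normal 2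
    set P := (Cfsg.pCore 2 (X ⧸ Subgroup.centralizer (V : Set X))).comap f with hP
    have hmap : P.map f = Cfsg.pCore 2 (X ⧸ Subgroup.centralizer (V : Set X)) :=
      Subgroup.map_comap_eq_self_of_surjective (QuotientGroup.mk'_surjective _) _
    have hPle : P ≤ C0 := by
      refine hkey P inferInstance ?_ ?_
      · rw [hC0V]
        exact (QuotientGroup.ker_mk' _).symm.le.trans (Subgroup.ker_le_comap f _)
      · rintro ⟨_, x, hx, rfl⟩
        obtain ⟨i, hi⟩ := PBasic.pCore_isPGroup 2 (X ⧸ Subgroup.centralizer (V : Set X)) ⟨f x, hx⟩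
        refine ⟨i, Subtype.ext ?_⟩
        rw [Subgroup.coe_pow, Subgroup.coe_one]
        show (QuotientGroup.mk' C0 x) ^ 2 ^ i = 1
        rw [← map_pow, QuotientGroup.mk'_apply, QuotientGroup.eq_one_iff, hC0V, ← QuotientGroup.eq_one_iff]
        show f (x ^ 2 ^ i) = 1
        rw [map_pow]
        exact congrArg Subtype.val hi
    rw [← hmap, Subgroup.map_eq_bot_iff, hf, QuotientGroup.ker_mk']
    exact hPle.trans hC0V.le
  -- the setting on the image of `Y`
  haveI : Y.Normal := Subgroup.normalClosure_normal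
  set N := Y.map (QuotientGroup.mk' (Subgroup.centralizer (V : Set X))) with hN
  haveI : N.Normal := Subgroup.Normal.map inferInstance _ (QuotientGroup.mk'_surjective _)
  have S := setting_semi V hsep hV hOq N
  set H := N.map (SemidirectProduct.inr : _ →* Semi V) with hH
  have hHmap : H = Y.map (toSemi V) := by rw [hH, hN, Subgroup.map_map]; rfl
  have hoff : ∀ (S' : Sylow 2 X) (A : Subgroup X), A ≤ (S' : Subgroup X) → A ≤ Y →
      (∀ a ∈ A, ∀ b ∈ A, a * b = b * a) →
      (∀ B : Subgroup X, B ≤ (S' : Subgroup X) → (∀ a ∈ B, ∀ b ∈ B, a * b = b * a) → Nat.card B ≤ Nat.card A) →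
      Off 2 (inV V).range H (A.map (toSemi V)) := by
    intro S' A hAS hAY hAc hmax
    have hVS : V ≤ (S' : Subgroup X) := fun v hv => LEBasic.pCore_le_sylow S' (hWZ hv.1).1
    set A₁ := A ⊓ Subgroup.centralizer (V : Set X) with hA₁
    have hVA : V ≤ Subgroup.centralizer (A₁ : Set X) :=
      Subgroup.le_centralizer_iff.1 inf_le_right
    have hcard := SolvBasic.card_sup_mul_card_inf (H := A₁) (N := V)
      (by rw [Subgroup.normalizer_eq_top]; exact le_top)
    have hBc : ∀ a ∈ A₁ ⊔ V, ∀ b ∈ A₁ ⊔ V, a * b = b * a := by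
      have he : A₁ ⊔ V = Subgroup.closure ((A₁ : Set X) ∪ (V : Set X)) := by
        rw [Subgroup.closure_union, Subgroup.closure_eq, Subgroup.closure_eq]
      rw [he]
      refine SmallTwo.comm_closure ?_
      rintro a (ha | ha) b (hb | hb)
      exacts [hAc a ha.1 b hb.1, (Subgroup.mem_centralizer_iff.1 ha.2 b hb).symm,
        Subgroup.mem_centralizer_iff.1 hb.2 a ha, hWab a ha.1 b hb.1]
    have h1 := hmax (A₁ ⊔ V) (sup_le (inf_le_left.trans hAS) hVS) hBc
    have h2 : Nat.card (A₁ ⊓ V : Subgroup X) ≤ Nat.card (V ⊓ Subgroup.centralizer (A : Set X) : Subgroup X) :=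
      Subgroup.card_le_of_le fun v hv => Subgroup.mem_inf.2 ⟨hv.2,
        Subgroup.mem_centralizer_iff.2 fun a ha => hAc a ha v hv.1.1⟩
    have hge : Nat.card V ≤ Nat.card (A.map (toSemi V)) *
        Nat.card (V ⊓ Subgroup.centralizer (A : Set X) : Subgroup X) := by
      refine Nat.le_of_mul_le_mul_left ?_ (Nat.card_pos (α := A₁))
      calc Nat.card A₁ * Nat.card V = Nat.card (A₁ ⊔ V : Subgroup X) * Nat.card (A₁ ⊓ V : Subgroup X) := by rw [mul_comm, sup_comm A₁, inf_comm A₁]; exact hcard.symm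
        _ ≤ Nat.card A * Nat.card (V ⊓ Subgroup.centralizer (A : Set X) : Subgroup X) := Nat.mul_le_mul h1 h2
        _ = _ := by rw [← card_image_mul V A]; ring
    have hAH : A.map (toSemi V) ≤ H := hHmap ▸ Subgroup.map_mono hAY
    have hIc : ∀ a ∈ A.map (toSemi V), ∀ b ∈ A.map (toSemi V), a * b = b * a := by
      rintro _ ⟨a, ha, rfl⟩ _ ⟨b, hb, rfl⟩
      rw [← map_mul, ← map_mul, hAc a ha b hb]
    obtain ⟨hle, heq⟩ := AbOffender.card_mul_le S _ (A.map (toSemi V)) le_rfl hAH hIc
      ((S'.isPGroup'.to_le hAS).map _)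
    rw [card_fix_image, card_range_inV] at hle heq
    refine ⟨hAH, ⟨⟨⟨fun a b => Subtype.ext (hIc a a.2 b b.2)⟩⟩, fun a ha => ?_⟩, ?_⟩
    · rw [pow_two]; exact heq hge a ha
    · rw [card_fix_image, card_range_inV]; exact le_antisymm hle hge
  have hmaxT : ∀ A : Subgroup (T : Subgroup X), A ∈ Cfsg.maxAbelianSubgroups (T : Subgroup X) →
      A.map (T : Subgroup X).subtype ≤ J ∧ (∀ a ∈ A.map (T : Subgroup X).subtype,
        ∀ b ∈ A.map (T : Subgroup X).subtype, a * b = b * a) ∧
      (∀ B : Subgroup X, B ≤ (T : Subgroup X) → (∀ a ∈ B, ∀ b ∈ B, a * b = b * a) →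
        Nat.card B ≤ Nat.card (A.map (T : Subgroup X).subtype)) := by
    intro A hA
    refine ⟨Subgroup.map_mono (le_sSup hA), ?_, fun B hB hBc => ?_⟩
    · rintro _ ⟨a, ha, rfl⟩ _ ⟨b, hb, rfl⟩
      exact congrArg Subtype.val (congrArg Subtype.val (hA.1.is_comm.comm (⟨a, ha⟩ : A) ⟨b, hb⟩))
    · rw [Subgroup.card_map_of_injective (T : Subgroup X).subtype_injective,
        ← Nat.card_congr (Subgroup.subgroupOfEquivOfLe hB).toEquiv]
      exact hA.2 _ ⟨⟨fun a b => Subtype.ext (Subtype.ext (hBc _ (Subgroup.mem_subgroupOf.1 a.2) _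
        (Subgroup.mem_subgroupOf.1 b.2)))⟩⟩
  have hJY : J ≤ Y := Subgroup.subset_normalClosure
  have hgen : H = Subgroup.closure {t | Tv 2 (inV V).range H t} := by
    refine le_antisymm ?_ ((Subgroup.closure_le _).2 fun t ht => Tv.mem ht)
    rw [show H ≤ _ ↔ Y.map (toSemi V) ≤ Subgroup.closure {t | Tv 2 (inV V).range H t} by rw [← hHmap],
      Subgroup.map_le_iff_le_comap]
    refine (Subgroup.closure_le _).2 fun x hx => ?_
    obtain ⟨j, hj, hjx⟩ := Group.mem_conjugatesOfSet_iff.1 hx
    obtain ⟨g, rfl⟩ := isConj_iff.1 hjx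
    have hJ' : J ≤ ((Subgroup.closure {t | Tv 2 (inV V).range H t}).comap (toSemi V)).comap
        (MulAut.conj g).toMonoidHom := by
      rw [hJ, Cfsg.thompsonSubgroupAOf, Cfsg.thompsonSubgroupA, sSup_eq_iSup', Subgroup.map_iSup]
      refine iSup_le fun A => ?_
      rw [← Subgroup.map_le_iff_le_comap]
      obtain ⟨hAJ, hAc, hAmax⟩ := hmaxT A.1 A.2
      set g' := (MulAut.conj g).toMonoidHom with hg'
      have hg's : Function.Surjective g' := (MulAut.conj g).surjective
      have h := hoff (T.mapSurjective hg's) ((A.1.map (T : Subgroup X).subtype).map g')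
        (by rw [Sylow.coe_mapSurjective]; exact Subgroup.map_mono (Subgroup.map_subtype_le _))
        (by
          rintro _ ⟨a, ha, rfl⟩
          exact (inferInstance : Y.Normal).conj_mem a (hJY (hAJ ha)) g)
        (by
          rintro _ ⟨a, ha, rfl⟩ _ ⟨b, hb, rfl⟩
          rw [← map_mul, ← map_mul, hAc a ha b hb])
        (fun B hB hBc => by
          rw [Sylow.coe_mapSurjective] at hB
          rw [Subgroup.card_map_of_injective (MulAut.conj g).injective]
          have hBm : (B.comap g').map g' = B := Subgroup.map_comap_eq_self_of_surjective hg's B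
          rw [← hBm, Subgroup.card_map_of_injective (MulAut.conj g).injective]
          refine hAmax _ (fun b hb => ?_) fun a ha b hb => (MulAut.conj g).injective ?_
          · obtain ⟨t, ht, e⟩ := hB hb
            exact (MulAut.conj g).injective e ▸ ht
          · show g' (a * b) = g' (b * a)
            rw [map_mul, map_mul]; exact hBc _ ha _ hb)
      rw [← Subgroup.map_le_iff_le_comap, Off.eq_closure S h]
      exact Subgroup.closure_mono fun t ht => ht.2
    exact hJ' hj
  refine ⟨?_, ?_⟩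
  · -- Frattini argument in `C0 ⊔ Y`
    set M := C0 ⊔ Y with hM
    haveI : M.Normal := Subgroup.sup_normal _ _
    obtain ⟨R, hR⟩ := PBasic.exists_sylow_subgroupOf T M
    have hF' := Sylow.normalizer_sup_eq_top R
    rw [hR, Subgroup.subgroupOf_map_subtype] at hF'
    refine top_le_iff.1 (hF'.ge.trans (sup_le (le_trans ?_ le_sup_right) le_sup_left))
    intro g hg
    refine Subgroup.mem_normalizer_fintype fun x hx => ?_
    have hle : J ≤ J.comap (MulAut.conj g).toMonoidHom := by
      nth_rewrite 1 [hJ]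
      rw [Cfsg.thompsonSubgroupAOf, Cfsg.thompsonSubgroupA, sSup_eq_iSup', Subgroup.map_iSup]
      refine iSup_le fun A => ?_
      rw [← Subgroup.map_le_iff_le_comap]
      obtain ⟨hAJ, hAc, hAmax⟩ := hmaxT A.1 A.2
      set B := (A.1.map (T : Subgroup X).subtype).map (MulAut.conj g).toMonoidHom with hB
      have hBT : B ≤ (T : Subgroup X) := by
        rintro _ ⟨a, ha, rfl⟩
        have haT : a ∈ (T : Subgroup X) ⊓ M := ⟨Subgroup.map_subtype_le _ ha, le_sup_right (α := Subgroup X) (hJY (hAJ ha))⟩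
        exact ((Subgroup.mem_normalizer_iff.1 hg a).1 haT).1
      have hBmem : B.subgroupOf (T : Subgroup X) ∈ Cfsg.maxAbelianSubgroups (T : Subgroup X) := by
        refine ⟨⟨⟨fun a b => Subtype.ext (Subtype.ext ?_)⟩⟩, fun D hD => ?_⟩
        · obtain ⟨a', ha', ea⟩ := Subgroup.mem_subgroupOf.1 a.2
          obtain ⟨b', hb', eb⟩ := Subgroup.mem_subgroupOf.1 b.2
          show ((a : (T : Subgroup X)) : X) * ((b : (T : Subgroup X)) : X) = _
          rw [← ea, ← eb, ← map_mul, hAc a' ha' b' hb', map_mul, ea, eb]; rfl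
        · rw [Nat.card_congr (Subgroup.subgroupOfEquivOfLe hBT).toEquiv, hB,
            Subgroup.card_map_of_injective (MulAut.conj g).injective,
            Subgroup.card_map_of_injective (T : Subgroup X).subtype_injective]
          exact A.2.2 D hD
      have h := (hmaxT _ hBmem).1
      rwa [Subgroup.map_subgroupOf_eq_of_le hBT] at h
    exact hle hx
  · by_cases hne : H = ⊥
    · refine Or.inl fun y hy => ?_
      show y ∈ C0
      rw [hC0V, ← toSemi_eq_one V, ← Subgroup.mem_bot, ← hne, hHmap]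
      exact ⟨y, hy, rfl⟩
    · obtain ⟨n, hn, ⟨e⟩⟩ := product_equiv S hgen hne
      refine Or.inr ⟨n, hn, ⟨?_⟩⟩
      have hker : ((toSemi V).comp Y.subtype).ker = C0.subgroupOf Y := by
        ext y
        rw [MonoidHom.mem_ker, Subgroup.mem_subgroupOf, hC0V, MonoidHom.comp_apply]
        exact toSemi_eq_one V
      have hrange : ((toSemi V).comp Y.subtype).range = H := by
        rw [MonoidHom.range_comp, Subgroup.range_subtype, hHmap]
      exact (QuotientGroup.quotientMulEquivOfEq hker.symm).trans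
        ((QuotientGroup.quotientKerEquivRange _).trans ((MulEquiv.subgroupCongr hrange).trans e))

end Main

end Cfsg.Agent.JComp
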