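import Cfsg.Agent.Lib.FGStruct.MaximalCount
import Cfsg.Agent.Lib.FGStruct.RankTwoOdd.Basic
import Cfsg.Agent.Lib.PLocal.MaxClass

/-!
# Kulakoff's congruence

* `count`: a `p`-group of order `p ^ m`, neither cyclic nor a `2`-group of maximal class, has
  `1 + p` subgroups of order `p ^ k` modulo `p ^ 2` (`1 ≤ k < m`); a `2`-group of maximal class
  has `1` modulo `4` for `k + 2 ≤ m`.
-/

set_option autoImplicit false
set_option linter.style.haveILetI false
set_option linter.unusedSectionVars false

open scoped commutatorElement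

namespace Cfsg.Agent.KulakoffCount

open Cfsg.Agent.MaximalCount

universe u

variable {G : Type u} [Group G] [Finite G] {p : ℕ} [hp : Fact p.Prime]

/-- A normal subgroup of order `p` of a `p`-group is central. -/
theorem central_of_card_prime (hG : IsPGroup p G) {Z : Subgroup G} [Z.Normal] (hZ : Nat.card Z = p)
    {z : G} (hz : z ∈ Z) (g : G) : g * z = z * g := by
  haveI : IsCyclic Z := isCyclic_of_prime_card hZ
  have h1 : orderOf (MulAut.conjNormal g : MulAut Z) ∣ p - 1 := by
    have := orderOf_dvd_natCard (MulAut.conjNormal g : MulAut Z)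
    rwa [IsCyclic.card_mulAut, hZ, Nat.totient_prime hp.out] at this
  obtain ⟨k, hk⟩ := IsPGroup.iff_orderOf.1 hG g
  have h2 : orderOf (MulAut.conjNormal g : MulAut Z) ∣ p ^ k := hk ▸ orderOf_map_dvd _ g
  have hcop : (p - 1).Coprime (p ^ k) := by
    refine Nat.Coprime.pow_right k ?_
    rw [Nat.coprime_comm, Nat.Prime.coprime_iff_not_dvd hp.out]
    intro h
    have := hp.out.two_le
    exact absurd (Nat.le_of_dvd (by omega) h) (by omega)
  have h3 : (MulAut.conjNormal g : MulAut Z) = 1 :=
    orderOf_eq_one_iff.1 (Nat.eq_one_of_dvd_coprimes hcop h1 h2)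
  have h4 := congrArg (fun e : MulAut Z => ((e ⟨z, hz⟩ : Z) : G)) h3
  simp only [MulAut.conjNormal_apply, MulAut.one_apply] at h4
  calc g * z = (g * z * g⁻¹) * g := by group
    _ = z * g := by rw [h4]

/-! ### A cyclic subgroup of index `p` -/

/-- The data of a noncyclic group with a cyclic subgroup `⟨a⟩` of index `p`. -/
theorem cyclic_data {m : ℕ} (hG : Nat.card G = p ^ (m + 3)) (hnc : ¬ IsCyclic G) {a : G}
    (ha : (Subgroup.zpowers a).index = p) :
    orderOf a = p ^ (m + 2) ∧ frattini G = Subgroup.zpowers (a ^ p) ∧ orderOf (a ^ p) = p ^ (m + 1) ∧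
      Nat.card {M : Subgroup G // M.index = p} = p + 1 ∧ (frattini G).index = p ^ 2 := by
  have hGp := IsPGroup.of_card hG
  have hoa : orderOf a = p ^ (m + 2) := by
    have h := (Subgroup.zpowers a).card_mul_index
    rw [ha, hG, Nat.card_zpowers, show m + 3 = m + 2 + 1 from rfl, pow_succ p (m + 2)] at h
    exact Nat.eq_of_mul_eq_mul_right hp.out.pos h
  have hoap : orderOf (a ^ p) = p ^ (m + 1) := by
    rw [orderOf_pow' a hp.out.ne_zero, hoa, Nat.gcd_eq_right (dvd_pow_self p (by omega)),
      show m + 2 = m + 1 + 1 from rfl, pow_succ p (m + 1), Nat.mul_div_cancel _ hp.out.pos]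
  have hle : Subgroup.zpowers (a ^ p) ≤ frattini G := Subgroup.zpowers_le.2 (mem_frattini_pow hGp a)
  have hdvd := sq_dvd_index_frattini hGp hnc
  have hidx : (Subgroup.zpowers (a ^ p)).index = p ^ 2 := by
    have h := (Subgroup.zpowers (a ^ p)).card_mul_index
    rw [hG, Nat.card_zpowers, hoap, show m + 3 = m + 1 + 2 from rfl, pow_add p (m + 1)] at h
    exact Nat.eq_of_mul_eq_mul_left (pow_pos hp.out.pos _) h
  have hfi : (frattini G).index = p ^ 2 :=
    Nat.dvd_antisymm (hidx ▸ Subgroup.index_dvd_of_le hle) hdvd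
  have hΦ : frattini G = Subgroup.zpowers (a ^ p) := by
    refine le_antisymm ?_ hle
    have h := Subgroup.relIndex_mul_index hle
    rw [hfi, hidx] at h
    exact Subgroup.relIndex_eq_one.1
      (Nat.eq_of_mul_eq_mul_right (pow_pos hp.out.pos _) (h.trans (one_mul _).symm))
  refine ⟨hoa, hΦ, hoap, ?_, hfi⟩
  haveI : (frattini G).Normal := Subgroup.normal_of_characteristic _
  obtain ⟨-, he⟩ := quotient_elementary hGp (frattini G) le_rfl
  rw [← MaxClass.card_index_prime_subgroups_of_sq (p := p) (V := G ⧸ frattini G)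
    (by rw [← Subgroup.index_eq_card, hfi]) he, ← Nat.card_congr (equivQuot (frattini G) p)]
  exact Nat.card_congr (Equiv.subtypeEquivRight fun M =>
    ⟨fun h => ⟨frattini_le_of_index hGp h, h⟩, And.right⟩)

/-- Which subgroups of index `p` are cyclic. -/
theorem isCyclic_iff {m : ℕ} (hG : Nat.card G = p ^ (m + 3)) (hnc : ¬ IsCyclic G) {a : G}
    (ha : (Subgroup.zpowers a).index = p) {M : Subgroup G} (hM : M.index = p) :
    IsCyclic M ↔ ∃ b ∈ M, b ^ p ∉ Subgroup.zpowers (a ^ (p * p)) := by
  obtain ⟨hoa, hΦ, hoap, -, -⟩ := cyclic_data hG hnc ha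
  have hGp := IsPGroup.of_card hG
  have hMc : Nat.card M = p ^ (m + 2) := by
    have h := M.card_mul_index
    rw [hM, hG, show m + 3 = m + 2 + 1 from rfl, pow_succ p (m + 2)] at h
    exact Nat.eq_of_mul_eq_mul_right hp.out.pos h
  have hsmall : ∀ x ∈ Subgroup.zpowers (a ^ (p * p)), x ^ p ^ m = 1 := by
    rintro _ ⟨l, rfl⟩
    simp only
    rw [← zpow_natCast, ← zpow_mul, mul_comm l, zpow_mul, zpow_natCast, ← pow_mul,
      show p * p * p ^ m = p ^ (m + 2) from by ring, ← hoa, pow_orderOf_eq_one, one_zpow]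
  constructor
  · intro hcyc
    obtain ⟨b, hb⟩ := (Subgroup.isCyclic_iff_exists_zpowers_eq_top M).1 hcyc
    refine ⟨b, hb ▸ Subgroup.mem_zpowers b, fun h => ?_⟩
    have h1 := hsmall _ h
    rw [← pow_mul, ← pow_succ'] at h1
    have h2 := Nat.le_of_dvd (pow_pos hp.out.pos _) (orderOf_dvd_of_pow_eq_one h1)
    rw [← Nat.card_zpowers, hb, hMc] at h2
    exact absurd ((Nat.pow_le_pow_iff_right hp.out.one_lt).1 h2) (by omega)
  · rintro ⟨b, hbM, hb⟩
    obtain ⟨l, hl⟩ : b ^ p ∈ Subgroup.zpowers (a ^ p) := hΦ ▸ mem_frattini_pow hGp b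
    simp only at hl
    have hpl : ¬ (p : ℤ) ∣ l := by
      rintro ⟨t, rfl⟩
      refine hb ?_
      rw [← hl, zpow_mul, zpow_natCast, ← pow_mul]
      exact zpow_mem (Subgroup.mem_zpowers _) t
    have hne : b ^ p ^ (m + 1) ≠ 1 := by
      intro h1
      rw [pow_succ', pow_mul, ← hl, ← zpow_natCast, ← zpow_mul, ← orderOf_dvd_iff_zpow_eq_one, hoap,
        Nat.cast_pow, Nat.cast_pow, pow_succ'] at h1
      rw [mul_comm l, mul_comm (p : ℤ)] at h1
      exact hpl (Int.dvd_of_mul_dvd_mul_left (pow_ne_zero m (by exact_mod_cast hp.out.ne_zero)) h1)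
    have hfin : b ^ p ^ (m + 1 + 1) = 1 := by
      have := pow_card_eq_one' (G := M) (x := ⟨b, hbM⟩)
      rw [hMc] at this
      simpa using congrArg Subtype.val this
    have hob : orderOf b = p ^ (m + 1 + 1) := orderOf_eq_prime_pow hne hfin
    have heq : Subgroup.zpowers b = M :=
      Subgroup.eq_of_le_of_card_ge (Subgroup.zpowers_le.2 hbM) (by rw [Nat.card_zpowers, hob, hMc])
    exact heq ▸ Subgroup.isCyclic_zpowers b

/-- The square subgroup is normal. -/
theorem normal_sq {m : ℕ} (hG : Nat.card G = p ^ (m + 3)) (hnc : ¬ IsCyclic G) {a : G}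
    (ha : (Subgroup.zpowers a).index = p) : (Subgroup.zpowers (a ^ (p * p))).Normal := by
  obtain ⟨-, hΦ, -, -, -⟩ := cyclic_data hG hnc ha
  refine ⟨?_⟩
  rintro _ ⟨i, rfl⟩ g
  obtain ⟨j, hj⟩ : g * a ^ p * g⁻¹ ∈ Subgroup.zpowers (a ^ p) :=
    hΦ ▸ (Subgroup.normal_of_characteristic (frattini G)).conj_mem _ (hΦ ▸ Subgroup.mem_zpowers _) g
  refine Subgroup.mem_zpowers_iff.2 ⟨j * i, ?_⟩
  simp only at hj ⊢
  rw [← conj_zpow, pow_mul, ← conj_pow, ← hj, zpow_mul]
  congr 1
  rw [← zpow_natCast ((a ^ p) ^ j) p, ← zpow_natCast (a ^ p) p, ← zpow_mul, ← zpow_mul, mul_comm (p : ℤ)]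

/-- The image of the Frattini subgroup modulo the square subgroup has order `p`. -/
theorem card_frattini_map {m : ℕ} (hG : Nat.card G = p ^ (m + 3)) (hnc : ¬ IsCyclic G) {a : G}
    (ha : (Subgroup.zpowers a).index = p) [(Subgroup.zpowers (a ^ (p * p))).Normal] :
    Nat.card ((frattini G).map (QuotientGroup.mk' (Subgroup.zpowers (a ^ (p * p))))) = p := by
  obtain ⟨hoa, hΦ, hoap, -, -⟩ := cyclic_data hG hnc ha
  have hle : Subgroup.zpowers (a ^ (p * p)) ≤ frattini G := by
    rw [hΦ, Subgroup.zpowers_le, pow_mul]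
    exact pow_mem (Subgroup.mem_zpowers _) p
  have h := RankTwoOdd.card_eq_map_mul (Subgroup.zpowers (a ^ (p * p))) hle
  rw [hΦ, Nat.card_zpowers, hoap, Nat.card_zpowers, orderOf_pow' a (mul_ne_zero hp.out.ne_zero hp.out.ne_zero),
    hoa, Nat.gcd_eq_right (show p * p ∣ p ^ (m + 2) from ⟨p ^ m, by ring⟩),
    show p ^ (m + 2) = p ^ m * (p * p) from by ring, Nat.mul_div_cancel _ (Nat.mul_pos hp.out.pos hp.out.pos),
    pow_succ' p m] at h
  rw [hΦ]
  exact (Nat.eq_of_mul_eq_mul_right (pow_pos hp.out.pos _) h).symm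

/-- If the quotient is not commutative then the derived subgroup is the Frattini subgroup. -/
theorem commutator_eq_frattini {m : ℕ} (hG : Nat.card G = p ^ (m + 3)) (hnc : ¬ IsCyclic G) {a : G}
    (ha : (Subgroup.zpowers a).index = p) (hnle : ¬ commutator G ≤ Subgroup.zpowers (a ^ (p * p))) :
    commutator G = frattini G := by
  obtain ⟨hoa, hΦ, hoap, -, -⟩ := cyclic_data hG hnc ha
  have hGp := IsPGroup.of_card hG
  have hcl : commutator G ≤ frattini G := by
    haveI := hGp.isNilpotent
    exact SolvStruct.commutator_le_frattini G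
  refine le_antisymm hcl ?_
  obtain ⟨c, hc, hcn⟩ := SetLike.not_le_iff_exists.1 hnle
  obtain ⟨l, hl⟩ : c ∈ Subgroup.zpowers (a ^ p) := hΦ ▸ hcl hc
  simp only at hl
  rw [hΦ, Subgroup.zpowers_le]
  have hpl : ¬ (p : ℤ) ∣ l := by
    rintro ⟨t, rfl⟩
    refine hcn ?_
    rw [← hl, zpow_mul, zpow_natCast, ← pow_mul]
    exact zpow_mem (Subgroup.mem_zpowers _) t
  obtain ⟨u, v, huv⟩ := (((Nat.prime_iff_prime_int.1 hp.out).coprime_iff_not_dvd.2 hpl).pow_left
    (m := m + 1))
  have key : a ^ p = c ^ v := by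
    rw [← hl, ← zpow_mul, mul_comm l v, show v * l = 1 - u * (p : ℤ) ^ (m + 1) from by linarith, zpow_sub,
      zpow_one, mul_comm u, zpow_mul, ← Nat.cast_pow, zpow_natCast, ← hoap, pow_orderOf_eq_one, one_zpow,
      inv_one, mul_one]
  rw [key]
  exact zpow_mem hc v

/-- The exceptional case: a `2`-group of maximal class. -/
def Exc (p m : ℕ) (G : Type u) [Group G] : Prop := p = 2 ∧ 3 ≤ m ∧ Group.nilpotencyClass G = m - 1

/-- The number of cyclic subgroups of index `p`. -/
theorem cyclic_parity {m : ℕ} (hG : Nat.card G = p ^ (m + 3)) (hnc : ¬ IsCyclic G) :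
    (¬ Exc p (m + 3) G → p ∣ Nat.card {M : Subgroup G // M.index = p ∧ IsCyclic M}) ∧
    (Exc p (m + 3) G → Odd (Nat.card {M : Subgroup G // M.index = p ∧ IsCyclic M})) := by
  classical
  haveI := Fintype.ofFinite (Subgroup G)
  have hGp := IsPGroup.of_card hG
  haveI := hGp.isNilpotent
  by_cases hex : ∃ a : G, (Subgroup.zpowers a).index = p
  swap
  · have h0 : Nat.card {M : Subgroup G // M.index = p ∧ IsCyclic M} = 0 := by
      rw [Nat.card_eq_zero]
      refine Or.inl ⟨fun M => hex ?_⟩
      obtain ⟨b, hb⟩ := (Subgroup.isCyclic_iff_exists_zpowers_eq_top M.1).1 M.2.2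
      exact ⟨b, hb ▸ M.2.1⟩
    refine ⟨fun _ => h0 ▸ dvd_zero p, fun ⟨hp2, _, hcl⟩ => absurd ?_ hex⟩
    subst hp2
    exact MaxClass.exists_cyclic_index_two (m + 3) G hG (by omega)
      (by rw [MaxClass.index_commutator_eq hG (by omega) hcl]; norm_num)
  obtain ⟨a, ha⟩ := hex
  obtain ⟨hoa, hΦ, hoap, hcount, hfi⟩ := cyclic_data hG hnc ha
  haveI := normal_sq hG hnc ha
  set π := QuotientGroup.mk' (Subgroup.zpowers (a ^ (p * p))) with hπ
  set C := Subgroup.zpowers a with hC
  have hcyc := fun (M : Subgroup G) (hM : M.index = p) => isCyclic_iff hG hnc ha hM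
  have hmem : ∀ x : G, x ∈ Subgroup.zpowers (a ^ (p * p)) ↔ π x = 1 := fun x =>
    (QuotientGroup.eq_one_iff x).symm
  have hcard : (Finset.univ.filter fun M : Subgroup G => M.index = p).card = p + 1 := by
    rw [← hcount, Nat.card_eq_fintype_card, Fintype.card_subtype]
  have hnum : Nat.card {M : Subgroup G // M.index = p ∧ IsCyclic M} =
      ((Finset.univ.filter fun M : Subgroup G => M.index = p).filter fun M : Subgroup G => IsCyclic M).card := by
    rw [Nat.card_eq_fintype_card, Fintype.card_subtype, Finset.filter_filter]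
  have hcent : ∀ z ∈ frattini G, ∀ g : G, π g * π z = π z * π g := by
    intro z hz g
    haveI : ((frattini G).map π).Normal :=
      Subgroup.Normal.map (Subgroup.normal_of_characteristic _) π (QuotientGroup.mk'_surjective _)
    exact central_of_card_prime (hGp.to_quotient _) (card_frattini_map hG hnc ha) ⟨z, hz, rfl⟩ (π g)
  have hΦp : ∀ z ∈ frattini G, (π z) ^ p = 1 := fun z hz => by
    have h1 := pow_card_eq_one' (G := (frattini G).map π) (x := ⟨π z, z, hz, rfl⟩)
    rw [card_frattini_map hG hnc ha] at h1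
    simpa using congrArg Subtype.val h1
  have hap : π (a ^ p) ≠ 1 := fun h => by
    have h1 : Subgroup.zpowers (a ^ p) ≤ Subgroup.zpowers (a ^ (p * p)) := Subgroup.zpowers_le.2 ((hmem _).2 h)
    have h2 := Subgroup.card_dvd_of_le h1
    rw [Nat.card_zpowers, Nat.card_zpowers, hoap, orderOf_pow' a (mul_ne_zero hp.out.ne_zero hp.out.ne_zero),
      hoa, Nat.gcd_eq_right (show p * p ∣ p ^ (m + 2) from ⟨p ^ m, by ring⟩),
      show p ^ (m + 2) = p ^ m * (p * p) from by ring, Nat.mul_div_cancel _ (Nat.mul_pos hp.out.pos hp.out.pos),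
      Nat.pow_dvd_pow_iff_le_right hp.out.one_lt] at h2
    omega
  -- the case in which powering is a homomorphism
  have hhom : (∀ x y : G, π ((x * y) ^ p) = π (x ^ p) * π (y ^ p)) →
      p ∣ Nat.card {M : Subgroup G // M.index = p ∧ IsCyclic M} := by
    intro hmul
    let φ : G →* G ⧸ Subgroup.zpowers (a ^ (p * p)) := MonoidHom.mk' (fun x => π (x ^ p)) hmul
    have hrange : φ.range = (frattini G).map π := by
      have hle : φ.range ≤ (frattini G).map π := by
        rintro _ ⟨x, rfl⟩
        exact ⟨x ^ p, mem_frattini_pow hGp x, rfl⟩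
      refine Subgroup.eq_of_le_of_card_ge hle ?_
      rw [card_frattini_map hG hnc ha]
      have hne : φ.range ≠ ⊥ := fun h => hap (by
        have : φ a ∈ φ.range := ⟨a, rfl⟩
        rwa [h, Subgroup.mem_bot] at this)
      have hd := Subgroup.card_dvd_of_le hle
      rw [card_frattini_map hG hnc ha] at hd
      rcases hp.out.eq_one_or_self_of_dvd _ hd with h | h
      · exact absurd (Subgroup.card_eq_one.1 h) hne
      · exact h.ge
    have hKi : φ.ker.index = p := by
      rw [Subgroup.index_ker, hrange, card_frattini_map hG hnc ha]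
    have hiff : ∀ M : Subgroup G, M.index = p → (IsCyclic M ↔ M ≠ φ.ker) := by
      intro M hM
      rw [hcyc M hM]
      constructor
      · rintro ⟨b, hb, hbn⟩ rfl
        exact hbn ((hmem _).2 (φ.mem_ker.1 hb))
      · intro hne
        by_contra hcon
        push Not at hcon
        refine hne (Subgroup.eq_of_le_of_card_ge (fun b hb => φ.mem_ker.2 ((hmem _).1 (hcon b hb))) ?_)
        have h1 := M.card_mul_index
        have h2 := φ.ker.card_mul_index
        rw [hM] at h1; rw [hKi, ← h1] at h2
        exact (Nat.eq_of_mul_eq_mul_right hp.out.pos h2).le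
    rw [hnum]
    have : ((Finset.univ.filter fun M : Subgroup G => M.index = p).filter fun M : Subgroup G => IsCyclic M) =
        (Finset.univ.filter fun M : Subgroup G => M.index = p).erase φ.ker := by
      ext M
      simp only [Finset.mem_filter, Finset.mem_univ, true_and, Finset.mem_erase]
      exact ⟨fun h => ⟨(hiff M h.1).1 h.2, h.1⟩, fun h => ⟨h.2, (hiff M h.2).2 h.1⟩⟩
    rw [this, Finset.card_erase_of_mem (Finset.mem_filter.2 ⟨Finset.mem_univ φ.ker, hKi⟩ : φ.ker ∈ Finset.univ.filter fun M : Subgroup G => M.index = p), hcard,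
      Nat.add_sub_cancel]
  have hcommhom : commutator G ≤ Subgroup.zpowers (a ^ (p * p)) →
      ∀ x y : G, π ((x * y) ^ p) = π (x ^ p) * π (y ^ p) := by
    intro hle x y
    have hc : Commute (π x) (π y) := by
      rw [← commutatorElement_eq_one_iff_commute, ← map_commutatorElement, ← hmem]
      exact hle (Subgroup.commutator_mem_commutator (Subgroup.mem_top x) (Subgroup.mem_top y))
    rw [map_pow, map_mul, hc.mul_pow, map_pow, map_pow]
  by_cases hp2 : p = 2
  swap
  · refine ⟨fun _ => hhom fun x y => ?_, fun h => absurd h.1 hp2⟩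
    have hcΦ : x⁻¹ * y⁻¹ * x * y ∈ frattini G := by
      simpa using comm_mem_frattini hGp x⁻¹ y⁻¹
    have hc2 : y⁻¹ * x⁻¹ * y * x ∈ frattini G := by
      simpa using comm_mem_frattini hGp y⁻¹ x⁻¹
    rw [map_pow, map_mul, map_pow, map_pow]
    exact RankTwoOdd.mul_pow_of_commutator hp2 (c := π (y⁻¹ * x⁻¹ * y * x))
      (by rw [← map_mul, ← map_mul, ← map_mul]; congr 1; group)
      (hcent _ hc2 x).symm (hcent _ hc2 y).symm (hΦp _ hc2)
  subst hp2
  have hne3 : 3 ≤ m + 3 := by omega
  by_cases hle : commutator G ≤ Subgroup.zpowers (a ^ (2 * 2))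
  · refine ⟨fun _ => hhom (hcommhom hle), fun ⟨_, _, hcl⟩ => ?_⟩
    exfalso
    have hi := MaxClass.index_commutator_eq hG hne3 hcl
    have h1 := Subgroup.index_dvd_of_le hle
    rw [hi] at h1
    have h2 := (Subgroup.zpowers (a ^ (2 * 2))).card_mul_index
    rw [hG, Nat.card_zpowers, orderOf_pow' a (by norm_num), hoa,
      Nat.gcd_eq_right (show 2 * 2 ∣ 2 ^ (m + 2) from ⟨2 ^ m, by ring⟩),
      show 2 ^ (m + 2) = 2 ^ m * (2 * 2) from by ring, Nat.mul_div_cancel _ (by norm_num),
      show 2 ^ (m + 3) = 2 ^ m * 8 from by ring] at h2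
    rw [Nat.eq_of_mul_eq_mul_left (pow_pos two_pos m) h2] at h1
    exact absurd (Nat.le_of_dvd (by norm_num) h1) (by norm_num)
  have hGΦ := commutator_eq_frattini hG hnc ha hle
  refine ⟨fun h => absurd ⟨rfl, hne3, MaxClass.class_eq_of_index_four (m + 3) G hG hne3
    (by rw [hGΦ, hfi]; norm_num)⟩ h, fun _ => ?_⟩
  -- two squares agree
  obtain ⟨b, hb⟩ : ∃ b, b ∉ C := by
    by_contra h
    push Not at h
    rw [(Subgroup.eq_top_iff' C).2 h, Subgroup.index_top] at ha
    exact absurd ha (by norm_num)
  have hq : ∀ z ∈ frattini G, π z = 1 ∨ π z = π (a ^ 2) := by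
    intro z hz
    have hgen : Subgroup.zpowers (π (a ^ 2)) = (frattini G).map π := by
      refine Subgroup.eq_of_le_of_card_ge (Subgroup.zpowers_le.2 ⟨a ^ 2, mem_frattini_pow hGp a, rfl⟩) ?_
      rw [card_frattini_map hG hnc ha, Nat.card_zpowers,
        orderOf_eq_prime (hΦp _ (mem_frattini_pow hGp a)) hap]
    have hzm : π z ∈ Subgroup.zpowers (π (a ^ 2)) := by rw [hgen]; exact ⟨z, hz, rfl⟩
    obtain ⟨i, hi⟩ := Subgroup.mem_zpowers_iff.1 hzm
    rcases Int.even_or_odd' i with ⟨j, rfl | rfl⟩
    · left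
      rw [← hi, zpow_mul, show (2 : ℤ) = ((2 : ℕ) : ℤ) from rfl, zpow_natCast, hΦp _ (mem_frattini_pow hGp a), one_zpow]
    · right
      rw [← hi, zpow_add, zpow_mul, show (2 : ℤ) = ((2 : ℕ) : ℤ) from rfl, zpow_natCast, hΦp _ (mem_frattini_pow hGp a),
        one_zpow, one_mul, zpow_one]
  have hsq : ∀ g : G, π ((a * g) ^ 2) = π (g ^ 2) ∨ g ∈ C := by
    intro g
    refine or_iff_not_imp_right.2 fun hg => ?_
    set c := g * a * g⁻¹ * a⁻¹ with hc
    have hcΦ : c ∈ frattini G := comm_mem_frattini hGp g a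
    have hc1 : π c = π (a ^ 2) := by
      refine (hq c hcΦ).resolve_left fun h1 => ?_
      refine hle ?_
      have hga : Commute (π g) (π a) := by
        rw [hc, map_mul, map_mul, map_mul, map_inv, map_inv, mul_inv_eq_one, mul_inv_eq_iff_eq_mul] at h1
        exact h1
      have htop : ∀ x : G, π x ∈ Subgroup.closure ({π a, π g} : Set (G ⧸ Subgroup.zpowers (a ^ (2 * 2)))) := by
        intro x
        by_cases hx : x ∈ C
        · obtain ⟨i, rfl⟩ := hx
          exact (map_zpow π a i).symm ▸ zpow_mem (Subgroup.subset_closure (Set.mem_insert _ _)) i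
        · obtain ⟨i, hi⟩ : x * g⁻¹ ∈ C :=
            (Subgroup.mul_mem_iff_of_index_two ha).2 (iff_of_false hx (fun h => hg (inv_mem_iff.1 h)))
          simp only at hi
          rw [show x = a ^ i * g from by rw [hi, inv_mul_cancel_right], map_mul, map_zpow]
          exact mul_mem (zpow_mem (Subgroup.subset_closure (Set.mem_insert _ _)) i)
            (Subgroup.subset_closure (Set.mem_insert_of_mem _ (Set.mem_singleton _)))
      haveI : IsMulCommutative ↥(Subgroup.closure ({π a, π g} : Set (G ⧸ Subgroup.zpowers (a ^ (2 * 2))))) := by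
        refine Subgroup.isMulCommutative_closure ?_
        rintro _ (rfl | rfl) _ (rfl | rfl)
        exacts [rfl, hga.eq.symm, hga.eq, rfl]
      rw [commutator_def, Subgroup.commutator_le]
      intro x _ y _
      rw [hmem, map_commutatorElement, commutatorElement_eq_one_iff_commute]
      exact congrArg Subtype.val (mul_comm' (⟨π x, htop x⟩ :
        ↥(Subgroup.closure ({π a, π g} : Set (G ⧸ Subgroup.zpowers (a ^ (2 * 2)))))) ⟨π y, htop y⟩)
    have hcc := hcent c hcΦ
    calc π ((a * g) ^ 2) = π a * (π g * π a) * π g := by rw [map_pow, map_mul, pow_two]; group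
      _ = π a * (π c * (π a * π g)) * π g := by
            rw [show π g * π a = π c * (π a * π g) from by
              rw [← map_mul, ← map_mul, ← map_mul]; congr 1; rw [hc]; group]
      _ = π c * (π a * π a) * (π g * π g) := by
            rw [← mul_assoc (π a) (π c), hcc a]; group
      _ = π (g ^ 2) := by
            rw [← map_mul π a a, ← pow_two a, hc1, ← pow_two (π g), ← map_pow π g, ← pow_two (π (a ^ 2)),
              hΦp _ (mem_frattini_pow hGp a), one_mul]
  have hout : ∀ x : G, x ∉ C → π (x ^ 2) = π (b ^ 2) := by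
    have hmove : ∀ n : ℕ, ∀ g : G, g ∉ C → π ((a ^ n * g) ^ 2) = π (g ^ 2) := by
      intro n
      induction n with
      | zero => intro g _; rw [pow_zero, one_mul]
      | succ n ih =>
        intro g hg
        have hng : a ^ n * g ∉ C := fun h => hg (by
          have := C.mul_mem (C.inv_mem (C.pow_mem (Subgroup.mem_zpowers a) n)) h
          rwa [inv_mul_cancel_left] at this)
        rw [pow_succ' a n, mul_assoc a (a ^ n) g, (hsq _).resolve_right hng, ih g hg]
    intro x hx
    have hxb : x * b⁻¹ ∈ C :=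
      (Subgroup.mul_mem_iff_of_index_two ha).2 (iff_of_false hx (fun h => hb (inv_mem_iff.1 h)))
    obtain ⟨n, hn⟩ := (mem_powers_iff_mem_zpowers (x := a)).2 hxb
    simp only at hn
    rw [show x = a ^ n * b from by rw [hn, inv_mul_cancel_right], hmove n b hb]
  rw [hnum]
  by_cases hbb : π (b ^ 2) = 1
  · have : ((Finset.univ.filter fun M : Subgroup G => M.index = 2).filter fun M : Subgroup G => IsCyclic M) = {C} := by
      ext M
      simp only [Finset.mem_filter, Finset.mem_univ, true_and, Finset.mem_singleton]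
      constructor
      · rintro ⟨hM, hMc⟩
        obtain ⟨x, hx, hxn⟩ := (hcyc M hM).1 hMc
        by_contra hne
        by_cases hxC : x ∈ C
        · -- an element of `C ∩ M` has its square in the square subgroup
          obtain ⟨i, rfl⟩ := hxC
          simp only at hx hxn
          rcases Int.even_or_odd' i with ⟨j, rfl | rfl⟩
          · refine hxn ?_
            rw [← zpow_natCast (a ^ (2 * j)), ← zpow_mul, show ((2 : ℕ) : ℤ) = 2 from rfl, show 2 * j * 2 = ((2 * 2 : ℕ) : ℤ) * j from by push_cast; ring,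
              zpow_mul, zpow_natCast]
            exact zpow_mem (Subgroup.mem_zpowers _) j
          · refine hne (Subgroup.eq_of_le_of_card_ge (Subgroup.zpowers_le.2 ?_) ?_).symm
            · have h2 : a ^ 2 ∈ M := frattini_le_of_index hGp hM (mem_frattini_pow hGp a)
              have := M.mul_mem hx (M.zpow_mem h2 (-j))
              rwa [← zpow_natCast a 2, ← zpow_mul, ← zpow_add, show ((2 : ℕ) : ℤ) = 2 from rfl,
                show 2 * j + 1 + 2 * -j = 1 from by ring, zpow_one] at this
            · have h1 := M.card_mul_index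
              have h2 := C.card_mul_index
              rw [hM] at h1; rw [ha, ← h1] at h2
              exact (Nat.eq_of_mul_eq_mul_right two_pos h2).ge
        · exact hxn ((hmem _).2 ((hout x hxC).trans hbb))
      · rintro rfl
        exact ⟨ha, Subgroup.isCyclic_zpowers a⟩
    rw [this, Finset.card_singleton]
    exact odd_one
  · rw [Finset.filter_true_of_mem ?_, hcard]
    · decide
    intro M hM
    have hM' := (Finset.mem_filter.1 hM).2
    rw [hcyc M hM']
    by_cases hMC : M ≤ C
    · exact ⟨a, (Subgroup.eq_of_le_of_card_ge hMC (by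
        have h1 := M.card_mul_index
        have h2 := C.card_mul_index
        rw [hM'] at h1; rw [ha, ← h1] at h2
        exact (Nat.eq_of_mul_eq_mul_right two_pos h2).le)).symm ▸ Subgroup.mem_zpowers a,
        fun h => hap ((hmem _).1 h)⟩
    · obtain ⟨x, hx, hxC⟩ := SetLike.not_le_iff_exists.1 hMC
      exact ⟨x, hx, fun h => hbb ((hout x hxC).symm.trans ((hmem _).1 h))⟩

/-! ### Maximal subgroups of maximal class -/

/-- In a `2`-group of maximal class the subgroups of index two are cyclic or of maximal class. -/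
theorem exc_maximal {m : ℕ} (hG : Nat.card G = 2 ^ (m + 4)) (hcl : Group.nilpotencyClass G = m + 3)
    {M : Subgroup G} (hM : M.index = 2) : IsCyclic M ∨ Group.nilpotencyClass M = m + 2 := by
  haveI : Fact (Nat.Prime 2) := ⟨Nat.prime_two⟩
  have hGp := IsPGroup.of_card hG
  have hci := MaxClass.index_commutator_eq hG (by omega : 3 ≤ m + 4) hcl
  obtain ⟨a, ha⟩ := MaxClass.exists_cyclic_index_two (m + 4) G hG (by omega) (by rw [hci]; norm_num)
  set C := Subgroup.zpowers a with hC
  by_cases hMC : M ≤ C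
  · left
    exact Subgroup.isCyclic_of_le hMC
  right
  haveI hMn : M.Normal := Subgroup.normal_of_index_eq_two hM
  haveI hCn : C.Normal := Subgroup.normal_of_index_eq_two ha
  obtain ⟨b, hbM, hbC⟩ := SetLike.not_le_iff_exists.1 hMC
  set D := commutator G with hD
  have hDM : D ≤ M := by
    refine le_trans ?_ (frattini_le_of_index hGp hM)
    haveI := hGp.isNilpotent
    exact SolvStruct.commutator_le_frattini G
  have hDC : D ≤ C := by
    refine le_trans ?_ (frattini_le_of_index hGp ha)
    haveI := hGp.isNilpotent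
    exact SolvStruct.commutator_le_frattini G
  set N := (commutator M).map M.subtype with hN
  haveI : N.Normal := inferInstance
  -- the third term lies in the derived subgroup of `M`
  have hle : (⊤ : Subgroup G).lowerCentralSeries 2 ≤ N := by
    rw [Subgroup.lowerCentralSeries_succ, Subgroup.top_lowerCentralSeries_one, Subgroup.commutator_le]
    intro c hc x _
    set π := QuotientGroup.mk' N with hπ
    have hcM : ∀ y ∈ M, Commute (π c) (π y) := fun y hy => by
      rw [← commutatorElement_eq_one_iff_commute, ← map_commutatorElement]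
      refine (QuotientGroup.eq_one_iff _).2 ?_
      exact ⟨⁅(⟨c, hDM hc⟩ : M), ⟨y, hy⟩⁆,
        Subgroup.commutator_mem_commutator (Subgroup.mem_top _) (Subgroup.mem_top _), by
          simp [commutatorElement_def]⟩
    have hcC : ∀ y ∈ C, Commute (π c) (π y) := by
      rintro _ ⟨i, rfl⟩
      obtain ⟨j, rfl⟩ := hDC hc
      rw [map_zpow, map_zpow]
      exact (Commute.refl (π a)).zpow_zpow j i
    rw [← QuotientGroup.eq_one_iff (N := N)]
    change π ⁅c, x⁆ = 1
    rw [map_commutatorElement, commutatorElement_eq_one_iff_commute]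
    by_cases hxC : x ∈ C
    · exact hcC x hxC
    · have hxb : x * b⁻¹ ∈ C :=
        (Subgroup.mul_mem_iff_of_index_two ha).2 (iff_of_false hxC (fun h => hbC (inv_mem_iff.1 h)))
      have := (hcC _ hxb).mul_right (hcM b hbM)
      rwa [← map_mul, inv_mul_cancel_right] at this
  have h2 := MaxClass.card_lcs_eq hG (by omega : 3 ≤ m + 4) hcl (k := 1) (by omega)
  have hMc : Nat.card M = 2 ^ (m + 3) := by
    have h := M.card_mul_index
    rw [hM, hG, pow_succ 2 (m + 3)] at h
    exact Nat.eq_of_mul_eq_mul_right two_pos h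
  have hNc : 2 ^ (m + 1) ≤ Nat.card (commutator M) := by
    rw [← Subgroup.card_map_of_injective (K := commutator M) M.subtype_injective]
    refine le_trans (le_of_eq ?_) (Subgroup.card_le_of_le hle)
    rw [h2]; congr 1
  have hne : commutator M ≠ ⊥ := fun h => by
    rw [h, Subgroup.card_bot] at hNc
    exact absurd hNc (not_le.2 (Nat.one_lt_pow (by omega) one_lt_two))
  have h4 := MaxClass.sq_le_index_commutator (IsPGroup.of_card hMc) hne
  have hmul := (commutator M).card_mul_index
  rw [hMc, show 2 ^ (m + 3) = 2 ^ (m + 1) * 4 from by ring] at hmul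
  refine MaxClass.class_eq_of_index_four (m + 3) M hMc (by omega) ?_
  refine le_antisymm ?_ h4
  by_contra hlt
  nlinarith [Nat.not_le.1 hlt, pow_pos (two_pos (α := ℕ)) (m + 1)]

/-- In a `2`-group not of maximal class the subgroups of index two of maximal class are even in number. -/
theorem maxclass_even {m : ℕ} (hG : Nat.card G = 2 ^ (m + 4)) (hex : Group.nilpotencyClass G ≠ m + 3) :
    2 ∣ Nat.card {M : Subgroup G // M.index = 2 ∧ Group.nilpotencyClass M = m + 2} := by
  haveI : Fact (Nat.Prime 2) := ⟨Nat.prime_two⟩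
  have hGp := IsPGroup.of_card hG
  by_cases hex0 : ∃ M : Subgroup G, M.index = 2 ∧ Group.nilpotencyClass M = m + 2
  swap
  · rw [Nat.card_eq_zero.2 (Or.inl ⟨fun M => hex0 ⟨M.1, M.2⟩⟩)]
    exact dvd_zero 2
  obtain ⟨M₀, hM₀, hcl₀⟩ := hex0
  haveI hM₀n : M₀.Normal := Subgroup.normal_of_index_eq_two hM₀
  have hcardM : ∀ M : Subgroup G, M.index = 2 → Nat.card M = 2 ^ (m + 3) := fun M hM => by
    have h := M.card_mul_index
    rw [hM, hG, pow_succ 2 (m + 3)] at h
    exact Nat.eq_of_mul_eq_mul_right two_pos h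
  have hM₀c := hcardM M₀ hM₀
  have hi₀ := MaxClass.index_commutator_eq hM₀c (by omega : 3 ≤ m + 3) hcl₀
  have hne₀ := MaxClass.commutator_ne_bot hM₀c (by omega : 3 ≤ m + 3) hcl₀
  have hsq₀ := MaxClass.pow_eq_one_of_index_sq (IsPGroup.of_card hM₀c) hne₀ hi₀
  set D := (commutator M₀).map M₀.subtype with hD
  haveI hDn : D.Normal := inferInstance
  have hDc : Nat.card D = 2 ^ (m + 1) := by
    rw [hD, Subgroup.card_map_of_injective M₀.subtype_injective]
    have hmul := (commutator M₀).card_mul_index
    rw [hi₀, hM₀c, show 2 ^ (m + 3) = 2 ^ (m + 1) * 2 ^ 2 from by ring] at hmul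
    exact Nat.eq_of_mul_eq_mul_right (by norm_num) hmul
  -- the derived subgroup of `G`
  have hDG : D = commutator G := by
    have hle : D ≤ commutator G := by
      rw [hD, commutator_def, Subgroup.map_commutator]
      exact Subgroup.commutator_mono le_top le_top
    refine Subgroup.eq_of_le_of_card_ge hle ?_
    have hne : commutator G ≠ ⊥ := fun h => by
      rw [h, le_bot_iff] at hle
      rw [hle, Subgroup.card_bot] at hDc
      exact absurd hDc (Nat.one_lt_pow (by omega) one_lt_two).ne
    obtain ⟨i, hi⟩ := IsPGroup.iff_card.1 (hGp.to_subgroup (commutator G))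
    have h4 := MaxClass.sq_le_index_commutator hGp hne
    have hmul := (commutator G).card_mul_index
    rw [hi, hG] at hmul
    have hne4 : (commutator G).index ≠ 4 := fun h =>
      hex (MaxClass.class_eq_of_index_four (m + 4) G hG (by omega) h)
    rw [hi, hDc]
    refine Nat.pow_le_pow_right two_pos ?_
    obtain ⟨j, -, hj⟩ := (Nat.dvd_prime_pow Nat.prime_two).1 (Dvd.intro_left _ hmul)
    rw [hj, ← pow_add] at hmul
    have hij := Nat.pow_right_injective le_rfl hmul
    rw [hj] at h4 hne4
    have hj2 : 2 ≤ j := (Nat.pow_le_pow_iff_right one_lt_two).1 h4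
    have hj2' : j ≠ 2 := fun h => hne4 (by rw [h]; norm_num)
    omega
  -- it is cyclic
  obtain ⟨a₀, ha₀⟩ := MaxClass.exists_cyclic_index_two (m + 3) M₀ hM₀c (by omega)
    (by rw [hi₀]; norm_num)
  haveI hDcy : IsCyclic D := by
    have h1 : commutator M₀ ≤ Subgroup.zpowers a₀ := by
      refine le_trans ?_ (frattini_le_of_index (IsPGroup.of_card hM₀c) ha₀)
      haveI := (IsPGroup.of_card hM₀c).isNilpotent
      exact SolvStruct.commutator_le_frattini M₀
    haveI : IsCyclic (commutator M₀) := Subgroup.isCyclic_of_le h1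
    exact isCyclic_of_surjective _ (Subgroup.equivMapOfInjective _ _ M₀.subtype_injective).surjective
  obtain ⟨d, hd⟩ := (Subgroup.isCyclic_iff_exists_zpowers_eq_top D).1 hDcy
  set K := Subgroup.zpowers (d ^ 2) with hK
  have hdD : d ∈ D := hd ▸ Subgroup.mem_zpowers d
  haveI hKn : K.Normal := by
    refine ⟨?_⟩
    rintro _ ⟨i, rfl⟩ g
    obtain ⟨j, hj⟩ : g * d * g⁻¹ ∈ Subgroup.zpowers d := hd.symm ▸ hDn.conj_mem d hdD g
    simp only at hj ⊢
    rw [← conj_zpow, ← conj_pow, ← hj, hK]
    refine Subgroup.zpow_mem _ ?_ i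
    rw [← zpow_natCast (d ^ j), ← zpow_mul, mul_comm, zpow_mul, zpow_natCast]
    exact Subgroup.zpow_mem _ (Subgroup.mem_zpowers _) j
  set π := QuotientGroup.mk' K with hπ
  set q := π d with hq
  have hDq : ∀ z ∈ D, π z = 1 ∨ π z = q := by
    intro z hz
    obtain ⟨i, rfl⟩ := (hd.symm ▸ hz : z ∈ Subgroup.zpowers d)
    simp only
    have h2 : π d ^ (2 : ℕ) = 1 := by
      rw [← map_pow]; exact (QuotientGroup.eq_one_iff _).2 (Subgroup.mem_zpowers _)
    rcases Int.even_or_odd' i with ⟨j, rfl | rfl⟩
    · left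
      rw [map_zpow, zpow_mul, show (2 : ℤ) = ((2 : ℕ) : ℤ) from rfl, zpow_natCast, h2, one_zpow]
    · right
      rw [map_zpow, zpow_add, zpow_mul, show (2 : ℤ) = ((2 : ℕ) : ℤ) from rfl, zpow_natCast, h2, one_zpow, one_mul, zpow_one]
  have hdK : d ∉ K := fun h => by
    have h1 := Subgroup.card_dvd_of_le (Subgroup.zpowers_le.2 h)
    rw [Nat.card_zpowers, hK, Nat.card_zpowers, orderOf_pow' d two_ne_zero, ← Nat.card_zpowers, hd, hDc,
      Nat.gcd_eq_right (dvd_pow_self 2 (by omega)), pow_succ, Nat.mul_div_cancel _ two_pos] at h1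
    exact absurd (Nat.le_of_dvd (pow_pos two_pos _) h1) (by
      have := pow_pos (two_pos (α := ℕ)) m
      omega)
  have hq1 : q ≠ 1 := fun h => hdK ((QuotientGroup.eq_one_iff d).1 h)
  have hqq : q * q = 1 := by
    rw [hq, ← map_mul, ← pow_two]; exact (QuotientGroup.eq_one_iff _).2 (Subgroup.mem_zpowers _)
  have hqc : ∀ g : G, π g * q = q * π g := by
    intro g
    rcases hDq _ (hDn.conj_mem d hdD g) with h | h <;> rw [map_mul, map_mul, map_inv, ← hq] at h
    · exfalso
      rw [mul_inv_eq_one, mul_eq_left] at h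
      exact hq1 h
    · rwa [mul_inv_eq_iff_eq_mul] at h
  have hzc : ∀ z ∈ D, ∀ g : G, Commute (π g) (π z) := fun z hz g => by
    rcases hDq z hz with h | h <;> rw [h]
    · exact Commute.one_right _
    · exact hqc g
  have hpair : ∀ g x : G, π g * π x = π x * π g ∨ π g * π x = q * (π x * π g) := by
    intro g x
    rcases hDq ⁅g, x⁆ (hDG ▸ Subgroup.commutator_mem_commutator (Subgroup.mem_top g) (Subgroup.mem_top x))
      with h | h <;> rw [map_commutatorElement, commutatorElement_def] at h
    · left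
      rwa [mul_inv_eq_one, mul_inv_eq_iff_eq_mul] at h
    · right
      rw [mul_inv_eq_iff_eq_mul, mul_inv_eq_iff_eq_mul] at h
      rw [h, mul_assoc]
  obtain ⟨x, hx, y, hy, hxy⟩ : ∃ x ∈ M₀, ∃ y ∈ M₀, ¬ Commute (π x) (π y) := by
    by_contra hcon
    push Not at hcon
    have h1 : D ≤ K := by
      rw [hD, commutator_def, Subgroup.map_commutator, ← MonoidHom.range_eq_map, Subgroup.range_subtype,
        Subgroup.commutator_le]
      intro u hu v hv
      rw [← QuotientGroup.eq_one_iff]
      change π ⁅u, v⁆ = 1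
      rw [map_commutatorElement, commutatorElement_eq_one_iff_commute]
      exact hcon u hu v hv
    exact hdK (h1 hdD)
  -- `M₀` modulo `D`
  have hxD : x ∉ D := fun h => hxy (hzc x h y).symm
  have hyD : y ∉ D := fun h => hxy (hzc y h x)
  have hxyD : x * y ∉ D := fun h => by
    have h1 := (hzc _ h x)
    rw [map_mul] at h1
    exact hxy (mul_left_cancel (h1.eq.trans (mul_assoc _ _ _)))
  have hcover : ∀ u ∈ M₀, u ∈ D ∨ x⁻¹ * u ∈ D ∨ y⁻¹ * u ∈ D ∨ (x * y)⁻¹ * u ∈ D := by
    intro u hu
    classical
    set W := M₀ ⧸ commutator M₀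
    haveI := Fintype.ofFinite W
    set f := QuotientGroup.mk' (commutator M₀)
    have hf : ∀ s t : M₀, f s = f t → (s : G)⁻¹ * t ∈ D := fun s t h => by
      refine ⟨s⁻¹ * t, ?_, by simp⟩
      exact QuotientGroup.eq.1 h
    have hcard : ({1, f ⟨x, hx⟩, f ⟨y, hy⟩, f (⟨x, hx⟩ * ⟨y, hy⟩)} : Finset W).card = 4 := by
      have h1x : (1 : W) ≠ f ⟨x, hx⟩ := fun h => hxD (by simpa using hf 1 _ (by simpa using h))
      have h1y : (1 : W) ≠ f ⟨y, hy⟩ := fun h => hyD (by simpa using hf 1 _ (by simpa using h))
      have h1xy : (1 : W) ≠ f (⟨x, hx⟩ * ⟨y, hy⟩) := fun h => hxyD (by simpa using hf 1 _ (by simpa using h))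
      have hxy' : f ⟨x, hx⟩ ≠ f ⟨y, hy⟩ := fun h => by
        have h2 := hzc _ (hf _ _ h) x
        rw [map_mul, map_inv] at h2
        exact hxy ((Commute.inv_right (Commute.refl (π x))).mul_right (Commute.refl (π x)) |> fun _ => by
          have h3 := (Commute.refl (π x)).mul_right h2
          rwa [← mul_assoc, mul_inv_cancel, one_mul] at h3)
      have hxxy : f ⟨x, hx⟩ ≠ f (⟨x, hx⟩ * ⟨y, hy⟩) := fun h => h1y (by
        rw [map_mul] at h; exact left_eq_mul.1 h |>.symm)
      have hyxy : f ⟨y, hy⟩ ≠ f (⟨x, hx⟩ * ⟨y, hy⟩) := fun h => h1x (by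
        rw [map_mul] at h; exact right_eq_mul.1 h |>.symm)
      rw [Finset.card_insert_of_notMem (by
          simp only [Finset.mem_insert, Finset.mem_singleton, not_or]; exact ⟨h1x, h1y, h1xy⟩),
        Finset.card_insert_of_notMem (by
          simp only [Finset.mem_insert, Finset.mem_singleton, not_or]; exact ⟨hxy', hxxy⟩),
        Finset.card_insert_of_notMem (by
          simp only [Finset.mem_singleton]; exact hyxy), Finset.card_singleton]
    have huniv := Finset.eq_univ_of_card _ (hcard.trans (by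
      rw [← Nat.card_eq_fintype_card, ← Subgroup.index_eq_card, hi₀]; norm_num))
    have hmem : f ⟨u, hu⟩ ∈ ({1, f ⟨x, hx⟩, f ⟨y, hy⟩, f (⟨x, hx⟩ * ⟨y, hy⟩)} : Finset W) := by
      rw [huniv]; exact Finset.mem_univ _
    simp only [Finset.mem_insert, Finset.mem_singleton] at hmem
    rcases hmem with h | h | h | h
    · left; simpa using inv_mem (hf ⟨u, hu⟩ 1 (by simpa using h))
    · right; left; exact hf ⟨x, hx⟩ _ h.symm
    · right; right; left; exact hf ⟨y, hy⟩ _ h.symm
    · right; right; right; exact hf (⟨x, hx⟩ * ⟨y, hy⟩) _ h.symm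
  have hcomm4 : ∀ g : G, Commute (π g) (π x) → Commute (π g) (π y) → ∀ u ∈ M₀, Commute (π g) (π u) := by
    intro g hgx hgy u hu
    rcases hcover u hu with h | h | h | h
    · exact hzc u h g
    · have := hgx.mul_right (hzc _ h g)
      rwa [← map_mul, mul_inv_cancel_left] at this
    · have := hgy.mul_right (hzc _ h g)
      rwa [← map_mul, mul_inv_cancel_left] at this
    · have := (hgx.mul_right hgy).mul_right (hzc _ h g)
      rwa [← map_mul, ← map_mul, mul_inv_cancel_left] at this
  have hxyq : π x * π y = q * (π y * π x) := (hpair x y).resolve_left hxy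
  have hyxq : π y * π x = q * (π x * π y) := by rw [hxyq, ← mul_assoc, hqq, one_mul]
  -- all squares lie in `D`
  have hsqM : ∀ u ∈ M₀, u ^ 2 ∈ D := fun u hu => by
    have h := hsq₀ (QuotientGroup.mk' _ ⟨u, hu⟩)
    rw [← map_pow, QuotientGroup.mk'_apply, QuotientGroup.eq_one_iff] at h
    exact ⟨_, h, rfl⟩
  have hsqG : ∀ g : G, g ^ 2 ∈ D := by
    intro g
    have hg2 : g ^ 2 ∈ M₀ := Subgroup.sq_mem_of_index_two hM₀ g
    have hcs : ∀ w : G, Commute (π (g ^ 2)) (π w) := fun w => by
      rw [map_pow, pow_two]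
      rcases hpair g w with h | h
      · exact (show Commute (π g) (π w) from h).mul_left h
      · show π g * π g * π w = π w * (π g * π g)
        calc π g * π g * π w = π g * (q * (π w * π g)) := by rw [mul_assoc, h]
          _ = q * (π g * π w) * π g := by rw [← mul_assoc, hqc]; group
          _ = q * (q * (π w * π g)) * π g := by rw [h]
          _ = π w * (π g * π g) := by rw [← mul_assoc q q, hqq, one_mul, mul_assoc]
    rcases hcover _ hg2 with h | h | h | h
    · exact h
    · exfalso
      have := ((hcs y).symm.mul_right ((hzc _ h y).inv_right))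
      rw [← map_inv, ← map_mul, mul_inv_rev, inv_inv, mul_inv_cancel_left] at this
      exact hxy this.symm
    · exfalso
      have := ((hcs x).symm.mul_right ((hzc _ h x).inv_right))
      rw [← map_inv, ← map_mul, mul_inv_rev, inv_inv, mul_inv_cancel_left] at this
      exact hxy this
    · exfalso
      have := ((hcs x).symm.mul_right ((hzc _ h x).inv_right))
      rw [← map_inv, ← map_mul, mul_inv_rev, inv_inv, mul_inv_cancel_left, map_mul] at this
      have h2 := ((Commute.refl (π x)).inv_right).mul_right this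
      rw [inv_mul_cancel_left] at h2
      exact hxy h2
  -- a central element outside `M₀`
  obtain ⟨r, hr, hrc⟩ : ∃ r, r ∉ M₀ ∧ ∀ w : G, Commute (π r) (π w) := by
    obtain ⟨g₀, hg₀⟩ : ∃ g, g ∉ M₀ := by
      by_contra h
      push Not at h
      rw [(Subgroup.eq_top_iff' M₀).2 h, Subgroup.index_top] at hM₀
      exact absurd hM₀ (by norm_num)
    obtain ⟨g₁, hg₁, hg₁x⟩ : ∃ g, g ∉ M₀ ∧ Commute (π g) (π x) := by
      rcases hpair g₀ x with h | h
      · exact ⟨g₀, hg₀, h⟩
      · refine ⟨g₀ * y, fun h' => hg₀ (by simpa using mul_mem h' (inv_mem hy)), ?_⟩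
        show π (g₀ * y) * π x = π x * π (g₀ * y)
        rw [map_mul]
        calc π g₀ * π y * π x = π g₀ * (q * (π x * π y)) := by rw [mul_assoc, hyxq]
          _ = q * (π g₀ * π x) * π y := by rw [← mul_assoc, hqc]; group
          _ = q * (q * (π x * π g₀)) * π y := by rw [h]
          _ = π x * (π g₀ * π y) := by rw [← mul_assoc q q, hqq, one_mul, mul_assoc]
    obtain ⟨g₂, hg₂, hg₂x, hg₂y⟩ : ∃ g, g ∉ M₀ ∧ Commute (π g) (π x) ∧ Commute (π g) (π y) := by
      rcases hpair g₁ y with h | h
      · exact ⟨g₁, hg₁, hg₁x, h⟩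
      · refine ⟨g₁ * x, fun h' => hg₁ (by simpa using mul_mem h' (inv_mem hx)), ?_, ?_⟩
        · rw [map_mul]; exact hg₁x.mul_left (Commute.refl _)
        show π (g₁ * x) * π y = π y * π (g₁ * x)
        rw [map_mul]
        calc π g₁ * π x * π y = π g₁ * (q * (π y * π x)) := by rw [mul_assoc, hxyq]
          _ = q * (π g₁ * π y) * π x := by rw [← mul_assoc, hqc]; group
          _ = q * (q * (π y * π g₁)) * π x := by rw [h]
          _ = π y * (π g₁ * π x) := by rw [← mul_assoc q q, hqq, one_mul, mul_assoc]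
    refine ⟨g₂, hg₂, fun w => ?_⟩
    by_cases hw : w ∈ M₀
    · exact hcomm4 g₂ hg₂x hg₂y w hw
    · have hwg : g₂⁻¹ * w ∈ M₀ :=
        (Subgroup.mul_mem_iff_of_index_two hM₀).2 (iff_of_false (fun h => hg₂ (inv_mem_iff.1 h)) hw)
      have := (Commute.refl (π g₂)).mul_right (hcomm4 g₂ hg₂x hg₂y _ hwg)
      rwa [← map_mul, mul_inv_cancel_left] at this
  have hDle : ∀ M : Subgroup G, M.index = 2 → D ≤ M := fun M hM => by
    refine le_trans ?_ (frattini_le_of_index hGp hM)
    haveI := hGp.isNilpotent
    exact hDG ▸ SolvStruct.commutator_le_frattini G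
  have hiff : ∀ M : Subgroup G, M.index = 2 → (Group.nilpotencyClass M = m + 2 ↔ r ∉ M) := by
    intro M hM
    have hMc := hcardM M hM
    haveI hMn : M.Normal := Subgroup.normal_of_index_eq_two hM
    have hle : (commutator M).map M.subtype ≤ D := by
      rw [hDG, commutator_def, Subgroup.map_commutator]
      exact Subgroup.commutator_mono le_top le_top
    constructor
    · intro hcl hrM
      have hcomm : ∀ u ∈ M, ∀ v ∈ M, Commute (π u) (π v) := by
        have hM0 : ∀ u ∈ M, ∃ u₀ ∈ M ⊓ M₀, ∀ v : G, Commute (π u₀) (π v) → Commute (π u) (π v) := by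
          intro u hu
          by_cases hu0 : u ∈ M₀
          · exact ⟨u, Subgroup.mem_inf.2 ⟨hu, hu0⟩, fun v h => h⟩
          · refine ⟨r⁻¹ * u, Subgroup.mem_inf.2 ⟨mul_mem (inv_mem hrM) hu,
              (Subgroup.mul_mem_iff_of_index_two hM₀).2 (iff_of_false (fun h => hr (inv_mem_iff.1 h)) hu0)⟩,
              fun v h => ?_⟩
            have := (hrc v).mul_left h
            rwa [← map_mul, mul_inv_cancel_left] at this
        have hnot : ¬ (x ∈ M ∧ y ∈ M) := by
          rintro ⟨hxM, hyM⟩
          refine hr ?_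
          have hle : M₀ ≤ M := fun u hu => by
            rcases hcover u hu with h | h | h | h
            · exact hDle M hM h
            · simpa using mul_mem hxM (hDle M hM h)
            · simpa using mul_mem hyM (hDle M hM h)
            · simpa [mul_assoc] using mul_mem (mul_mem hxM hyM) (hDle M hM h)
          rw [Subgroup.eq_of_le_of_card_ge hle (by rw [hMc, hM₀c])]
          exact hrM
        have key : ∀ u ∈ M ⊓ M₀, ∀ v ∈ M ⊓ M₀, Commute (π u) (π v) := by
          intro u hu v hv
          obtain ⟨huM, hu0⟩ := Subgroup.mem_inf.1 hu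
          obtain ⟨hvM, hv0⟩ := Subgroup.mem_inf.1 hv
          have hback : ∀ {e w : G}, w ∈ M → e⁻¹ * w ∈ D → e ∈ M := fun hw h => by
            simpa using mul_mem hw (inv_mem (hDle M hM h))
          have hwith : ∀ e : G, e⁻¹ * u ∈ D → e⁻¹ * v ∈ D → Commute (π u) (π v) := fun e h1 h2 => by
            have := ((Commute.refl (π e)).mul_right (hzc _ h2 e)).mul_left
              (((hzc _ h1 e).symm).mul_right (hzc _ h2 _))
            rwa [← map_mul, ← map_mul, mul_inv_cancel_left, mul_inv_cancel_left] at this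
          rcases hcover u hu0 with h | h | h | h
          · exact (hzc u h v).symm
          · rcases hcover v hv0 with h' | h' | h' | h'
            · exact hzc v h' u
            · exact hwith _ h h'
            · exact absurd ⟨hback huM h, hback hvM h'⟩ hnot
            · exact absurd ⟨hback huM h, by simpa using mul_mem (inv_mem (hback huM h)) (hback hvM h')⟩ hnot
          · rcases hcover v hv0 with h' | h' | h' | h'
            · exact hzc v h' u
            · exact absurd ⟨hback hvM h', hback huM h⟩ hnot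
            · exact hwith _ h h'
            · exact absurd ⟨by simpa using mul_mem (hback hvM h') (inv_mem (hback huM h)), hback huM h⟩ hnot
          · rcases hcover v hv0 with h' | h' | h' | h'
            · exact hzc v h' u
            · exact absurd ⟨hback hvM h', by simpa using mul_mem (inv_mem (hback hvM h')) (hback huM h)⟩ hnot
            · exact absurd ⟨by simpa using mul_mem (hback huM h) (inv_mem (hback hvM h')), hback hvM h'⟩ hnot
            · exact hwith _ h h'
        intro u hu v hv
        obtain ⟨u₀, hu₀, hu'⟩ := hM0 u hu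
        obtain ⟨v₀, hv₀, hv'⟩ := hM0 v hv
        exact hu' v (hv' u₀ (key u₀ hu₀ v₀ hv₀).symm).symm
      have hKle : (commutator M).map M.subtype ≤ K := by
        rw [commutator_def, Subgroup.map_commutator, ← MonoidHom.range_eq_map, Subgroup.range_subtype,
          Subgroup.commutator_le]
        intro u hu v hv
        rw [← QuotientGroup.eq_one_iff]
        change π ⁅u, v⁆ = 1
        rw [map_commutatorElement, commutatorElement_eq_one_iff_commute]
        exact hcomm u hu v hv
      have hmul := (commutator M).card_mul_index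
      rw [MaxClass.index_commutator_eq hMc (by omega : 3 ≤ m + 3) hcl, hMc,
        show 2 ^ (m + 3) = 2 ^ (m + 1) * 2 ^ 2 from by ring] at hmul
      have h1 := Nat.eq_of_mul_eq_mul_right (show 0 < 2 ^ 2 by norm_num) hmul
      have h2 := Subgroup.card_dvd_of_le hKle
      rw [Subgroup.card_map_of_injective M.subtype_injective, h1, hK, Nat.card_zpowers,
        orderOf_pow' d two_ne_zero, ← Nat.card_zpowers, hd, hDc,
        Nat.gcd_eq_right (dvd_pow_self 2 (by omega)), pow_succ, Nat.mul_div_cancel _ two_pos] at h2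
      exact absurd (Nat.le_of_dvd (pow_pos two_pos _) h2) (by
        have := pow_pos (two_pos (α := ℕ)) m
        omega)
    · intro hrM
      have hnK : ¬ (commutator M).map M.subtype ≤ K := by
        intro h
        refine hxy ?_
        have hcomm : ∀ u ∈ M, ∀ v ∈ M, Commute (π u) (π v) := fun u hu v hv => by
          rw [← commutatorElement_eq_one_iff_commute, ← map_commutatorElement]
          refine (QuotientGroup.eq_one_iff _).2 (h ⟨⁅(⟨u, hu⟩ : M), ⟨v, hv⟩⁆,
            Subgroup.commutator_mem_commutator (Subgroup.mem_top _) (Subgroup.mem_top _), ?_⟩)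
          simp [commutatorElement_def]
        have hgen : ∀ u : G, ∃ u₀ ∈ M, ∀ v : G, Commute (π u₀) (π v) → Commute (π u) (π v) := by
          intro u
          by_cases hu : u ∈ M
          · exact ⟨u, hu, fun v h => h⟩
          · refine ⟨r⁻¹ * u,
              (Subgroup.mul_mem_iff_of_index_two hM).2 (iff_of_false (fun h => hrM (inv_mem_iff.1 h)) hu),
              fun v h => ?_⟩
            have := (hrc v).mul_left h
            rwa [← map_mul, mul_inv_cancel_left] at this
        obtain ⟨u₀, hu₀, hu'⟩ := hgen x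
        obtain ⟨v₀, hv₀, hv'⟩ := hgen y
        exact hu' y (hv' u₀ (hcomm u₀ hu₀ v₀ hv₀).symm).symm
      obtain ⟨z, hz, hzK⟩ := SetLike.not_le_iff_exists.1 hnK
      obtain ⟨i, hi⟩ := (hd.symm ▸ hle hz : z ∈ Subgroup.zpowers d)
      simp only at hi
      have hid : d ∈ (commutator M).map M.subtype := by
        have hpl : ¬ (2 : ℤ) ∣ i := by
          rintro ⟨t, rfl⟩
          refine hzK ?_
          rw [← hi, zpow_mul, show (2 : ℤ) = ((2 : ℕ) : ℤ) from rfl, zpow_natCast]
          exact zpow_mem (Subgroup.mem_zpowers _) t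
        obtain ⟨u, v, huv⟩ := (((Nat.prime_iff_prime_int.1 Nat.prime_two).coprime_iff_not_dvd.2
          (by exact_mod_cast hpl)).pow_left (m := m + 1))
        have key : d = z ^ v := by
          rw [← hi, ← zpow_mul, mul_comm i v, show v * i = 1 - u * ((2 : ℕ) : ℤ) ^ (m + 1) from by linarith,
            zpow_sub, zpow_one, mul_comm u, zpow_mul, ← Nat.cast_pow, zpow_natCast, ← hDc, ← hd,
            Nat.card_zpowers, pow_orderOf_eq_one, one_zpow, inv_one, mul_one]
        rw [key]
        exact zpow_mem hz v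
      have heq : (commutator M).map M.subtype = D :=
        le_antisymm hle (hd ▸ Subgroup.zpowers_le.2 hid)
      have hmul := (commutator M).card_mul_index
      rw [← Subgroup.card_map_of_injective (K := commutator M) M.subtype_injective, heq, hDc, hMc,
        show 2 ^ (m + 3) = 2 ^ (m + 1) * 4 from by ring] at hmul
      exact MaxClass.class_eq_of_index_four (m + 3) M hMc (by omega)
        (Nat.eq_of_mul_eq_mul_left (pow_pos two_pos _) hmul)
  -- count
  obtain ⟨hc, he⟩ : (∀ u v : G ⧸ D, u * v = v * u) ∧ ∀ u : G ⧸ D, u ^ 2 = 1 := by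
    constructor
    · intro u v
      obtain ⟨u, rfl⟩ := QuotientGroup.mk'_surjective D u
      obtain ⟨v, rfl⟩ := QuotientGroup.mk'_surjective D v
      rw [← commutatorElement_eq_one_iff_mul_comm, ← map_commutatorElement]
      exact (QuotientGroup.eq_one_iff _).2
        (hDG ▸ Subgroup.commutator_mem_commutator (Subgroup.mem_top u) (Subgroup.mem_top v))
    · intro u
      obtain ⟨u, rfl⟩ := QuotientGroup.mk'_surjective D u
      rw [← map_pow]
      exact (QuotientGroup.eq_one_iff _).2 (hsqG u)
  have hq3 : Nat.card (G ⧸ D) = 2 ^ (2 + 1) := by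
    have hmul := D.card_mul_index
    rw [hDc, hG, show m + 4 = m + 1 + 3 from rfl, pow_add 2 (m + 1)] at hmul
    rw [← Subgroup.index_eq_card]
    exact Nat.eq_of_mul_eq_mul_left (pow_pos two_pos _) hmul
  have hrD : QuotientGroup.mk' D r ≠ 1 := fun h =>
    hr (hDle M₀ hM₀ ((QuotientGroup.eq_one_iff r).1 h))
  have hcount := MaximalCount.card_avoiding (p := 2) 2 (G ⧸ D) hq3 hc he _ hrD
  have e : {M : Subgroup G // M.index = 2 ∧ Group.nilpotencyClass M = m + 2} ≃
      {M : Subgroup (G ⧸ D) // M.index = 2 ∧ QuotientGroup.mk' D r ∉ M} :=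
    { toFun := fun M => ⟨M.1.map (QuotientGroup.mk' D), by
        rw [Subgroup.index_map_eq _ (QuotientGroup.mk'_surjective D)
          (by rw [QuotientGroup.ker_mk']; exact hDle _ M.2.1), M.2.1], fun h => (hiff _ M.2.1).1 M.2.2 (by
        rw [← Subgroup.comap_map_eq_self (f := QuotientGroup.mk' D) (H := M.1)
          (by rw [QuotientGroup.ker_mk']; exact hDle _ M.2.1)]
        exact Subgroup.mem_comap.2 h)⟩
      invFun := fun W => ⟨W.1.comap (QuotientGroup.mk' D), by
        rw [Subgroup.index_comap_of_surjective _ (QuotientGroup.mk'_surjective D), W.2.1],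
        (hiff _ (by rw [Subgroup.index_comap_of_surjective _ (QuotientGroup.mk'_surjective D), W.2.1])).2
          fun h => W.2.2 (Subgroup.mem_comap.1 h)⟩
      left_inv := fun M => Subtype.ext (Subgroup.comap_map_eq_self
        (by rw [QuotientGroup.ker_mk']; exact hDle _ M.2.1))
      right_inv := fun W => Subtype.ext
        (Subgroup.map_comap_eq_self_of_surjective (QuotientGroup.mk'_surjective D) W.1) }
  rw [Nat.card_congr e, hcount]
  exact dvd_pow_self 2 two_ne_zero

/-! ### The congruence -/

/-- **Kulakoff's theorem**, with the exceptional case of `2`-groups of maximal class. -/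
theorem count : ∀ (m : ℕ) (G : Type u) [Group G] [Finite G], Nat.card G = p ^ m → ∀ k : ℕ, 1 ≤ k → k < m →
    ¬ IsCyclic G →
    ((¬ Exc p m G ∨ k + 1 = m) → Nat.card {H : Subgroup G // Nat.card H = p ^ k} ≡ 1 + p [MOD p ^ 2]) ∧
    ((Exc p m G ∧ k + 2 ≤ m) → Nat.card {H : Subgroup G // Nat.card H = p ^ k} ≡ 1 [MOD p ^ 2]) := by
  intro m
  induction m with
  | zero => intro G _ _ _ k hk hkm; omega
  | succ n ih =>
    intro G _ _ hG k hk hkm hnc
    classical
    have hGp := IsPGroup.of_card hG
    by_cases htop : k + 1 = n + 1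
    · refine ⟨fun _ => ?_, fun h => absurd h.2 (by omega)⟩
      have e : {H : Subgroup G // Nat.card H = p ^ k} ≃ {H : Subgroup G // H.index = p} :=
        Equiv.subtypeEquivRight fun H => by
          have h1 := H.card_mul_index
          rw [hG, ← htop, pow_succ p k] at h1
          constructor <;> intro h2 <;> rw [h2] at h1
          · exact Nat.eq_of_mul_eq_mul_left (pow_pos hp.out.pos _) h1
          · exact Nat.eq_of_mul_eq_mul_right hp.out.pos h1
      rw [Nat.card_congr e]
      exact card_maximal_modEq hGp hnc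
    obtain ⟨l, rfl⟩ : ∃ l, n = l + 2 := ⟨n - 2, by omega⟩
    haveI := Fintype.ofFinite (Subgroup G)
    set Ms := Finset.univ.filter (fun M : Subgroup G => M.index = p) with hMs
    let bad : Subgroup G → Prop := fun M : Subgroup G => IsCyclic M ∨ (k + 3 ≤ l + 3 ∧ Exc p (l + 2) M)
    have hMc : ∀ M ∈ Ms, Nat.card M = p ^ (l + 2) := fun M hM => by
      have h := M.card_mul_index
      rw [(Finset.mem_filter.1 hM).2, hG, show l + 2 + 1 = (l + 2) + 1 from rfl, pow_succ p (l + 2)] at h
      exact Nat.eq_of_mul_eq_mul_right hp.out.pos h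
    have hM : ∀ M ∈ Ms, Nat.card {H : Subgroup M // Nat.card H = p ^ k} + (if bad M then p else 0) ≡
        1 + p [MOD p ^ 2] := by
      intro M hM
      by_cases hc : IsCyclic M
      · rw [if_pos (Or.inl hc), SubgroupCount.card_subgroups_cyclic hp.out
          (hMc M hM ▸ Nat.pow_dvd_pow p (by omega))]
      · by_cases he : k + 3 ≤ l + 3 ∧ Exc p (l + 2) M
        · rw [if_pos (Or.inr he)]
          exact ((ih M (hMc M hM) k hk (by omega) hc).2 ⟨he.2, by omega⟩).add_right p
        · rw [if_neg (not_or.2 ⟨hc, he⟩), add_zero]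
          refine (ih M (hMc M hM) k hk (by omega) hc).1 ?_
          by_cases hk3 : k + 3 ≤ l + 3
          · exact Or.inl fun h => he ⟨hk3, h⟩
          · exact Or.inr (by omega)
    have hmax := card_maximal_modEq hGp hnc
    rw [Nat.card_eq_fintype_card, Fintype.card_subtype, ← hMs] at hmax
    set s := Nat.card {H : Subgroup G // Nat.card H = p ^ k}
    set j := (Ms.filter bad).card with hj
    have hkey : s + p + p * j ≡ 1 + 2 * p [MOD p ^ 2] := by
      have h1 := (enumeration (p := p) hG hnc (k := k) (by omega))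
      have h2 : ∑ M ∈ Ms, (Nat.card {H : Subgroup M // Nat.card H = p ^ k} + if bad M then p else 0) ≡
          ∑ _M ∈ Ms, (1 + p) [MOD p ^ 2] := Nat.ModEq.sum fun M h => hM M h
      rw [Finset.sum_add_distrib, ← Finset.sum_filter, Finset.sum_const, Finset.sum_const, smul_eq_mul,
        smul_eq_mul, ← hj, mul_comm j p] at h2
      refine ((h1.symm.add_right (p * j)).trans h2).trans ((hmax.mul_right (1 + p)).trans ?_)
      rw [show (1 + p) * (1 + p) = (1 + 2 * p) + p ^ 2 * 1 from by ring]
      simp [Nat.ModEq]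
    obtain ⟨hcy1, hcy2⟩ := cyclic_parity (m := l) hG hnc
    rw [Nat.card_eq_fintype_card, Fintype.card_subtype, ← Finset.filter_filter, ← hMs] at hcy1 hcy2
    have hbad2 : k + 3 ≤ l + 3 → p = 2 → ∀ M ∈ Ms, (Exc p (l + 2) M ↔ Group.nilpotencyClass M = l + 1) :=
      fun h h2 M _ => ⟨fun e => e.2.2, fun e => ⟨h2, by omega, e⟩⟩
    constructor
    · intro hor
      have hne : ¬ Exc p (l + 2 + 1) G := hor.resolve_right htop
      have hpj : p ∣ j := by
        rw [hj, Finset.filter_or, Finset.card_union_of_disjoint]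
        · refine Nat.dvd_add (hcy1 hne) ?_
          by_cases hb : k + 3 ≤ l + 3 ∧ p = 2
          · obtain ⟨hk3, h2⟩ := hb
            subst h2
            obtain ⟨t, rfl⟩ : ∃ t, l = t + 1 := ⟨l - 1, by omega⟩
            have hcl : Group.nilpotencyClass G ≠ t + 3 := fun h => hne ⟨rfl, by omega, h⟩
            have hev := maxclass_even hG hcl
            rw [Nat.card_eq_fintype_card, Fintype.card_subtype, ← Finset.filter_filter, ← hMs] at hev
            rw [Finset.filter_congr (q := fun M : Subgroup G => Group.nilpotencyClass M = t + 2)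
              fun M hM => ?_]
            · exact hev
            · exact (and_iff_right hk3).trans (hbad2 hk3 rfl M hM)
          · rw [Finset.filter_false_of_mem fun M _ h => hb ⟨h.1, h.2.1⟩]
            exact dvd_zero p
        · rw [Finset.disjoint_filter]
          intro M hM hc he
          obtain ⟨h2, h3, hcl⟩ := he.2
          subst h2
          haveI := IsCyclic.commutative (α := M)
          exact MaxClass.commutator_ne_bot (hMc M hM) (by omega) hcl ((commutator_eq_bot_iff M).2 inferInstance)
      obtain ⟨t, ht⟩ := hpj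
      rw [ht, ← mul_assoc, ← pow_two] at hkey
      have h3 : s + p ≡ 1 + p + p [MOD p ^ 2] := by
        refine Nat.ModEq.trans ?_ (hkey.trans (by rw [two_mul, add_assoc]))
        simp [Nat.ModEq]
      exact Nat.ModEq.add_right_cancel' p h3
    · rintro ⟨⟨h2, h3, hcl⟩, -⟩
      subst h2
      have hodd : Odd j := by
        by_cases hk3 : k + 3 ≤ l + 3
        · obtain ⟨t, rfl⟩ : ∃ t, l = t + 1 := ⟨l - 1, by omega⟩
          rw [hj, Finset.filter_true_of_mem fun M hM => ?_]
          · rw [Nat.odd_iff]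
            have h := hmax
            unfold Nat.ModEq at h
            omega
          · rcases exc_maximal hG hcl (Finset.mem_filter.1 hM).2 with h | h
            · exact Or.inl h
            · exact Or.inr ⟨hk3, (hbad2 hk3 rfl M hM).2 h⟩
        · rw [hj, Finset.filter_congr (q := fun M : Subgroup G => IsCyclic M) fun M _ => ?_]
          · exact hcy2 ⟨rfl, h3, hcl⟩
          · exact ⟨fun h => h.resolve_right fun e => hk3 e.1, Or.inl⟩
      obtain ⟨t, ht⟩ := hodd
      rw [ht] at hkey
      unfold Nat.ModEq at hkey ⊢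
      omega

end Cfsg.Agent.KulakoffCount
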