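import Mathlib
import Cfsg.Agent.S4014

/-!
Derived length of finite linear `p`-groups.
-/

set_option autoImplicit false
set_option linter.style.haveILetI false

namespace Cfsg.Agent.LinearPGroup

open scoped commutatorElement

universe u v w

variable {P : Type u} [Group P] {K : Type v} [Field K] {V : Type w} [AddCommGroup V] [Module K V]
variable (ρ : P →* Module.End K V)

lemma apply_inv_apply (g : P) (x : V) : ρ g (ρ g⁻¹ x) = x := by
  rw [← Module.End.mul_apply, ← map_mul, mul_inv_cancel, map_one, Module.End.one_apply]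

lemma inv_apply_apply (g : P) (x : V) : ρ g⁻¹ (ρ g x) = x := by
  rw [← Module.End.mul_apply, ← map_mul, inv_mul_cancel, map_one, Module.End.one_apply]

/-- The translation by a group element as a linear equivalence. -/
def equiv (g : P) : V ≃ₗ[K] V :=
  { ρ g with
    invFun := ρ g⁻¹
    left_inv := inv_apply_apply ρ g
    right_inv := apply_inv_apply ρ g }

/-- The restriction to an invariant subspace. -/
def restrictRep (W : Submodule K V) (hW : ∀ g, ∀ x ∈ W, ρ g x ∈ W) : P →* Module.End K W where
  toFun g := (ρ g).restrict (hW g)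
  map_one' := by ext x; simp
  map_mul' g h := by ext x; simp

/-- The representation on the quotient by an invariant subspace. -/
def quotRep (W : Submodule K V) (hW : ∀ g, ∀ x ∈ W, ρ g x ∈ W) : P →* Module.End K (V ⧸ W) where
  toFun g := W.mapQ W (ρ g) fun x hx => hW g x hx
  map_one' := by ext x; simp
  map_mul' g h := by ext x; simp

/-- In characteristic prime to `p` a `p`-power unipotent map with square-zero part is trivial. -/
lemma eq_one_of_stable [Finite P] {p : ℕ} (hpK : (p : K) ≠ 0) (hP : IsPGroup p P)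
    {W : Submodule K V} {g : P} (h1 : ∀ x ∈ W, ρ g x = x) (h2 : ∀ x, ρ g x - x ∈ W) : ρ g = 1 := by
  obtain ⟨j, hj⟩ := hP g
  refine LinearMap.ext fun x => ?_
  set a := ρ g x - x with ha
  have key : ∀ i : ℕ, ρ (g ^ i) x = x + (i : K) • a := by
    intro i
    induction i with
    | zero => simp
    | succ i ih =>
      rw [pow_succ', map_mul, Module.End.mul_apply, ih, map_add, map_smul, h1 a (h2 x),
        show ρ g x = x + a by rw [ha]; abel, Nat.cast_succ, add_smul, one_smul]
      abel
  have h3 := key (p ^ j)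
  rw [hj, map_one, Module.End.one_apply, left_eq_add, smul_eq_zero, Nat.cast_pow] at h3
  rcases h3 with h3 | h3
  · exact absurd h3 (pow_ne_zero _ hpK)
  · rw [ha, sub_eq_zero] at h3; exact h3

/-- A linear `p`-group in characteristic prime to `p` over an algebraically closed field. -/
theorem coprime_char (p : ℕ) [hp : Fact p.Prime] [IsAlgClosed K] (hpK : (p : K) ≠ 0) :
    ∀ (d : ℕ) {P : Type u} [Group P] [Finite P] {V : Type w} [AddCommGroup V] [Module K V]
      [FiniteDimensional K V], IsPGroup p P → ∀ ρ : P →* Module.End K V,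
        Module.finrank K V ≤ d → ∀ g ∈ derivedSeries P (Nat.log 2 d + 1), ρ g = 1 := by
  intro d
  induction d using Nat.strong_induction_on with
  | _ d ih =>
    intro P _ _ V _ _ _ hP ρ hd g hg
    classical
    by_cases hred : ∃ W : Submodule K V, (∀ h, ∀ x ∈ W, ρ h x ∈ W) ∧ W ≠ ⊥ ∧ W ≠ ⊤
    · obtain ⟨W, hW, hW0, hW1⟩ := hred
      have e := W.finrank_quotient_add_finrank
      have l1 : Module.finrank K W < d := lt_of_lt_of_le (Submodule.finrank_lt hW1) hd
      have hWpos : 0 < Module.finrank K W := by
        rw [Nat.pos_iff_ne_zero]; exact fun h => hW0 (Submodule.finrank_eq_zero.1 h)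
      have l2 : Module.finrank K (V ⧸ W) < d := by omega
      have hmono : ∀ k, k < d → g ∈ derivedSeries P (Nat.log 2 k + 1) := fun k hk =>
        derivedSeries_antitone P (Nat.add_le_add_right (Nat.log_mono_right hk.le) 1) hg
      have a1 := ih _ l1 hP (restrictRep ρ W hW) le_rfl g (hmono _ l1)
      have a2 := ih _ l2 hP (quotRep ρ W hW) le_rfl g (hmono _ l2)
      refine eq_one_of_stable ρ hpK hP (W := W) (fun x hx => ?_) (fun x => ?_)
      · exact congrArg Subtype.val (LinearMap.congr_fun a1 (⟨x, hx⟩ : W))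
      · exact (Submodule.Quotient.eq W).1 (LinearMap.congr_fun a2 (Submodule.Quotient.mk x))
    by_cases hcomm : ∀ a b : P, ρ a * ρ b = ρ b * ρ a
    · let ρ' : P →* Module.End K V := ρ
      have hle : derivedSeries P 1 ≤ (MonoidHom.toHomUnits ρ').ker := by
        rw [derivedSeries_one, commutator_def, Subgroup.commutator_le]
        intro a _ b _
        rw [MonoidHom.mem_ker, map_commutatorElement]
        refine commutatorElement_eq_one_iff_mul_comm.2 (Units.ext ?_)
        exact hcomm a b
      exact congrArg Units.val (hle (derivedSeries_antitone P (Nat.le_add_left 1 _) hg))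
    -- a non-scalar element central modulo scalars
    let Z : Subgroup P :=
      { carrier := {h | ∃ c : K, ∀ x, ρ h x = c • x}
        one_mem' := ⟨1, fun x => by simp⟩
        mul_mem' := by
          rintro a b ⟨c, hc⟩ ⟨c', hc'⟩
          exact ⟨c' * c, fun x => by rw [map_mul, Module.End.mul_apply, hc', map_smul, hc, smul_smul, mul_comm]⟩
        inv_mem' := by
          rintro a ⟨c, hc⟩
          refine ⟨c⁻¹, fun x => ?_⟩
          by_cases hx : x = 0
          · simp [hx]
          have h0 : c ≠ 0 := fun e => hx (by rw [← inv_apply_apply ρ a x, hc, e, zero_smul, map_zero])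
          have h1 := apply_inv_apply ρ a x
          rw [hc] at h1
          rw [eq_inv_smul_iff₀ h0, h1] }
    haveI hZn : Z.Normal := ⟨fun a ⟨c, hc⟩ h => ⟨c, fun x => by
      rw [map_mul, map_mul, Module.End.mul_apply, Module.End.mul_apply, hc, map_smul, apply_inv_apply]⟩⟩
    have hZtop : Z ≠ ⊤ := fun e => hcomm fun a b => by
      obtain ⟨c, hc⟩ : a ∈ Z := e ▸ Subgroup.mem_top a
      refine LinearMap.ext fun x => ?_
      rw [Module.End.mul_apply, Module.End.mul_apply, hc, hc, map_smul]
    haveI : Nontrivial (P ⧸ Z) := QuotientGroup.nontrivial_iff.2 hZtop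
    haveI := (hP.to_quotient Z).center_nontrivial
    obtain ⟨⟨q, hq⟩, hq1⟩ := exists_ne (1 : Subgroup.center (P ⧸ Z))
    obtain ⟨a, rfl⟩ := QuotientGroup.mk_surjective q
    have haZ : a ∉ Z := fun h => hq1 (Subtype.ext ((QuotientGroup.eq_one_iff a).2 h))
    haveI : Nontrivial V := by
      by_contra hV
      rw [not_nontrivial_iff_subsingleton] at hV
      exact haZ ⟨1, fun x => Subsingleton.elim _ _⟩
    have hlam : ∀ h : P, ∃ c : K, ∀ x, ρ h (ρ a x) = c • ρ a (ρ h x) := by
      intro h
      have hz : h * a * h⁻¹ * a⁻¹ ∈ Z := by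
        rw [← QuotientGroup.eq_one_iff, QuotientGroup.mk_mul, QuotientGroup.mk_mul, QuotientGroup.mk_mul,
          QuotientGroup.mk_inv, QuotientGroup.mk_inv, Subgroup.mem_center_iff.1 hq, mul_inv_cancel_right,
          mul_inv_cancel]
      obtain ⟨c, hc⟩ := hz
      refine ⟨c, fun x => ?_⟩
      rw [← hc, ← Module.End.mul_apply, ← map_mul, ← Module.End.mul_apply, ← Module.End.mul_apply,
        ← map_mul, ← map_mul]
      congr 2
      group
    choose lam hlam using hlam
    have hlam0 : ∀ h, lam h ≠ 0 := fun h e => by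
      obtain ⟨x, hx⟩ := exists_ne (0 : V)
      have h1 := hlam h x
      rw [e, zero_smul] at h1
      have h2 := congrArg (ρ h⁻¹) h1
      rw [inv_apply_apply, map_zero] at h2
      have h3 := congrArg (ρ a⁻¹) h2
      rw [inv_apply_apply, map_zero] at h3
      exact hx h3
    obtain ⟨μ, hμ⟩ := Module.End.exists_eigenvalue (ρ a)
    set E := Module.End.eigenspace (ρ a) μ with hE
    have hμ0 : μ ≠ 0 := by
      rintro rfl
      obtain ⟨x, hx, hx0⟩ := hμ.exists_hasEigenvector
      rw [Module.End.mem_eigenspace_iff, zero_smul] at hx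
      exact hx0 (by rw [← inv_apply_apply ρ a x, hx, map_zero])
    -- translates of the eigenspace
    have htrans : ∀ h, ∀ x ∈ E, lam h • ρ a (ρ h x) = μ • ρ h x := fun h x hx => by
      rw [hE, Module.End.mem_eigenspace_iff] at hx
      rw [← hlam, hx, map_smul]
    let M : Subgroup P :=
      { carrier := {h | lam h = 1}
        one_mem' := by
          obtain ⟨x, hx⟩ := exists_ne (0 : V)
          have h1 := hlam 1 x
          rw [map_one, Module.End.one_apply, Module.End.one_apply] at h1
          have hax : ρ a x ≠ 0 := fun e => hx (by rw [← inv_apply_apply ρ a x, e, map_zero])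
          exact smul_left_injective K hax (show lam 1 • ρ a x = (1 : K) • ρ a x by rw [← h1, one_smul])
        mul_mem' := by
          intro b c hb hc
          obtain ⟨x, hx⟩ := exists_ne (0 : V)
          have hax : ρ (b * c) (ρ a x) ≠ 0 := fun e => hx (by
            rw [← inv_apply_apply ρ a x, ← inv_apply_apply ρ (b * c) (ρ a x), e, map_zero, map_zero])
          have h1 := hlam (b * c) x
          have h2 : ρ (b * c) (ρ a x) = ρ a (ρ (b * c) x) := by
            rw [map_mul, Module.End.mul_apply, Module.End.mul_apply, hlam c, hc, one_smul, hlam b, hb, one_smul]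
          rw [h2] at h1 hax
          exact smul_left_injective K hax (show lam (b * c) • _ = (1 : K) • _ by rw [← h1, one_smul])
        inv_mem' := by
          intro b hb
          obtain ⟨x, hx⟩ := exists_ne (0 : V)
          have h2 : ρ b⁻¹ (ρ a x) = ρ a (ρ b⁻¹ x) := by
            have h0 := hlam b (ρ b⁻¹ x)
            rw [hb, one_smul, apply_inv_apply] at h0
            rw [← h0, inv_apply_apply]
          have h1 := hlam b⁻¹ x
          have hax : ρ b⁻¹ (ρ a x) ≠ 0 := fun e => hx (by
            rw [← inv_apply_apply ρ a x, ← apply_inv_apply ρ b (ρ a x), e, map_zero, map_zero])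
          rw [h2] at h1 hax
          exact smul_left_injective K hax (show lam b⁻¹ • _ = (1 : K) • _ by rw [← h1, one_smul]) }
    have hcommM : commutator P ≤ M := by
      rw [commutator_def, Subgroup.commutator_le]
      intro b _ c _
      show lam ⁅b, c⁆ = 1
      obtain ⟨x, hx⟩ := exists_ne (0 : V)
      have hmul : ∀ s t : P, lam (s * t) = lam s * lam t := by
        intro s t
        have h1 := hlam (s * t) x
        have h2 : ρ (s * t) (ρ a x) = (lam t * lam s) • ρ a (ρ (s * t) x) := by
          rw [map_mul, Module.End.mul_apply, Module.End.mul_apply, hlam t, map_smul, hlam s, smul_smul]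
        have hax : ρ a (ρ (s * t) x) ≠ 0 := fun e => hx (by
          rw [← inv_apply_apply ρ (s * t) x, ← inv_apply_apply ρ a (ρ (s * t) x), e, map_zero, map_zero])
        rw [mul_comm (lam s)]
        exact smul_left_injective K hax (h1.symm.trans h2)
      have h11 : lam 1 = 1 := M.one_mem
      have e1 : lam b * lam b⁻¹ = 1 := by rw [← hmul, mul_inv_cancel, h11]
      have e2 : lam c * lam c⁻¹ = 1 := by rw [← hmul, mul_inv_cancel, h11]
      rw [commutatorElement_def, hmul, hmul, hmul]
      linear_combination (lam c * lam c⁻¹) * e1 + e2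
    have hEM : ∀ h ∈ M, ∀ x ∈ E, ρ h x ∈ E := fun h hh x hx => by
      have h1 := htrans h x hx
      rw [show lam h = 1 from hh, one_smul] at h1
      rw [hE, Module.End.mem_eigenspace_iff]; exact h1
    have hEne : E ≠ ⊥ := fun e => hμ e
    have hEtop : E ≠ ⊤ := fun e => haZ ⟨μ, fun x =>
      Module.End.mem_eigenspace_iff.1 (show x ∈ E by rw [e]; exact Submodule.mem_top)⟩
    obtain ⟨b, hb⟩ : ∃ b, b ∉ M := by
      by_contra hne
      push Not at hne
      exact hred ⟨E, fun h x hx => hEM h (hne h) x hx, hEne, hEtop⟩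
    -- the dimension halves
    set E' := E.map ((equiv ρ b).toLinearMap) with hE'
    have hinter : E ⊓ E' = ⊥ := by
      rw [eq_bot_iff]
      rintro x ⟨hx, y, hy, rfl⟩
      have h1 := htrans b y hy
      rw [hE] at hx
      have h2 : ρ a (ρ b y) = μ • ρ b y := Module.End.mem_eigenspace_iff.1 hx
      rw [h2, smul_smul] at h1
      by_contra h0
      have h3 : ρ b y ≠ 0 := fun e => h0 (by rw [Submodule.mem_bot]; exact e)
      have h4 : lam b * μ = μ := smul_left_injective K h3 h1
      exact hb (show lam b = 1 from mul_right_cancel₀ hμ0 (h4.trans (one_mul μ).symm))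
    have hdim : 2 * Module.finrank K E ≤ d := by
      have h1 := Submodule.finrank_sup_add_finrank_inf_eq E E'
      rw [hinter, finrank_bot, add_zero, hE', LinearEquiv.finrank_map_eq] at h1
      have h2 := Submodule.finrank_le (E ⊔ E')
      rw [hE'] at h2
      omega
    have hEpos : 0 < Module.finrank K E := by
      rw [Nat.pos_iff_ne_zero]; exact fun h => hEne (Submodule.finrank_eq_zero.1 h)
    have hd2 : d / 2 < d := Nat.div_lt_self (by omega) (by norm_num)
    have hlog : Nat.log 2 d = Nat.log 2 (d / 2) + 1 := Nat.log_of_one_lt_of_le (by norm_num) (by omega)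
    -- the derived subgroup fixes every translate
    have hfixE : ∀ h ∈ derivedSeries P (Nat.log 2 d + 1), ∀ x ∈ E, ρ h x = x := by
      intro h hh x hx
      obtain ⟨k, hk, rfl⟩ := S4014.succ_le_map hcommM (Nat.log 2 d) hh
      rw [hlog] at hk
      have h1 := ih (d / 2) hd2 (hP.to_subgroup M)
        (restrictRep (ρ.comp M.subtype) E (fun s y hy => hEM s s.2 y hy)) (by omega) k hk
      exact congrArg Subtype.val (LinearMap.congr_fun h1 (⟨x, hx⟩ : E))
    let W : Submodule K V :=
      { carrier := {x | ∀ h ∈ derivedSeries P (Nat.log 2 d + 1), ρ h x = x}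
        zero_mem' := fun h _ => map_zero _
        add_mem' := fun hx hy h hh => by rw [map_add, hx h hh, hy h hh]
        smul_mem' := fun c x hx h hh => by rw [map_smul, hx h hh] }
    have hWinv : ∀ s, ∀ x ∈ W, ρ s x ∈ W := by
      intro s x hx h hh
      have h1 := hx _ ((derivedSeries_normal P _).conj_mem h hh s⁻¹)
      rw [inv_inv, map_mul, map_mul, Module.End.mul_apply, Module.End.mul_apply] at h1
      have h2 := congrArg (ρ s) h1
      rwa [apply_inv_apply] at h2
    have hWtop : W = ⊤ := by
      by_contra hne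
      refine hred ⟨W, hWinv, fun e => hEne (eq_bot_iff.2 fun x hx => ?_), hne⟩
      rw [← e]; exact fun h hh => hfixE h hh x hx
    exact LinearMap.ext fun x => (show x ∈ W by rw [hWtop]; exact Submodule.mem_top) g hg

section EqualChar

variable (ρ : P →* Module.End K V)

/-- The filtration by iterated fixed points. -/
def fixFilt : ℕ → Submodule K V
  | 0 => ⊥
  | i + 1 =>
    { carrier := {x | ∀ g, ρ g x - x ∈ fixFilt i}
      zero_mem' := fun g => by simp
      add_mem' := fun {x y} hx hy g => by
        rw [map_add, show ρ g x + ρ g y - (x + y) = (ρ g x - x) + (ρ g y - y) by abel]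
        exact add_mem (hx g) (hy g)
      smul_mem' := fun c x hx g => by
        rw [map_smul, ← smul_sub]; exact Submodule.smul_mem _ _ (hx g) }

lemma fixFilt_le_succ : ∀ i, fixFilt ρ i ≤ fixFilt ρ (i + 1)
  | 0 => bot_le
  | i + 1 => fun _ hx g => fixFilt_le_succ i (hx g)

lemma fixFilt_mono : Monotone (fixFilt ρ) := monotone_nat_of_le_succ (fixFilt_le_succ ρ)

lemma fixFilt_inv {i : ℕ} {g : P} {x : V} (hx : x ∈ fixFilt ρ i) : ρ g x ∈ fixFilt ρ i := by
  cases i with
  | zero => rw [fixFilt, Submodule.mem_bot] at hx; simp [hx, fixFilt]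
  | succ i =>
    have : ρ g x = (ρ g x - x) + x := by abel
    rw [this]
    exact add_mem (fixFilt_le_succ ρ i (hx g)) hx

lemma exists_fixed [Finite P] {p : ℕ} [hp : Fact p.Prime] [CharP K p] (hP : IsPGroup p P)
    (hV : Nontrivial V) : ∃ x : V, x ≠ 0 ∧ ∀ g, ρ g x = x := by
  classical
  obtain ⟨y, hy⟩ := exists_ne (0 : V)
  set T := AddSubgroup.closure (Set.range fun g => ρ g y) with hT
  haveI : AddGroup.FG T := (AddGroup.fg_iff_addSubgroup_fg T).2 ⟨(Set.finite_range (fun g => ρ g y)).toFinset, by rw [Set.Finite.coe_toFinset, hT]⟩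
  have hpV : ∀ x : V, p • x = 0 := fun x => by
    rw [← Nat.cast_smul_eq_nsmul K, CharP.cast_eq_zero, zero_smul]
  haveI : Finite T := by
    refine AddCommGroup.finite_of_fg_torsion T ?_
    intro x
    exact isOfFinAddOrder_iff_nsmul_eq_zero.2 ⟨p, hp.out.pos, Subtype.ext (hpV x)⟩
  have hTinv : ∀ g, ∀ x ∈ T, ρ g x ∈ T := by
    intro g x hx
    induction hx using AddSubgroup.closure_induction with
    | mem z hz =>
      obtain ⟨h, rfl⟩ := hz
      exact AddSubgroup.subset_closure ⟨g * h, by simp⟩
    | zero => rw [map_zero]; exact zero_mem _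
    | add a b _ _ h1 h2 => rw [map_add]; exact add_mem h1 h2
    | neg a _ h1 => rw [map_neg]; exact neg_mem h1
  letI : MulAction P T :=
    { smul := fun g x => ⟨ρ g x, hTinv g x x.2⟩
      one_smul := fun x => Subtype.ext (show ρ 1 (x : V) = x by rw [map_one, Module.End.one_apply])
      mul_smul := fun g h x => Subtype.ext (show ρ (g * h) (x : V) = ρ g (ρ h x) by
        rw [map_mul, Module.End.mul_apply]) }
  have hyT : y ∈ T := AddSubgroup.subset_closure ⟨1, by simp⟩
  have hpT : p ∣ Nat.card T := by
    have : addOrderOf (⟨y, hyT⟩ : T) = p :=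
      addOrderOf_eq_prime (Subtype.ext (hpV y)) fun e => hy (congrArg Subtype.val e)
    rw [← this]; exact addOrderOf_dvd_natCard _
  obtain ⟨x, hx, hx0⟩ := IsPGroup.exists_fixed_point_of_prime_dvd_card_of_fixed_point hP (α := T) hpT
    (a := 0) (fun g => Subtype.ext (map_zero (ρ g)))
  exact ⟨x, fun e => hx0 (Subtype.ext e.symm), fun g => congrArg Subtype.val (hx g)⟩

lemma fixFilt_top [Finite P] [FiniteDimensional K V] {p : ℕ} [Fact p.Prime] [CharP K p]
    (hP : IsPGroup p P) : fixFilt ρ (Module.finrank K V) = ⊤ := by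
  have key : ∀ i, i ≤ Module.finrank K (fixFilt ρ i) ∨ fixFilt ρ i = ⊤ := by
    intro i
    induction i with
    | zero => exact Or.inl (Nat.zero_le _)
    | succ i ih =>
      by_cases htop : fixFilt ρ i = ⊤
      · exact Or.inr (top_le_iff.1 (htop ▸ fixFilt_le_succ ρ i))
      refine Or.inl ?_
      have hinv : ∀ g, ∀ x ∈ fixFilt ρ i, ρ g x ∈ fixFilt ρ i := fun g x hx => fixFilt_inv ρ hx
      obtain ⟨q, hq, hfix⟩ := exists_fixed (quotRep ρ _ hinv) hP (Submodule.Quotient.nontrivial_iff.2 htop)
      obtain ⟨x, rfl⟩ := Submodule.Quotient.mk_surjective _ q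
      have hlt : fixFilt ρ i < fixFilt ρ (i + 1) :=
        lt_of_le_of_ne (fixFilt_le_succ ρ i) fun e => hq (by
          rw [Submodule.Quotient.mk_eq_zero, e]
          exact fun g => (Submodule.Quotient.eq _).1 (hfix g))
      have h2 := Submodule.finrank_lt_finrank_of_lt hlt
      rcases ih with h1 | h1
      · omega
      · exact absurd h1 htop
  rcases key (Module.finrank K V) with h | h
  · exact Submodule.eq_top_of_finrank_eq (le_antisymm (Submodule.finrank_le _) h)
  · exact h

lemma derived_shift : ∀ (k : ℕ), ∀ g ∈ derivedSeries P k, ∀ i, ∀ x ∈ fixFilt ρ i,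
    ρ g x - x ∈ fixFilt ρ (i - 2 ^ k) := by
  intro k
  induction k with
  | zero =>
    intro g _ i x hx
    cases i with
    | zero => rw [fixFilt, Submodule.mem_bot] at hx; simp [hx]
    | succ i => simpa using hx g
  | succ k ih =>
    intro g hg
    let S : Subgroup P :=
      { carrier := {g | ∀ i, ∀ x ∈ fixFilt ρ i, ρ g x - x ∈ fixFilt ρ (i - 2 ^ (k + 1))}
        one_mem' := fun i x _ => by simp
        mul_mem' := fun {a b} ha hb i x hx => by
          rw [map_mul, Module.End.mul_apply,
            show ρ a (ρ b x) - x = ρ a (ρ b x - x) + (ρ a x - x) by rw [map_sub]; abel]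
          exact add_mem (fixFilt_inv ρ (hb i x hx)) (ha i x hx)
        inv_mem' := fun {a} ha i x hx => by
          rw [show ρ a⁻¹ x - x = - ρ a⁻¹ (ρ a x - x) by rw [map_sub, inv_apply_apply]; abel]
          exact neg_mem (fixFilt_inv ρ (ha i x hx)) }
    suffices h : derivedSeries P (k + 1) ≤ S from h hg
    rw [derivedSeries_succ, Subgroup.commutator_le]
    intro a ha b hb i x hx
    set y := ρ a⁻¹ (ρ b⁻¹ x) with hy
    have hyi : y ∈ fixFilt ρ i := fixFilt_inv ρ (fixFilt_inv ρ hx)
    have e1 : ρ ⁅a, b⁆ x = ρ a (ρ b y) := by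
      rw [commutatorElement_def, map_mul, map_mul, map_mul]; rfl
    have e2 : x = ρ b (ρ a y) := by rw [hy, apply_inv_apply, apply_inv_apply]
    have h1 := ih a ha _ _ (ih b hb i y hyi)
    have h2 := ih b hb _ _ (ih a ha i y hyi)
    rw [e1, show ρ a (ρ b y) - x = ρ a (ρ b y) - ρ b (ρ a y) by rw [← e2], show ρ a (ρ b y) - ρ b (ρ a y) =
      (ρ a (ρ b y - y) - (ρ b y - y)) - (ρ b (ρ a y - y) - (ρ a y - y)) by
      rw [map_sub, map_sub]; abel]
    have e3 : i - 2 ^ k - 2 ^ k = i - 2 ^ (k + 1) := by rw [pow_succ]; omega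
    rw [e3] at h1 h2
    exact sub_mem h1 h2

end EqualChar

/-- The derived length of a finite linear `p`-group. -/
theorem derived_bot (p : ℕ) [hp : Fact p.Prime] [Finite P] (hP : IsPGroup p P) {F : Type v} [Field F]
    (n : ℕ) (φ : P →* Matrix.GeneralLinearGroup (Fin n) F) (hφ : Function.Injective φ) :
    derivedSeries P (Nat.log 2 n + 1) = ⊥ := by
  let K := AlgebraicClosure F
  let ρ : P →* Module.End K (Fin n → K) :=
    ((Matrix.toLinAlgEquiv' (R := K) (n := Fin n)).toAlgHom.toRingHom.toMonoidHom.comp
      ((algebraMap F K).mapMatrix.toMonoidHom.comp (Units.coeHom (Matrix (Fin n) (Fin n) F)))).comp φ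
  have hρ : ∀ g, ρ g = 1 → g = 1 := by
    intro g hg
    refine hφ ?_
    rw [map_one]
    refine Units.ext ?_
    refine Matrix.map_injective (algebraMap F K).injective ?_
    refine (Matrix.toLinAlgEquiv' (R := K) (n := Fin n)).injective ?_
    refine Eq.trans hg ?_
    simp only [Units.val_one]
    rw [Matrix.map_one _ (map_zero _) (map_one _), map_one]
  have hd : Module.finrank K (Fin n → K) ≤ n := by rw [Module.finrank_fin_fun]
  rw [eq_bot_iff]
  intro g hg
  refine Subgroup.mem_bot.2 (hρ g ?_)
  by_cases hpK : (p : K) = 0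
  · haveI : CharP K p := (CharP.charP_iff_prime_eq_zero hp.out).2 hpK
    refine LinearMap.ext fun x => ?_
    have hx : x ∈ fixFilt ρ n := by
      have h1 := fixFilt_top ρ hP
      rw [Module.finrank_fin_fun] at h1
      rw [h1]; exact Submodule.mem_top
    have h2 := derived_shift ρ (Nat.log 2 n + 1) g hg n x hx
    have h3 : n - 2 ^ (Nat.log 2 n + 1) = 0 :=
      Nat.sub_eq_zero_of_le (Nat.lt_pow_succ_log_self (by norm_num) n).le
    rw [h3, fixFilt, Submodule.mem_bot, sub_eq_zero] at h2
    exact h2
  · exact coprime_char p hpK n hP ρ hd g hg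

end Cfsg.Agent.LinearPGroup
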