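import Mathlib
import Cfsg.Agent.Lib.Transfer.Abelian
import Cfsg.Agent.Lib.Transfer.Basic
import Cfsg.Prelude.Def_OddOrderLocal

/-!
Counting the conjugacy classes of `p`-elements and of `π`-elements, and the normal complements
forced by there being many of them.
-/

set_option autoImplicit false
set_option linter.style.haveILetI false
set_option linter.unusedSectionVars false

namespace Cfsg.Agent.ManyClasses

universe u

open scoped commutatorElement Pointwise
open Cfsg.Agent.PBasic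

/-- The number of classes of `p`-elements. -/
noncomputable def kp (p : ℕ) (G : Type u) [Group G] : ℕ :=
  Nat.card {c : ConjClasses G // ∀ x ∈ c.carrier, ∃ k : ℕ, orderOf x = p ^ k}

/-- The number of classes of `σ`-elements. -/
noncomputable def kpi (σ : Finset ℕ) (G : Type u) [Group G] : ℕ :=
  Nat.card {c : ConjClasses G // ∀ x ∈ c.carrier, ∀ r : ℕ, r.Prime → r ∣ orderOf x → r ∈ σ}

/-- The `σ`-part of a number. -/
noncomputable def part (σ : Finset ℕ) (n : ℕ) : ℕ := σ.prod fun r => r ^ n.factorization r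

variable {G : Type u} [Group G]

lemma orderOf_eq_of_mk_eq {x y : G} (h : ConjClasses.mk x = ConjClasses.mk y) : orderOf x = orderOf y := by
  obtain ⟨c, hc⟩ := isConj_iff.1 (ConjClasses.mk_eq_mk_iff_isConj.1 h)
  rw [← hc]
  exact (orderOf_injective (MulAut.conj c).toMonoidHom (MulAut.conj c).injective x).symm

lemma forall_mk_carrier {q : ℕ → Prop} {x : G} :
    (∀ z ∈ (ConjClasses.mk x).carrier, q (orderOf z)) ↔ q (orderOf x) := by
  refine ⟨fun h => h x ConjClasses.mem_carrier_mk, fun h z hz => ?_⟩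
  rwa [orderOf_eq_of_mk_eq (ConjClasses.mem_carrier_iff_mk_eq.1 hz)]

lemma mk_conj (g x : G) : ConjClasses.mk (g * x * g⁻¹) = ConjClasses.mk x :=
  (ConjClasses.mk_eq_mk_iff_isConj.2 (isConj_iff.2 ⟨g, rfl⟩)).symm

/-! ### weights on fibres -/

lemma weight_le {α β : Type*} [Fintype α] [Fintype β] [DecidableEq β] (f : α → β) (wt : α → ℕ) (c : ℕ)
    (h : ∀ b, c ≤ ∑ a ∈ Finset.univ.filter (fun a => f a = b), wt a) :
    c * Fintype.card β ≤ ∑ a, wt a := by
  rw [← Finset.sum_fiberwise Finset.univ f wt]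
  calc c * Fintype.card β = ∑ _b : β, c := by simp [mul_comm]
    _ ≤ _ := Finset.sum_le_sum fun b _ => h b

lemma fibre_bound {α β : Type*} [Finite α] (f : α → β) (hf : Function.Surjective f) (S : Set α) (m : ℕ)
    (hm : 1 ≤ m) (h : ∀ a ∉ S, m ≤ Nat.card {b : α // f b = f a}) :
    m * Nat.card β ≤ Nat.card α + (m - 1) * Nat.card S := by
  classical
  haveI := Fintype.ofFinite α
  haveI : Finite β := Finite.of_surjective f hf
  haveI := Fintype.ofFinite β
  have key := weight_le f (fun a => 1 + if a ∈ S then m - 1 else 0) m fun b => by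
    by_cases hS : ∃ a ∈ S, f a = b
    · obtain ⟨a, ha, hab⟩ := hS
      refine le_trans ?_ (Finset.single_le_sum (f := fun a => 1 + if a ∈ S then m - 1 else 0)
        (fun _ _ => Nat.zero_le _) (Finset.mem_filter.2 ⟨Finset.mem_univ a, hab⟩))
      simp [ha]; omega
    · obtain ⟨a, hab⟩ := hf b
      have := h a fun ha => hS ⟨a, ha, hab⟩
      rw [Nat.card_eq_fintype_card, Fintype.card_subtype, hab] at this
      refine le_trans this ?_
      rw [Finset.card_eq_sum_ones]
      exact Finset.sum_le_sum fun _ _ => Nat.le_add_right _ _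
  rw [Finset.sum_add_distrib, ← Finset.sum_filter, Finset.sum_const, Finset.sum_const,
    Finset.card_univ, smul_eq_mul, mul_one, smul_eq_mul, ← Fintype.card_subtype,
    ← Nat.card_eq_fintype_card, ← Nat.card_eq_fintype_card, ← Nat.card_eq_fintype_card] at key
  rw [mul_comm (m - 1)]
  exact key

/-! ### `p`-elements and a Sylow subgroup -/

variable [Finite G] {p : ℕ} [hp : Fact p.Prime]

lemma exists_conj_mem_sylow (P : Sylow p G) {x : G} (hx : ∃ k, orderOf x = p ^ k) :
    ∃ g : G, g * x * g⁻¹ ∈ (P : Subgroup G) := by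
  obtain ⟨k, hk⟩ := hx
  obtain ⟨Q, hQ⟩ := (IsPGroup.of_card (p := p) (n := k)
    (show Nat.card (Subgroup.zpowers x) = p ^ k by rw [Nat.card_zpowers, hk])).exists_le_sylow
  obtain ⟨g, hg⟩ := MulAction.exists_smul_eq G Q P
  refine ⟨g, ?_⟩
  rw [← hg, Sylow.coe_subgroup_smul]
  exact Subgroup.smul_mem_pointwise_smul x (MulAut.conj g) _ (hQ (Subgroup.mem_zpowers x))

lemma sylow_orderOf (P : Sylow p G) (x : ↥(P : Subgroup G)) : ∃ k, orderOf (x : G) = p ^ k := by
  obtain ⟨k, hk⟩ := IsPGroup.iff_orderOf.1 P.isPGroup' x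
  exact ⟨k, by rw [Subgroup.orderOf_coe]; exact hk⟩

/-- The class of an element of a Sylow subgroup. -/
def cls (P : Sylow p G) (x : ↥(P : Subgroup G)) :
    {c : ConjClasses G // ∀ x ∈ c.carrier, ∃ k : ℕ, orderOf x = p ^ k} :=
  ⟨ConjClasses.mk (x : G),
    (forall_mk_carrier (q := fun n => ∃ k : ℕ, n = p ^ k)).2 (sylow_orderOf P x)⟩

lemma cls_surjective (P : Sylow p G) : Function.Surjective (cls P) := by
  rintro ⟨c, hc⟩
  obtain ⟨x, rfl⟩ := ConjClasses.exists_rep c
  obtain ⟨g, hg⟩ := exists_conj_mem_sylow P (hc x ConjClasses.mem_carrier_mk)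
  exact ⟨⟨_, hg⟩, Subtype.ext (mk_conj g x)⟩

lemma kp_le_card (P : Sylow p G) : kp p G ≤ Nat.card ↥(P : Subgroup G) :=
  Nat.card_le_card_of_surjective _ (cls_surjective P)

lemma kp_le_classes (P : Sylow p G) : kp p G ≤ Nat.card (ConjClasses ↥(P : Subgroup G)) := by
  refine Nat.card_le_card_of_surjective
    (fun d : ConjClasses ↥(P : Subgroup G) => (⟨ConjClasses.map (P : Subgroup G).subtype d, ?_⟩ :
      {c : ConjClasses G // ∀ x ∈ c.carrier, ∃ k : ℕ, orderOf x = p ^ k})) ?_
  · obtain ⟨x, rfl⟩ := ConjClasses.exists_rep d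
    exact (cls P x).2
  · intro c
    obtain ⟨x, rfl⟩ := cls_surjective P c
    exact ⟨ConjClasses.mk x, rfl⟩

lemma kp_eq_classes (P : Sylow p G) (h : Cfsg.HasNormalPComplement p G) :
    kp p G = Nat.card (ConjClasses ↥(P : Subgroup G)) := by
  refine le_antisymm (kp_le_classes P) (Nat.card_le_card_of_injective
    (fun d : ConjClasses ↥(P : Subgroup G) => (⟨ConjClasses.map (P : Subgroup G).subtype d, ?_⟩ :
      {c : ConjClasses G // ∀ x ∈ c.carrier, ∃ k : ℕ, orderOf x = p ^ k})) ?_)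
  · obtain ⟨x, rfl⟩ := ConjClasses.exists_rep d
    exact (cls P x).2
  · intro d e hde
    obtain ⟨x, rfl⟩ := ConjClasses.exists_rep d
    obtain ⟨y, rfl⟩ := ConjClasses.exists_rep e
    have h1 : ConjClasses.mk (x : G) = ConjClasses.mk (y : G) := congrArg Subtype.val hde
    obtain ⟨g, hg⟩ := isConj_iff.1 (ConjClasses.mk_eq_mk_iff_isConj.1 h1)
    have hinf := (hasNormalPComplement_iff_inf P).1 h
    set f := QuotientGroup.mk' (Cfsg.pResidual p G) with hf
    have hinj : ∀ a b : ↥(P : Subgroup G), f (a : G) = f (b : G) → a = b := by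
      intro a b hab
      have h2 : (a : G)⁻¹ * (b : G) ∈ Cfsg.pResidual p G ⊓ (P : Subgroup G) :=
        ⟨(QuotientGroup.eq).1 hab, (P : Subgroup G).mul_mem ((P : Subgroup G).inv_mem a.2) b.2⟩
      rw [hinf, Subgroup.mem_bot, inv_mul_eq_one] at h2
      exact Subtype.ext h2
    obtain ⟨s, hs⟩ := map_sylow_surjective P h (f g)
    refine ConjClasses.mk_eq_mk_iff_isConj.2 (isConj_iff.2 ⟨s, hinj _ _ ?_⟩)
    rw [← hg]
    show f ((s : G) * (x : G) * (s : G)⁻¹) = f (g * (x : G) * g⁻¹)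
    simp only [map_mul, map_inv]
    rw [show f (s : G) = f g from hs]
where
  map_sylow_surjective {G : Type u} [Group G] [Finite G] {p : ℕ} [Fact p.Prime] (P : Sylow p G)
      (_h : Cfsg.HasNormalPComplement p G) :
      ∀ q : G ⧸ Cfsg.pResidual p G, ∃ s : ↥(P : Subgroup G), (QuotientGroup.mk' _) (s : G) = q := by
    intro q
    have hI : IsPGroup p (G ⧸ Cfsg.pResidual p G) := quotient_pResidual_isPGroup p G
    have hd : ((P : Subgroup G).map (QuotientGroup.mk' (Cfsg.pResidual p G))).index ∣ (P : Subgroup G).index :=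
      Subgroup.index_map_dvd _ (QuotientGroup.mk'_surjective _)
    obtain ⟨j, hj⟩ := hI.index ((P : Subgroup G).map (QuotientGroup.mk' (Cfsg.pResidual p G)))
    rw [hj] at hd
    have hj0 : j = 0 := by
      by_contra hj0
      exact P.not_dvd_index ((dvd_pow_self p hj0).trans hd)
    rw [hj0, pow_zero, Subgroup.index_eq_one] at hj
    obtain ⟨s, hs, hsq⟩ : q ∈ (P : Subgroup G).map (QuotientGroup.mk' (Cfsg.pResidual p G)) :=
      hj ▸ Subgroup.mem_top q
    exact ⟨⟨s, hs⟩, hsq⟩

lemma card_classes_of_comm {P : Type*} [Group P] (h : IsMulCommutative P) :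
    Nat.card (ConjClasses P) = Nat.card P := by
  refine (Nat.card_eq_of_bijective (ConjClasses.mk (α := P)) ⟨?_, ConjClasses.mk_surjective⟩).symm
  intro a b hab
  obtain ⟨c, hc⟩ := isConj_iff.1 (ConjClasses.mk_eq_mk_iff_isConj.1 hab)
  rw [← hc, h.is_comm.comm c a, mul_inv_cancel_right]

lemma kp_le_kp_subgroup (N : Subgroup G) (hN : ∀ x : G, (∃ k, orderOf x = p ^ k) → x ∈ N) :
    kp p G ≤ kp p ↥N := by
  refine Nat.card_le_card_of_surjective
    (fun d : {c : ConjClasses ↥N // ∀ x ∈ c.carrier, ∃ k : ℕ, orderOf x = p ^ k} =>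
      (⟨ConjClasses.map N.subtype d.1, ?_⟩ :
      {c : ConjClasses G // ∀ x ∈ c.carrier, ∃ k : ℕ, orderOf x = p ^ k})) ?_
  · obtain ⟨d, hd⟩ := d
    obtain ⟨x, rfl⟩ := ConjClasses.exists_rep d
    obtain ⟨k, hk⟩ := hd x ConjClasses.mem_carrier_mk
    show ∀ z ∈ (ConjClasses.mk (x : G)).carrier, _
    exact (forall_mk_carrier (x := (x : G)) (q := fun n => ∃ k : ℕ, n = p ^ k)).2
      ⟨k, by rw [Subgroup.orderOf_coe]; exact hk⟩
  · rintro ⟨c, hc⟩
    obtain ⟨x, rfl⟩ := ConjClasses.exists_rep c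
    obtain ⟨k, hk⟩ := hc x ConjClasses.mem_carrier_mk
    exact ⟨⟨ConjClasses.mk ⟨x, hN x ⟨k, hk⟩⟩,
      (forall_mk_carrier (q := fun n => ∃ k : ℕ, n = p ^ k)).2 ⟨k, by rw [Subgroup.orderOf_mk]; exact hk⟩⟩, rfl⟩

/-! ### bounds -/

lemma nonabelian_bound {P : Type*} [Group P] [Finite P] (hP : IsPGroup p P) (hna : ¬ IsMulCommutative P) :
    p ^ 3 * Nat.card (ConjClasses P) ≤ (p ^ 2 + p - 1) * Nat.card P := by
  have hz : p ^ 2 * Nat.card (Subgroup.center P) ≤ Nat.card P := by
    obtain ⟨j, hj⟩ := hP.index (Subgroup.center P)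
    have hj2 : 2 ≤ j := by
      by_contra hlt
      push Not at hlt
      interval_cases j
      · rw [pow_zero, Subgroup.index_eq_one] at hj
        exact hna ⟨⟨fun a b => ((Subgroup.mem_center_iff.1 (hj ▸ Subgroup.mem_top a : a ∈ Subgroup.center P)) b).symm⟩⟩
      · haveI : IsCyclic (P ⧸ Subgroup.center P) := isCyclic_of_prime_card (p := p)
          (by rw [← Subgroup.index_eq_card, hj, pow_one])
        exact hna ⟨⟨fun a b => commutative_of_cyclic_center_quotient (QuotientGroup.mk' (Subgroup.center P))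
          (by rw [QuotientGroup.ker_mk']) a b⟩⟩
    rw [← (Subgroup.center P).card_mul_index, hj, mul_comm]
    exact Nat.mul_le_mul_left _ (Nat.pow_le_pow_right hp.out.pos hj2)
  have hf := fibre_bound (ConjClasses.mk (α := P)) ConjClasses.mk_surjective
    ((Subgroup.center P : Subgroup P) : Set P) p hp.out.one_lt.le (fun a ha => by
    have h1 : {b : P | ConjClasses.mk b = ConjClasses.mk a} = MulAction.orbit (ConjAct P) a := by
      ext b
      rw [Set.mem_ofPred_eq, ConjAct.mem_orbit_conjAct, ConjClasses.mk_eq_mk_iff_isConj]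
    obtain ⟨n, hn⟩ := (hP.of_equiv ConjAct.toConjAct).card_orbit a
    have h2 : Nat.card {b : P // ConjClasses.mk b = ConjClasses.mk a} = p ^ n := by
      rw [← hn, ← h1]
      rfl
    rw [h2]
    refine Nat.le_self_pow ?_ p
    rintro rfl
    rw [pow_zero, Nat.card_eq_one_iff_unique] at hn
    refine ha (Subgroup.mem_center_iff.2 fun g => ?_)
    have := hn.1.elim ⟨_, MulAction.mem_orbit_self a⟩ ⟨ConjAct.toConjAct g • a, MulAction.mem_orbit a _⟩
    have h3 : a = g * a * g⁻¹ := congrArg Subtype.val this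
    exact (mul_inv_eq_iff_eq_mul.1 h3.symm))
  obtain ⟨q, hq⟩ : ∃ q, p = q + 1 := ⟨p - 1, (Nat.succ_pred_eq_of_pos hp.out.pos).symm⟩
  have h4 : p - 1 = q := by omega
  have h5 : p ^ 2 + p - 1 = p ^ 2 + q := by omega
  rw [h4] at hf
  rw [h5]
  calc p ^ 3 * Nat.card (ConjClasses P) = p ^ 2 * (p * Nat.card (ConjClasses P)) := by ring
    _ ≤ p ^ 2 * (Nat.card P + q * Nat.card (Subgroup.center P)) := Nat.mul_le_mul_left _ hf
    _ = p ^ 2 * Nat.card P + q * (p ^ 2 * Nat.card (Subgroup.center P)) := by ring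
    _ ≤ p ^ 2 * Nat.card P + q * Nat.card P := by gcongr
    _ = _ := by ring

/-- An element normalizing `Q` and not fixing `x` puts at least `m` elements of `P` in the class of `x`. -/
lemma orbit_fibre {P : Sylow p G} {Q : Subgroup G} (hQ : Q ≤ P) {w : G}
    (hw : w ∈ Subgroup.normalizer (Q : Set G)) {m : ℕ}
    (hm : ∀ t : ℕ, t ∣ orderOf w → t ≠ 1 → m ≤ t) {x : ↥(P : Subgroup G)} (hx : (x : G) ∈ Q)
    (hne : w * (x : G) * w⁻¹ ≠ (x : G)) :
    m ≤ Nat.card {b : ↥(P : Subgroup G) // cls P b = cls P x} := by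
  set f : G → G := fun y => w * y * w⁻¹ with hf
  have hit : ∀ (i : ℕ) (y : G), f^[i] y = w ^ i * y * (w ^ i)⁻¹ := by
    intro i
    induction i with
    | zero => simp
    | succ i ih => intro y; rw [Function.iterate_succ_apply', ih, hf, pow_succ']; group
  have hper : Function.IsPeriodicPt f (orderOf w) (x : G) := by
    show f^[orderOf w] (x : G) = x
    rw [hit, pow_orderOf_eq_one]
    simp
  set t := Function.minimalPeriod f (x : G) with ht
  have ht1 : t ≠ 1 := by
    rw [ht, Ne, Function.minimalPeriod_eq_one_iff_isFixedPt]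
    exact hne
  have hmem : ∀ i : ℕ, f^[i] (x : G) ∈ Q := fun i => by
    rw [hit]; exact (Subgroup.mem_normalizer_iff.1 ((Subgroup.normalizer (Q : Set G)).pow_mem hw i) _).1 hx
  refine (hm t hper.minimalPeriod_dvd ht1).trans ?_
  rw [← Nat.card_fin t]
  refine Nat.card_le_card_of_injective
    (fun i : Fin t => ⟨⟨f^[i] (x : G), hQ (hmem i)⟩, Subtype.ext ?_⟩) ?_
  · show ConjClasses.mk (f^[i] (x : G)) = ConjClasses.mk (x : G)
    rw [hit]
    exact mk_conj _ _
  · intro i j hij
    simp only [Subtype.mk.injEq] at hij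
    exact Fin.ext (Function.iterate_injOn_Iio_minimalPeriod (f := f) (x := (x : G)) i.2 j.2 hij)

/-- An automorphism of an abelian Sylow subgroup bounds the number of classes. -/
lemma abelian_bound (P : Sylow p G) {w : G} (hw : w ∈ Subgroup.normalizer ((P : Subgroup G) : Set G))
    (hwc : w ∉ Subgroup.centralizer ((P : Subgroup G) : Set G)) {m : ℕ} (hm1 : 1 ≤ m)
    (hm : ∀ t : ℕ, t ∣ orderOf w → t ≠ 1 → m ≤ t) :
    m * p * kp p G ≤ (p + (m - 1)) * Nat.card ↥(P : Subgroup G) := by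
  set F := (Subgroup.centralizer ({w} : Set G)).subgroupOf (P : Subgroup G) with hF
  have hfix : p * Nat.card F ≤ Nat.card ↥(P : Subgroup G) := by
    obtain ⟨j, hj⟩ := P.isPGroup'.index F
    rw [← F.card_mul_index, hj, mul_comm]
    refine Nat.mul_le_mul_left _ (Nat.le_self_pow ?_ p)
    rintro rfl
    rw [pow_zero, Subgroup.index_eq_one] at hj
    refine hwc (Subgroup.mem_centralizer_iff.2 fun x hx => ?_)
    have : (⟨x, hx⟩ : ↥(P : Subgroup G)) ∈ F := hj ▸ Subgroup.mem_top _
    rw [hF, Subgroup.mem_subgroupOf, Subgroup.mem_centralizer_singleton_iff] at this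
    exact this
  have hf := fibre_bound (cls P) (cls_surjective P) (F : Set ↥(P : Subgroup G)) m hm1 (fun a ha => by
    refine orbit_fibre le_rfl hw hm a.2 fun h => ha ?_
    rw [SetLike.mem_coe, hF, Subgroup.mem_subgroupOf, Subgroup.mem_centralizer_singleton_iff]
    exact (mul_inv_eq_iff_eq_mul.1 h).symm)
  calc m * p * kp p G = p * (m * kp p G) := by ring
    _ ≤ p * (Nat.card ↥(P : Subgroup G) + (m - 1) * Nat.card F) := Nat.mul_le_mul_left _ hf
    _ = p * Nat.card ↥(P : Subgroup G) + (m - 1) * (p * Nat.card F) := by ring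
    _ ≤ p * Nat.card ↥(P : Subgroup G) + (m - 1) * Nat.card ↥(P : Subgroup G) := by gcongr
    _ = _ := by ring

/-- Many classes of `p`-elements for odd `p`: abelian Sylow subgroup and normal `p`-complement. -/
theorem odd_forces (hp2 : p ≠ 2) (P : Sylow p G)
    (hk : (p + 1) * Nat.card ↥(P : Subgroup G) < 2 * p * kp p G) :
    Cfsg.HasNormalPComplement p G ∧ IsMulCommutative ↥(P : Subgroup G) := by
  have h3 : 3 ≤ p := by have := hp.out.two_le; omega
  have hab : IsMulCommutative ↥(P : Subgroup G) := by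
    by_contra hna
    have h1 := nonabelian_bound P.isPGroup' hna
    have h2 := kp_le_classes P
    obtain ⟨q, rfl⟩ : ∃ q, p = q + 1 := ⟨p - 1, by omega⟩
    have h4 : (q + 1) ^ 2 + (q + 1) - 1 = (q + 1) ^ 2 + q := by omega
    rw [h4] at h1
    nlinarith [Nat.mul_le_mul_left (2 * (q + 1) ^ 3) h2,
      Nat.mul_le_mul_right (Nat.card ↥(P : Subgroup G))
        (show 2 * ((q + 1) ^ 2 + q) ≤ (q + 1) ^ 2 * (q + 2) by nlinarith)]
  refine ⟨?_, hab⟩
  by_contra hn
  obtain ⟨w, hw, -, hwc⟩ : ∃ w ∈ Subgroup.normalizer ((P : Subgroup G) : Set G),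
      (orderOf w).Coprime p ∧ w ∉ Subgroup.centralizer ((P : Subgroup G) : Set G) := by
    by_contra hne
    push Not at hne
    exact hn (AbelianSylow.hasNormalPComplement_of_abelian P hab hne)
  have h1 := abelian_bound P hw hwc (m := 2) (by norm_num) (fun t ht ht1 => by
    have : 0 < t := Nat.pos_of_dvd_of_pos ht (orderOf_pos w)
    omega)
  simp only [show (2 : ℕ) - 1 = 1 from rfl] at h1
  omega

/-- More classes of `p`-elements than half a Sylow order in a group of odd order. -/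
theorem odd_group_forces (hG : Odd (Nat.card G)) (hp2 : p ≠ 2) (P : Sylow p G)
    (hk : Nat.card ↥(P : Subgroup G) < 2 * kp p G) :
    Cfsg.HasNormalPComplement p G ∧ IsMulCommutative ↥(P : Subgroup G) := by
  have h3 : 3 ≤ p := by have := hp.out.two_le; omega
  have hab : IsMulCommutative ↥(P : Subgroup G) := by
    by_contra hna
    have h1 := nonabelian_bound P.isPGroup' hna
    have h2 := kp_le_classes P
    obtain ⟨q, rfl⟩ : ∃ q, p = q + 1 := ⟨p - 1, by omega⟩
    have h4 : (q + 1) ^ 2 + (q + 1) - 1 = (q + 1) ^ 2 + q := by omega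
    rw [h4] at h1
    nlinarith [Nat.mul_le_mul_left (2 * (q + 1) ^ 3) h2,
      Nat.mul_lt_mul_of_pos_left hk (show 0 < (q + 1) ^ 3 by positivity),
      Nat.mul_le_mul_right (Nat.card ↥(P : Subgroup G))
        (show 2 * ((q + 1) ^ 2 + q) ≤ (q + 1) ^ 3 by nlinarith)]
  refine ⟨?_, hab⟩
  by_contra hn
  obtain ⟨w, hw, hcop, hwc⟩ : ∃ w ∈ Subgroup.normalizer ((P : Subgroup G) : Set G),
      (orderOf w).Coprime p ∧ w ∉ Subgroup.centralizer ((P : Subgroup G) : Set G) := by
    by_contra hne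
    push Not at hne
    exact hn (AbelianSylow.hasNormalPComplement_of_abelian P hab hne)
  have hodd : ∀ t, t ∣ orderOf w → Odd t := fun t ht =>
    Odd.of_dvd_nat hG (ht.trans (orderOf_dvd_natCard w))
  by_cases hp3 : p = 3
  · subst hp3
    have h1 := abelian_bound P hw hwc (m := 5) (by norm_num) (fun t ht ht1 => by
      have hne : ¬ 3 ∣ t := fun h => by
        have := Nat.eq_one_of_dvd_coprimes hcop (h.trans ht) dvd_rfl
        omega
      obtain ⟨a, rfl⟩ := hodd t ht
      by_contra hlt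
      have : a ≤ 1 := by omega
      interval_cases a <;> simp_all)
    simp only [show (5 : ℕ) - 1 = 4 from rfl] at h1
    omega
  · have h5 : 5 ≤ p := by
      have h4 : p ≠ 4 := by rintro rfl; exact absurd hp.out (by norm_num)
      omega
    have h1 := abelian_bound P hw hwc (m := 3) (by norm_num) (fun t ht ht1 => by
      obtain ⟨a, rfl⟩ := hodd t ht
      omega)
    simp only [show (3 : ℕ) - 1 = 2 from rfl] at h1
    nlinarith

/-! ### the product bound -/

omit hp in
lemma part_le_of_dvd {σ : Finset ℕ} (hσ : ∀ r ∈ σ, r.Prime) {a b : ℕ} (h : a ∣ b) (hb : b ≠ 0) :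
    part σ a ≤ part σ b :=
  Finset.prod_le_prod' fun r hr => Nat.pow_le_pow_right (hσ r hr).pos
    ((Nat.factorization_le_iff_dvd (ne_zero_of_dvd_ne_zero hb h) hb).2 h r)

omit hp in
lemma kpi_step {r : ℕ} [Fact r.Prime] {σ : Finset ℕ} :
    kpi (insert r σ) G ≤ Nat.card (Σ c : {c : ConjClasses G // ∀ x ∈ c.carrier, ∃ k : ℕ, orderOf x = r ^ k},
      {d : ConjClasses ↥(Subgroup.centralizer ({c.1.out} : Set G)) //
        ∀ x ∈ d.carrier, ∀ s : ℕ, s.Prime → s ∣ orderOf x → s ∈ σ}) := by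
  set Φ : (Σ c : {c : ConjClasses G // ∀ x ∈ c.carrier, ∃ k : ℕ, orderOf x = r ^ k},
      {d : ConjClasses ↥(Subgroup.centralizer ({c.1.out} : Set G)) //
        ∀ x ∈ d.carrier, ∀ s : ℕ, s.Prime → s ∣ orderOf x → s ∈ σ}) → ConjClasses G :=
    fun cd => ConjClasses.mk (cd.1.1.out * (cd.2.1.out : G)) with hΦ
  refine le_trans ?_ (Nat.card_le_card_of_surjective (Set.rangeFactorization Φ)
    Set.rangeFactorization_surjective)
  refine Nat.card_le_card_of_injective (fun c => (⟨c.1, ?_⟩ : Set.range Φ)) ?_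
  · obtain ⟨c, hc⟩ := c
    obtain ⟨z, rfl⟩ := ConjClasses.exists_rep c
    obtain ⟨u, v, huv, hu, hv, hk, hcop⟩ := exists_pPart_mul (p := r) z
    set cu : {c : ConjClasses G // ∀ x ∈ c.carrier, ∃ k : ℕ, orderOf x = r ^ k} :=
      ⟨ConjClasses.mk u, (forall_mk_carrier (q := fun n => ∃ k : ℕ, n = r ^ k)).2 hk⟩ with hcu
    set u₀ := cu.1.out with hu₀
    obtain ⟨g, hg⟩ := isConj_iff.1 (ConjClasses.mk_eq_mk_iff_isConj.1
      (show ConjClasses.mk u = ConjClasses.mk u₀ from (Quotient.out_eq cu.1).symm))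
    have hcomm : Commute u v := by
      obtain ⟨i, rfl⟩ := hu
      obtain ⟨j, rfl⟩ := hv
      exact (Commute.refl z).zpow_zpow i j
    have hv₀ : g * v * g⁻¹ ∈ Subgroup.centralizer ({u₀} : Set G) := by
      rw [Subgroup.mem_centralizer_singleton_iff, ← hg]
      have := hcomm.symm.map (MulAut.conj g).toMonoidHom
      exact this
    set v₀ : ↥(Subgroup.centralizer ({u₀} : Set G)) := ⟨g * v * g⁻¹, hv₀⟩ with hv₀d
    have hdv : ∀ x ∈ (ConjClasses.mk v₀).carrier, ∀ s : ℕ, s.Prime → s ∣ orderOf x → s ∈ σ := by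
      refine (forall_mk_carrier (q := fun n => ∀ s : ℕ, s.Prime → s ∣ n → s ∈ σ)).2 fun s hs hsd => ?_
      rw [hv₀d, Subgroup.orderOf_mk, show g * v * g⁻¹ = (MulAut.conj g).toMonoidHom v from rfl,
        orderOf_injective _ (MulAut.conj g).injective] at hsd
      have hz : s ∣ orderOf z := hsd.trans (orderOf_dvd_of_mem_zpowers hv)
      rcases Finset.mem_insert.1 (hc z ConjClasses.mem_carrier_mk s hs hz) with rfl | h
      · exact absurd (Nat.eq_one_of_dvd_coprimes hcop hsd dvd_rfl) hs.ne_one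
      · exact h
    refine ⟨⟨cu, ⟨ConjClasses.mk v₀, hdv⟩⟩, ?_⟩
    obtain ⟨e, he⟩ := isConj_iff.1 (ConjClasses.mk_eq_mk_iff_isConj.1
      (show ConjClasses.mk v₀ = ConjClasses.mk (ConjClasses.mk v₀).out from (Quotient.out_eq _).symm))
    show ConjClasses.mk (u₀ * ((ConjClasses.mk v₀).out : G)) = ConjClasses.mk z
    rw [← he]
    have hee : (e : G) * u₀ = u₀ * (e : G) := Subgroup.mem_centralizer_singleton_iff.1 e.2
    rw [show u₀ * ((e * v₀ * e⁻¹ : ↥(Subgroup.centralizer ({u₀} : Set G))) : G) =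
        (e : G) * (u₀ * (g * v * g⁻¹)) * (e : G)⁻¹ by
      push_cast
      rw [hv₀d, ← mul_assoc (e : G) u₀, hee]
      simp only [mul_assoc]]
    rw [mk_conj, ← hg, ← huv, show g * u * g⁻¹ * (g * v * g⁻¹) = g * (u * v) * g⁻¹ by group, mk_conj]
  · intro a b hab
    simp only [Subtype.mk.injEq] at hab
    exact Subtype.ext hab

omit hp in
lemma kpi_le_part : ∀ (σ : Finset ℕ), (∀ r ∈ σ, r.Prime) → ∀ (G : Type u) [Group G] [Finite G],
    kpi σ G ≤ part σ (Nat.card G) := by
  intro σ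
  induction σ using Finset.induction_on with
  | empty =>
    intro _ G _ _
    rw [part, Finset.prod_empty, kpi]
    refine Finite.card_le_one_iff_subsingleton.2 ⟨fun ⟨a, ha⟩ ⟨b, hb⟩ => Subtype.ext ?_⟩
    obtain ⟨x, rfl⟩ := ConjClasses.exists_rep a
    obtain ⟨y, rfl⟩ := ConjClasses.exists_rep b
    have h1 : ∀ z : G, (∀ r : ℕ, r.Prime → r ∣ orderOf z → r ∈ (∅ : Finset ℕ)) → z = 1 := by
      intro z hz
      by_contra hne
      obtain ⟨r, hr, hrd⟩ := Nat.exists_prime_and_dvd (mt orderOf_eq_one_iff.1 hne)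
      exact absurd (hz r hr hrd) (Finset.notMem_empty r)
    show ConjClasses.mk x = ConjClasses.mk y
    exact congrArg ConjClasses.mk
      ((h1 x (ha x ConjClasses.mem_carrier_mk)).trans (h1 y (hb y ConjClasses.mem_carrier_mk)).symm)
  | insert r σ hr ih =>
    intro hσ G _ _
    haveI := Fact.mk (hσ r (Finset.mem_insert_self r σ))
    obtain ⟨P⟩ : Nonempty (Sylow r G) := inferInstance
    haveI := Fintype.ofFinite {c : ConjClasses G // ∀ x ∈ c.carrier, ∃ k : ℕ, orderOf x = r ^ k}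
    refine kpi_step.trans ?_
    rw [Nat.card_sigma]
    refine (Finset.sum_le_card_nsmul _ _ (part σ (Nat.card G)) fun c _ => ?_).trans ?_
    · refine (ih (fun s hs => hσ s (Finset.mem_insert_of_mem hs)) _).trans ?_
      exact part_le_of_dvd (fun s hs => hσ s (Finset.mem_insert_of_mem hs))
        (Subgroup.card_subgroup_dvd_card _) Nat.card_pos.ne'
    · rw [Finset.card_univ, ← Nat.card_eq_fintype_card, smul_eq_mul, part, part, Finset.prod_insert hr,
        ← P.card_eq_multiplicity]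
      exact Nat.mul_le_mul_right _ (kp_le_card P)

omit hp in
lemma kpi_le_kp_mul {π : Finset ℕ} (hπ : ∀ s ∈ π, s.Prime) {r : ℕ} [Fact r.Prime] (hr : r ∈ π) :
    kpi π G ≤ kp r G * part (π.erase r) (Nat.card G) := by
  haveI := Fintype.ofFinite {c : ConjClasses G // ∀ x ∈ c.carrier, ∃ k : ℕ, orderOf x = r ^ k}
  have hσ : ∀ s ∈ π.erase r, s.Prime := fun s hs => hπ s (Finset.mem_of_mem_erase hs)
  conv_lhs => rw [← Finset.insert_erase hr]
  refine kpi_step.trans ?_
  rw [Nat.card_sigma]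
  refine (Finset.sum_le_card_nsmul _ _ (part (π.erase r) (Nat.card G)) fun c _ => ?_).trans ?_
  · exact (kpi_le_part _ hσ _).trans
      (part_le_of_dvd hσ (Subgroup.card_subgroup_dvd_card _) Nat.card_pos.ne')
  · rw [Finset.card_univ, ← Nat.card_eq_fintype_card, smul_eq_mul]
    exact le_rfl

omit hp in
lemma part_erase {π : Finset ℕ} {r : ℕ} (hr : r ∈ π) (n : ℕ) :
    r ^ n.factorization r * part (π.erase r) n = part π n :=
  Finset.mul_prod_erase π (fun r => r ^ n.factorization r) hr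

/-! ### several primes at once -/

omit hp in
theorem exists_pi_complement (σ : Finset ℕ) (hσ : ∀ r ∈ σ, r.Prime)
    (h : ∀ r ∈ σ, Cfsg.HasNormalPComplement r G)
    (hab : ∀ r ∈ σ, ∀ P : Sylow r G, IsMulCommutative ↥(P : Subgroup G)) :
    ∃ M : Subgroup G, M.Normal ∧ (∀ x : G, x ∈ M ↔ ∀ r ∈ σ, (orderOf x).Coprime r) ∧
      (∀ r : ℕ, r.Prime → r ∣ M.index → r ∈ σ) ∧
      ∃ H : Subgroup G, Cfsg.IsPiHall (↑σ : Set ℕ) H ∧ IsMulCommutative ↥H := by
  set M : Subgroup G := σ.inf (fun r => Cfsg.pResidual r G) with hM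
  have hmem : ∀ x : G, x ∈ M ↔ ∀ r ∈ σ, x ∈ Cfsg.pResidual r G := by
    intro x
    constructor
    · exact fun hx r hr => (Finset.inf_le (f := fun r => Cfsg.pResidual r G) hr) hx
    · intro hx
      have : Subgroup.zpowers x ≤ M := Finset.le_inf fun r hr => Subgroup.zpowers_le.2 (hx r hr)
      exact this (Subgroup.mem_zpowers x)
  have hmem' : ∀ x : G, x ∈ M ↔ ∀ r ∈ σ, (orderOf x).Coprime r := by
    intro x
    rw [hmem]
    refine forall₂_congr fun r hr => ?_
    haveI := Fact.mk (hσ r hr)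
    exact mem_pResidual_iff (h r hr)
  have hnorm : M.Normal := ⟨fun x hx g => by
    rw [hmem'] at hx ⊢
    rwa [show g * x * g⁻¹ = (MulAut.conj g).toMonoidHom x from rfl,
      orderOf_injective _ (MulAut.conj g).injective]⟩
  have hidx : ∀ r : ℕ, r.Prime → r ∣ M.index → r ∈ σ := by
    rw [hM]
    clear hM hmem hmem' hnorm M hab h
    induction σ using Finset.induction_on with
    | empty => intro r hr hd; simp only [Finset.inf_empty, Subgroup.index_top, Nat.dvd_one] at hd; exact absurd hd hr.ne_one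
    | insert a σ ha ih =>
      intro r hr hd
      haveI := Fact.mk (hσ a (Finset.mem_insert_self a σ))
      rw [Finset.inf_insert] at hd
      have hn : (Cfsg.pResidual a G).Normal := inferInstance
      set B := σ.inf (fun r => Cfsg.pResidual r G)
      rw [← Subgroup.relIndex_mul_index (inf_le_right : Cfsg.pResidual a G ⊓ B ≤ B),
        Subgroup.inf_relIndex_right] at hd
      rcases hr.dvd_mul.1 hd with hd | hd
      · obtain ⟨j, hj⟩ := exists_index_pow_of_isPGroup_quotient (quotient_pResidual_isPGroup a G)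
        have h2 := hd.trans (Subgroup.relIndex_dvd_index_of_normal (Cfsg.pResidual a G) B)
        rw [hj] at h2
        rw [(Nat.prime_dvd_prime_iff_eq hr (hσ a (Finset.mem_insert_self a σ))).1 (hr.dvd_of_dvd_pow h2)]
        exact Finset.mem_insert_self a σ
      · exact Finset.mem_insert_of_mem (ih (fun s hs => hσ s (Finset.mem_insert_of_mem hs)) r hr hd)
  refine ⟨M, hnorm, hmem', hidx, ?_⟩
  have hcard : ∀ r : ℕ, r.Prime → r ∣ Nat.card M → r ∉ σ := by
    intro r hr hd hrσ
    haveI := Fact.mk hr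
    obtain ⟨x, hx⟩ := exists_prime_orderOf_dvd_card' r hd
    have h1 := (hmem' (x : G)).1 x.2 r hrσ
    rw [Subgroup.orderOf_coe, hx, Nat.coprime_self] at h1
    exact hr.ne_one h1
  haveI := hnorm
  obtain ⟨H, hH⟩ := Subgroup.exists_right_complement'_of_coprime (N := M)
    (Nat.coprime_of_dvd fun r hr h1 h2 => hcard r hr h1 (hidx r hr h2))
  refine ⟨H, ⟨fun r hr hd => hidx r hr ?_, fun r hr hrσ hd => hcard r hr ?_ hrσ⟩, ⟨⟨fun a b => ?_⟩⟩⟩
  · rw [hH.symm.index_eq_card]; exact hd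
  · rwa [hH.index_eq_card] at hd
  · have hc : ⁅(a : G), (b : G)⁆ ∈ M := by
      rw [hmem]
      intro r hr
      haveI := Fact.mk (hσ r hr)
      obtain ⟨P⟩ : Nonempty (Sylow r G) := inferInstance
      obtain ⟨s, hs⟩ := kp_eq_classes.map_sylow_surjective P (h r hr) ((a : G) : G ⧸ Cfsg.pResidual r G)
      obtain ⟨t, ht⟩ := kp_eq_classes.map_sylow_surjective P (h r hr) ((b : G) : G ⧸ Cfsg.pResidual r G)
      rw [← QuotientGroup.eq_one_iff, ← QuotientGroup.mk'_apply, map_commutatorElement,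
        commutatorElement_eq_one_iff_mul_comm, QuotientGroup.mk'_apply, QuotientGroup.mk'_apply, ← hs, ← ht,
        ← map_mul, ← map_mul]
      exact congrArg _ (congrArg Subtype.val ((hab r hr P).is_comm.comm s t))
    have h1 : ⁅(a : G), (b : G)⁆ ∈ M ⊓ H := ⟨hc, by
      rw [commutatorElement_def]
      exact H.mul_mem (H.mul_mem (H.mul_mem a.2 b.2) (H.inv_mem a.2)) (H.inv_mem b.2)⟩
    rw [disjoint_iff.1 hH.disjoint, Subgroup.mem_bot, commutatorElement_eq_one_iff_mul_comm] at h1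
    exact Subtype.ext h1

end Cfsg.Agent.ManyClasses
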