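import Cfsg.Agent.Lib.Solvable.Coprime
import Mathlib.GroupTheory.PGroup
import Mathlib.GroupTheory.Nilpotent
import Mathlib.Data.Int.GCD

/-!
# Maximal p-subgroups invariant under an involution
-/

set_option autoImplicit false
set_option linter.style.haveILetI false

universe u

namespace Cfsg.Agent.MaxInvariant

/-- An involutory automorphism of a non-trivial `p`-group fixes or inverts an element of order `p`. -/
theorem exists_fixed_or_inverted {V : Type u} [Group V] [Finite V] [Nontrivial V] {p : ℕ}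
    [hp : Fact p.Prime] (hV : IsPGroup p V) (φ : V ≃* V) (hφ : ∀ v, φ (φ v) = v) :
    ∃ v : V, v ≠ 1 ∧ v ^ p = 1 ∧ (φ v = v ∨ φ v = v⁻¹) := by
  haveI := hV.center_nontrivial
  obtain ⟨n, hn0, hn⟩ := (hV.to_subgroup (Subgroup.center V)).nontrivial_iff_card.1 inferInstance
  obtain ⟨z, hz⟩ := exists_prime_orderOf_dvd_card' (G := Subgroup.center V) p (hn ▸ dvd_pow_self p hn0.ne')
  have hzp : (z : V) ^ p = 1 := by
    rw [← orderOf_dvd_iff_pow_eq_one, Subgroup.orderOf_coe, hz]
  have hz1 : (z : V) ≠ 1 := by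
    intro h
    have : z = 1 := Subtype.ext h
    rw [this, orderOf_one] at hz
    exact hp.out.ne_one hz.symm
  have hcomm : Commute (z : V) (φ z) := (Subgroup.mem_center_iff.1 z.2 (φ z)).symm
  by_cases hc : (z : V) * φ z = 1
  · exact ⟨z, hz1, hzp, Or.inr (eq_inv_of_mul_eq_one_right hc)⟩
  · refine ⟨(z : V) * φ z, hc, ?_, Or.inl ?_⟩
    · rw [hcomm.mul_pow, hzp, one_mul, ← map_pow, hzp, map_one]
    · rw [map_mul, hφ, hcomm.eq]

/-- The criterion. -/
theorem max_iff {G : Type u} [Group G] [Finite G] (p : ℕ) [hp : Fact p.Prime] (Q : Subgroup G)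
    (hQ : IsPGroup p Q) (y : G) (hy : orderOf y = 2) (hyQ : y ∈ Subgroup.normalizer (Q : Set G)) :
    (∀ R : Subgroup G, IsPGroup p R → Q ≤ R → y ∈ Subgroup.normalizer (R : Set G) → R = Q) ↔
      ∀ x : G, x ∈ Subgroup.normalizer (Q : Set G) → x ∉ Q → x ^ p ∈ Q →
        (y * x * y⁻¹ * x ∉ Q ∧ y * x * y⁻¹ * x⁻¹ ∉ Q) := by
  classical
  have hyy : y * y = 1 := by rw [← sq, ← hy, pow_orderOf_eq_one]
  have hyi : y⁻¹ = y := inv_eq_of_mul_eq_one_right hyy
  constructor
  · intro hmax x hxN hxQ hxp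
    have key : ∀ e : G, e ∈ Subgroup.zpowers x → y * x * y⁻¹ * e⁻¹ ∈ Q → False := by
      intro e he hQe
      set R := Subgroup.zpowers x ⊔ Q with hR
      have hRp : IsPGroup p R := by
        obtain ⟨i, hi⟩ := hQ ⟨_, hxp⟩
        have hzp : IsPGroup p (Subgroup.zpowers x) := IsPGroup.of_card_dvd_pow (n := i + 1) (by
          rw [Nat.card_zpowers]
          refine orderOf_dvd_of_pow_eq_one ?_
          rw [pow_succ', pow_mul]
          simpa using congrArg Subtype.val hi)
        exact hzp.to_sup_of_normal_right' hQ (Subgroup.zpowers_le.2 hxN)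
      have hconj : ∀ r ∈ R, y * r * y⁻¹ ∈ R := by
        have hle : R ≤ R.comap (MulAut.conj y).toMonoidHom := by
          rw [hR, sup_le_iff, Subgroup.zpowers_le]
          refine ⟨?_, fun q hq => ?_⟩
          · show y * x * y⁻¹ ∈ Subgroup.zpowers x ⊔ Q
            rw [← inv_mul_cancel_right (y * x * y⁻¹) e]
            exact Subgroup.mul_mem _ (Subgroup.mem_sup_right hQe) (Subgroup.mem_sup_left he)
          · exact Subgroup.mem_sup_right ((Subgroup.mem_normalizer_iff.1 hyQ q).1 hq)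
        exact fun r hr => hle hr
      have hyR : y ∈ Subgroup.normalizer (R : Set G) := by
        rw [Subgroup.mem_normalizer_iff]
        intro r
        refine ⟨hconj r, fun hr => ?_⟩
        have := hconj _ hr
        rwa [show y * (y * r * y⁻¹) * y⁻¹ = (y * y) * r * (y * y)⁻¹ by group, hyy, one_mul, inv_one,
          mul_one] at this
      have hRQ := hmax R hRp le_sup_right hyR
      exact hxQ (hRQ ▸ Subgroup.mem_sup_left (Subgroup.mem_zpowers x))
    refine ⟨fun h => key x⁻¹ (Subgroup.inv_mem _ (Subgroup.mem_zpowers x)) (by rw [inv_inv]; exact h),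
      fun h => key x (Subgroup.mem_zpowers x) h⟩
  · intro hcond R hR hQR hyR
    by_contra hne
    have hlt : Q < R := lt_of_le_of_ne hQR (Ne.symm hne)
    haveI : Group.IsNilpotent R := hR.isNilpotent
    set N := Subgroup.normalizer ((Q.subgroupOf R : Subgroup R) : Set R) with hN
    have hQt : Q.subgroupOf R < ⊤ := lt_top_iff_ne_top.2 fun h => hlt.not_ge (Subgroup.subgroupOf_eq_top.1 h)
    obtain ⟨⟨r₀, hr₀R⟩, hr₀N, hr₀Q⟩ :=
      SetLike.exists_of_lt (Group.normalizerCondition_of_isNilpotent (Q.subgroupOf R) hQt)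
    -- the group `R₀ = N_R(Q)`
    set R₀ := R ⊓ Subgroup.normalizer (Q : Set G) with hR₀
    have hQR₀ : Q ≤ R₀ := le_inf hQR Subgroup.le_normalizer
    have hr₀ : r₀ ∈ R₀ := by
      refine ⟨hr₀R, ?_⟩
      show r₀ ∈ Subgroup.normalizer (Q : Set G)
      rw [Subgroup.mem_normalizer_iff] at hr₀N ⊢
      intro q
      constructor
      · intro hq
        exact (hr₀N ⟨q, hQR hq⟩).1 hq
      · intro hq
        have hqR : q ∈ R := by
          have := R.mul_mem (R.mul_mem (R.inv_mem hr₀R) (hQR hq)) hr₀R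
          simpa [mul_assoc] using this
        exact (hr₀N ⟨q, hqR⟩).2 hq
    have hr₀Q' : r₀ ∉ Q := hr₀Q
    set K := Q.subgroupOf R₀ with hK
    haveI hKn : K.Normal := Subgroup.normal_subgroupOf_of_le_normalizer inf_le_right
    haveI : Nontrivial (R₀ ⧸ K) :=
      ⟨⟨QuotientGroup.mk' K ⟨r₀, hr₀⟩, 1, fun h => hr₀Q' ((QuotientGroup.eq_one_iff (N := K) _).1 h)⟩⟩
    have hVp : IsPGroup p (R₀ ⧸ K) := (hR.to_le inf_le_left).to_quotient K
    have hyR₀ : ∀ r ∈ R₀, y * r * y⁻¹ ∈ R₀ := by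
      rintro r ⟨hr, hr'⟩
      exact ⟨(Subgroup.mem_normalizer_iff.1 hyR r).1 hr,
        Subgroup.mul_mem _ (Subgroup.mul_mem _ hyQ hr') (Subgroup.inv_mem _ hyQ)⟩
    let ψ : R₀ →* R₀ :=
      { toFun := fun r => ⟨y * r * y⁻¹, hyR₀ r r.2⟩
        map_one' := Subtype.ext (by simp)
        map_mul' := fun a b => Subtype.ext (by
          show y * ((a : G) * b) * y⁻¹ = y * a * y⁻¹ * (y * b * y⁻¹); group) }
    have hψK : K ≤ K.comap ψ := fun k hk => (Subgroup.mem_normalizer_iff.1 hyQ (k : G)).1 hk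
    let φ₀ : R₀ ⧸ K →* R₀ ⧸ K := QuotientGroup.map K K ψ hψK
    have hinv : ∀ v, φ₀ (φ₀ v) = v := by
      intro v
      induction v using QuotientGroup.induction_on
      rename_i a
      show QuotientGroup.mk (ψ (ψ a)) = QuotientGroup.mk a
      congr 1
      refine Subtype.ext ?_
      show y * (y * a * y⁻¹) * y⁻¹ = a
      rw [hyi]
      calc y * (y * (a : G) * y) * y = (y * y) * a * (y * y) := by group
        _ = a := by rw [hyy, one_mul, mul_one]
    let φ : R₀ ⧸ K ≃* R₀ ⧸ K :=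
      { toFun := φ₀, invFun := φ₀, left_inv := hinv, right_inv := hinv, map_mul' := map_mul φ₀ }
    obtain ⟨v, hv1, hvp, hv⟩ := exists_fixed_or_inverted hVp φ hinv
    obtain ⟨⟨x, hx⟩, rfl⟩ := QuotientGroup.mk'_surjective K v
    have hxQ : x ∉ Q := fun h => hv1 ((QuotientGroup.eq_one_iff (N := K) _).2 h)
    have hxp : x ^ p ∈ Q := by
      rw [← map_pow] at hvp
      exact (QuotientGroup.eq_one_iff (N := K) _).1 hvp
    obtain ⟨h1, h2⟩ := hcond x hx.2 hxQ hxp
    rcases hv with h | h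
    · refine h2 ?_
      have h' : QuotientGroup.mk' K (ψ ⟨x, hx⟩ * (⟨x, hx⟩ : R₀)⁻¹) = 1 := by
        rw [map_mul, map_inv, mul_inv_eq_one]; exact h
      exact (QuotientGroup.eq_one_iff (N := K) _).1 h'
    · refine h1 ?_
      have h' : QuotientGroup.mk' K (ψ ⟨x, hx⟩ * (⟨x, hx⟩ : R₀)) = 1 := by
        rw [map_mul, ← eq_inv_iff_mul_eq_one]; exact h
      exact (QuotientGroup.eq_one_iff (N := K) _).1 h'

end Cfsg.Agent.MaxInvariant
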