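import Cfsg.Agent.Lib.PLocal.PSolvable
import Cfsg.Agent.Lib.LocalEven.Wielandt
import Cfsg.Agent.Lib.Solvable.SchurZassenhaus
import Cfsg.Agent.Lib.Solvable.Structure
import Mathlib.GroupTheory.Frattini
import Mathlib.GroupTheory.PGroup

/-!
Groups whose maximal subgroups are `p`-nilpotent or of prime index: a `p`-solvable one has
a series `p', p, p', p`.
-/

set_option autoImplicit false
set_option linter.style.haveILetI false

open scoped Pointwise

namespace Cfsg.Agent.MaxPrimeShape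

open Cfsg.Agent

universe u

variable {p : ℕ}

/-- every maximal subgroup has a normal `p`-complement or has prime index -/
def MaxHyp (p : ℕ) (G : Type u) [Group G] : Prop :=
  ∀ M : Subgroup G, IsCoatom M →
    (∃ K : Subgroup ↥M, K.Normal ∧ ¬ p ∣ Nat.card K ∧ ∃ k : ℕ, K.index = p ^ k) ∨ (M.index).Prime

/-- a normal series above `N` with factors `p', p, p', p` -/
def Shape (p : ℕ) {G : Type u} [Group G] (N : Subgroup G) : Prop :=
  ∃ A B C : Subgroup G, A.Normal ∧ B.Normal ∧ C.Normal ∧ N ≤ A ∧ A ≤ B ∧ B ≤ C ∧ ¬ p ∣ N.relIndex A ∧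
    (∃ k : ℕ, A.relIndex B = p ^ k) ∧ ¬ p ∣ B.relIndex C ∧ ∃ k : ℕ, C.index = p ^ k

theorem maxHyp_quotient [Fact p.Prime] {G : Type u} [Group G] (N : Subgroup G) [N.Normal] (h : MaxHyp p G) :
    MaxHyp p (G ⧸ N) := by
  intro M hM
  have hsurj := QuotientGroup.mk'_surjective N
  have hidx := Subgroup.index_comap_of_surjective M hsurj
  rcases h _ (Subgroup.isCoatom_comap_of_surjective hsurj hM) with ⟨K, hKn, hKc, k, hk⟩ | hpr
  · left
    let f : (M.comap (QuotientGroup.mk' N)) →* M := (QuotientGroup.mk' N).subgroupComap M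
    have hf : Function.Surjective f := by
      intro x
      obtain ⟨g, hg⟩ := hsurj x.1
      exact ⟨⟨g, by rw [Subgroup.mem_comap, hg]; exact x.2⟩, Subtype.ext hg⟩
    refine ⟨K.map f, hKn.map f hf, fun hd => hKc (hd.trans (Subgroup.card_map_dvd K f)), ?_⟩
    obtain ⟨j, -, hj⟩ := (Nat.dvd_prime_pow Fact.out).1 (hk ▸ Subgroup.index_map_dvd K hf)
    exact ⟨j, hj⟩
  · right
    rwa [hidx] at hpr

theorem shape_comap [Fact p.Prime] {G : Type u} [Group G] (N : Subgroup G) [N.Normal]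
    (h : Shape p (⊥ : Subgroup (G ⧸ N))) : Shape p N := by
  obtain ⟨A, B, C, hA, hB, hC, -, hAB, hBC, h1, h2, h3, h4⟩ := h
  set f := QuotientGroup.mk' N
  have hs := QuotientGroup.mk'_surjective N
  have hN : (⊥ : Subgroup (G ⧸ N)).comap f = N := by rw [MonoidHom.comap_bot, QuotientGroup.ker_mk']
  have hrel : ∀ X Y : Subgroup (G ⧸ N), (X.comap f).relIndex (Y.comap f) = X.relIndex Y := fun X Y => by
    rw [Subgroup.relIndex_comap, Subgroup.map_comap_eq_self_of_surjective hs]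
  refine ⟨A.comap f, B.comap f, C.comap f, hA.comap f, hB.comap f, hC.comap f, ?_,
    Subgroup.comap_mono hAB, Subgroup.comap_mono hBC, ?_, ?_, ?_, ?_⟩
  · exact hN.symm.le.trans (Subgroup.comap_mono bot_le)
  · intro hd
    refine h1 ?_
    rw [← hrel]
    exact hd.trans (Subgroup.relIndex_dvd_of_le_left _ hN.symm.ge) |>.trans (dvd_of_eq (by rw [hN]))
  · rwa [hrel]
  · rwa [hrel]
  · rwa [Subgroup.index_comap_of_surjective _ hs]

theorem relIndex_inf_inf_dvd {G : Type u} [Group G] {A₁ A₂ B₁ B₂ : Subgroup G} (hn₁ : A₁.Normal)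
    (hn₂ : A₂.Normal) (h₁ : A₁ ≤ B₁) (h₂ : A₂ ≤ B₂) :
    (A₁ ⊓ A₂).relIndex (B₁ ⊓ B₂) ∣ A₂.relIndex B₂ * A₁.relIndex B₁ := by
  rw [← Subgroup.relIndex_mul_relIndex (A₁ ⊓ A₂) (A₁ ⊓ B₂) (B₁ ⊓ B₂) (inf_le_inf le_rfl h₂) (inf_le_inf h₁ le_rfl)]
  refine mul_dvd_mul ?_ ?_
  · have h := PSolvable.relIndex_inf_dvd_of_normal (A := A₂) (B := B₂) A₁
    rw [inf_comm B₂ A₁] at h
    rwa [← Subgroup.inf_relIndex_right (A₁ ⊓ A₂), show A₁ ⊓ A₂ ⊓ (A₁ ⊓ B₂) = A₂ ⊓ (A₁ ⊓ B₂) by
      rw [inf_assoc, inf_left_comm A₂ A₁ B₂, inf_left_idem, inf_left_comm], Subgroup.inf_relIndex_right]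
  · have h := PSolvable.relIndex_inf_dvd_of_normal (A := A₁) (B := B₁) B₂
    rwa [← Subgroup.inf_relIndex_right (A₁ ⊓ B₂), show A₁ ⊓ B₂ ⊓ (B₁ ⊓ B₂) = A₁ ⊓ (B₁ ⊓ B₂) by
      rw [inf_assoc, inf_left_comm B₂ B₁ B₂, inf_idem], Subgroup.inf_relIndex_right]

/-- subdirect products -/
theorem shape_inf [hp : Fact p.Prime] {G : Type u} [Group G] {N₁ N₂ : Subgroup G} (hn₁ : N₁.Normal)
    (hn₂ : N₂.Normal) (h₁ : Shape p N₁) (h₂ : Shape p N₂) : Shape p (N₁ ⊓ N₂) := by
  obtain ⟨A, B, C, hA, hB, hC, hNA, hAB, hBC, a1, ⟨k, a2⟩, a3, ⟨l, a4⟩⟩ := h₁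
  obtain ⟨A', B', C', hA', hB', hC', hNA', hAB', hBC', b1, ⟨k', b2⟩, b3, ⟨l', b4⟩⟩ := h₂
  have hnd : ∀ {a b : ℕ}, ¬ p ∣ a → ¬ p ∣ b → ¬ p ∣ b * a := fun ha hb hd =>
    ((Nat.Prime.dvd_mul hp.out).1 hd).elim hb ha
  refine ⟨A ⊓ A', B ⊓ B', C ⊓ C', inferInstance, inferInstance, inferInstance, inf_le_inf hNA hNA',
    inf_le_inf hAB hAB', inf_le_inf hBC hBC', ?_, ?_, ?_, ?_⟩
  · exact fun hd => hnd a1 b1 (hd.trans (relIndex_inf_inf_dvd hn₁ hn₂ hNA hNA'))
  · have := relIndex_inf_inf_dvd hA hA' hAB hAB'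
    rw [a2, b2, ← pow_add] at this
    obtain ⟨j, -, hj⟩ := (Nat.dvd_prime_pow hp.out).1 this
    exact ⟨j, hj⟩
  · exact fun hd => hnd a3 b3 (hd.trans (relIndex_inf_inf_dvd hB hB' hBC hBC'))
  · have := relIndex_inf_inf_dvd hC hC' (le_top : C ≤ ⊤) (le_top : C' ≤ ⊤)
    rw [top_inf_eq, Subgroup.relIndex_top_right, Subgroup.relIndex_top_right, Subgroup.relIndex_top_right, a4, b4,
      ← pow_add] at this
    obtain ⟨j, -, hj⟩ := (Nat.dvd_prime_pow hp.out).1 this
    exact ⟨j, hj⟩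

theorem shape (p : ℕ) [hp : Fact p.Prime] : ∀ (n : ℕ) (G : Type u) [Group G] [Finite G], Nat.card G = n →
    Cfsg.IsPSolvable p G → MaxHyp p G → Shape p (⊥ : Subgroup G) := by
  intro n
  induction n using Nat.strong_induction_on with
  | _ n ih =>
  intro G _ _ hn hG hmax
  subst hn
  have hpr : p.Prime := hp.out
  by_cases hnt : Nontrivial G
  swap
  · haveI := not_nontrivial_iff_subsingleton.1 hnt
    refine ⟨⊥, ⊥, ⊥, inferInstance, inferInstance, inferInstance, le_rfl, le_rfl, le_rfl, ?_, ⟨0, ?_⟩, ?_, ⟨0, ?_⟩⟩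
    · rw [Subgroup.relIndex_self]; exact hpr.not_dvd_one
    · rw [Subgroup.relIndex_self, pow_zero]
    · rw [Subgroup.relIndex_self]; exact hpr.not_dvd_one
    · rw [Subgroup.index_bot, Nat.card_of_subsingleton (1 : G), pow_zero]
  have rec_ : ∀ N : Subgroup G, N.Normal → N ≠ ⊥ → Shape p N := by
    intro N hN hne
    haveI := hN
    refine shape_comap N (ih _ ?_ (G ⧸ N) rfl (PSolvable.quotient N hG) (maxHyp_quotient N hmax))
    have h1 := Subgroup.card_eq_card_quotient_mul_card_subgroup N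
    have h2 : 1 < Nat.card N := (Subgroup.one_lt_card_iff_ne_bot N).2 hne
    have h3 : 0 < Nat.card (G ⧸ N) := Nat.card_pos
    nlinarith
  by_cases hO : Cfsg.pPrimeCore p G = ⊥
  swap
  · -- a normal `p'`-subgroup
    obtain ⟨A, B, C, hA, hB, hC, hNA, hAB, hBC, h1, h2, h3, h4⟩ := rec_ _ inferInstance hO
    refine ⟨A, B, C, hA, hB, hC, bot_le, hAB, hBC, ?_, h2, h3, h4⟩
    rw [← Subgroup.relIndex_mul_relIndex ⊥ _ A bot_le hNA, Subgroup.relIndex_bot_left]
    intro hd
    rcases (Nat.Prime.dvd_mul hpr).1 hd with h | h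
    · exact (hpr.coprime_iff_not_dvd.1 (PBasic.pPrimeCore_coprime p G).symm) h
    · exact h1 h
  have hcore := (PSolvable.exists_core_ne_bot hG).resolve_right (not_not.2 hO)
  obtain ⟨N, hN, hN1, hNle, hNmin⟩ := LEWielandt.exists_minimal_normal
    (haveI := PBasic.pCore_characteristic p G; (inferInstance : (Cfsg.pCore p G).Normal)) hcore
  haveI := hN
  have hNp : IsPGroup p N := (PBasic.pCore_isPGroup p G).to_le hNle
  by_cases huniq : ∃ N₂ : Subgroup G, N₂.Normal ∧ N₂ ≠ ⊥ ∧ N ⊓ N₂ = ⊥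
  · obtain ⟨N₂, hN₂, hN₂1, hint⟩ := huniq
    exact hint ▸ shape_inf hN hN₂ (rec_ N hN hN1) (rec_ N₂ hN₂ hN₂1)
  push Not at huniq
  -- `N` is abelian
  have hab : ∀ a ∈ N, ∀ b ∈ N, a * b = b * a := by
    haveI : Nontrivial N := (Subgroup.nontrivial_iff_ne_bot N).2 hN1
    haveI := hNp.center_nontrivial
    have h1 : (Subgroup.center N).map N.subtype = N := by
      refine (hNmin _ inferInstance (Subgroup.map_subtype_le _)).resolve_left ?_
      rw [Subgroup.map_eq_bot_iff_of_injective _ N.subtype_injective]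
      exact (Subgroup.nontrivial_iff_ne_bot _).1 inferInstance
    intro a ha b hb
    obtain ⟨c, hc, rfl⟩ := (h1.symm ▸ ha : a ∈ (Subgroup.center N).map N.subtype)
    exact (congrArg Subtype.val (Subgroup.mem_center_iff.1 hc ⟨b, hb⟩)).symm
  by_cases hΦ : N ≤ frattini G
  · -- inside the Frattini subgroup
    obtain ⟨A, B, C, hA, hB, hC, hNA, hAB, hBC, h1, ⟨k, h2⟩, h3, h4⟩ := rec_ N hN hN1
    haveI := hA
    suffices hAN : A = N by
      obtain ⟨a, ha⟩ := IsPGroup.iff_card.1 hNp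
      refine ⟨⊥, B, C, inferInstance, hB, hC, le_rfl, bot_le, hBC, ?_, ⟨a + k, ?_⟩, h3, h4⟩
      · rw [Subgroup.relIndex_self]; exact hpr.not_dvd_one
      · rw [← Subgroup.relIndex_mul_relIndex ⊥ A B bot_le hAB, Subgroup.relIndex_bot_left, h2, hAN, ha, pow_add]
    -- a complement of `N` in `A`
    have hcop : (Nat.card (N.subgroupOf A)).Coprime (N.subgroupOf A).index := by
      obtain ⟨a, ha⟩ := IsPGroup.iff_card.1 hNp
      rw [Nat.card_congr (Subgroup.subgroupOfEquivOfLe hNA).toEquiv, ha]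
      exact (hpr.coprime_iff_not_dvd.2 h1).pow_left a
    obtain ⟨Q₀, hQ₀⟩ := Subgroup.exists_right_complement'_of_coprime hcop
    set Q := Q₀.map A.subtype with hQ
    have hQc : Nat.card Q = N.relIndex A := by
      rw [hQ, Subgroup.card_map_of_injective A.subtype_injective, ← hQ₀.symm.index_eq_card]
      rfl
    have hsup : N ⊔ Q = A := by
      have := congrArg (Subgroup.map A.subtype) hQ₀.sup_eq_top
      rwa [Subgroup.map_sup, ← MonoidHom.range_eq_map, Subgroup.range_subtype,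
        Subgroup.map_subgroupOf_eq_of_le hNA] at this
    have hQN : Q ≤ Subgroup.normalizer (N : Set G) := by
      rw [Subgroup.normalizer_eq_top]; exact le_top
    have hcop' : (Nat.card Q).Coprime (Nat.card N) := by
      obtain ⟨a, ha⟩ := IsPGroup.iff_card.1 hNp
      rw [hQc, ha]
      exact ((hpr.coprime_iff_not_dvd.2 h1).pow_left a).symm
    haveI hNs : Group.IsSolvable N := by
      haveI := hNp.isNilpotent
      infer_instance
    have hgen : Subgroup.normalizer (Q : Set G) ⊔ N = ⊤ := by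
      rw [eq_top_iff]
      intro g _
      have hB' : MulAut.conj g • Q ≤ N ⊔ Q := by
        rw [hsup]
        rintro _ ⟨x, hx, rfl⟩
        exact hA.conj_mem x (hsup.le (Subgroup.mem_sup_right hx)) g
      obtain ⟨m, hm, hme⟩ := SchurZ.conj_in hQN hcop' (Or.inr hNs) hB' (Nat.card_congr (Subgroup.equivSMul _ Q).toEquiv).symm
      have hmg : m⁻¹ * g ∈ Subgroup.normalizer (Q : Set G) := by
        have h5 : MulAut.conj (m⁻¹ * g) • Q = Q := by
          rw [map_mul, mul_smul, ← hme, ← mul_smul, ← map_mul, inv_mul_cancel, map_one, one_smul]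
        rw [Subgroup.mem_normalizer_iff]
        intro x
        rw [← Subgroup.smul_mem_pointwise_smul_iff (a := MulAut.conj (m⁻¹ * g)) (x := x), h5]
        simp only [MulAut.smul_def, MulAut.conj_apply]
      have h6 := mul_mem (Subgroup.mem_sup_right hm : m ∈ Subgroup.normalizer (Q : Set G) ⊔ N) (Subgroup.mem_sup_left hmg)
      rwa [mul_inv_cancel_left] at h6
    have hQn : Q.Normal := by
      rw [← Subgroup.normalizer_eq_top_iff]
      exact frattini_nongenerating (top_unique (hgen.ge.trans (sup_le_sup_left hΦ _)))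
    have hQ1 : Q = ⊥ := by
      rw [← le_bot_iff, ← hO]
      refine PBasic.le_pPrimeCore hQn ?_
      rw [Nat.coprime_comm, hQc]
      exact hpr.coprime_iff_not_dvd.2 h1
    rw [← hsup, hQ1, sup_bot_eq]
  -- complemented
  obtain ⟨M, hM, hNM⟩ : ∃ M : Subgroup G, IsCoatom M ∧ ¬ N ≤ M := by
    by_contra h
    push Not at h
    refine hΦ ?_
    rw [frattini, Order.radical]
    exact le_iInf₂ h
  have hsupM : N ⊔ M = ⊤ := hM.2 _ (lt_of_le_of_ne le_sup_right fun e => hNM (e ▸ le_sup_left))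
  have hnormM : ∀ X : Subgroup G, (∀ a ∈ N, ∀ x ∈ X, a * x * a⁻¹ ∈ X) →
      (∀ m ∈ M, ∀ x ∈ X, m * x * m⁻¹ ∈ X) → X.Normal := by
    intro X h1 h2
    refine ⟨fun x hx g => ?_⟩
    have hg : g ∈ ((N ⊔ M : Subgroup G) : Set G) := by rw [hsupM]; trivial
    rw [Subgroup.normal_mul] at hg
    obtain ⟨a, ha, m, hm, rfl⟩ := Set.mem_mul.1 hg
    rw [show a * m * x * (a * m)⁻¹ = a * (m * x * m⁻¹) * a⁻¹ by group]
    exact h1 a ha _ (h2 m hm x hx)
  have hint : N ⊓ M = ⊥ := by
    have hn : (N ⊓ M).Normal := hnormM _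
      (fun a ha x hx => by rw [hab a ha x hx.1, mul_inv_cancel_right]; exact hx)
      (fun m hm x hx => ⟨hN.conj_mem x hx.1 m, M.mul_mem (M.mul_mem hm hx.2) (M.inv_mem hm)⟩)
    exact (hNmin _ hn inf_le_left).resolve_right fun e => hNM (inf_eq_left.1 e)
  have hC : Subgroup.centralizer (N : Set G) ≤ N := by
    have hX : (Subgroup.centralizer (N : Set G) ⊓ M).Normal := hnormM _
      (fun a ha x hx => by
        rw [Subgroup.mem_centralizer_iff.1 hx.1 a ha, mul_inv_cancel_right]; exact hx)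
      (fun m hm x hx => ⟨(inferInstance : (Subgroup.centralizer (N : Set G)).Normal).conj_mem x hx.1 m,
        M.mul_mem (M.mul_mem hm hx.2) (M.inv_mem hm)⟩)
    have hX1 : Subgroup.centralizer (N : Set G) ⊓ M = ⊥ := by
      by_contra h
      have := huniq _ hX h
      refine this (le_bot_iff.1 ?_)
      rw [← hint]
      exact inf_le_inf le_rfl inf_le_right
    intro c hc
    have hc' : c ∈ ((N ⊔ M : Subgroup G) : Set G) := by rw [hsupM]; trivial
    rw [Subgroup.normal_mul] at hc'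
    obtain ⟨a, ha, m, hm, rfl⟩ := Set.mem_mul.1 hc'
    have hac : a ∈ Subgroup.centralizer (N : Set G) :=
      Subgroup.mem_centralizer_iff.2 fun b hb => hab b hb a ha
    have hmc : m ∈ Subgroup.centralizer (N : Set G) ⊓ M := by
      refine ⟨?_, hm⟩
      have := Subgroup.mul_mem _ (Subgroup.inv_mem _ hac) hc
      rwa [inv_mul_cancel_left] at this
    rw [hX1, Subgroup.mem_bot] at hmc
    rw [hmc, mul_one]
    exact ha
  have hidx : M.index = Nat.card N := by
    refine (Subgroup.isComplement'_of_disjoint_and_mul_eq_univ (disjoint_iff.2 hint) ?_).index_eq_card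
    rw [← Subgroup.normal_mul, hsupM, Subgroup.coe_top]
  obtain ⟨a, ha⟩ := IsPGroup.iff_card.1 hNp
  rcases hmax M hM with ⟨K, hKn, hKc, k, hk⟩ | hprime
  · -- `p`-nilpotent complement
    set K' := K.map M.subtype with hK'
    have hK'M : K' ≤ M := Subgroup.map_subtype_le _
    have hn : (N ⊔ K').Normal := hnormM _
      (fun b hb x hx => (N ⊔ K').mul_mem ((N ⊔ K').mul_mem (Subgroup.mem_sup_left hb) hx)
        ((N ⊔ K').inv_mem (Subgroup.mem_sup_left hb)))
      (fun m hm x hx => by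
        have hle : (N ⊔ K') ≤ (N ⊔ K').comap (MulAut.conj m).toMonoidHom := by
          refine sup_le (fun y hy => Subgroup.mem_sup_left (hN.conj_mem y hy m)) ?_
          rintro _ ⟨y, hy, rfl⟩
          exact Subgroup.mem_sup_right ⟨_, hKn.conj_mem y hy ⟨m, hm⟩, rfl⟩
        exact hle hx)
    refine ⟨⊥, N, N ⊔ K', inferInstance, hN, hn, le_rfl, bot_le, le_sup_left, ?_, ⟨a, ?_⟩, ?_, ?_⟩
    · rw [Subgroup.relIndex_self]; exact hpr.not_dvd_one
    · rw [Subgroup.relIndex_bot_left, ha]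
    · rw [Subgroup.relIndex_sup_left]
      intro hd
      refine hKc (hd.trans ((Subgroup.relIndex_dvd_card N K').trans ?_))
      rw [hK', Subgroup.card_map_of_injective M.subtype_injective]
    · have h1 : (N ⊔ K').index ∣ p ^ (k + a) := by
        refine (Subgroup.index_dvd_of_le le_sup_right).trans ?_
        rw [hK', Subgroup.index_map_subtype, hk, hidx, ha, ← pow_add]
      obtain ⟨j, -, hj⟩ := (Nat.dvd_prime_pow hpr).1 h1
      exact ⟨j, hj⟩
  · -- prime index
    have ha1 : a = 1 := by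
      rw [hidx, ha] at hprime
      exact (Nat.Prime.pow_eq_iff hprime).1 rfl |>.2
    refine ⟨⊥, N, ⊤, inferInstance, hN, inferInstance, le_rfl, bot_le, le_top, ?_, ⟨a, ?_⟩, ?_, ⟨0, ?_⟩⟩
    · rw [Subgroup.relIndex_self]; exact hpr.not_dvd_one
    · rw [Subgroup.relIndex_bot_left, ha]
    · rw [Subgroup.relIndex_top_right]
      intro hd
      obtain ⟨P⟩ : Nonempty (Sylow p G) := inferInstance
      obtain ⟨S, hS⟩ := hNp.exists_le_sylow
      haveI := (S.2.isNilpotent : Group.IsNilpotent (S : Subgroup G))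
      haveI : (N.subgroupOf (S : Subgroup G)).Normal := hN.comap _
      have hne : N.subgroupOf (S : Subgroup G) ≠ ⊥ := fun h => hN1 (by
        rw [← Subgroup.map_subgroupOf_eq_of_le hS, h, Subgroup.map_bot])
      have hz := SolvStruct.inf_center_ne_bot hne
      have hcard : Nat.card (N.subgroupOf (S : Subgroup G)) = p := by
        rw [Nat.card_congr (Subgroup.subgroupOfEquivOfLe hS).toEquiv, ha, ha1, pow_one]
      have hle : N.subgroupOf (S : Subgroup G) ≤ Subgroup.center (S : Subgroup G) := by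
        obtain ⟨j, hj1, hj⟩ := (Nat.dvd_prime_pow hpr).1
          (show Nat.card (N.subgroupOf (S : Subgroup G) ⊓ Subgroup.center _ : Subgroup _) ∣ p ^ 1 by
            rw [pow_one]; exact (Subgroup.card_dvd_of_le inf_le_left).trans (dvd_of_eq hcard))
        have h1 : j ≠ 0 := fun h => hz (Subgroup.card_eq_one.1 (by rw [hj, h, pow_zero]))
        have := Subgroup.eq_of_le_of_card_ge (inf_le_left : N.subgroupOf (S : Subgroup G) ⊓ Subgroup.center _ ≤ _)
          (by rw [hcard, hj, show j = 1 by omega, pow_one])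
        exact inf_eq_left.1 this
      have hSC : (S : Subgroup G) ≤ N := by
        refine le_trans (fun s hs => ?_) hC
        rw [Subgroup.mem_centralizer_iff]
        intro b hb
        exact (congrArg Subtype.val (Subgroup.mem_center_iff.1 (hle (show (⟨b, hS hb⟩ : (S : Subgroup G)) ∈ _ from hb)) ⟨s, hs⟩)).symm
      exact S.not_dvd_index (hd.trans (Subgroup.index_dvd_of_le hSC))
    · rw [Subgroup.index_top, pow_zero]

end Cfsg.Agent.MaxPrimeShape
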