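import Cfsg.Agent.Lib.FGStruct.SubgroupCount
import Cfsg.Agent.Lib.Isolated.HSubgroup
import Cfsg.Agent.Lib.Transfer.PGroup

/-!
# Subgroups of index `p` in a `p`-group

* `card_avoiding`: in an elementary abelian group of order `p ^ (d + 1)` exactly `p ^ d` subgroups
  of index `p` avoid a given nontrivial element.
* `card_maximal_modEq`: a noncyclic `p`-group has `1 + p` subgroups of index `p` modulo `p ^ 2`.
* `enumeration`: Hall's enumeration principle modulo `p ^ 2`.
-/

set_option autoImplicit false
set_option linter.style.haveILetI false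
set_option linter.unusedSectionVars false

namespace Cfsg.Agent.MaximalCount

universe u

variable {G : Type u} [Group G] [Finite G] {p : ℕ} [hp : Fact p.Prime]

/-- Subgroups above the kernel correspond to the subgroups of the image, with equal indices. -/
noncomputable def equivQuot (K : Subgroup G) [K.Normal] (j : ℕ) :
    {W : Subgroup G // K ≤ W ∧ W.index = j} ≃ {W : Subgroup (G ⧸ K) // W.index = j} where
  toFun W := ⟨W.1.map (QuotientGroup.mk' K), by
    rw [Subgroup.index_map_eq _ (QuotientGroup.mk'_surjective K) (by rw [QuotientGroup.ker_mk']; exact W.2.1), W.2.2]⟩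
  invFun W := ⟨W.1.comap (QuotientGroup.mk' K), fun x hx => by
      rw [Subgroup.mem_comap, QuotientGroup.mk'_apply, (QuotientGroup.eq_one_iff x).2 hx]
      exact one_mem _,
    by rw [Subgroup.index_comap_of_surjective _ (QuotientGroup.mk'_surjective K), W.2]⟩
  left_inv W := Subtype.ext (Subgroup.comap_map_eq_self (by rw [QuotientGroup.ker_mk']; exact W.2.1))
  right_inv W := Subtype.ext
    (Subgroup.map_comap_eq_self_of_surjective (QuotientGroup.mk'_surjective K) W.1)

/-- A normal subgroup of index `p` meets a subgroup it does not contain in index `p`. -/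
theorem relIndex_eq {M P : Subgroup G} [M.Normal] (hM : M.index = p) (hP : ¬ P ≤ M) :
    M.relIndex P = p := by
  rcases hp.out.eq_one_or_self_of_dvd _ (hM ▸ Subgroup.relIndex_dvd_index_of_normal M P) with h | h
  · exact absurd (Subgroup.relIndex_eq_one.1 h) hP
  · exact h

/-- Adjoining an element of order `p`. -/
theorem card_sup {V : Type u} [Group V] [Finite V] {Z : Subgroup V} [Z.Normal] {w : V} (hw : w ^ p = 1)
    (hwZ : w ∉ Z) : Nat.card ↥(Z ⊔ Subgroup.zpowers w) = Nat.card Z * p := by
  have h1 : Z.relIndex (Z ⊔ Subgroup.zpowers w) = p := by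
    rw [sup_comm, Subgroup.relIndex_sup_right]
    have h2 : Z.relIndex (Subgroup.zpowers w) ∣ p := by
      have := Subgroup.index_dvd_card (Z.subgroupOf (Subgroup.zpowers w))
      rwa [Nat.card_zpowers, orderOf_eq_prime hw (fun h => hwZ (h ▸ one_mem _))] at this
    rcases hp.out.eq_one_or_self_of_dvd _ h2 with h3 | h3
    · exact absurd (Subgroup.relIndex_eq_one.1 h3 (Subgroup.mem_zpowers w)) hwZ
    · exact h3
  have h := Subgroup.relIndex_mul_relIndex ⊥ Z (Z ⊔ Subgroup.zpowers w) bot_le le_sup_left
  rwa [Subgroup.relIndex_bot_left, Subgroup.relIndex_bot_left, h1, eq_comm] at h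

/-- Splitting the subgroups of index `p` by an element. -/
theorem card_split {V : Type u} [Group V] [Finite V] (z : V) :
    Nat.card {M : Subgroup V // M.index = p} = Nat.card {M : Subgroup V // M.index = p ∧ z ∈ M} +
      Nat.card {M : Subgroup V // M.index = p ∧ z ∉ M} := by
  classical
  haveI := Fintype.ofFinite (Subgroup V)
  simp only [Nat.card_eq_fintype_card, Fintype.card_subtype]
  rw [← Finset.filter_filter, ← Finset.filter_filter]
  exact (Finset.card_filter_add_card_filter_not _).symm

/-- Subgroups of index `p` avoiding a given element. -/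
theorem card_avoiding : ∀ (d : ℕ) (V : Type u) [Group V] [Finite V], Nat.card V = p ^ (d + 1) →
    (∀ x y : V, x * y = y * x) → (∀ x : V, x ^ p = 1) → ∀ z : V, z ≠ 1 →
    Nat.card {M : Subgroup V // M.index = p ∧ z ∉ M} = p ^ d := by
  intro d
  induction d with
  | zero =>
    intro V _ _ hV _ _ z hz
    rw [pow_zero, Nat.card_eq_one_iff_unique]
    have hbot : ∀ M : Subgroup V, M.index = p → M = ⊥ := fun M hM => by
      have h := M.card_mul_index
      rw [hM, hV, pow_one] at h
      exact Subgroup.card_eq_one.1 (Nat.eq_of_mul_eq_mul_right hp.out.pos (h.trans (one_mul p).symm))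
    refine ⟨⟨fun a b => Subtype.ext ((hbot _ a.2.1).trans (hbot _ b.2.1).symm)⟩,
      ⟨⊥, by rw [Subgroup.index_bot, hV, pow_one], fun h => hz (Subgroup.mem_bot.1 h)⟩⟩
  | succ d ih =>
    intro V _ _ hV hc he z hz
    classical
    have hn : ∀ H : Subgroup V, H.Normal := fun H =>
      ⟨fun x hx g => by rwa [hc g x, mul_inv_cancel_right]⟩
    have hoz : orderOf z = p := orderOf_eq_prime (he z) hz
    obtain ⟨w, hw⟩ : ∃ w : V, w ∉ Subgroup.zpowers z := by
      by_contra h
      push Not at h
      have h1 := congrArg (fun S : Subgroup V => Nat.card S) ((Subgroup.eq_top_iff' _).2 h)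
      simp only [Nat.card_zpowers, Subgroup.card_top, hoz, hV] at h1
      exact absurd (Nat.pow_right_injective hp.out.two_le (a₁ := 1) (a₂ := d + 1 + 1)
        (by simpa using h1)) (by omega)
    set P := Subgroup.zpowers z ⊔ Subgroup.zpowers w with hP
    have hzP : z ∈ P := Subgroup.mem_sup_left (Subgroup.mem_zpowers z)
    have hPc : Nat.card P = p ^ 2 := by
      haveI := hn (Subgroup.zpowers z)
      rw [hP, card_sup (p := p) (he w) hw, Nat.card_zpowers, hoz, pow_two]
    haveI hPn := hn P
    -- the subgroups of order `p` of the plane avoiding `z`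
    let T := {L : Subgroup V // L ≤ P ∧ Nat.card L = p ∧ z ∉ L}
    let f : {M : Subgroup V // M.index = p ∧ z ∉ M} → T := fun M => ⟨M.1 ⊓ P, inf_le_right, by
        haveI := hn M.1
        have h2 := Subgroup.card_mul_index (M.1.subgroupOf P)
        rw [show (M.1.subgroupOf P).index = M.1.relIndex P from rfl,
          relIndex_eq M.2.1 (fun h => M.2.2 (h hzP)), hPc, pow_two] at h2
        have h3 : Nat.card (M.1.subgroupOf P) = p := Nat.eq_of_mul_eq_mul_right hp.out.pos h2
        rwa [← Subgroup.inf_subgroupOf_right,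
          Nat.card_congr (Subgroup.subgroupOfEquivOfLe inf_le_right).toEquiv] at h3,
      fun h => M.2.2 (Subgroup.mem_inf.1 h).1⟩
    have hfib : ∀ L : T, Nat.card {M // f M = L} = p ^ d := by
      intro L
      haveI := hn L.1
      have hzq : (z : V ⧸ L.1) ≠ 1 := fun h => L.2.2.2 ((QuotientGroup.eq_one_iff z).1 h)
      have hq : Nat.card (V ⧸ L.1) = p ^ (d + 1) := by
        have h := L.1.card_mul_index
        rw [L.2.2.1, hV, pow_succ'] at h
        rw [← Subgroup.index_eq_card]
        exact Nat.eq_of_mul_eq_mul_left hp.out.pos h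
      rw [← ih (V ⧸ L.1) hq (fun a b => by
          obtain ⟨a, rfl⟩ := QuotientGroup.mk'_surjective L.1 a
          obtain ⟨b, rfl⟩ := QuotientGroup.mk'_surjective L.1 b
          rw [← map_mul, ← map_mul, hc]) (fun a => by
          obtain ⟨a, rfl⟩ := QuotientGroup.mk'_surjective L.1 a
          rw [← map_pow, he, map_one]) z hzq]
      refine Nat.card_congr
        { toFun := fun M => ⟨M.1.1.map (QuotientGroup.mk' L.1), ?_, ?_⟩
          invFun := fun M => ⟨⟨M.1.comap (QuotientGroup.mk' L.1), ?_, ?_⟩, ?_⟩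
          left_inv := fun M => Subtype.ext (Subtype.ext ?_)
          right_inv := fun M => Subtype.ext
            (Subgroup.map_comap_eq_self_of_surjective (QuotientGroup.mk'_surjective L.1) M.1) }
      · have hLM : L.1 ≤ M.1.1 := by
          have h := congrArg Subtype.val M.2
          rw [← h]; exact inf_le_left
        rw [Subgroup.index_map_eq _ (QuotientGroup.mk'_surjective L.1)
          (by rw [QuotientGroup.ker_mk']; exact hLM), M.1.2.1]
      · have hLM : L.1 ≤ M.1.1 := by
          have h := congrArg Subtype.val M.2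
          rw [← h]; exact inf_le_left
        intro h
        refine M.1.2.2 ?_
        rw [← Subgroup.comap_map_eq_self (f := QuotientGroup.mk' L.1) (H := M.1.1)
          (by rw [QuotientGroup.ker_mk']; exact hLM)]
        exact Subgroup.mem_comap.2 h
      · rw [Subgroup.index_comap_of_surjective _ (QuotientGroup.mk'_surjective L.1), M.2.1]
      · exact fun h => M.2.2 (Subgroup.mem_comap.1 h)
      · refine Subtype.ext ?_
        have hle : L.1 ≤ M.1.comap (QuotientGroup.mk' L.1) ⊓ P := le_inf (fun x hx => by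
          rw [Subgroup.mem_comap, QuotientGroup.mk'_apply, (QuotientGroup.eq_one_iff x).2 hx]
          exact one_mem _) L.2.1
        refine (Subgroup.eq_of_le_of_card_ge hle ?_).symm
        rw [L.2.2.1]
        exact (f ⟨M.1.comap (QuotientGroup.mk' L.1),
          by rw [Subgroup.index_comap_of_surjective _ (QuotientGroup.mk'_surjective L.1), M.2.1],
          fun h => M.2.2 (Subgroup.mem_comap.1 h)⟩).2.2.1.le
      · have hLM : L.1 ≤ M.1.1 := by
          have h := congrArg Subtype.val M.2
          rw [← h]; exact inf_le_left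
        exact Subgroup.comap_map_eq_self (by rw [QuotientGroup.ker_mk']; exact hLM)
    haveI : Fintype T := Fintype.ofFinite T
    rw [Nat.card_congr (Equiv.sigmaFiberEquiv f).symm, Nat.card_sigma,
      Finset.sum_congr rfl (fun L _ => hfib L), Finset.sum_const, Finset.card_univ, smul_eq_mul,
      ← Nat.card_eq_fintype_card, pow_succ']
    congr 1
    -- there are exactly `p` such lines
    let g : Fin p → T := fun i => ⟨Subgroup.zpowers (w * z ^ (i : ℕ)), by
        exact Subgroup.zpowers_le.2 (mul_mem (Subgroup.mem_sup_right (Subgroup.mem_zpowers w))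
          (pow_mem hzP _)), by
        rw [Nat.card_zpowers]
        refine orderOf_eq_prime (he _) fun h => hw ?_
        rw [mul_eq_one_iff_eq_inv.1 h]
        exact inv_mem (pow_mem (Subgroup.mem_zpowers z) _), by
        rintro ⟨k, hk⟩
        simp only at hk
        apply hw
        have hwk : w ^ k ∈ Subgroup.zpowers z := by
          rw [(show Commute w (z ^ (i : ℕ)) from hc _ _).mul_zpow] at hk
          rw [eq_mul_inv_of_mul_eq hk]
          exact mul_mem (Subgroup.mem_zpowers z) (inv_mem (zpow_mem (pow_mem (Subgroup.mem_zpowers z) _) _))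
        by_cases hpk : (p : ℤ) ∣ k
        · obtain ⟨l, rfl⟩ := hpk
          rw [zpow_mul, zpow_natCast, he, one_zpow] at hk
          exact absurd hk.symm hz
        · obtain ⟨u, v, huv⟩ := ((Nat.prime_iff_prime_int.1 hp.out).coprime_iff_not_dvd.2 hpk)
          have : w = (w ^ k) ^ v := by
            rw [← zpow_mul, mul_comm k v, show v * k = 1 - u * (p : ℤ) from by linarith, zpow_sub,
              zpow_one, mul_comm u, zpow_mul, zpow_natCast, he, one_zpow, inv_one, mul_one]
          rw [this]
          exact zpow_mem hwk v⟩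
    have hg : Function.Bijective g := by
      constructor
      · intro i j h
        have h1 : Subgroup.zpowers (w * z ^ (i : ℕ)) = Subgroup.zpowers (w * z ^ (j : ℕ)) :=
          congrArg Subtype.val h
        by_contra hij
        have h2 : (z ^ (i : ℕ))⁻¹ * z ^ (j : ℕ) ∈ (g i).1 := by
          have h3 : w * z ^ (j : ℕ) ∈ Subgroup.zpowers (w * z ^ (i : ℕ)) := h1 ▸ Subgroup.mem_zpowers _
          have := mul_mem (inv_mem (Subgroup.mem_zpowers (w * z ^ (i : ℕ)))) h3
          simpa [mul_assoc] using this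
        have h4 : (z ^ (i : ℕ))⁻¹ * z ^ (j : ℕ) ≠ 1 := fun h => hij (Fin.ext (by
          have := inv_mul_eq_one.1 h
          exact pow_injOn_Iio_orderOf (by rw [hoz]; exact i.2) (by rw [hoz]; exact j.2) this))
        have h7 : (z ^ (i : ℕ))⁻¹ * z ^ (j : ℕ) ∈ Subgroup.zpowers z :=
          mul_mem (inv_mem (pow_mem (Subgroup.mem_zpowers z) _)) (pow_mem (Subgroup.mem_zpowers z) _)
        have h5 : Subgroup.zpowers ((z ^ (i : ℕ))⁻¹ * z ^ (j : ℕ)) = Subgroup.zpowers z :=
          Subgroup.eq_of_le_of_card_ge (Subgroup.zpowers_le.2 h7) (by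
            rw [Nat.card_zpowers, Nat.card_zpowers, hoz, orderOf_eq_prime (he _) h4])
        exact (g i).2.2.2 (Subgroup.zpowers_le.2 h2 (h5 ▸ Subgroup.mem_zpowers z))
      · intro L
        obtain ⟨x, hx, hx1⟩ : ∃ x ∈ L.1, x ≠ 1 := by
          by_contra h
          push Not at h
          have := (Subgroup.eq_bot_iff_forall _).2 h
          have h1 := L.2.2.1
          rw [this, Subgroup.card_bot] at h1
          exact hp.out.ne_one h1.symm
        haveI := hn (Subgroup.zpowers w)
        obtain ⟨_, ⟨a, rfl⟩, _, ⟨b, rfl⟩, hab⟩ := Subgroup.mem_sup_of_normal_right.1 (L.2.1 hx)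
        simp only at hab
        by_cases hpb : (p : ℤ) ∣ b
        · obtain ⟨l, rfl⟩ := hpb
          rw [zpow_mul w, zpow_natCast, he, one_zpow, mul_one] at hab
          exfalso
          refine L.2.2.2 ?_
          have : Subgroup.zpowers z = L.1 := by
            have h5 : Subgroup.zpowers x = L.1 := Subgroup.eq_of_le_of_card_ge (Subgroup.zpowers_le.2 hx)
              (by rw [L.2.2.1, Nat.card_zpowers, orderOf_eq_prime (he _) hx1])
            rw [← h5]
            exact (Subgroup.eq_of_le_of_card_ge (H := Subgroup.zpowers x) (Subgroup.zpowers_le.2 (Subgroup.mem_zpowers_iff.2 ⟨a, hab⟩)) (by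
              rw [Nat.card_zpowers, Nat.card_zpowers, hoz, orderOf_eq_prime (he _) hx1])).symm
          exact this ▸ Subgroup.mem_zpowers z
        · obtain ⟨u, v, huv⟩ := ((Nat.prime_iff_prime_int.1 hp.out).coprime_iff_not_dvd.2 hpb)
          have hxv : x ^ v = w * z ^ (a * v) := by
            rw [← hab, (show Commute (z ^ a) (w ^ b) from hc _ _).mul_zpow, ← zpow_mul, ← zpow_mul,
              hc, mul_comm b v, show v * b = 1 - u * (p : ℤ) from by linarith, zpow_sub, zpow_one,
              mul_comm u, zpow_mul, zpow_natCast, he, one_zpow, inv_one, mul_one]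
          refine ⟨⟨((a * v) % (p : ℤ)).toNat, ?_⟩, Subtype.ext ?_⟩
          · have h1 := Int.emod_lt_of_pos (a * v) (by exact_mod_cast hp.out.pos : (0 : ℤ) < p)
            have h2 := Int.emod_nonneg (a * v) (by exact_mod_cast hp.out.ne_zero : (p : ℤ) ≠ 0)
            omega
          · have hi : z ^ ((a * v) % (p : ℤ)).toNat = z ^ (a * v) := by
              rw [← zpow_natCast, Int.toNat_of_nonneg (Int.emod_nonneg _ (by exact_mod_cast hp.out.ne_zero))]
              conv_rhs => rw [← zpow_mod_orderOf, hoz]
            show Subgroup.zpowers (w * z ^ ((a * v) % (p : ℤ)).toNat) = L.1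
            rw [hi, ← hxv]
            refine Subgroup.eq_of_le_of_card_ge (Subgroup.zpowers_le.2 (zpow_mem hx v)) ?_
            rw [L.2.2.1, Nat.card_zpowers, orderOf_eq_prime (he _) fun h => ?_]
            rw [hxv] at h
            exact hw (by rw [mul_eq_one_iff_eq_inv.1 h]; exact inv_mem (zpow_mem (Subgroup.mem_zpowers z) _))
    rw [← Nat.card_congr (Equiv.ofBijective g hg), Nat.card_fin]

/-- The number of subgroups of index `p` of an elementary abelian group, modulo `p ^ 2`. -/
theorem card_index_elementary : ∀ (d : ℕ) (V : Type u) [Group V] [Finite V], Nat.card V = p ^ (d + 2) →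
    (∀ x y : V, x * y = y * x) → (∀ x : V, x ^ p = 1) →
    Nat.card {M : Subgroup V // M.index = p} ≡ 1 + p [MOD p ^ 2] := by
  intro d
  induction d with
  | zero =>
    intro V _ _ hV hc he
    rw [zero_add] at hV
    haveI : Nontrivial V := Finite.one_lt_card_iff_nontrivial.1 (by rw [hV]; exact Nat.one_lt_pow two_ne_zero hp.out.one_lt)
    obtain ⟨z, hz⟩ := exists_ne (1 : V)
    rw [card_split z, card_avoiding 1 V hV hc he z hz]
    have h1 : Nat.card {M : Subgroup V // M.index = p ∧ z ∈ M} = 1 := by
      rw [Nat.card_eq_one_iff_unique]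
      have hoz : orderOf z = p := orderOf_eq_prime (he z) hz
      have hzi : (Subgroup.zpowers z).index = p := by
        have h := (Subgroup.zpowers z).card_mul_index
        rw [Nat.card_zpowers, hoz, hV, pow_two] at h
        exact Nat.eq_of_mul_eq_mul_left hp.out.pos h
      have hu : ∀ M : Subgroup V, M.index = p → z ∈ M → M = Subgroup.zpowers z := fun M hM hzM => by
        refine (Subgroup.eq_of_le_of_card_ge (Subgroup.zpowers_le.2 hzM) ?_).symm
        have h := M.card_mul_index
        rw [hM, hV, pow_two] at h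
        rw [Nat.card_zpowers, hoz, Nat.eq_of_mul_eq_mul_right hp.out.pos h]
      exact ⟨⟨fun a b => Subtype.ext ((hu _ a.2.1 a.2.2).trans (hu _ b.2.1 b.2.2).symm)⟩,
        ⟨_, hzi, Subgroup.mem_zpowers z⟩⟩
    rw [h1, pow_one]
  | succ d ih =>
    intro V _ _ hV hc he
    haveI : Nontrivial V := Finite.one_lt_card_iff_nontrivial.1 (by rw [hV]; exact Nat.one_lt_pow (by omega) hp.out.one_lt)
    obtain ⟨z, hz⟩ := exists_ne (1 : V)
    rw [card_split z, card_avoiding (d + 2) V hV hc he z hz]
    have h0 : p ^ (d + 2) ≡ 0 [MOD p ^ 2] :=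
      Nat.modEq_zero_iff_dvd.2 (Nat.pow_dvd_pow p (by omega))
    refine (Nat.ModEq.add_left _ h0).trans ?_
    rw [Nat.add_zero]
    haveI : (Subgroup.zpowers z).Normal := ⟨fun x hx g => by rwa [hc g x, mul_inv_cancel_right]⟩
    have e : {M : Subgroup V // M.index = p ∧ z ∈ M} ≃
        {W : Subgroup V // Subgroup.zpowers z ≤ W ∧ W.index = p} :=
      Equiv.subtypeEquivRight fun M => by rw [Subgroup.zpowers_le, and_comm]
    rw [Nat.card_congr (e.trans (equivQuot (Subgroup.zpowers z) p))]
    refine ih _ ?_ (fun a b => ?_) (fun a => ?_)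
    · have h := (Subgroup.zpowers z).card_mul_index
      rw [Nat.card_zpowers, orderOf_eq_prime (he z) hz, hV, pow_succ'] at h
      rw [← Subgroup.index_eq_card]
      exact Nat.eq_of_mul_eq_mul_left hp.out.pos h
    · obtain ⟨a, rfl⟩ := QuotientGroup.mk'_surjective _ a
      obtain ⟨b, rfl⟩ := QuotientGroup.mk'_surjective _ b
      rw [← map_mul, ← map_mul, hc]
    · obtain ⟨a, rfl⟩ := QuotientGroup.mk'_surjective _ a
      rw [← map_pow, he, map_one]

theorem mem_frattini_pow (hG : IsPGroup p G) (x : G) : x ^ p ∈ frattini G :=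
  PGroupBasics.pow_mem_frattini hG x

theorem comm_mem_frattini (hG : IsPGroup p G) (x y : G) : x * y * x⁻¹ * y⁻¹ ∈ frattini G :=
  haveI := hG.isNilpotent
  SolvStruct.commutator_le_frattini G
    (Subgroup.commutator_mem_commutator (Subgroup.mem_top x) (Subgroup.mem_top y))

/-- A quotient over the Frattini subgroup is elementary abelian. -/
theorem quotient_elementary (hG : IsPGroup p G) (K : Subgroup G) [K.Normal] (hK : frattini G ≤ K) :
    (∀ x y : G ⧸ K, x * y = y * x) ∧ ∀ x : G ⧸ K, x ^ p = 1 := by
  constructor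
  · intro x y
    obtain ⟨x, rfl⟩ := QuotientGroup.mk'_surjective K x
    obtain ⟨y, rfl⟩ := QuotientGroup.mk'_surjective K y
    have h : QuotientGroup.mk' K (x * y * x⁻¹ * y⁻¹) = 1 :=
      (QuotientGroup.eq_one_iff _).2 (hK (comm_mem_frattini hG x y))
    simp only [map_mul, map_inv] at h
    calc QuotientGroup.mk' K x * QuotientGroup.mk' K y =
        (QuotientGroup.mk' K x * QuotientGroup.mk' K y * (QuotientGroup.mk' K x)⁻¹ * (QuotientGroup.mk' K y)⁻¹) *
          (QuotientGroup.mk' K y * QuotientGroup.mk' K x) := by group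
      _ = _ := by rw [h, one_mul]
  · intro x
    obtain ⟨x, rfl⟩ := QuotientGroup.mk'_surjective K x
    rw [← map_pow]
    exact (QuotientGroup.eq_one_iff _).2 (hK (mem_frattini_pow hG x))

theorem normal_of_frattini_le (hG : IsPGroup p G) {K : Subgroup G} (hK : frattini G ≤ K) : K.Normal :=
  ⟨fun x hx g => by
    have := mul_mem (hK (comm_mem_frattini hG g x)) hx
    simpa [mul_assoc] using this⟩

theorem frattini_le_of_index (hG : IsPGroup p G) {M : Subgroup G} (hM : M.index = p) : frattini G ≤ M := by
  refine frattini_le_coatom ⟨fun h => ?_, fun B hB => ?_⟩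
  · rw [h, Subgroup.index_top] at hM
    exact hp.out.ne_one hM.symm
  · have h := Subgroup.relIndex_mul_index hB.le
    rw [hM] at h
    rcases hp.out.eq_one_or_self_of_dvd _ (Dvd.intro _ h) with h1 | h1
    · exact absurd (Subgroup.relIndex_eq_one.1 h1) hB.not_ge
    · rw [h1] at h
      exact Subgroup.index_eq_one.1 (Nat.eq_of_mul_eq_mul_left hp.out.pos (h.trans (mul_one p).symm))

/-- The Frattini subgroup of a noncyclic group has index at least `p ^ 2`. -/
theorem sq_dvd_index_frattini (hG : IsPGroup p G) (hnc : ¬ IsCyclic G) : p ^ 2 ∣ (frattini G).index := by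
  obtain ⟨i, hi⟩ := IsPGroup.iff_card.1 (hG.to_quotient (frattini G))
  rw [Subgroup.index_eq_card, hi]
  refine Nat.pow_dvd_pow p ?_
  by_contra h2
  apply hnc
  haveI : IsCyclic (G ⧸ frattini G) := by
    rcases Nat.le_one_iff_eq_zero_or_eq_one.1 (Nat.lt_succ_iff.1 (Nat.not_le.1 h2)) with rfl | rfl
    · haveI : Subsingleton (G ⧸ frattini G) := (Nat.card_eq_one_iff_unique.1 (by rw [hi, pow_zero])).1
      exact isCyclic_of_subsingleton
    · exact isCyclic_of_prime_card (p := p) (by rw [hi, pow_one])
  obtain ⟨y, hy⟩ := IsCyclic.exists_generator (α := G ⧸ frattini G)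
  obtain ⟨g, rfl⟩ := QuotientGroup.mk'_surjective _ y
  rw [Subgroup.isCyclic_iff_exists_zpowers_eq_top (⊤ : Subgroup G) |> (fun h => (MulEquiv.isCyclic Subgroup.topEquiv).symm.trans h)]
  refine ⟨g, frattini_nongenerating (eq_top_iff.2 fun x _ => ?_)⟩
  obtain ⟨i, hi2⟩ := hy (QuotientGroup.mk' _ x)
  have : (g ^ i)⁻¹ * x ∈ frattini G := by
    rw [← QuotientGroup.eq_one_iff]
    change QuotientGroup.mk' _ ((g ^ i)⁻¹ * x) = 1
    rw [map_mul, map_inv, map_zpow]
    simp only at hi2
    rw [hi2, inv_mul_cancel]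
  have h3 := mul_mem (Subgroup.mem_sup_left (T := frattini G) ((Subgroup.zpowers g).zpow_mem (Subgroup.mem_zpowers g) i))
    (Subgroup.mem_sup_right this)
  rwa [mul_inv_cancel_left] at h3

/-- Subgroups of index `p` above `K`. -/
theorem card_above (hG : IsPGroup p G) {K : Subgroup G} (hK : frattini G ≤ K) (hne : K ≠ ⊤) :
    (K.index = p → Nat.card {M : Subgroup G // K ≤ M ∧ M.index = p} = 1) ∧
    (p ^ 2 ∣ K.index → Nat.card {M : Subgroup G // K ≤ M ∧ M.index = p} ≡ 1 + p [MOD p ^ 2]) ∧
    (p ^ 2 ∣ K.index → Nat.card {M : Subgroup G // K ≤ M ∧ M.index = p ^ 2} ≡ 1 [MOD p]) ∧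
    (K.index = p ∨ p ^ 2 ∣ K.index) := by
  haveI := normal_of_frattini_le hG hK
  obtain ⟨hc, he⟩ := quotient_elementary hG K hK
  obtain ⟨i, hi⟩ := IsPGroup.iff_card.1 (hG.to_quotient K)
  have hi' : K.index = p ^ i := by rw [Subgroup.index_eq_card, hi]
  refine ⟨fun h => ?_, fun h => ?_, fun h => ?_, ?_⟩
  · rw [Nat.card_eq_one_iff_unique]
    have hu : ∀ M : Subgroup G, K ≤ M → M.index = p → M = K := fun M hKM hM => by
      have h2 := Subgroup.relIndex_mul_index hKM
      rw [hM, h] at h2
      exact le_antisymm (Subgroup.relIndex_eq_one.1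
        (Nat.eq_of_mul_eq_mul_right hp.out.pos (h2.trans (one_mul p).symm))) hKM
    exact ⟨⟨fun a b => Subtype.ext ((hu _ a.2.1 a.2.2).trans (hu _ b.2.1 b.2.2).symm)⟩, ⟨K, le_rfl, h⟩⟩
  · rw [hi', Nat.pow_dvd_pow_iff_le_right hp.out.one_lt] at h
    obtain ⟨d, rfl⟩ := Nat.exists_eq_add_of_le h
    rw [Nat.card_congr (equivQuot K p)]
    exact card_index_elementary d _ (by rw [hi, Nat.add_comm]) hc he
  · rw [hi', Nat.pow_dvd_pow_iff_le_right hp.out.one_lt] at h
    obtain ⟨d, rfl⟩ := Nat.exists_eq_add_of_le h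
    rw [Nat.card_congr (equivQuot K (p ^ 2))]
    have e : {W : Subgroup (G ⧸ K) // W.index = p ^ 2} ≃ {W : Subgroup (G ⧸ K) // Nat.card W = p ^ d} :=
      Equiv.subtypeEquivRight fun W => by
        have h1 := W.card_mul_index
        rw [hi, pow_add, mul_comm (p ^ 2)] at h1
        constructor <;> intro h2 <;> rw [h2] at h1
        · exact Nat.eq_of_mul_eq_mul_right (pow_pos hp.out.pos _) h1
        · exact Nat.eq_of_mul_eq_mul_left (pow_pos hp.out.pos _) h1
    rw [Nat.card_congr e]
    classical
    exact SubgroupCount.card_subgroups_modEq_one p d hp.out (hi ▸ Nat.pow_dvd_pow p (by omega))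
  · rw [hi']
    rcases Nat.lt_or_ge i 2 with h2 | h2
    · rcases Nat.le_one_iff_eq_zero_or_eq_one.1 (Nat.lt_succ_iff.1 h2) with rfl | rfl
      · exact absurd (Subgroup.index_eq_one.1 (by rw [hi', pow_zero])) hne
      · exact Or.inl (pow_one p)
    · exact Or.inr (Nat.pow_dvd_pow p h2)

/-- The number of subgroups of index `p` of a noncyclic group, modulo `p ^ 2`. -/
theorem card_maximal_modEq (hG : IsPGroup p G) (hnc : ¬ IsCyclic G) :
    Nat.card {M : Subgroup G // M.index = p} ≡ 1 + p [MOD p ^ 2] := by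
  have hne : frattini G ≠ ⊤ := fun h => by
    have := sq_dvd_index_frattini hG hnc
    rw [h, Subgroup.index_top, Nat.dvd_one] at this
    exact absurd this (Nat.one_lt_pow two_ne_zero hp.out.one_lt).ne'
  have h := (card_above hG le_rfl hne).2.1 (sq_dvd_index_frattini hG hnc)
  refine Nat.ModEq.trans ?_ h
  rw [Nat.card_congr (Equiv.subtypeEquivRight fun M => ⟨fun h => ⟨frattini_le_of_index hG h, h⟩, And.right⟩)]

/-- Subgroups of a subgroup. -/
noncomputable def equivBelow (M : Subgroup G) (n : ℕ) :
    {H : Subgroup M // Nat.card H = n} ≃ {H : Subgroup G // H ≤ M ∧ Nat.card H = n} where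
  toFun H := ⟨H.1.map M.subtype, Subgroup.map_subtype_le _, by
    rw [Subgroup.card_map_of_injective M.subtype_injective, H.2]⟩
  invFun H := ⟨H.1.subgroupOf M, by
    rw [Nat.card_congr (Subgroup.subgroupOfEquivOfLe H.2.1).toEquiv, H.2.2]⟩
  left_inv H := Subtype.ext (Subgroup.comap_map_eq_self_of_injective M.subtype_injective H.1)
  right_inv H := Subtype.ext (Subgroup.map_subgroupOf_eq_of_le H.2.1)

/-- **Hall's enumeration principle** modulo `p ^ 2`, for the subgroups of order `p ^ k`. -/
theorem enumeration [Fintype (Subgroup G)] [DecidablePred fun M : Subgroup G => M.index = p]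
    {m k : ℕ} (hG : Nat.card G = p ^ m) (hnc : ¬ IsCyclic G) (hk : k + 2 ≤ m) :
    ∑ M ∈ Finset.univ.filter (fun M : Subgroup G => M.index = p), Nat.card {H : Subgroup M // Nat.card H = p ^ k} ≡
      Nat.card {H : Subgroup G // Nat.card H = p ^ k} + p [MOD p ^ 2] := by
  classical
  have hGp := IsPGroup.of_card hG
  have hnum : ∀ q : Subgroup G → Prop, ∀ [DecidablePred q],
      (Finset.univ.filter q).card = Nat.card {H : Subgroup G // q H} := fun q _ => by
    rw [Nat.card_eq_fintype_card, Fintype.card_subtype]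
  set Hs := Finset.univ.filter (fun H : Subgroup G => Nat.card H = p ^ k) with hHs
  set Ms := Finset.univ.filter (fun M : Subgroup G => M.index = p) with hMs
  set Ws := Finset.univ.filter (fun W : Subgroup G => frattini G ≤ W ∧ W.index = p ^ 2) with hWs
  set B := Hs.filter (fun H => p ^ 2 ∣ (H ⊔ frattini G).index) with hB
  -- double counting
  have hsum : ∀ S : Finset (Subgroup G),
      ∑ M ∈ S, Nat.card {H : Subgroup M // Nat.card H = p ^ k} =
        ∑ H ∈ Hs, (S.filter (fun M => H ≤ M)).card := by
    intro S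
    calc ∑ M ∈ S, Nat.card {H : Subgroup M // Nat.card H = p ^ k}
        = ∑ M ∈ S, (Hs.filter (fun H => H ≤ M)).card := Finset.sum_congr rfl fun M _ => by
          rw [Nat.card_congr (equivBelow M (p ^ k)), hHs, Finset.filter_filter, hnum]
          exact Nat.card_congr (Equiv.subtypeEquivRight fun H => and_comm)
      _ = _ := by
          simp only [Finset.card_filter]
          exact Finset.sum_comm
  -- the maximal subgroups above one subgroup
  have hneH : ∀ H ∈ Hs, H ⊔ frattini G ≠ ⊤ := fun H hH h => by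
    have h1 := frattini_nongenerating h
    have h2 := (Finset.mem_filter.1 hH).2
    rw [h1, Subgroup.card_top, hG] at h2
    have := Nat.pow_right_injective hp.out.two_le h2
    omega
  have habove : ∀ H : Subgroup G, (Ms.filter (fun M => H ≤ M)).card =
      Nat.card {M : Subgroup G // H ⊔ frattini G ≤ M ∧ M.index = p} := fun H => by
    rw [hMs, Finset.filter_filter, hnum]
    exact Nat.card_congr (Equiv.subtypeEquivRight fun M =>
      ⟨fun h => ⟨sup_le h.2 (frattini_le_of_index hGp h.1), h.1⟩, fun h => ⟨h.2, le_sup_left.trans h.1⟩⟩)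
  have hM1 : ∀ H ∈ Hs, (Ms.filter (fun M => H ≤ M)).card ≡
      1 + (if p ^ 2 ∣ (H ⊔ frattini G).index then p else 0) [MOD p ^ 2] := fun H hH => by
    obtain ⟨h1, h2, -, h4⟩ := card_above hGp (le_sup_right : frattini G ≤ H ⊔ frattini G) (hneH H hH)
    rw [habove]
    split_ifs with h
    · exact h2 h
    · rw [h1 (h4.resolve_right h)]
  have hW1 : ∀ H ∈ Hs, (Ws.filter (fun W => H ≤ W)).card ≡
      (if p ^ 2 ∣ (H ⊔ frattini G).index then 1 else 0) [MOD p] := fun H hH => by
    have hcard : (Ws.filter (fun W => H ≤ W)).card =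
        Nat.card {M : Subgroup G // H ⊔ frattini G ≤ M ∧ M.index = p ^ 2} := by
      rw [hWs, Finset.filter_filter, hnum]
      exact Nat.card_congr (Equiv.subtypeEquivRight fun M =>
        ⟨fun h => ⟨sup_le h.2 h.1.1, h.1.2⟩, fun h => ⟨⟨le_sup_right.trans h.1, h.2⟩, le_sup_left.trans h.1⟩⟩)
    obtain ⟨-, -, h3, -⟩ := card_above hGp (le_sup_right : frattini G ≤ H ⊔ frattini G) (hneH H hH)
    rw [hcard]
    split_ifs with h
    · exact h3 h
    · rw [Nat.card_eq_zero.2 (Or.inl ⟨fun (M : {M : Subgroup G // H ⊔ frattini G ≤ M ∧ M.index = p ^ 2}) => h (M.2.2 ▸ Subgroup.index_dvd_of_le M.2.1)⟩)]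
  -- the number of subgroups below at least two maximal ones
  have hBcount : B.card ≡ 1 [MOD p] := by
    have h1 : ∑ W ∈ Ws, Nat.card {H : Subgroup W // Nat.card H = p ^ k} ≡ B.card [MOD p] := by
      rw [hsum]
      refine (Nat.ModEq.sum fun H hH => hW1 H hH).trans ?_
      rw [← Finset.card_filter]
    have h2 : ∑ W ∈ Ws, Nat.card {H : Subgroup W // Nat.card H = p ^ k} ≡ Ws.card [MOD p] := by
      rw [Finset.card_eq_sum_ones]
      refine Nat.ModEq.sum fun W hW => SubgroupCount.card_subgroups_modEq_one p k hp.out ?_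
      have h := W.card_mul_index
      rw [(Finset.mem_filter.1 hW).2.2, hG, show m = (m - 2) + 2 from by omega, pow_add] at h
      rw [Nat.eq_of_mul_eq_mul_right (pow_pos hp.out.pos _) h]
      exact Nat.pow_dvd_pow p (by omega)
    have hne : frattini G ≠ ⊤ := fun h => by
      have := sq_dvd_index_frattini hGp hnc
      rw [h, Subgroup.index_top, Nat.dvd_one] at this
      exact absurd this (Nat.one_lt_pow two_ne_zero hp.out.one_lt).ne'
    have h3 : Ws.card ≡ 1 [MOD p] := by
      rw [hWs, hnum]
      exact (card_above hGp le_rfl hne).2.2.1 (sq_dvd_index_frattini hGp hnc)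
    exact (h1.symm.trans h2).trans h3
  rw [hsum]
  refine (Nat.ModEq.sum fun H hH => hM1 H hH).trans ?_
  rw [Finset.sum_add_distrib, ← Finset.card_eq_sum_ones, ← Finset.sum_filter, ← hB, Finset.sum_const,
    smul_eq_mul, hnum]
  refine Nat.ModEq.add_left _ ?_
  rw [pow_two]
  simpa using hBcount.mul_right' p

end Cfsg.Agent.MaximalCount
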