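import Cfsg.Agent.Lib.FGStruct.RankTwoOdd.Classify
import Cfsg.Agent.Lib.Fusion.ClosedMetacyclic
import Cfsg.Agent.Lib.FGStruct.MaximalCount
import Cfsg.Agent.Lib.PLocal.OmegaSmall

/-!
# Automorphisms of order `p` of metacyclic `p`-groups (`p` odd)

`L` normal of index `p`, regular, with `Ω₁(L) = E` of order `p ^ 2` consisting of `p`-th powers, and
`a ∉ L` of order `p`.  If `a` moves `E` then `p = 3` and `|C(a)| = p ^ 2`; conversely in a `3`-group of
maximal class `a` must move `E`.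
-/

set_option autoImplicit false
set_option linter.unusedSectionVars false
set_option linter.style.haveILetI false

open scoped commutatorElement

namespace Cfsg.Agent.MetaAut

universe u

variable {G : Type u} [Group G] [Finite G] {p : ℕ} [hp : Fact p.Prime]

/-- Odd `p`, cyclic derived subgroup: regular. -/
theorem regular_of_cyclic_derived (hp2 : p ≠ 2) (hG : IsPGroup p G) (hD : IsCyclic ↥(commutator G)) :
    Cfsg.IsRegularPGroup p G := by
  refine RegularP.regular_of_levelOne ⟨hG, fun a b => ?_⟩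
  set H := Subgroup.closure ({a, b} : Set G)
  have ha : a ∈ H := Subgroup.subset_closure (by simp)
  have hb : b ∈ H := Subgroup.subset_closure (by simp)
  set D : Subgroup G := ⁅H, H⁆
  have hDle : D ≤ commutator G := by
    rw [commutator_def]; exact Subgroup.commutator_mono le_top le_top
  haveI := hD
  haveI : IsCyclic D := Subgroup.isCyclic_of_le hDle
  obtain ⟨c, hc⟩ := (Subgroup.isCyclic_iff_exists_zpowers_eq_top D).1 inferInstance
  have hcD : c ∈ D := hc ▸ Subgroup.mem_zpowers c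
  have hexp : ∀ g ∈ H, ∃ u : ℤ, (p : ℤ) ∣ u - 1 ∧ ∀ i : ℤ, c ^ i * g = g * c ^ (i * u) := by
    intro g hg
    obtain ⟨u, hu⟩ : g⁻¹ * c * g ∈ Subgroup.zpowers c := by
      rw [hc]
      have hcH : c ∈ H := Subgroup.commutator_le_self H hcD
      have h1 : ⁅g⁻¹, c⁆ ∈ D := Subgroup.commutator_mem_commutator (inv_mem hg) hcH
      have := mul_mem h1 hcD
      simpa [commutatorElement_def] using this
    simp only at hu
    have hpow : ∀ (n : ℕ) (i : ℤ), (g ^ n)⁻¹ * c ^ i * g ^ n = c ^ (i * u ^ n) := by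
      intro n
      induction n with
      | zero => simp
      | succ n ih =>
        intro i
        rw [pow_succ g, mul_inv_rev, show g⁻¹ * (g ^ n)⁻¹ * c ^ i * (g ^ n * g) =
          g⁻¹ * ((g ^ n)⁻¹ * c ^ i * g ^ n) * g from by group, ih,
          show g⁻¹ * c ^ (i * u ^ n) * g = (g⁻¹ * c * g) ^ (i * u ^ n) from by
            have := conj_zpow (i := i * u ^ n) (a := g⁻¹) (b := c)
            rw [inv_inv] at this
            exact this.symm, ← hu, ← zpow_mul]
        congr 1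
        ring
    rcases eq_or_ne c 1 with rfl | hc1
    · exact ⟨1, by simp, fun i => by simp⟩
    refine ⟨u, ?_, fun i => ?_⟩
    · obtain ⟨k, hk⟩ := hG g
      have h := hpow (p ^ k) 1
      rw [hk, one_mul] at h
      simp only [inv_one, one_mul, mul_one] at h
      have h2 : c ^ (u ^ p ^ k - 1) = 1 := by rw [zpow_sub, ← h, mul_inv_cancel]
      obtain ⟨j, hj⟩ := IsPGroup.iff_orderOf.1 hG c
      rw [← orderOf_dvd_iff_zpow_eq_one, hj] at h2
      have hj0 : j ≠ 0 := fun h0 => hc1 (orderOf_eq_one_iff.1 (by rw [hj, h0, pow_zero]))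
      have h3 : (p : ℤ) ∣ u ^ p ^ k - 1 := (by
        push_cast at h2; exact (dvd_pow_self _ hj0).trans h2)
      rw [← ZMod.intCast_zmod_eq_zero_iff_dvd] at h3 ⊢
      push_cast at h3 ⊢
      rwa [ZMod.pow_card_pow] at h3
    · have h := hpow 1 i
      rw [pow_one, pow_one] at h
      rw [← h]; group
  obtain ⟨u, hu1, hu⟩ := hexp a ha
  obtain ⟨v, hv1, hv⟩ := hexp b hb
  obtain ⟨ε, hε⟩ : b⁻¹ * a⁻¹ * b * a ∈ Subgroup.zpowers c := by
    rw [hc]
    have := Subgroup.commutator_mem_commutator (inv_mem hb : b⁻¹ ∈ H) (inv_mem ha : a⁻¹ ∈ H)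
    simpa [commutatorElement_def] using this
  simp only at hε
  have hba : b * a = a * b * c ^ ε := by rw [hε]; group
  have hE : ∀ n : ℕ, ∃ e : ℤ, b ^ n * a = a * b ^ n * c ^ e ∧ (p : ℤ) ∣ e - n * ε := by
    intro n
    induction n with
    | zero => exact ⟨0, by simp, by simp⟩
    | succ n ih =>
      obtain ⟨e, he, hd⟩ := ih
      refine ⟨e * v + ε, ?_, ?_⟩
      · calc b ^ (n + 1) * a = b ^ n * (b * a) := by rw [pow_succ, mul_assoc]
          _ = (b ^ n * a) * b * c ^ ε := by rw [hba]; group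
          _ = a * b ^ n * (c ^ e * b) * c ^ ε := by rw [he]; group
          _ = _ := by rw [hv, zpow_add, pow_succ]; group
      · have : e * v + ε - ((n + 1 : ℕ) : ℤ) * ε = e * (v - 1) + (e - n * ε) := by push_cast; ring
        rw [this]
        exact dvd_add (hv1.mul_left _) hd
  have hF : ∀ n : ℕ, ∃ F : ℤ, (a * b) ^ n = a ^ n * b ^ n * c ^ F ∧ (p : ℤ) ∣ F - (n.choose 2 : ℕ) * ε := by
    intro n
    induction n with
    | zero => exact ⟨0, by simp, by simp⟩
    | succ n ih =>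
      obtain ⟨F, hF, hd⟩ := ih
      obtain ⟨e, he, hed⟩ := hE n
      refine ⟨(e + F * u) * v, ?_, ?_⟩
      · calc (a * b) ^ (n + 1) = a ^ n * b ^ n * (c ^ F * a) * b := by rw [pow_succ, hF]; group
          _ = a ^ n * (b ^ n * a) * (c ^ (F * u) * b) := by rw [hu]; group
          _ = a ^ n * (a * b ^ n) * (c ^ (e + F * u) * b) := by rw [he, zpow_add]; group
          _ = _ := by rw [hv, pow_succ, pow_succ]; group
      · rw [Nat.choose_succ_succ' n 1, Nat.choose_one_right]
        have : (e + F * u) * v - ((n + n.choose 2 : ℕ) : ℤ) * ε =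
            (e + F * u) * (v - 1) + F * (u - 1) + (e - n * ε) + (F - (n.choose 2 : ℕ) * ε) := by push_cast; ring
        rw [this]
        exact dvd_add (dvd_add (dvd_add (hv1.mul_left _) (hu1.mul_left _)) hed) hd
  obtain ⟨F, hF, hd⟩ := hF p
  obtain ⟨t, ht⟩ : (p : ℤ) ∣ F := by
    have h2 : (p : ℤ) ∣ ((p.choose 2 : ℕ) : ℤ) :=
      Int.natCast_dvd_natCast.2 (RankTwoOdd.dvd_choose_two hp2)
    have := dvd_add hd (h2.mul_right ε)
    rwa [sub_add_cancel] at this
  refine ⟨(c ^ t) ^ p ^ 1, Subgroup.subset_closure ⟨c ^ t, zpow_mem hcD t, rfl⟩, ?_⟩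
  rw [pow_one, hF, ht, mul_comm (p : ℤ), zpow_mul, zpow_natCast]

/-- Regularity passes to images. -/
theorem regular_of_surjective {L M : Type u} [Group L] [Group M] [Finite L] [Finite M]
    (f : L →* M) (hf : Function.Surjective f) (hL : Cfsg.IsRegularPGroup p L) : Cfsg.IsRegularPGroup p M := by
  refine ⟨hL.1.of_surjective f hf, fun a b n => ?_⟩
  obtain ⟨a, rfl⟩ := hf a
  obtain ⟨b, rfl⟩ := hf b
  obtain ⟨c, hc, he⟩ := hL.2 a b n
  refine ⟨f c, ?_, ?_⟩
  · have h := OmegaSmall.map_powerClosure_le (p := p) f n _ (Subgroup.mem_map_of_mem _ hc)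
    rw [Subgroup.map_commutator, MonoidHom.map_closure, Set.image_pair] at h
    exact h
  · rw [← map_mul, ← map_pow, he, map_mul, map_mul, map_pow, map_pow]

/-- A group of order at most `p ^ 3` has class at most two. -/
theorem triple_mem {H N : Subgroup G} [N.Normal] (hG : IsPGroup p G) (hNH : N ≤ H)
    (hc : Nat.card H ≤ p ^ 3 * Nat.card N) {x y z : G} (hx : x ∈ H) (hy : y ∈ H) (hz : z ∈ H) :
    ⁅⁅x, y⁆, z⁆ ∈ N := by
  set π := QuotientGroup.mk' N
  set K := H.map π
  have hK : Nat.card K ≤ p ^ 3 := by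
    rw [RankTwoOdd.card_eq_map_mul N hNH] at hc
    exact Nat.le_of_mul_le_mul_right hc Nat.card_pos
  have hKp : IsPGroup p K := (hG.to_quotient N).to_subgroup K
  obtain ⟨i, hi⟩ := IsPGroup.iff_card.1 hKp
  have hi3 : i ≤ 3 := (Nat.pow_le_pow_iff_right hp.out.one_lt).1 (hi ▸ hK)
  have hbot : (⊤ : Subgroup K).lowerCentralSeries 2 = ⊥ := by
    rcases Nat.lt_or_ge i 2 with h | h
    · have h1 : ∀ a b : K, a * b = b * a := by
        haveI : IsCyclic K := by
          rcases Nat.le_one_iff_eq_zero_or_eq_one.1 (Nat.lt_succ_iff.1 h) with rfl | rfl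
          · haveI : Subsingleton K := (Nat.card_eq_one_iff_unique.1 (by rw [hi, pow_zero])).1
            exact isCyclic_of_subsingleton
          · exact isCyclic_of_prime_card (p := p) (by rw [hi, pow_one])
        exact fun a b => (IsCyclic.commGroup (α := K)).mul_comm a b
      rw [eq_bot_iff]
      refine le_trans (Subgroup.lowerCentralSeries_antitone _ (show 1 ≤ 2 by norm_num)) ?_
      rw [Subgroup.top_lowerCentralSeries_one, commutator_def, Subgroup.commutator_le]
      intro a _ b _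
      rw [Subgroup.mem_bot, commutatorElement_eq_one_iff_mul_comm]
      exact h1 a b
    · rw [eq_bot_iff, ← MaxClass.lcs_eq_bot hKp hi h]
      exact Subgroup.lowerCentralSeries_antitone _ (by omega)
  have h1 : ⁅⁅(⟨π x, x, hx, rfl⟩ : K), (⟨π y, y, hy, rfl⟩ : K)⁆, (⟨π z, z, hz, rfl⟩ : K)⁆ ∈
      (⊤ : Subgroup K).lowerCentralSeries 2 := by
    rw [Subgroup.lowerCentralSeries_succ, Subgroup.top_lowerCentralSeries_one]
    exact Subgroup.commutator_mem_commutator
      (Subgroup.commutator_mem_commutator (Subgroup.mem_top _) (Subgroup.mem_top _)) (Subgroup.mem_top _)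
  rw [hbot, Subgroup.mem_bot] at h1
  rw [← QuotientGroup.eq_one_iff]
  change π ⁅⁅x, y⁆, z⁆ = 1
  rw [map_commutatorElement, map_commutatorElement]
  simpa [commutatorElement_def] using congrArg Subtype.val h1

/-- Iterating an automorphism with a three step unipotent orbit. -/
theorem iterate_conj {α w d f g : G} (hw : α * w * α⁻¹ = w * d) (hd : α * d * α⁻¹ = d * f)
    (hf : α * f * α⁻¹ = f * g) (hg : α * g * α⁻¹ = g) (hdf : Commute d f) (hfg : Commute f g) :
    ∀ n : ℕ, α ^ n * w * (α ^ n)⁻¹ = w * (d ^ n * f ^ n.choose 2 * g ^ n.choose 3) := by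
  intro n
  induction n with
  | zero => simp
  | succ n ih =>
    have hconj : ∀ x y : G, α * (x * y) * α⁻¹ = (α * x * α⁻¹) * (α * y * α⁻¹) := fun x y => by group
    calc α ^ (n + 1) * w * (α ^ (n + 1))⁻¹ = α * (α ^ n * w * (α ^ n)⁻¹) * α⁻¹ := by rw [pow_succ']; group
      _ = α * (w * (d ^ n * f ^ n.choose 2 * g ^ n.choose 3)) * α⁻¹ := by rw [ih]
      _ = (w * d) * ((d ^ n * f ^ n) * (f ^ n.choose 2 * g ^ n.choose 2) * g ^ n.choose 3) := by
          rw [hconj, hw, hconj, hconj, ← conj_pow, ← conj_pow, ← conj_pow, hd, hf, hg, hdf.mul_pow, hfg.mul_pow]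
      _ = w * ((d * d ^ n) * (f ^ n * f ^ n.choose 2) * (g ^ n.choose 2 * g ^ n.choose 3)) := by group
      _ = _ := by
          rw [← pow_succ', ← pow_add, ← pow_add, Nat.choose_succ_succ' n 1, Nat.choose_one_right,
            Nat.choose_succ_succ' n 2]

/-- The subgroup `L` is regular, `E = Ω₁(L)` has order `p ^ 2` and consists of `p`-th powers. -/
structure Good (p : ℕ) (L E : Subgroup G) : Prop where
  reg : Cfsg.IsRegularPGroup p L
  le : E ≤ L
  card : Nat.card E = p ^ 2
  omega : ∀ x ∈ L, (x ^ p = 1 ↔ x ∈ E)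
  pow : ∀ x ∈ E, ∃ w ∈ L, w ^ p = x

namespace Good

variable {L E : Subgroup G} (hL : Good p L E)
include hL

theorem pow_iff (k : ℕ) {a b : G} (ha : a ∈ L) (hb : b ∈ L) :
    a ^ p ^ k = b ^ p ^ k ↔ (a⁻¹ * b) ^ p ^ k = 1 := by
  have h := RegularP.pow_eq_iff hL.reg k (⟨a, ha⟩ : L) ⟨b, hb⟩
  simpa [Subtype.ext_iff] using h

theorem epow {e : G} (he : e ∈ E) : e ^ p = 1 := (hL.omega e (hL.le he)).2 he

theorem normal [hLn : L.Normal] : E.Normal := ⟨fun x hx g => (hL.omega _ (hLn.conj_mem x (hL.le hx) g)).1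
  (by rw [conj_pow, hL.epow hx, mul_one, mul_inv_cancel])⟩

theorem exists_omega_two [hLn : L.Normal] (hG : IsPGroup p G) :
    ∃ O : Subgroup G, (∀ x, x ∈ O ↔ x ∈ L ∧ x ^ p ^ 2 = 1) ∧ O.Normal ∧ Nat.card O = p ^ 4 ∧ E ≤ O ∧
      (∀ x ∈ O, ∀ y ∈ O, ⁅x, y⁆ ∈ E) ∧ ∀ e ∈ E, ∀ x ∈ O, Commute x e := by
  haveI := hL.normal
  let O : Subgroup G :=
    { carrier := {x | x ∈ L ∧ x ^ p ^ 2 = 1}
      one_mem' := ⟨one_mem L, one_pow _⟩
      mul_mem' := fun {x y} hx hy => ⟨mul_mem hx.1 hy.1, by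
        have h := RegularP.mul_pow_eq_one hL.reg 2 (a := (⟨x, hx.1⟩ : L)) (b := ⟨y, hy.1⟩)
          (Subtype.ext (by simpa using hx.2)) (Subtype.ext (by simpa using hy.2))
        simpa using congrArg Subtype.val h⟩
      inv_mem' := fun {x} hx => ⟨inv_mem hx.1, by rw [inv_pow, hx.2, inv_one]⟩ }
  have hmem : ∀ x, x ∈ O ↔ x ∈ L ∧ x ^ p ^ 2 = 1 := fun x => Iff.rfl
  have hEO : E ≤ O := fun e he => ⟨hL.le he, by rw [pow_two, pow_mul, hL.epow he, one_pow]⟩
  have hpE : ∀ x ∈ O, x ^ p ∈ E := fun x hx => (hL.omega _ (pow_mem ((hmem x).1 hx).1 p)).1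
    (by rw [← pow_mul, ← pow_two]; exact ((hmem x).1 hx).2)
  have hdiff : ∀ x ∈ O, ∀ y ∈ O, (x ^ p = y ^ p ↔ x⁻¹ * y ∈ E) := fun x hx y hy => by
    have h := hL.pow_iff 1 ((hmem x).1 hx).1 ((hmem y).1 hy).1
    rw [pow_one] at h
    rw [h, hL.omega _ (mul_mem (inv_mem ((hmem x).1 hx).1) ((hmem y).1 hy).1)]
  let f : O ⧸ E.subgroupOf O → E := Quotient.lift (fun x : O => (⟨(x : G) ^ p, hpE x x.2⟩ : E))
    (fun x y h => Subtype.ext ((hdiff x x.2 y y.2).2 (Subgroup.mem_subgroupOf.1 (QuotientGroup.leftRel_apply.1 h))))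
  have hf : Function.Bijective f := by
    constructor
    · intro x y h
      induction x using QuotientGroup.induction_on with | _ x => ?_
      induction y using QuotientGroup.induction_on with | _ y => ?_
      exact QuotientGroup.eq.2 ((hdiff x x.2 y y.2).1 (congrArg Subtype.val h))
    · rintro ⟨e, he⟩
      obtain ⟨w, hw, rfl⟩ := hL.pow e he
      refine ⟨((⟨w, ⟨hw, ?_⟩⟩ : O) : O ⧸ E.subgroupOf O), rfl⟩
      rw [pow_two, pow_mul, hL.epow he]
  have hidx : (E.subgroupOf O).index = p ^ 2 := by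
    rw [Subgroup.index_eq_card, Nat.card_eq_of_bijective f hf, hL.card]
  have hOc : Nat.card O = p ^ 4 := by
    rw [← (E.subgroupOf O).card_mul_index, hidx,
      Nat.card_congr (Subgroup.subgroupOfEquivOfLe hEO).toEquiv, hL.card, ← pow_add]
  have hcomm : ∀ x ∈ O, ∀ y ∈ O, ⁅x, y⁆ ∈ E := by
    intro x hx y hy
    have hq : Nat.card (O ⧸ E.subgroupOf O) = p ^ 2 := by rw [← Subgroup.index_eq_card, hidx]
    letI := IsPGroup.commGroupOfCardEqPrimeSq hq
    have h : QuotientGroup.mk' (E.subgroupOf O) ⁅(⟨x, hx⟩ : O), ⟨y, hy⟩⁆ = 1 := by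
      rw [map_commutatorElement, commutatorElement_eq_one_iff_mul_comm]
      exact mul_comm _ _
    have h2 := Subgroup.mem_subgroupOf.1 ((QuotientGroup.eq_one_iff _).1 h)
    simpa [commutatorElement_def] using h2
  refine ⟨O, hmem, ⟨fun x hx g => ⟨hLn.conj_mem x hx.1 g, by
    rw [conj_pow, hx.2, mul_one, mul_inv_cancel]⟩⟩, hOc, hEO, hcomm, fun e he x hx => ?_⟩
  obtain ⟨w, hw, rfl⟩ := hL.pow e he
  have hwO : w ∈ O := ⟨hw, by rw [pow_two, pow_mul, hL.epow he]⟩
  have h1 : (w⁻¹ * x⁻¹ * w * x) ^ p = 1 := by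
    have := hcomm w⁻¹ (inv_mem hwO) x⁻¹ (inv_mem hx)
    rw [commutatorElement_def, inv_inv, inv_inv] at this
    exact hL.epow this
  have h := (RegularP.commute_pow_iff hL.reg 1 (⟨w, hw⟩ : L) ⟨x, hx.1⟩).2
    (Subtype.ext (by simpa [pow_one] using h1))
  exact (show w ^ p * x = x * w ^ p from by simpa [pow_one, Subtype.ext_iff] using h).symm

/-- The subgroup of `p`-th powers. -/
theorem exists_powers [hLn : L.Normal] {k : ℕ} (hc : Nat.card L = p ^ (k + 2)) :
    ∃ U : Subgroup G, U.Normal ∧ Nat.card U = p ^ k ∧ E ≤ U ∧ U ≤ L ∧ (∀ x, x ∈ U ↔ ∃ w ∈ L, w ^ p = x) ∧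
      ∀ x ∈ L, ∀ y ∈ L, ⁅x, y⁆ ∈ U := by
  have hset := RegularP.powerClosure_eq (RegularP.levelReg_of_regular hL.reg 1) (⊤ : Subgroup L)
  set P := Cfsg.powerClosure p 1 (⊤ : Subgroup L) with hP
  set U := P.map L.subtype with hU
  have hmem : ∀ x, x ∈ U ↔ ∃ w ∈ L, w ^ p = x := by
    intro x
    constructor
    · rintro ⟨y, hy, rfl⟩
      rw [hP, ← hset] at hy
      obtain ⟨z, -, rfl⟩ := hy
      exact ⟨z, z.2, by simp⟩
    · rintro ⟨w, hw, rfl⟩
      exact ⟨⟨w, hw⟩ ^ p ^ 1, Subgroup.subset_closure ⟨⟨w, hw⟩, Subgroup.mem_top _, rfl⟩, by simp⟩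
  have hom : Cfsg.omegaOne p (⊤ : Subgroup L) = E.subgroupOf L := by
    refine le_antisymm (fun x hx => Subgroup.mem_subgroupOf.2
      ((hL.omega _ x.2).1 (by simpa using congrArg Subtype.val (OmegaSmall.mem_omega hL.reg hx)))) fun x hx => ?_
    exact Subgroup.subset_closure ⟨Subgroup.mem_top _,
      Subtype.ext (by simpa using (hL.omega _ x.2).2 (Subgroup.mem_subgroupOf.1 hx))⟩
  have hPi : P.index = p ^ 2 := by
    rw [hP, ← OmegaSmall.card_omega hL.reg, hom,
      Nat.card_congr (Subgroup.subgroupOfEquivOfLe hL.le).toEquiv, hL.card]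
  have hUc : Nat.card U = p ^ k := by
    rw [hU, Subgroup.card_map_of_injective L.subtype_injective]
    have h := P.card_mul_index
    rw [hPi, hc, pow_add] at h
    exact Nat.eq_of_mul_eq_mul_right (pow_pos hp.out.pos _) h
  refine ⟨U, ⟨fun x hx g => ?_⟩, hUc, fun e he => (hmem e).2 (hL.pow e he),
    Subgroup.map_subtype_le _, hmem, fun x hx y hy => ?_⟩
  · obtain ⟨w, hw, rfl⟩ := (hmem x).1 hx
    exact (hmem _).2 ⟨g * w * g⁻¹, hLn.conj_mem w hw g, conj_pow⟩
  · have hq : Nat.card (L ⧸ P) = p ^ 2 := by rw [← Subgroup.index_eq_card, hPi]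
    letI := IsPGroup.commGroupOfCardEqPrimeSq hq
    have h : QuotientGroup.mk' P ⁅(⟨x, hx⟩ : L), ⟨y, hy⟩⁆ = 1 := by
      rw [map_commutatorElement, commutatorElement_eq_one_iff_mul_comm]
      exact mul_comm _ _
    exact ⟨_, (QuotientGroup.eq_one_iff _).1 h, by simp [commutatorElement_def]⟩

end Good

/-- `⁅x⁻¹, α⁆` for conjugation steps. -/
theorem step_eq (α x : G) : α * x * α⁻¹ = x * ⁅x⁻¹, α⁆ := by rw [commutatorElement_def]; group

/-- An element of order `p` outside `L` moving `Ω₁(L)`. -/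
theorem forward (hp2 : p ≠ 2) (hG : IsPGroup p G) {L E : Subgroup G} [hLn : L.Normal] (hLi : L.index = p)
    (hL : Good p L E) {α : G} (hα : α ∉ L) (hαp : α ^ p = 1) {x : G} (hx : x ∈ E) (hmove : α * x ≠ x * α) :
    p = 3 ∧ Nat.card (Subgroup.centralizer ({α} : Set G)) = p ^ 2 := by
  haveI hEn := hL.normal
  obtain ⟨O, hO, hOn, hOc, hEO, hOcomm, hOE⟩ := hL.exists_omega_two hG
  haveI := hOn
  have hαE : α ∉ E := fun h => hα (hL.le h)
  have hαO : α ∉ O := fun h => hα ((hO α).1 h).1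
  have hA1 : Nat.card ↥(E ⊔ Subgroup.zpowers α) = p ^ 3 := by
    rw [RankTwoOdd.card_sup_zpowers E hαp hαE, hL.card]; ring
  have hA2 : Nat.card ↥(O ⊔ Subgroup.zpowers α) = p ^ 3 * Nat.card E := by
    rw [RankTwoOdd.card_sup_zpowers O hαp hαO, hOc, hL.card]; ring
  have hαmem : ∀ K : Subgroup G, α ∈ K ⊔ Subgroup.zpowers α := fun K =>
    Subgroup.mem_sup_right (Subgroup.mem_zpowers α)
  have hEE : ∀ e ∈ E, ⁅⁅α, e⁆, α⁆ = 1 := fun e he => Subgroup.mem_bot.1
    (triple_mem (p := p) (H := E ⊔ Subgroup.zpowers α) (N := ⊥) hG bot_le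
      (by rw [hA1, Subgroup.card_bot, mul_one]) (hαmem E) (Subgroup.mem_sup_left he) (hαmem E))
  -- the orbit
  obtain ⟨w, hwL, rfl⟩ := hL.pow x hx
  have hwO : w ∈ O := (hO w).2 ⟨hwL, by rw [pow_two, pow_mul, hL.epow hx]⟩
  set d := ⁅w⁻¹, α⁆ with hd
  set f := ⁅d⁻¹, α⁆ with hf
  set g := ⁅f⁻¹, α⁆ with hg
  have hdO : d ∈ O := by
    rw [hd, commutatorElement_def, inv_inv, show w⁻¹ * α * w * α⁻¹ = w⁻¹ * (α * w * α⁻¹) by group]
    exact mul_mem (inv_mem hwO) (hOn.conj_mem w hwO α)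
  have hfE : f ∈ E := by
    rw [hf, hd, commutatorElement_inv]
    exact triple_mem (p := p) hG (hEO.trans le_sup_left) hA2.le (hαmem O) (Subgroup.mem_sup_left (inv_mem hwO)) (hαmem O)
  have hgE : g ∈ E := by
    rw [hg, commutatorElement_def, inv_inv, show f⁻¹ * α * f * α⁻¹ = f⁻¹ * (α * f * α⁻¹) by group]
    exact mul_mem (inv_mem hfE) (hEn.conj_mem f hfE α)
  have hfix : ∀ e ∈ E, α * ⁅e⁻¹, α⁆ * α⁻¹ = ⁅e⁻¹, α⁆ := fun e he => by
    have h := hEE e⁻¹ (inv_mem he)
    rw [← commutatorElement_inv e⁻¹ α] at h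
    rw [step_eq α ⁅e⁻¹, α⁆, h, mul_one]
  have hit := iterate_conj (step_eq α w) (step_eq α d) (step_eq α f) (hfix f hfE)
    (hOE f hfE d hdO) (show Commute f g from hOE g hgE f (hEO hfE))
  have hdp : d ^ p ≠ 1 := by
    intro h1
    apply hmove
    have h2 : (w * d) ^ p = w ^ p := by
      have h3 := (hL.pow_iff 1 hwL (mul_mem hwL ((hO d).1 hdO).1)).2 (by rw [inv_mul_cancel_left, pow_one, h1])
      rw [pow_one] at h3
      exact h3.symm
    rw [hd, ← step_eq, conj_pow] at h2
    calc α * w ^ p = α * w ^ p * α⁻¹ * α := by group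
      _ = w ^ p * α := by rw [h2]
  have hrel : d ^ p * f ^ p.choose 2 * g ^ p.choose 3 = 1 := by
    have h := hit p
    rw [hαp, inv_one, one_mul, mul_one] at h
    exact left_eq_mul.1 h
  have hf2 : f ^ p.choose 2 = 1 := by
    obtain ⟨k, hk⟩ := RankTwoOdd.dvd_choose_two (p := p) hp2
    rw [hk, pow_mul, hL.epow hfE, one_pow]
  rw [hf2, mul_one] at hrel
  have h3 : p = 3 := by
    by_contra hne
    have hlt : 3 < p := by have := hp.out.two_le; omega
    obtain ⟨k, hk⟩ := hp.out.dvd_choose_self (k := 3) (by omega) hlt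
    rw [hk, pow_mul, hL.epow hgE, one_pow, mul_one] at hrel
    exact hdp hrel
  refine ⟨h3, ?_⟩
  have hg1 : g ≠ 1 := fun h => hdp (by simpa [h] using hrel)
  have hgd : d ^ p = g⁻¹ := by
    rw [show p.choose 3 = 1 from by rw [h3]; rfl, pow_one] at hrel
    exact eq_inv_of_mul_eq_one_left hrel
  -- the fixed points in `E`
  set C := Subgroup.centralizer ({α} : Set G) with hC
  have hgC : g ∈ C := by
    rw [hC, Subgroup.mem_centralizer_singleton_iff]
    calc g * α = α * g * α⁻¹ * α := by rw [hfix f hfE]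
      _ = α * g := by group
  have hEC : ∀ v ∈ E, v ∈ C → v ∈ Subgroup.zpowers g := by
    intro v hv hvC
    have hlt : Nat.card ↥(E ⊓ C) ≤ p := by
      obtain ⟨i, hi, hie⟩ := (Nat.dvd_prime_pow hp.out).1
        (hL.card ▸ Subgroup.card_dvd_of_le (inf_le_left : E ⊓ C ≤ E))
      rcases Nat.lt_or_ge i 2 with h | h
      · rw [hie]
        exact (Nat.pow_le_pow_right hp.out.pos (Nat.lt_succ_iff.1 h)).trans (pow_one p).le
      · exfalso
        have he : E ⊓ C = E := Subgroup.eq_of_le_of_card_ge inf_le_left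
          (by rw [hie, hL.card]; exact Nat.pow_le_pow_right hp.out.pos h)
        exact hmove (Subgroup.mem_centralizer_singleton_iff.1 (inf_eq_left.1 he hx)).symm
    have heq : Subgroup.zpowers g = E ⊓ C := Subgroup.eq_of_le_of_card_ge
      (Subgroup.zpowers_le.2 ⟨hgE, hgC⟩) (by rw [Nat.card_zpowers, orderOf_eq_prime (hL.epow hgE) hg1]; exact hlt)
    rw [heq]
    exact ⟨hv, hvC⟩
  have hCL : C ⊓ L = Subgroup.zpowers g := by
    refine le_antisymm (fun v hv => ?_) (Subgroup.zpowers_le.2 ⟨hgC, hL.le hgE⟩)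
    by_cases hvE : v ∈ E
    · exact hEC v hvE hv.1
    exfalso
    obtain ⟨i, hi⟩ := IsPGroup.iff_orderOf.1 hG v
    have hi2 : 2 ≤ i := by
      by_contra h
      refine hvE ((hL.omega v hv.2).1 (orderOf_dvd_iff_pow_eq_one.1 ?_))
      rw [hi]
      exact (Nat.pow_dvd_pow p (by omega : i ≤ 1)).trans (pow_one p).dvd
    set u := v ^ p ^ (i - 2) with hu
    have huC : u ∈ C := C.pow_mem hv.1 _
    have huL : u ∈ L := L.pow_mem hv.2 _
    have hu2 : u ^ p ^ 2 = 1 := by
      rw [hu, ← pow_mul, ← pow_add, Nat.sub_add_cancel hi2, ← hi, pow_orderOf_eq_one]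
    have hu1 : u ^ p ≠ 1 := fun h => by
      rw [hu, ← pow_mul, ← pow_succ, ← orderOf_dvd_iff_pow_eq_one, hi] at h
      have := (Nat.pow_dvd_pow_iff_le_right hp.out.one_lt).1 h
      omega
    have hupE : u ^ p ∈ E := (hL.omega _ (pow_mem huL p)).1 (by rw [← pow_mul, ← pow_two]; exact hu2)
    have heq : Subgroup.zpowers (u ^ p) = Subgroup.zpowers g := Subgroup.eq_of_le_of_card_ge
      (Subgroup.zpowers_le.2 (hEC _ hupE (pow_mem huC p))) (by
        rw [Nat.card_zpowers, Nat.card_zpowers, orderOf_eq_prime (hL.epow hgE) hg1,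
          orderOf_eq_prime (hL.epow hupE) hu1])
    obtain ⟨j, hj⟩ : d ^ p ∈ Subgroup.zpowers (u ^ p) := by
      rw [heq, hgd]; exact inv_mem (Subgroup.mem_zpowers g)
    simp only at hj
    set e := (u ^ j)⁻¹ * d with he
    have hdL : d ∈ L := ((hO d).1 hdO).1
    have heE : e ∈ E := by
      refine (hL.omega _ (mul_mem (inv_mem (zpow_mem huL j)) hdL)).1 ?_
      have h := (hL.pow_iff 1 (zpow_mem huL j) hdL).1 (by
        rw [pow_one, ← hj, ← zpow_natCast (u ^ j), ← zpow_natCast u, ← zpow_mul, ← zpow_mul, mul_comm])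
      rwa [pow_one] at h
    have huj : α * u ^ j = u ^ j * α :=
      (Subgroup.mem_centralizer_singleton_iff.1 (C.zpow_mem huC j)).symm
    have hfe : f = ⁅e⁻¹, α⁆ := by
      rw [hf, he, commutatorElement_def, commutatorElement_def, mul_inv_rev, inv_inv, inv_inv, mul_inv_rev, inv_inv]
      have h' : (u ^ j)⁻¹ * α = α * (u ^ j)⁻¹ := ((show Commute α (u ^ j) from huj).inv_right).symm.eq
      calc d⁻¹ * α * d * α⁻¹ = d⁻¹ * (u ^ j * ((u ^ j)⁻¹ * α)) * d * α⁻¹ := by group
        _ = d⁻¹ * u ^ j * α * ((u ^ j)⁻¹ * d) * α⁻¹ := by rw [h']; group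
    apply hg1
    rw [hg, hfe, commutatorElement_inv]
    exact hEE _ (inv_mem heE)
  have hrel2 : L.relIndex C = p :=
    MaximalCount.relIndex_eq hLi (fun h => hα (h (Subgroup.mem_centralizer_singleton_iff.2 rfl)))
  have hcard : Nat.card (L.subgroupOf C) = p := by
    rw [← Subgroup.inf_subgroupOf_left, Nat.card_congr (Subgroup.subgroupOfEquivOfLe inf_le_left).toEquiv, hCL,
      Nat.card_zpowers, orderOf_eq_prime (hL.epow hgE) hg1]
  rw [← (L.subgroupOf C).card_mul_index, hcard, pow_two,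
    show (L.subgroupOf C).index = L.relIndex C from rfl, hrel2]

/-- Generators of the derived subgroup above a subgroup of index `p`. -/
theorem derived_le {L N : Subgroup G} [hLn : L.Normal] [N.Normal] (hLi : L.index = p) {α : G} (hα : α ∉ L)
    (hLL : ∀ x ∈ L, ∀ y ∈ L, ⁅x, y⁆ ∈ N) (hLa : ∀ x ∈ L, ⁅x, α⁆ ∈ N) : commutator G ≤ N := by
  set π := QuotientGroup.mk' N
  have hc : ∀ x y : G, ⁅x, y⁆ ∈ N → Commute (π x) (π y) := fun x y h => by
    rw [← commutatorElement_eq_one_iff_commute, ← map_commutatorElement]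
    exact (QuotientGroup.eq_one_iff _).2 h
  have htop : L ⊔ Subgroup.zpowers α = ⊤ := by
    have h := Subgroup.relIndex_mul_index (le_sup_left : L ≤ L ⊔ Subgroup.zpowers α)
    rw [hLi] at h
    rcases hp.out.eq_one_or_self_of_dvd _ (Dvd.intro_left _ h) with h1 | h1
    · exact Subgroup.index_eq_one.1 h1
    · rw [h1] at h
      exact absurd (Subgroup.relIndex_eq_one.1 (Nat.eq_of_mul_eq_mul_right hp.out.pos (h.trans (one_mul p).symm))
        (Subgroup.mem_sup_right (Subgroup.mem_zpowers α))) hα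
  have h1 : ∀ l ∈ L, ∀ g : G, Commute (π l) (π g) := fun l hl g => by
    obtain ⟨m, hm, b, hb, rfl⟩ := Subgroup.mem_sup_of_normal_left.1 (htop ▸ Subgroup.mem_top g)
    obtain ⟨i, rfl⟩ := Subgroup.mem_zpowers_iff.1 hb
    rw [map_mul, map_zpow]
    exact (hc l m (hLL l hl m hm)).mul_right ((hc l α (hLa l hl)).zpow_right i)
  have h2 : ∀ g : G, Commute (π α) (π g) := fun g => by
    obtain ⟨m, hm, b, hb, rfl⟩ := Subgroup.mem_sup_of_normal_left.1 (htop ▸ Subgroup.mem_top g)
    obtain ⟨i, rfl⟩ := Subgroup.mem_zpowers_iff.1 hb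
    rw [map_mul, map_zpow]
    exact (h1 m hm α).symm.mul_right ((Commute.refl _).zpow_right i)
  rw [commutator_def, Subgroup.commutator_le]
  intro x _ y _
  rw [← QuotientGroup.eq_one_iff]
  change π ⁅x, y⁆ = 1
  rw [map_commutatorElement, commutatorElement_eq_one_iff_commute]
  obtain ⟨m, hm, b, hb, rfl⟩ := Subgroup.mem_sup_of_normal_left.1 (htop ▸ Subgroup.mem_top x)
  obtain ⟨i, rfl⟩ := Subgroup.mem_zpowers_iff.1 hb
  rw [map_mul, map_zpow]
  exact (h1 m hm y).mul_left ((h2 y).zpow_left i)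

/-- In a `3`-group of maximal class the element outside `L` moves `Ω₁(L)`. -/
theorem backward : ∀ (n : ℕ) (G : Type u) [Group G] [Finite G], Nat.card G = 3 ^ n →
    Group.nilpotencyClass G = n - 1 → ∀ (L E : Subgroup G) [L.Normal], L.index = 3 → Good 3 L E →
    ∀ α : G, α ∉ L → α ^ 3 = 1 → (∀ x ∈ E, α * x = x * α) → False := by
  intro n
  induction n using Nat.strong_induction_on with
  | _ n ih =>
    intro G _ _ hGc hcl L E hLn hLi hL α hα hα3 hfix
    haveI : Fact (Nat.Prime 3) := ⟨Nat.prime_three⟩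
    have hG : IsPGroup 3 G := IsPGroup.of_card hGc
    haveI hEn := hL.normal
    obtain ⟨O, hO, hOn, hOc, hEO, hOcomm, hOE⟩ := hL.exists_omega_two hG
    haveI := hOn
    have hOL : O ≤ L := fun x hx => ((hO x).1 hx).1
    have hn5 : 5 ≤ n := by
      have h1 := Subgroup.card_le_of_le hOL
      have h2 := L.card_mul_index
      rw [hLi, hGc] at h2
      rw [hOc] at h1
      have h3 : 3 ^ 5 ≤ 3 ^ n := by rw [← h2]; linarith
      exact (Nat.pow_le_pow_iff_right (by norm_num)).1 h3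
    obtain ⟨k, rfl⟩ : ∃ k, n = k + 5 := ⟨n - 5, by omega⟩
    have hLc : Nat.card L = 3 ^ (k + 2 + 2) := by
      have h := L.card_mul_index
      rw [hLi, hGc, show k + 5 = k + 2 + 2 + 1 from rfl, pow_succ 3 (k + 2 + 2)] at h
      exact Nat.eq_of_mul_eq_mul_right (by norm_num) h
    obtain ⟨U, hUn, hUc, hEU, hUL, hU, hLU⟩ := hL.exists_powers hLc
    haveI := hUn
    have hder := MaxClass.index_commutator_eq hGc (by omega : 3 ≤ k + 5) hcl
    -- `O` is centralized modulo `E`
    have hOa : ∀ w ∈ O, ⁅w⁻¹, α⁆ ∈ E := by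
      intro w hw
      have hwE : w ^ 3 ∈ E := (hL.omega _ (L.pow_mem (hOL hw) 3)).1
        (by rw [← pow_mul]; exact ((hO w).1 hw).2)
      have hdO : ⁅w⁻¹, α⁆ ∈ O := by
        rw [commutatorElement_def, inv_inv, show w⁻¹ * α * w * α⁻¹ = w⁻¹ * (α * w * α⁻¹) by group]
        exact mul_mem (inv_mem hw) (hOn.conj_mem w hw α)
      refine (hL.omega _ (hOL hdO)).1 ?_
      have h1 : (w * ⁅w⁻¹, α⁆) ^ 3 = w ^ 3 := by
        rw [← step_eq, conj_pow, hfix _ hwE, mul_inv_cancel_right]
      have h2 := (hL.pow_iff 1 (hOL hw) (L.mul_mem (hOL hw) (hOL hdO))).1 (by rw [pow_one]; exact h1.symm)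
      rwa [inv_mul_cancel_left, pow_one] at h2
    have hindex : ∀ {N : Subgroup G} {j : ℕ}, Nat.card N = 3 ^ j → j ≤ k + 5 → N.index = 3 ^ (k + 5 - j) := by
      intro N j hN hj
      have h := N.card_mul_index
      rw [hN, hGc] at h
      refine Nat.eq_of_mul_eq_mul_left (pow_pos (show 0 < 3 by norm_num) j) (h.trans ?_)
      rw [← pow_add]; congr 1; omega
    rcases Nat.lt_trichotomy k 1 with hk | rfl | hk
    · -- order `3 ^ 5`
      obtain rfl : k = 0 := by omega
      have hOeq : O = L := Subgroup.eq_of_le_of_card_ge hOL (by rw [hOc, hLc])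
      have hle : commutator G ≤ E := derived_le (p := 3) hLi hα
        (fun x hx y hy => hOcomm x (hOeq ▸ hx) y (hOeq ▸ hy))
        (fun x hx => by simpa using hOa x⁻¹ (inv_mem (hOeq ▸ hx)))
      have := Subgroup.index_dvd_of_le hle
      rw [hder, hindex hL.card (by omega)] at this
      norm_num at this
    · -- order `3 ^ 6`
      have hO' : O = (⊤ : Subgroup G).lowerCentralSeries 1 :=
        MaxClass.eq_lcs_of_index hGc (by omega) hcl O le_rfl (by rw [hindex hOc (by omega)])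
      rw [Subgroup.top_lowerCentralSeries_one] at hO'
      obtain ⟨l, hl, hlU⟩ : ∃ l ∈ L, ⁅l⁻¹, α⁆ ∉ U := by
        by_contra hcon
        push Not at hcon
        have hle : commutator G ≤ U := derived_le (p := 3) hLi hα hLU
          (fun x hx => by simpa using hcon x⁻¹ (inv_mem hx))
        have := Subgroup.index_dvd_of_le hle
        rw [hder, hindex hUc (by omega)] at this
        norm_num at this
      have hdO : ⁅l⁻¹, α⁆ ∈ O :=
        hO' ▸ Subgroup.commutator_mem_commutator (Subgroup.mem_top _) (Subgroup.mem_top _)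
      set d := ⁅l⁻¹, α⁆ with hd
      have hfE : ⁅d⁻¹, α⁆ ∈ E := hOa d hdO
      have hit := iterate_conj (g := 1) (step_eq α l) (step_eq α d)
        (by rw [mul_one, hfix _ hfE, mul_inv_cancel_right]) (by group) (hOE _ hfE d hdO) (Commute.one_right _) 3
      rw [hα3, inv_one, one_mul, mul_one, show Nat.choose 3 2 = 3 from rfl, hL.epow hfE, one_pow, mul_one,
        mul_one] at hit
      refine hlU (hEU ((hL.omega d (hOL hdO)).1 (left_eq_mul.1 hit)))
    · -- order at least `3 ^ 7`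
      have hO' : O = (⊤ : Subgroup G).lowerCentralSeries k :=
        (MaxClass.eq_lcs_of_index hGc (by omega) hcl O (r := k + 1) (by omega)
          (by rw [hindex hOc (by omega), show k + 5 - 4 = k + 1 by omega])).trans (by rw [Nat.add_sub_cancel])
      have hU' : U = (⊤ : Subgroup G).lowerCentralSeries 2 :=
        (MaxClass.eq_lcs_of_index hGc (by omega) hcl U (r := 3) (by omega)
          (by rw [hindex hUc (by omega), show k + 5 - (k + 2) = 3 by omega]))
      have hOU : O ≤ U := by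
        rw [hO', hU']
        exact Subgroup.lowerCentralSeries_antitone _ (by omega)
      set π := QuotientGroup.mk' E with hπ
      have hπs : Function.Surjective π := QuotientGroup.mk'_surjective E
      have hQc : Nat.card (G ⧸ E) = 3 ^ (k + 3) := by
        rw [← Subgroup.index_eq_card, hindex hL.card (by omega), show k + 5 - 2 = k + 3 by omega]
      have hQcl : Group.nilpotencyClass (G ⧸ E) = k + 3 - 1 := by
        refine RankTwoOdd.class_eq hQc (by omega) ?_
        rw [← Subgroup.map_top_of_surjective _ hπs, ← Subgroup.map_lowerCentralSeries]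
        intro h
        rw [Subgroup.map_eq_bot_iff, hπ, QuotientGroup.ker_mk'] at h
        have h1 := Subgroup.card_le_of_le h
        rw [show k + 3 - 2 = k + 1 by omega,
          MaxClass.card_lcs_eq hGc (by omega) hcl (k := k) (by omega), hL.card,
          show k + 5 - 2 - k = 3 by omega] at h1
        norm_num at h1
      haveI : (L.map π).Normal := Subgroup.Normal.map hLn π hπs
      have hgood : Good 3 (L.map π) (O.map π) := by
        refine ⟨?_, Subgroup.map_mono hOL, ?_, ?_, ?_⟩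
        · exact regular_of_surjective (π.subgroupMap L) (π.subgroupMap_surjective L) hL.reg
        · have h := RankTwoOdd.card_eq_map_mul E hEO
          rw [hOc, hL.card, show (4 : ℕ) = 2 + 2 from rfl, pow_add] at h
          exact (Nat.eq_of_mul_eq_mul_right (by norm_num) h).symm
        · rintro _ ⟨y, hy, rfl⟩
          constructor
          · intro h
            rw [← map_pow] at h
            have h2 : y ^ 3 ∈ E := (QuotientGroup.eq_one_iff _).1 h
            exact ⟨y, (hO y).2 ⟨hy, by rw [pow_two, pow_mul, hL.epow h2]⟩, rfl⟩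
          · rintro ⟨z, hz, hzy⟩
            rw [← hzy, ← map_pow]
            refine (QuotientGroup.eq_one_iff _).2 ((hL.omega _ (L.pow_mem (hOL hz) 3)).1 ?_)
            rw [← pow_mul]
            exact ((hO z).1 hz).2
        · rintro _ ⟨z, hz, rfl⟩
          obtain ⟨w, hw, rfl⟩ := (hU z).1 (hOU hz)
          exact ⟨π w, ⟨w, hw, rfl⟩, (map_pow π w 3).symm⟩
      refine ih (k + 3) (by omega) (G ⧸ E) hQc hQcl (L.map π) (O.map π) ?_ hgood (π α) ?_ ?_ ?_
      · rw [Subgroup.index_map_eq _ hπs (by rw [hπ, QuotientGroup.ker_mk']; exact hL.le), hLi]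
      · intro h
        rw [← Subgroup.mem_comap, Subgroup.comap_map_eq_self (by rw [hπ, QuotientGroup.ker_mk']; exact hL.le)] at h
        exact hα h
      · rw [← map_pow, hα3, map_one]
      · rintro _ ⟨w, hw, rfl⟩
        have h1 : π ⁅w, α⁆ = 1 := (QuotientGroup.eq_one_iff _).2 (by simpa using hOa w⁻¹ (inv_mem hw))
        rw [map_commutatorElement, commutatorElement_eq_one_iff_mul_comm] at h1
        exact h1.symm

/-- A metacyclic group without a cyclic subgroup of index `p` is good. -/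
theorem good_of_metacyclic (hp2 : p ≠ 2) {L : Subgroup G} (hG : IsPGroup p L) (hmc : Cfsg.IsMetacyclic L)
    (hnc : ∀ C : Subgroup L, IsCyclic C → C.index ≠ p) (hne : L ≠ ⊥) :
    ∃ E : Subgroup G, Good p L E := by
  classical
  obtain ⟨E, hE, hEle⟩ := FusionSys.exists_omega_metacyclic hp2 hG hmc
  have hreg : Cfsg.IsRegularPGroup p L := by
    obtain ⟨N, hN, hNc, hQ⟩ := hmc
    refine regular_of_cyclic_derived hp2 hG (Subgroup.isCyclic_of_le (H' := N) ?_)
    letI := IsCyclic.commGroup (α := L ⧸ N)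
    exact (Abelianization.commutator_subset_ker (QuotientGroup.mk' N)).trans (QuotientGroup.ker_mk' N).le
  have hcyc : ∀ M : Subgroup L, ¬ E ≤ M → IsCyclic M := by
    intro M hM
    rcases eq_or_ne M ⊥ with rfl | hMb
    · exact isCyclic_of_subsingleton
    haveI : Nontrivial M := (Subgroup.nontrivial_iff_ne_bot M).2 hMb
    obtain ⟨j, hj0, hj⟩ := (IsPGroup.nontrivial_iff_card (hG.to_subgroup M)).1 inferInstance
    obtain ⟨t, ht⟩ := exists_prime_orderOf_dvd_card' (G := M) p (hj ▸ dvd_pow_self p hj0.ne')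
    have htp : (t : L) ^ p = 1 := by
      simpa using congrArg Subtype.val (ht ▸ pow_orderOf_eq_one t : t ^ p = 1)
    have heq : Subgroup.zpowers (t : L) = E ⊓ M := by
      refine Subgroup.eq_of_le_of_card_ge (Subgroup.zpowers_le.2 ⟨(hE _).2 htp, t.2⟩) ?_
      rw [Nat.card_zpowers, Subgroup.orderOf_coe, ht]
      obtain ⟨i, hi⟩ := IsPGroup.iff_card.1 (hG.to_subgroup (E ⊓ M))
      obtain ⟨i', hi'⟩ := IsPGroup.iff_card.1 (hG.to_subgroup E)
      have hlt : Nat.card ↥(E ⊓ M) < Nat.card E := by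
        refine lt_of_le_of_ne (Subgroup.card_le_of_le inf_le_left) fun h => hM ?_
        exact inf_eq_left.1 (Subgroup.eq_of_le_of_card_ge inf_le_left h.ge)
      rw [hi', hi] at hlt
      rw [hi'] at hEle
      have h1 := (Nat.pow_lt_pow_iff_right hp.out.one_lt).1 hlt
      have h2 := (Nat.pow_le_pow_iff_right hp.out.one_lt).1 hEle
      rw [hi]
      exact (Nat.pow_le_pow_right hp.out.pos (by omega : i ≤ 1)).trans (pow_one p).le
    refine IsolatedP.isCyclic_of_odd_unique (hG.to_subgroup M) hp2 t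
      (Subtype.ext (by simpa using htp)) fun w hw => ?_
    have hwE : (w : L) ∈ E ⊓ M := ⟨(hE _).2 (by simpa using congrArg Subtype.val hw), w.2⟩
    rw [← heq] at hwE
    obtain ⟨i, hi⟩ := hwE
    exact ⟨i, Subtype.ext (by simpa using hi)⟩
  obtain ⟨m, hm⟩ := IsPGroup.iff_card.1 hG
  have hm1 : 1 ≤ m := by
    by_contra h
    exact hne (Subgroup.card_eq_one.1 (by rw [hm, show m = 0 by omega, pow_zero]))
  have hidx : ∀ {C : Subgroup L}, Nat.card C = p ^ (m - 1) → C.index = p := by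
    intro C hC
    have h := C.card_mul_index
    rw [hC, hm] at h
    refine Nat.eq_of_mul_eq_mul_left (pow_pos hp.out.pos (m - 1)) (h.trans ?_)
    rw [← pow_succ]; congr 1; omega
  obtain ⟨C₀, hC₀⟩ := Sylow.exists_subgroup_card_pow_prime p (G := L) (n := m - 1)
    (hm ▸ Nat.pow_dvd_pow p (by omega))
  have hEc : Nat.card E = p ^ 2 := by
    refine le_antisymm hEle ?_
    by_contra h
    push Not at h
    have hEM : ¬ E ≤ C₀ ∨ E ≤ C₀ := (em _).symm
    rcases hEM with h' | h'
    · exact hnc C₀ (hcyc C₀ h') (hidx hC₀)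
    · -- then `L` is cyclic
      haveI : Nontrivial L := (Subgroup.nontrivial_iff_ne_bot L).2 hne
      obtain ⟨t, ht⟩ := exists_prime_orderOf_dvd_card' (G := L) p (hm ▸ dvd_pow_self p (by omega))
      have hEt : Subgroup.zpowers t = E := by
        refine Subgroup.eq_of_le_of_card_ge (Subgroup.zpowers_le.2 ((hE t).2 (ht ▸ pow_orderOf_eq_one t))) ?_
        obtain ⟨i, hi⟩ := IsPGroup.iff_card.1 (hG.to_subgroup E)
        rw [hi] at h ⊢
        rw [Nat.card_zpowers, ht]
        have := (Nat.pow_lt_pow_iff_right hp.out.one_lt).1 h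
        exact (Nat.pow_le_pow_right hp.out.pos (by omega : i ≤ 1)).trans (pow_one p).le
      haveI : IsCyclic L := IsolatedP.isCyclic_of_odd_unique hG hp2 t (ht ▸ pow_orderOf_eq_one t)
        fun w hw => hEt.symm ▸ (hE w).2 hw
      exact hnc C₀ inferInstance (hidx hC₀)
  set P := Cfsg.powerClosure p 1 (⊤ : Subgroup L) with hP
  have hom : Cfsg.omegaOne p (⊤ : Subgroup L) = E :=
    le_antisymm (fun x hx => (hE x).2 (OmegaSmall.mem_omega hreg hx))
      fun x hx => Subgroup.subset_closure ⟨Subgroup.mem_top _, (hE x).1 hx⟩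
  have hPi : P.index = p ^ 2 := by rw [hP, ← OmegaSmall.card_omega hreg, hom, hEc]
  have hEP : E ≤ P := by
    by_contra hnle
    set π := QuotientGroup.mk' P with hπ
    have hπs : Function.Surjective π := QuotientGroup.mk'_surjective P
    have hV : Nat.card (L ⧸ P) = p ^ 2 := by rw [← Subgroup.index_eq_card, hPi]
    have hVe : ∀ y : L ⧸ P, y ^ p = 1 := fun y => by
      obtain ⟨y, rfl⟩ := hπs y
      rw [← map_pow]
      exact (QuotientGroup.eq_one_iff _).2 (Subgroup.subset_closure ⟨y, Subgroup.mem_top _, by rw [pow_one]⟩)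
    obtain ⟨e, he, heP⟩ := SetLike.not_le_iff_exists.1 hnle
    have he1 : π e ≠ 1 := fun h => heP ((QuotientGroup.eq_one_iff _).1 h)
    obtain ⟨y, hy⟩ : ∃ y : L ⧸ P, y ∉ Subgroup.zpowers (π e) := by
      by_contra hcon
      push Not at hcon
      have h1 := congrArg (fun S : Subgroup (L ⧸ P) => Nat.card S) ((Subgroup.eq_top_iff' _).2 hcon)
      simp only [Nat.card_zpowers, Subgroup.card_top, orderOf_eq_prime (hVe _) he1, hV] at h1
      exact absurd h1 (by rw [pow_two]; exact (lt_mul_of_one_lt_left hp.out.pos hp.out.one_lt).ne)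
    have hy1 : y ≠ 1 := fun h => hy (h ▸ one_mem _)
    set M := (Subgroup.zpowers y).comap π
    have hMi : M.index = p := by
      rw [Subgroup.index_comap_of_surjective _ hπs]
      have h := (Subgroup.zpowers y).card_mul_index
      rw [Nat.card_zpowers, orderOf_eq_prime (hVe y) hy1, hV, pow_two] at h
      exact Nat.eq_of_mul_eq_mul_left hp.out.pos h
    refine hnc M (hcyc M fun hle => hy ?_) hMi
    have heq : Subgroup.zpowers (π e) = Subgroup.zpowers y :=
      Subgroup.eq_of_le_of_card_ge (Subgroup.zpowers_le.2 (hle he)) (by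
        rw [Nat.card_zpowers, Nat.card_zpowers, orderOf_eq_prime (hVe _) he1, orderOf_eq_prime (hVe y) hy1])
    rw [heq]; exact Subgroup.mem_zpowers y
  refine ⟨E.map L.subtype, hreg, Subgroup.map_subtype_le _,
    by rw [Subgroup.card_map_of_injective L.subtype_injective, hEc], fun x hx => ?_, ?_⟩
  · constructor
    · intro h
      exact ⟨⟨x, hx⟩, (hE _).2 (Subtype.ext (by simpa using h)), rfl⟩
    · rintro ⟨y, hy, rfl⟩
      simpa using congrArg Subtype.val ((hE y).1 hy)
  · rintro _ ⟨y, hy, rfl⟩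
    have h := hEP hy
    rw [hP, ← SetLike.mem_coe, ← RegularP.powerClosure_eq (RegularP.levelReg_of_regular hreg 1)] at h
    obtain ⟨z, -, rfl⟩ := h
    exact ⟨z, z.2, by simp⟩

end Cfsg.Agent.MetaAut
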