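import Mathlib
import Cfsg.Agent.Lib.CN.Basic
import Cfsg.Agent.Lib.Transfer.Basic

/-!
A criterion excluding nilpotent minimal covers, and facts on nilpotent subgroups containing a
long cycle.
-/

set_option autoImplicit false
set_option linter.style.haveILetI false
set_option linter.unusedSectionVars false

namespace Cfsg.Agent.NilpotentCover

/-- If the nilpotent subgroups meeting `T` all lie in the proper subgroup `M` and none of them
contains `T`, no minimal cover consists of nilpotent subgroups. -/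
theorem no_cover {G : Type*} [Group G] (M : Subgroup G) (hM : M ≠ ⊤) (T : Set G)
    (hloc : ∀ A : Subgroup G, Group.IsNilpotent ↥A → ∀ y ∈ T, y ∈ A → A ≤ M)
    (hbig : ∀ A : Subgroup G, Group.IsNilpotent ↥A → ¬ T ⊆ (A : Set G)) :
    ¬ ∃ 𝓐 : Finset (Subgroup G), ((∀ A ∈ 𝓐, A ≠ ⊤) ∧ (∀ g : G, ∃ A ∈ 𝓐, g ∈ A)) ∧
      (∀ 𝓑 : Finset (Subgroup G), (∀ A ∈ 𝓑, A ≠ ⊤) ∧ (∀ g : G, ∃ A ∈ 𝓑, g ∈ A) → 𝓐.card ≤ 𝓑.card) ∧
      (∀ A ∈ 𝓐, Group.IsNilpotent ↥A) := by
  classical
  rintro ⟨𝓐, ⟨hprop, hcov⟩, hmin, hnil⟩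
  obtain ⟨y, hy, -⟩ : ∃ y ∈ T, y ∉ (⊥ : Subgroup G) := Set.not_subset.1 (hbig ⊥ inferInstance)
  obtain ⟨A, hA, hyA⟩ := hcov y
  obtain ⟨y', hy', hy'A⟩ := Set.not_subset.1 (hbig A (hnil A hA))
  obtain ⟨A', hA', hy'A'⟩ := hcov y'
  have hne : A ≠ A' := fun e => hy'A (e ▸ hy'A')
  set 𝓢 := 𝓐.filter (fun B => B ≤ M) with h𝓢
  have h2 : 2 ≤ 𝓢.card := by
    rw [← Finset.card_pair hne]
    refine Finset.card_le_card fun B hB => ?_
    rcases Finset.mem_insert.1 hB with rfl | hB
    · exact Finset.mem_filter.2 ⟨hA, hloc _ (hnil _ hA) y hy hyA⟩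
    · rw [Finset.mem_singleton.1 hB]
      exact Finset.mem_filter.2 ⟨hA', hloc _ (hnil _ hA') y' hy' hy'A'⟩
  have h := hmin (insert M (𝓐.filter (fun B => ¬ B ≤ M))) ⟨fun B hB => ?_, fun g => ?_⟩
  · have h3 := Finset.card_filter_add_card_filter_not (s := 𝓐) (fun B => B ≤ M)
    have h4 := Finset.card_insert_le M (𝓐.filter (fun B => ¬ B ≤ M))
    rw [← h𝓢] at h3
    omega
  · rcases Finset.mem_insert.1 hB with rfl | hB
    · exact hM
    · exact hprop B (Finset.mem_filter.1 hB).1
  · obtain ⟨B, hB, hgB⟩ := hcov g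
    by_cases hBM : B ≤ M
    · exact ⟨M, Finset.mem_insert_self _ _, hBM hgB⟩
    · exact ⟨B, Finset.mem_insert_of_mem (Finset.mem_filter.2 ⟨hB, hBM⟩), hgB⟩

theorem exists_center {G : Type*} [Group G] {A : Subgroup G} (hA : Group.IsNilpotent ↥A) {y : G}
    (hy : y ∈ A) (hy1 : y ≠ 1) : ∃ z ∈ A, z ≠ 1 ∧ ∀ a ∈ A, Commute z a := by
  haveI : Nontrivial ↥A := ⟨⟨⟨y, hy⟩, 1, fun h => hy1 (congrArg Subtype.val h)⟩⟩
  obtain ⟨⟨z, hz⟩, hz1⟩ := Subgroup.ne_bot_iff_exists_ne_one.1 (Group.IsNilpotent.center_ne_bot ↥A)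
  exact ⟨z, z.2, fun h => hz1 (Subtype.ext (Subtype.ext h)),
    fun a ha => (congrArg Subtype.val (Subgroup.mem_center_iff.1 hz ⟨a, ha⟩)).symm⟩

section Perm

open Equiv Equiv.Perm

variable {α : Type*} [Fintype α] [DecidableEq α]

theorem exists_cycle (S : Finset α) (hS : 2 ≤ S.card) : ∃ y : Perm α, y.IsCycle ∧ y.support = S := by
  refine ⟨S.toList.formPerm, List.isCycle_formPerm S.nodup_toList (by rwa [Finset.length_toList]), ?_⟩
  rw [List.support_formPerm_of_nodup _ S.nodup_toList, Finset.toList_toFinset]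
  intro x hx
  have := congrArg List.length hx
  rw [Finset.length_toList, List.length_singleton] at this
  omega

theorem apply_pow_of_commute {y t : Perm α} (h : Commute t y) {a : α} {k : ℕ} (ha : t a = (y ^ k) a)
    (m : ℕ) : (t ^ m) a = (y ^ (k * m)) a := by
  induction m with
  | zero => simp
  | succ m ih =>
    rw [pow_succ', Perm.mul_apply, ih, ← Perm.mul_apply, (h.pow_right (k * m)).eq, Perm.mul_apply, ha,
      ← Perm.mul_apply, ← pow_add, show k * m + k = k * (m + 1) by ring]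

theorem mem_support_of_commute {y t : Perm α} (h : Commute t y) {a : α} (ha : a ∈ y.support) :
    t a ∈ y.support := by
  rw [Perm.mem_support] at ha ⊢
  intro e
  rw [← Perm.mul_apply, ← h.eq, Perm.mul_apply] at e
  exact ha (t.injective e)

/-- Two permutations commuting with a cycle and agreeing at a moved point agree on its support. -/
theorem eq_of_commute {y t t' : Perm α} (hy : y.IsCycle) (h : Commute t y) (h' : Commute t' y) {a : α}
    (ha : a ∈ y.support) (he : t a = t' a) : ∀ x ∈ y.support, t x = t' x := by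
  intro x hx
  obtain ⟨i, rfl⟩ := hy.exists_zpow_eq (Perm.mem_support.1 ha) (Perm.mem_support.1 hx)
  rw [← Perm.mul_apply, ← Perm.mul_apply, (h.zpow_right i).eq, (h'.zpow_right i).eq, Perm.mul_apply,
    Perm.mul_apply, he]

theorem fix_support {y t : Perm α} (hy : y.IsCycle) (hodd : Odd y.support.card) (h : Commute t y) {e : ℕ}
    (ht : orderOf t = 2 ^ e) : ∀ a ∈ y.support, t a = a := by
  intro a ha
  obtain ⟨k, hk⟩ := hy.exists_pow_eq (Perm.mem_support.1 ha)
    (Perm.mem_support.1 (mem_support_of_commute h ha))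
  have h1 := apply_pow_of_commute h hk.symm (2 ^ e)
  rw [← ht, pow_orderOf_eq_one, Perm.one_apply] at h1
  have h2 := orderOf_dvd_of_pow_eq_one ((hy.pow_eq_one_iff' (Perm.mem_support.1 ha)).2 h1.symm)
  rw [hy.orderOf, ht] at h2
  have h3 := ((Nat.coprime_two_right.2 hodd).pow_right e).dvd_of_dvd_mul_right h2
  rw [← hy.orderOf] at h3
  rw [← hk, orderOf_dvd_iff_pow_eq_one.1 h3, Perm.one_apply]

/-- The parts of an element of a nilpotent group containing an odd cycle. -/
theorem exists_two_part {A : Subgroup (Perm α)} (hA : Group.IsNilpotent ↥A) {y : Perm α} (hy : y.IsCycle)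
    (hyA : y ∈ A) (hodd : Odd y.support.card) {a : Perm α} (ha : a ∈ A) :
    ∃ u v : Perm α, u * v = a ∧ Odd (orderOf v) ∧ (∀ x ∈ y.support, u x = x) ∧ Commute u y ∧ sign v = 1 := by
  haveI : Fact (Nat.Prime 2) := ⟨Nat.prime_two⟩
  obtain ⟨u, v, huv, ⟨iu, hiu⟩, -, ⟨k, hk⟩, hv⟩ := PBasic.exists_pPart_mul (p := 2) a
  have huA : u ∈ A := hiu ▸ A.zpow_mem ha iu
  have hcomm : Commute u y := CN.commute_of_coprime hA huA hyA (by
    rw [hk, hy.orderOf]; exact (Nat.coprime_two_left.2 hodd).pow_left k)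
  have hvo : Odd (orderOf v) := Nat.coprime_two_right.1 hv
  refine ⟨u, v, huv, hvo, fix_support hy hodd hcomm hk, hcomm, ?_⟩
  have h1 : sign v ^ orderOf v = 1 := by rw [← map_pow, pow_orderOf_eq_one, map_one]
  rcases Int.units_eq_one_or (sign v) with h | h
  · exact h
  · rw [h, hvo.neg_one_pow] at h1
    rw [h]; exact h1

theorem fixed_eq_of_unique {y t : Perm α} (h : Commute t y) {i : α} (hi : y i = i)
    (huniq : ∀ x, y x = x → x = i) : t i = i :=
  huniq _ (by rw [← Perm.mul_apply, ← h.eq, Perm.mul_apply, hi])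

/-- A permutation commuting with all cycles on a set of at least five points is trivial there. -/
theorem commute_all_cycles {S : Finset α} (hS : 5 ≤ S.card) {z : Perm α}
    (h : ∀ y : Perm α, y.IsCycle → y.support = S → Commute z y) : ∀ a ∈ S, z a = a := by
  intro a ha
  by_contra hne
  obtain ⟨y, hy, hys⟩ := exists_cycle S (by omega)
  have hz := h y hy hys
  have hb : z a ∈ S := hys ▸ mem_support_of_commute hz (hys ▸ ha)
  set b := z a with hbdef
  have hkey : ∀ c ∈ S, ∀ d ∈ S, c ≠ a → c ≠ b → d ≠ a → d ≠ b → c ≠ d → z c = c ∨ z c = d := by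
    intro c hc d hd hca hcb hda hdb hcd
    have hs2 : Equiv.swap c d * Equiv.swap c d = 1 := Equiv.swap_mul_self c d
    have hy' : (Equiv.swap c d * y * Equiv.swap c d).IsCycle := by
      have := hy.conj (g := Equiv.swap c d)
      rwa [Equiv.swap_inv] at this
    have hys' : (Equiv.swap c d * y * Equiv.swap c d).support = S := by
      ext x
      have key : x ∈ (Equiv.swap c d * y * Equiv.swap c d).support ↔ Equiv.swap c d x ∈ S := by
        rw [← hys, Perm.mem_support, Perm.mem_support, Perm.mul_apply, Perm.mul_apply, Ne,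
          Equiv.swap_apply_eq_iff]
      rw [key]
      rcases eq_or_ne x c with rfl | h1
      · simp [hc, hd]
      rcases eq_or_ne x d with rfl | h2
      · simp [hc, hd]
      rw [Equiv.swap_apply_of_ne_of_ne h1 h2]
    have h1 := h _ hy' hys'
    have h2 : Commute (Equiv.swap c d * z * Equiv.swap c d) y := by
      show _ = _
      calc Equiv.swap c d * z * Equiv.swap c d * y
          = Equiv.swap c d * (z * (Equiv.swap c d * y * Equiv.swap c d)) * Equiv.swap c d := by
            simp [mul_assoc, hs2]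
        _ = Equiv.swap c d * ((Equiv.swap c d * y * Equiv.swap c d) * z) * Equiv.swap c d := by rw [h1.eq]
        _ = y * (Equiv.swap c d * z * Equiv.swap c d) := by
            simp only [← mul_assoc]; rw [hs2, one_mul]
    have h3 : (Equiv.swap c d * z * Equiv.swap c d) a = z a := by
      simp only [Perm.mul_apply, Equiv.swap_apply_of_ne_of_ne (Ne.symm hca) (Ne.symm hda)]
      exact Equiv.swap_apply_of_ne_of_ne (Ne.symm hcb) (Ne.symm hdb)
    have h4 := eq_of_commute hy h2 hz (hys ▸ ha) h3 c (hys ▸ hc)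
    simp only [Perm.mul_apply, Equiv.swap_apply_left] at h4
    by_contra hzc
    push Not at hzc
    rw [← Equiv.swap_apply_of_ne_of_ne hzc.1 hzc.2] at h4
    exact hcd ((z.injective ((Equiv.swap c d).injective
      h4)).symm)
  have h3card : 3 ≤ ((S.erase a).erase b).card := by
    have := Finset.card_erase_add_one ha
    have := Finset.pred_card_le_card_erase (s := S.erase a) (a := b)
    omega
  obtain ⟨c, d, e, hc, hd, he, hcd, hce, hde⟩ := Finset.two_lt_card_iff.1 h3card
  simp only [Finset.mem_erase] at hc hd he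
  have hzc : z c = c := by
    rcases hkey c hc.2.2 d hd.2.2 hc.2.1 hc.1 hd.2.1 hd.1 hcd with h1 | h1
    · exact h1
    · rcases hkey c hc.2.2 e he.2.2 hc.2.1 hc.1 he.2.1 he.1 hce with h2 | h2
      · exact h2
      · exact absurd (h1.symm.trans h2) hde
  exact hne (eq_of_commute hy hz (Commute.one_left y) (hys ▸ hc.2.2) (by rw [Perm.one_apply]; exact hzc)
    a (hys ▸ ha))

end Perm

end Cfsg.Agent.NilpotentCover
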