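import Mathlib
import Cfsg.Agent.Lib.CN.Basic
import Cfsg.Agent.Lib.Transfer.Basic
import Cfsg.Agent.Lib.FGStruct.NilpotentCover

/-!
Nilpotent subgroups of `PGL_n(F)` containing a regular unipotent element.
-/

set_option autoImplicit false
set_option linter.style.haveILetI false
set_option linter.unusedSectionVars false

namespace Cfsg.Agent.NilpotentCoverPGL

open Matrix

variable {F : Type*} [Field F] [Fintype F] [DecidableEq F] {n : ℕ}

local notation "π" => QuotientGroup.mk' (Subgroup.center (GL (Fin n) F))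

theorem mk_eq_iff (g h : GL (Fin n) F) :
    π g = π h ↔ ∃ c : Fˣ, (h : Matrix (Fin n) (Fin n) F) = (c : F) • (g : Matrix (Fin n) (Fin n) F) := by
  rw [QuotientGroup.mk'_apply, QuotientGroup.mk'_apply, QuotientGroup.eq,
    Matrix.GeneralLinearGroup.center_eq_range_scalar]
  constructor
  · rintro ⟨c, hc⟩
    refine ⟨c, ?_⟩
    have h2 : h = g * Matrix.GeneralLinearGroup.scalar (Fin n) c := by rw [hc, mul_inv_cancel_left]
    rw [h2, Units.val_mul]
    show (g : Matrix (Fin n) (Fin n) F) * Matrix.scalar (Fin n) (c : F) = _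
    rw [Matrix.scalar_apply, ← Matrix.smul_one_eq_diagonal, Matrix.mul_smul, mul_one]
  · rintro ⟨c, hc⟩
    refine ⟨c, ?_⟩
    rw [eq_inv_mul_iff_mul_eq]
    refine Units.ext ?_
    rw [Units.val_mul, hc]
    show (g : Matrix (Fin n) (Fin n) F) * Matrix.scalar (Fin n) (c : F) = _
    rw [Matrix.scalar_apply, ← Matrix.smul_one_eq_diagonal, Matrix.mul_smul, mul_one]

/-- The stabilizer of a line. -/
def lineStab (v : Fin n → F) : Subgroup (GL (Fin n) F) where
  carrier := {g | ∃ c : F, c ≠ 0 ∧ (g : Matrix (Fin n) (Fin n) F) *ᵥ v = c • v}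
  one_mem' := ⟨1, one_ne_zero, by simp⟩
  mul_mem' := by
    rintro a b ⟨c, hc, ha⟩ ⟨d, hd, hb⟩
    exact ⟨d * c, mul_ne_zero hd hc,
      by rw [Units.val_mul, ← Matrix.mulVec_mulVec, hb, Matrix.mulVec_smul, ha, smul_smul]⟩
  inv_mem' := by
    rintro a ⟨c, hc, ha⟩
    refine ⟨c⁻¹, inv_ne_zero hc, ?_⟩
    have : (↑a⁻¹ : Matrix (Fin n) (Fin n) F) *ᵥ ((a : Matrix (Fin n) (Fin n) F) *ᵥ v) = v := by
      rw [Matrix.mulVec_mulVec, ← Units.val_mul, inv_mul_cancel, Units.val_one, Matrix.one_mulVec]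
    rw [ha, Matrix.mulVec_smul] at this
    conv_rhs => rw [← this, smul_smul, inv_mul_cancel₀ hc, one_smul]

theorem mem_lineStab_of_mk {v : Fin n → F} {g : GL (Fin n) F}
    (h : π g ∈ (lineStab v).map π) : g ∈ lineStab v := by
  obtain ⟨s, ⟨d, hd, hs⟩, he⟩ := h
  obtain ⟨c, hc⟩ := (mk_eq_iff s g).1 he
  exact ⟨(c : F) * d, mul_ne_zero c.ne_zero hd, by rw [hc, Matrix.smul_mulVec, hs, smul_smul]⟩

theorem eigen_one {u : GL (Fin n) F} (hN : ((u : Matrix (Fin n) (Fin n) F) - 1) ^ n = 0) {x : Fin n → F}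
    (hx : x ≠ 0) {c : F} (h : (u : Matrix (Fin n) (Fin n) F) *ᵥ x = c • x) : c = 1 := by
  have h1 : ∀ k : ℕ, ((u : Matrix (Fin n) (Fin n) F) - 1) ^ k *ᵥ x = (c - 1) ^ k • x := by
    intro k
    induction k with
    | zero => simp
    | succ k ih =>
      rw [pow_succ, ← Matrix.mulVec_mulVec, Matrix.sub_mulVec, h, Matrix.one_mulVec]
      rw [show c • x - x = (c - 1) • x by rw [sub_smul, one_smul], Matrix.mulVec_smul, ih, smul_smul,
        ← pow_succ']
  have h2 := h1 n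
  rw [hN, Matrix.zero_mulVec] at h2
  rcases smul_eq_zero.1 h2.symm with h3 | h3
  · exact sub_eq_zero.1 (pow_eq_zero_iff'.1 h3).1
  · exact absurd h3 hx

theorem exists_pow_mk_eq_one {p : ℕ} [Fact p.Prime] [CharP F p] (hn : 0 < n) {g : GL (Fin n) F} {a : F}
    (h : ((g : Matrix (Fin n) (Fin n) F) - a • 1) ^ n = 0) : (π g) ^ p ^ n = 1 := by
  haveI : Nonempty (Fin n) := ⟨⟨0, hn⟩⟩
  have hle : n ≤ p ^ n := (Nat.lt_pow_self (Fact.out : p.Prime).one_lt).le
  have h1 := sub_pow_char_pow_of_commute (p := p) (n := n) (x := (g : Matrix (Fin n) (Fin n) F))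
    (y := a • (1 : Matrix (Fin n) (Fin n) F)) ((Commute.one_right _).smul_right a)
  rw [pow_eq_zero_of_le hle h, smul_pow, one_pow] at h1
  rw [← map_pow, QuotientGroup.mk'_apply, QuotientGroup.eq_one_iff,
    Matrix.GeneralLinearGroup.center_eq_range_scalar]
  have h2 : ((g ^ p ^ n : GL (Fin n) F) : Matrix (Fin n) (Fin n) F) = a ^ p ^ n • 1 := by
    rw [Units.val_pow_eq_pow_val]; exact sub_eq_zero.1 h1.symm
  have ha : a ^ p ^ n ≠ 0 := by
    intro ha
    rw [ha, zero_smul] at h2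
    exact Units.ne_zero (g ^ p ^ n) h2
  refine ⟨Units.mk0 _ ha, Units.ext ?_⟩
  show Matrix.scalar (Fin n) (a ^ p ^ n) = _
  rw [h2, Matrix.scalar_apply, Matrix.smul_one_eq_diagonal]

/-- A nilpotent subgroup containing a regular unipotent element is a `p`-group fixing its fixed point
and its fixed hyperplane. -/
theorem local_fix {p : ℕ} [Fact p.Prime] [CharP F p] (hn : 0 < n) {u : GL (Fin n) F}
    (hN : ((u : Matrix (Fin n) (Fin n) F) - 1) ^ n = 0) {v : Fin n → F} (hv : v ≠ 0)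
    (huv : (u : Matrix (Fin n) (Fin n) F) *ᵥ v = v)
    (hker : ∀ x : Fin n → F, (u : Matrix (Fin n) (Fin n) F) *ᵥ x = x → ∃ c : F, x = c • v)
    {A : Subgroup (GL (Fin n) F ⧸ Subgroup.center (GL (Fin n) F))} (hA : Group.IsNilpotent ↥A)
    (hu : π u ∈ A) :
    IsPGroup p ↥A ∧ (∀ g : GL (Fin n) F, π g ∈ A → g ∈ lineStab v) ∧
      ∀ w : Fin n → F, (∀ x : Fin n → F, x ᵥ* (u : Matrix (Fin n) (Fin n) F) = x → ∃ c : F, x = c • w) →
        w ≠ 0 → ∀ g : GL (Fin n) F, π g ∈ A →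
          ∃ c : F, w ᵥ* (g : Matrix (Fin n) (Fin n) F) = c • w := by
  classical
  have hu1 : orderOf (π u) ∣ p ^ n :=
    orderOf_dvd_of_pow_eq_one (exists_pow_mk_eq_one hn (a := 1) (by rw [one_smul]; exact hN))
  have hpA : IsPGroup p ↥A := by
    rw [PBasic.isPGroup_iff_forall_coprime]
    rintro ⟨a, ha⟩ hcop
    rw [Subgroup.orderOf_mk] at hcop
    obtain ⟨g, rfl⟩ := QuotientGroup.mk'_surjective _ a
    have hc := CN.commute_of_coprime hA ha hu ((Nat.Coprime.pow_right n hcop).coprime_dvd_right hu1)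
    obtain ⟨c, hc'⟩ := (mk_eq_iff (g * u) (u * g)).1 (by rw [map_mul, map_mul]; exact hc.eq)
    rw [Units.val_mul, Units.val_mul] at hc'
    set g' := (g : Matrix (Fin n) (Fin n) F) with hg'
    set u' := (u : Matrix (Fin n) (Fin n) F) with hu'
    have hgv : u' *ᵥ (g' *ᵥ v) = (c : F) • (g' *ᵥ v) := by
      rw [Matrix.mulVec_mulVec, hc', Matrix.smul_mulVec, ← Matrix.mulVec_mulVec, huv]
    have hgv0 : g' *ᵥ v ≠ 0 := fun h0 => hv (by
      have := congrArg (fun x => (↑g⁻¹ : Matrix (Fin n) (Fin n) F) *ᵥ x) h0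
      simp only [Matrix.mulVec_zero] at this
      rwa [hg', Matrix.mulVec_mulVec, ← Units.val_mul, inv_mul_cancel, Units.val_one, Matrix.one_mulVec] at this)
    have hc1 : (c : F) = 1 := eigen_one hN hgv0 hgv
    rw [hc1, one_smul] at hc' hgv
    obtain ⟨a, haev⟩ := hker _ hgv
    set D := g' - a • (1 : Matrix (Fin n) (Fin n) F) with hD
    have hcm : Commute D (u' - 1) :=
      ((Commute.sub_right (hc'.symm : Commute g' u') (Commute.one_right g')).sub_left
        ((Commute.one_left _).smul_left a))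
    have hDv : D *ᵥ v = 0 := by
      rw [hD, Matrix.sub_mulVec, haev, Matrix.smul_mulVec, Matrix.one_mulVec, sub_self]
    have key : ∀ (k : ℕ) (x : Fin n → F), (u' - 1) ^ k *ᵥ x = 0 → D ^ k *ᵥ x = 0 := by
      intro k
      induction k with
      | zero => intro x hx; simpa using hx
      | succ k ih =>
        intro x hx
        rw [pow_succ, ← Matrix.mulVec_mulVec]
        refine ih _ ?_
        rw [Matrix.mulVec_mulVec, ← (hcm.pow_right k).eq, ← Matrix.mulVec_mulVec]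
        rw [pow_succ', ← Matrix.mulVec_mulVec, Matrix.sub_mulVec, Matrix.one_mulVec, sub_eq_zero] at hx
        obtain ⟨b, hb⟩ := hker _ hx
        rw [hb, Matrix.mulVec_smul, hDv, smul_zero]
    have hDn : D ^ n = 0 := by
      refine Matrix.toLin'.injective (LinearMap.ext fun x => ?_)
      rw [Matrix.toLin'_apply, map_zero, LinearMap.zero_apply]
      exact key n x (by rw [hN, Matrix.zero_mulVec])
    have h2 := orderOf_dvd_of_pow_eq_one (exists_pow_mk_eq_one (p := p) hn hDn)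
    exact Subtype.ext (orderOf_eq_one_iff.1 (Nat.eq_one_of_dvd_coprimes (hcop.pow_right n) dvd_rfl h2))
  refine ⟨hpA, ?_⟩
  -- lift to a p-group
  set X := A.comap π with hX
  obtain ⟨P⟩ : Nonempty (Sylow p ↥X) := inferInstance
  have hlift : ∀ g : GL (Fin n) F, π g ∈ A → ∃ (s : ↥X) (c : Fˣ), s ∈ (P : Subgroup ↥X) ∧
      (g : Matrix (Fin n) (Fin n) F) = (c : F) • ((s : GL (Fin n) F) : Matrix (Fin n) (Fin n) F) := by
    intro g hg
    set f : ↥X →* ↥A := ((QuotientGroup.mk' (Subgroup.center (GL (Fin n) F))).comp X.subtype).codRestrict A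
      (fun x => x.2) with hf
    have hfs : Function.Surjective f := by
      rintro ⟨a, ha⟩
      obtain ⟨s, rfl⟩ := QuotientGroup.mk'_surjective _ a
      exact ⟨⟨s, ha⟩, rfl⟩
    obtain ⟨j, hj⟩ := hpA.index ((P : Subgroup ↥X).map f)
    have hd := Subgroup.index_map_dvd (P : Subgroup ↥X) hfs
    rw [hj] at hd
    have hj0 : j = 0 := by
      by_contra hj0
      exact P.not_dvd_index ((dvd_pow_self p hj0).trans hd)
    rw [hj0, pow_zero, Subgroup.index_eq_one] at hj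
    obtain ⟨s, hs, hsg⟩ : (⟨π g, hg⟩ : ↥A) ∈ (P : Subgroup ↥X).map f := hj ▸ Subgroup.mem_top _
    obtain ⟨c, hc⟩ := (mk_eq_iff (s : GL (Fin n) F) g).1 (congrArg Subtype.val hsg)
    exact ⟨s, c, hs, hc⟩
  have hcard : p ∣ Nat.card (Fin n → F) := by
    obtain ⟨k, hp, hk⟩ := FiniteField.card F p
    rw [Nat.card_eq_fintype_card, Fintype.card_fun, Fintype.card_fin, hk, ← pow_mul]
    exact dvd_pow_self p (Nat.mul_ne_zero k.ne_zero hn.ne')
  obtain ⟨s₀, c₀, hs₀, hc₀⟩ := hlift u hu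
  constructor
  · letI : MulAction ↥(P : Subgroup ↥X) (Fin n → F) :=
      { smul := fun g x => (((g : ↥X) : GL (Fin n) F) : Matrix (Fin n) (Fin n) F) *ᵥ x
        one_smul := fun x => Matrix.one_mulVec x
        mul_smul := fun g h x => (Matrix.mulVec_mulVec x _ _).symm }
    obtain ⟨x, hx, hx0⟩ := P.isPGroup'.exists_fixed_point_of_prime_dvd_card_of_fixed_point (Fin n → F) hcard
      (a := 0) (fun g => Matrix.mulVec_zero _)
    have h0 : ((s₀ : GL (Fin n) F) : Matrix (Fin n) (Fin n) F) *ᵥ x = x := hx ⟨s₀, hs₀⟩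
    have h1 : (u : Matrix (Fin n) (Fin n) F) *ᵥ x = (c₀ : F) • x := by rw [hc₀, Matrix.smul_mulVec, h0]
    rw [eigen_one hN (Ne.symm hx0) h1, one_smul] at h1
    obtain ⟨b, hb⟩ := hker x h1
    have hb0 : b ≠ 0 := fun e => hx0 (by rw [hb, e, zero_smul])
    intro g hg
    obtain ⟨s, c, hs, hc⟩ := hlift g hg
    refine ⟨c, c.ne_zero, ?_⟩
    have h2 : ((s : GL (Fin n) F) : Matrix (Fin n) (Fin n) F) *ᵥ x = x := hx ⟨s, hs⟩
    rw [hb, Matrix.mulVec_smul] at h2
    rw [hc, Matrix.smul_mulVec, smul_right_injective _ hb0 h2]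
  · intro w hw hw0
    letI : MulAction ↥(P : Subgroup ↥X) (Fin n → F) :=
      { smul := fun g x => x ᵥ* (((g : ↥X) : GL (Fin n) F)⁻¹ : GL (Fin n) F).1
        one_smul := fun x => by
          show x ᵥ* (((1 : ↥(P : Subgroup ↥X)) : ↥X) : GL (Fin n) F)⁻¹.1 = x
          rw [OneMemClass.coe_one, OneMemClass.coe_one, inv_one, Units.val_one, Matrix.vecMul_one]
        mul_smul := fun g h x => by
          show x ᵥ* (((g * h : ↥(P : Subgroup ↥X)) : ↥X) : GL (Fin n) F)⁻¹.1 = (x ᵥ* _) ᵥ* _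
          rw [Subgroup.coe_mul, Subgroup.coe_mul, _root_.mul_inv_rev, Units.val_mul, ← Matrix.vecMul_vecMul] }
    obtain ⟨x, hx, hx0⟩ := P.isPGroup'.exists_fixed_point_of_prime_dvd_card_of_fixed_point (Fin n → F) hcard
      (a := 0) (fun g => Matrix.zero_vecMul _)
    have hfix : ∀ s : ↥X, s ∈ (P : Subgroup ↥X) →
        x ᵥ* ((s : GL (Fin n) F) : Matrix (Fin n) (Fin n) F) = x := fun s hs => by
      have h := hx (⟨s, hs⟩⁻¹ : ↥(P : Subgroup ↥X))
      change x ᵥ* (((((⟨s, hs⟩⁻¹ : ↥(P : Subgroup ↥X))) : ↥X) : GL (Fin n) F)⁻¹).1 = x at h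
      simpa using h
    have h1 : x ᵥ* (u : Matrix (Fin n) (Fin n) F) = (c₀ : F) • x := by rw [hc₀, Matrix.vecMul_smul, hfix _ hs₀]
    have hc1 : (c₀ : F) = 1 := by
      have h2 : ((u : Matrix (Fin n) (Fin n) F)ᵀ) *ᵥ x = (c₀ : F) • x := by rwa [Matrix.mulVec_transpose]
      set ut : GL (Fin n) F := ⟨(u : Matrix (Fin n) (Fin n) F)ᵀ, (↑u⁻¹ : Matrix (Fin n) (Fin n) F)ᵀ,
        by rw [← Matrix.transpose_mul, ← Units.val_mul, inv_mul_cancel, Units.val_one, Matrix.transpose_one],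
        by rw [← Matrix.transpose_mul, ← Units.val_mul, mul_inv_cancel, Units.val_one, Matrix.transpose_one]⟩
      refine eigen_one (u := ut) ?_ (Ne.symm hx0) h2
      show ((u : Matrix (Fin n) (Fin n) F)ᵀ - 1) ^ n = 0
      rw [← Matrix.transpose_one, ← Matrix.transpose_sub, ← Matrix.transpose_pow, hN, Matrix.transpose_zero]
    rw [hc1, one_smul] at h1
    obtain ⟨b, hb⟩ := hw x h1
    have hb0 : b ≠ 0 := fun e => hx0 (by rw [hb, e, zero_smul])
    intro g hg
    obtain ⟨s, c, hs, hc⟩ := hlift g hg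
    refine ⟨c, ?_⟩
    have h2 := hfix s hs
    rw [hb, Matrix.smul_vecMul] at h2
    rw [hc, Matrix.vecMul_smul, smul_right_injective _ hb0 h2]

end Cfsg.Agent.NilpotentCoverPGL
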