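import Cfsg.Agent.Lib.Fusion.Alperin
import Cfsg.Agent.Lib.Fusion.Group
import Cfsg.Agent.Lib.PLocal.ThompsonNPC
import Cfsg.Agent.Lib.PLocal.FixedPointFree
import Cfsg.Agent.Lib.Solvable.Coprime
import Cfsg.Agent.Lib.CharP.AxB

/-!
Groups with a nilpotent maximal subgroup (Thompson, Deskins): solvable when the maximal subgroup has odd
order or class at most two.
-/

set_option autoImplicit false
set_option linter.style.haveILetI false

namespace Cfsg.Agent.NilMax

open Cfsg Cfsg.Agent
open scoped Pointwise commutatorElement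

universe u

variable {G : Type u} [Group G] [Finite G]

/-- The reduction to a core-free maximal subgroup. -/
theorem reduce (Q : ∀ (H : Type u) [Group H], Prop)
    (hQ : ∀ (H K : Type u) [Group H] [Group K] [Finite H] [Group.IsNilpotent H] (f : H →* K),
      Function.Surjective f → Q H → Q K)
    (hcase : ∀ (G : Type u) [Group G] [Finite G] (M : Subgroup G), IsCoatom M → Group.IsNilpotent M → Q M →
      M ≠ ⊥ → (∀ X : Subgroup G, X.Normal → X ≤ M → X = ⊥) → Group.IsSolvable G) :
    ∀ (n : ℕ) (G : Type u) [Group G] [Finite G] (M : Subgroup G), Nat.card G = n → IsCoatom M →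
      Group.IsNilpotent M → Q M → Group.IsSolvable G := by
  intro n
  induction n using Nat.strong_induction_on with
  | _ n ih =>
  intro G _ _ M hn hmax hnil hQM
  haveI := hnil
  by_cases hM : M = ⊥
  · subst hM
    apply Group.isSolvable_of_comm
    intro a b
    by_cases ha : a = 1
    · simp [ha]
    · have h : Subgroup.zpowers a = ⊤ := hmax.2 _ (bot_lt_iff_ne_bot.2 (by simpa using ha))
      obtain ⟨k, rfl⟩ := h.ge (Subgroup.mem_top b)
      exact ((Commute.refl a).zpow_right k).eq
  by_cases hcore : ∀ X : Subgroup G, X.Normal → X ≤ M → X = ⊥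
  · exact hcase G M hmax hnil hQM hM hcore
  push Not at hcore
  obtain ⟨X, hXn, hXM, hX⟩ := hcore
  haveI := hXn
  set π := QuotientGroup.mk' X
  have hsurj : Function.Surjective π := QuotientGroup.mk'_surjective X
  have hcomap : (M.map π).comap π = M := Subgroup.comap_map_eq_self (by rwa [QuotientGroup.ker_mk'])
  have hmax' : IsCoatom (M.map π) := by
    refine ⟨fun h => hmax.1 ?_, fun Y hY => ?_⟩
    · rw [← hcomap, h, Subgroup.comap_top]
    · have : M < Y.comap π := by
        rw [← hcomap]
        exact lt_of_le_of_ne (Subgroup.comap_mono hY.le) fun h => hY.ne (Subgroup.comap_injective hsurj h)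
      have h1 := hmax.2 _ this
      rw [← Subgroup.map_comap_eq_self_of_surjective hsurj Y, h1, Subgroup.map_top_of_surjective _ hsurj]
  have hnil' : Group.IsNilpotent (M.map π) :=
    Group.nilpotent_of_surjective (π.subgroupMap M) (MonoidHom.subgroupMap_surjective _ _)
  have hQ' : Q (M.map π) := hQ M _ (π.subgroupMap M) (MonoidHom.subgroupMap_surjective _ _) hQM
  have hlt : Nat.card (G ⧸ X) < n := by
    rw [← hn, Subgroup.card_eq_card_quotient_mul_card_subgroup X]
    exact lt_mul_of_one_lt_right Nat.card_pos ((Subgroup.one_lt_card_iff_ne_bot X).2 hX)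
  haveI : Group.IsSolvable (G ⧸ X) := ih _ hlt (G ⧸ X) (M.map π) rfl hmax' hnil' hQ'
  haveI : Group.IsSolvable X := SolvBasic.isSolvable_of_le hXM
  exact Group.isSolvable_of_ker_le_range X.subtype π (by rw [QuotientGroup.ker_mk', Subgroup.range_subtype])

variable {M : Subgroup G}

theorem normalizer_eq (hmax : IsCoatom M) (hcore : ∀ X : Subgroup G, X.Normal → X ≤ M → X = ⊥)
    {X : Subgroup G} (hX : X ≠ ⊥) (hXM : X ≤ M) (hN : M ≤ Subgroup.normalizer (X : Set G)) :
    Subgroup.normalizer (X : Set G) = M := by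
  rcases eq_or_lt_of_le hN with h | h
  · exact h.symm
  · exact absurd (hcore X (Subgroup.normalizer_eq_top_iff.1 (hmax.2 _ h)) hXM) hX

/-- A Sylow subgroup of `M` is a Sylow subgroup of `G` and is normal in `M`. -/
theorem exists_sylow (hmax : IsCoatom M) (hnil : Group.IsNilpotent M)
    (hcore : ∀ X : Subgroup G, X.Normal → X ≤ M → X = ⊥) {p : ℕ} [hp : Fact p.Prime] (hpM : p ∣ Nat.card M) :
    ∃ S : Sylow p G, (S : Subgroup G) ≤ M ∧ (S : Subgroup G) ≠ ⊥ ∧ M ≤ Subgroup.normalizer ((S : Subgroup G) : Set G) ∧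
      ∀ g ∈ M, ∃ u ∈ (S : Subgroup G), ∀ x ∈ (S : Subgroup G), g * x * g⁻¹ = u * x * u⁻¹ := by
  haveI := hnil
  obtain ⟨T⟩ : Nonempty (Sylow p M) := inferInstance
  set S := (T : Subgroup M).map M.subtype with hS
  have hSM : S ≤ M := Subgroup.map_subtype_le _
  haveI : (T : Subgroup M).Normal := inferInstance
  have hMN : M ≤ Subgroup.normalizer (S : Set G) := AxB.le_normalizer_map_subtype inferInstance
  have hSne : S ≠ ⊥ := by
    rw [hS, Ne, Subgroup.map_eq_bot_iff_of_injective _ M.subtype_injective]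
    exact T.ne_bot_of_dvd_card hpM
  obtain ⟨R, hR⟩ := (T.isPGroup'.map M.subtype).exists_le_sylow
  have hRS : (R : Subgroup G) = S := by
    by_contra hne
    have hlt : S < (R : Subgroup G) := lt_of_le_of_ne hR (Ne.symm hne)
    have h1 := Fusion.lt_inf_normalizer (P := (R : Subgroup G)) R.isPGroup'.isNilpotent hlt
    rw [normalizer_eq hmax hcore hSne hSM hMN] at h1
    have h2 : IsPGroup p ((((R : Subgroup G) ⊓ M)).subgroupOf M) :=
      (R.isPGroup'.to_le inf_le_left).comap_subtype
    have h3 := T.is_maximal' h2 (by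
      intro x hx
      rw [Subgroup.mem_subgroupOf]
      exact h1.le (Subgroup.mem_map_of_mem M.subtype hx))
    have h4 : ((R : Subgroup G) ⊓ M) = S := by
      rw [hS, ← h3, Subgroup.map_subgroupOf_eq_of_le inf_le_right]
    exact h1.ne h4.symm
  refine ⟨R, hRS ▸ hSM, hRS ▸ hSne, hRS ▸ hMN, ?_⟩
  intro g hg
  obtain ⟨u, v, huv, -, -, ⟨k, hk⟩, hvo⟩ := PBasic.exists_pPart_mul (p := p) (⟨g, hg⟩ : M)
  have huT : u ∈ (T : Subgroup M) := by
    obtain ⟨T', hT'⟩ := (IsPGroup.of_card (p := p) (n := k) (G := Subgroup.zpowers u)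
      (by rw [Nat.card_zpowers, hk])).exists_le_sylow
    haveI := Sylow.unique_of_normal T inferInstance
    rw [Subsingleton.elim T' T] at hT'
    exact hT' (Subgroup.mem_zpowers u)
  refine ⟨u, hRS ▸ Subgroup.mem_map_of_mem M.subtype huT, fun x hx => ?_⟩
  rw [hRS] at hx
  obtain ⟨y, hy, rfl⟩ := hx
  obtain ⟨j, hj⟩ := IsPGroup.iff_orderOf.1 T.isPGroup' ⟨y, hy⟩
  rw [Subgroup.orderOf_mk] at hj
  have hvy := FixedPointFreeThompson.commute_of_nilpotent hj hvo
  have h1 : (⟨g, hg⟩ : M) * y * (⟨g, hg⟩ : M)⁻¹ = u * y * u⁻¹ := by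
    rw [← huv]
    calc u * v * y * (u * v)⁻¹ = u * (v * y) * v⁻¹ * u⁻¹ := by group
      _ = u * y * u⁻¹ := by rw [hvy]; group
  exact congrArg Subtype.val h1

/-- The end of the proof: normal `p`-complements for all primes of `M` force solvability. -/
theorem solvable_of_npc (hmax : IsCoatom M) (hnil : Group.IsNilpotent M) (hM : M ≠ ⊥)
    (hcore : ∀ X : Subgroup G, X.Normal → X ≤ M → X = ⊥)
    (hnpc : ∀ p : ℕ, p.Prime → p ∣ Nat.card M → Cfsg.HasNormalPComplement p G) : Group.IsSolvable G := by
  classical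
  haveI := hnil
  let K : Subgroup G := ⨅ p : {p : Nat.Primes // (p : ℕ) ∣ Nat.card M}, Cfsg.pResidual ((p : Nat.Primes) : ℕ) G
  haveI hKn : K.Normal := Subgroup.normal_iInf_normal fun p => inferInstance
  have hle : ∀ p : ℕ, ∀ (hp : p.Prime) (hpM : p ∣ Nat.card M), K ≤ Cfsg.pResidual p G := fun p hp hpM =>
    iInf_le (fun p : {p : Nat.Primes // (p : ℕ) ∣ Nat.card M} => Cfsg.pResidual ((p : Nat.Primes) : ℕ) G) ⟨⟨p, hp⟩, hpM⟩
  have hcopK : (Nat.card M).Coprime (Nat.card K) := by
    refine Nat.coprime_of_dvd fun q hq hqM hqK => ?_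
    haveI := Fact.mk hq
    have h1 := PBasic.hasNormalPComplement_iff_pResidual.1 (hnpc q hq hqM)
    exact hq.not_dvd_one (h1 ▸ Nat.dvd_gcd (hqK.trans (Subgroup.card_dvd_of_le (hle q hq hqM))) dvd_rfl)
  have hidx : ∀ q : ℕ, q.Prime → q ∣ K.index → q ∣ Nat.card M := by
    intro q hq hqi
    haveI := Fact.mk hq
    obtain ⟨z, hz⟩ := exists_prime_orderOf_dvd_card' (G := G ⧸ K) q (by rwa [← Subgroup.index_eq_card])
    obtain ⟨g, rfl⟩ := QuotientGroup.mk'_surjective K z
    have hgK : g ∉ K := fun h => by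
      rw [QuotientGroup.mk'_apply, (QuotientGroup.eq_one_iff g).2 h, orderOf_one] at hz
      exact hq.ne_one hz.symm
    have hgq : g ^ q ∈ K := by
      rw [← QuotientGroup.eq_one_iff, ← QuotientGroup.mk'_apply, map_pow, ← hz, pow_orderOf_eq_one]
    obtain ⟨⟨⟨p, hp⟩, hpM⟩, hpg⟩ : ∃ p : {p : Nat.Primes // (p : ℕ) ∣ Nat.card M},
        g ∉ Cfsg.pResidual ((p : Nat.Primes) : ℕ) G := by
      by_contra hc
      push Not at hc
      exact hgK (Subgroup.mem_iInf.2 hc)
    haveI := Fact.mk hp
    by_contra hqM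
    have hqp : p.Coprime q := (Nat.coprime_primes hp hq).2 fun h => hqM (h ▸ hpM)
    apply hpg
    obtain ⟨k, hk⟩ := PBasic.quotient_pResidual_isPGroup p G (QuotientGroup.mk g)
    have h2 : (g : G ⧸ Cfsg.pResidual p G) ^ q = 1 := by
      rw [← QuotientGroup.mk_pow, QuotientGroup.eq_one_iff]; exact hle p hp hpM hgq
    have h3 := pow_gcd_eq_one.2 ⟨hk, h2⟩
    rw [(hqp.pow_left k).gcd_eq_one, pow_one] at h3
    exact (QuotientGroup.eq_one_iff g).1 h3
  have hHall : (Nat.card M).Coprime M.index := by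
    refine Nat.coprime_of_dvd fun q hq hqM hqi => ?_
    haveI := Fact.mk hq
    obtain ⟨S, hSM, -, -, -⟩ := exists_sylow hmax hnil hcore hqM
    exact S.not_dvd_index (hqi.trans (Subgroup.index_dvd_of_le hSM))
  have hKidx : K.index ∣ Nat.card M := by
    have h1 : K.index ∣ Nat.card M * M.index := M.card_mul_index ▸ K.index_dvd_card
    refine Nat.Coprime.dvd_of_dvd_mul_right ?_ h1
    refine Nat.coprime_of_dvd fun q hq hq1 hq2 => ?_
    exact hq.not_dvd_one (hHall ▸ Nat.dvd_gcd (hidx q hq hq1) hq2)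
  have hMK : M ≤ Subgroup.normalizer (K : Set G) := by rw [Subgroup.normalizer_eq_top]; exact le_top
  have htop : K ⊔ M = ⊤ := by
    apply Subgroup.eq_top_of_le_card
    rw [SchurZ.card_sup hMK hcopK, ← K.card_mul_index]
    exact Nat.mul_le_mul_left _ (Nat.le_of_dvd Nat.card_pos hKidx)
  haveI : Group.IsNilpotent K := by
    refine (Group.isNilpotent_of_finite_tfae.out 0 3 rfl rfl).2 fun q hq P => ?_
    haveI := hq
    obtain ⟨P₀, hP₀⟩ := CoprimeAct.exists_invariant_sylow hMK hcopK (Or.inl inferInstance) q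
    by_cases hqK : q ∣ Nat.card K
    swap
    · have : (P : Subgroup K) = ⊥ := Subgroup.card_eq_one.1 (by
        rw [P.card_eq_multiplicity, Nat.factorization_eq_zero_of_not_dvd hqK, pow_zero])
      rw [this]; infer_instance
    set X := (P₀ : Subgroup K).map K.subtype with hX
    have hXn : (P₀ : Subgroup K).Normal := by
      have hNX : Subgroup.normalizer (X : Set G) = ⊤ := by
        rcases eq_or_lt_of_le hP₀ with h | h
        · exfalso
          have h1 : X ≤ M := h ▸ Subgroup.le_normalizer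
          have h2 : q ∣ Nat.card M := by
            refine (P₀.dvd_card_of_dvd_card hqK).trans ?_
            rw [← Subgroup.card_map_of_injective K.subtype_injective]
            exact Subgroup.card_dvd_of_le h1
          exact hq.out.not_dvd_one (hcopK ▸ Nat.dvd_gcd h2 hqK)
        · exact hmax.2 _ h
      haveI := Subgroup.normalizer_eq_top_iff.1 hNX
      have : (P₀ : Subgroup K) = X.subgroupOf K := by
        rw [hX, Subgroup.subgroupOf, Subgroup.comap_map_eq_self_of_injective K.subtype_injective]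
      rw [this]; infer_instance
    haveI := Sylow.unique_of_normal P₀ hXn
    rw [Subsingleton.elim P P₀]
    exact hXn
  haveI : Group.IsSolvable K := inferInstance
  haveI : Group.IsSolvable (G ⧸ K) := by
    refine Group.isSolvable_of_surjective (f := (QuotientGroup.mk' K).comp M.subtype) fun y => ?_
    obtain ⟨g, rfl⟩ := QuotientGroup.mk'_surjective K y
    obtain ⟨k, hk, m, hm, rfl⟩ := Subgroup.mem_sup_of_normal_left.1 (htop.ge (Subgroup.mem_top g))
    refine ⟨⟨m, hm⟩, ?_⟩
    show (m : G ⧸ K) = ((k * m : G) : G ⧸ K)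
    rw [QuotientGroup.mk_mul, (QuotientGroup.eq_one_iff k).2 hk, one_mul]
  exact Group.isSolvable_of_ker_le_range K.subtype (QuotientGroup.mk' K)
    (by rw [QuotientGroup.ker_mk', Subgroup.range_subtype])

/-- Thompson: a nilpotent maximal subgroup of odd order. -/
theorem solvable_of_odd (M : Subgroup G) (hmax : IsCoatom M) (hnil : Group.IsNilpotent M)
    (hodd : Odd (Nat.card M)) : Group.IsSolvable G := by
  refine reduce (fun H _ => Odd (Nat.card H))
    (fun H K _ _ _ _ f hf h => Odd.of_dvd_nat h (Subgroup.card_dvd_of_surjective f hf)) ?_ _ G M rfl hmax hnil hodd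
  intro G _ _ M hmax hnil hodd hM hcore
  refine solvable_of_npc hmax hnil hM hcore fun p hp hpM => ?_
  haveI := Fact.mk hp
  have hp2 : p ≠ 2 := by
    rintro rfl
    exact absurd (Odd.of_dvd_nat hodd hpM) (by decide)
  obtain ⟨S, hSM, hSne, hMS, hinn⟩ := exists_sylow hmax hnil hcore hpM
  haveI := hnil
  have hMnpc : Cfsg.HasNormalPComplement p M := FixedPointFreeThompson.hasNormalPComplement_of_nilpotent
  refine ThompsonNPC.hasNormalPComplement_of_thompson hp2 S ?_ ?_
  · have hJM : Cfsg.thompsonSubgroupOf p (S : Subgroup G) ≤ M :=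
      (Thompson.thompsonSubgroupOf_le p (S : Subgroup G)).trans hSM
    have hMJ : M ≤ Subgroup.normalizer (Cfsg.thompsonSubgroupOf p (S : Subgroup G) : Set G) :=
      hMS.trans (Thompson.normalizer_le_normalizer_thompsonSubgroupOf p (S : Subgroup G))
    rw [normalizer_eq hmax hcore (ThompsonNPC.thompson_ne_bot S.isPGroup' hSne) hJM hMJ]
    exact hMnpc
  · set Z := (S : Subgroup G) ⊓ Subgroup.centralizer ((S : Subgroup G) : Set G) with hZ
    have hZN : M ≤ Subgroup.normalizer (Z : Set G) :=
      hMS.trans (ThompsonNPC.normalizer_le_normalizer_center (p := p) (S : Subgroup G))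
    have h1 : Subgroup.centralizer (Z : Set G) ≤ M := by
      rw [← normalizer_eq hmax hcore (ThompsonNPC.center_ne_bot S.isPGroup' hSne) (inf_le_left.trans hSM) hZN]
      exact Subgroup.centralizer_le_normalizer _
    exact PBasic.hasNormalPComplement_of_injective (Subgroup.inclusion h1) (Subgroup.inclusion_injective _) hMnpc

/-- Deskins: a nilpotent maximal subgroup of class at most two. -/
theorem solvable_of_class_two (M : Subgroup G) (hmax : IsCoatom M) (hnil : Group.IsNilpotent M)
    (hcl : Group.nilpotencyClass M ≤ 2) : Group.IsSolvable G := by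
  haveI := hnil
  refine reduce (fun H _ => ∀ a b c : H, ⁅⁅a, b⁆, c⁆ = 1)
    (fun H K _ _ _ _ f hf h a b c => by
      obtain ⟨a, rfl⟩ := hf a; obtain ⟨b, rfl⟩ := hf b; obtain ⟨c, rfl⟩ := hf c
      rw [← map_commutatorElement, ← map_commutatorElement, h, map_one]) ?_ _ G M rfl hmax hnil ?_
  swap
  · intro a b c
    have h := Subgroup.upperCentralSeries_eq_top_iff_nilpotencyClass_le.2 hcl
    have ha : a ∈ Subgroup.upperCentralSeries M 2 := h.ge (Subgroup.mem_top a)
    have h1 := Subgroup.mem_upperCentralSeries_succ_iff.1 ha b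
    rw [Subgroup.upperCentralSeries_one, Subgroup.mem_center_iff] at h1
    rw [commutatorElement_eq_one_iff_mul_comm]
    exact (h1 c).symm
  intro G _ _ M hmax hnil hcl hM hcore
  refine solvable_of_npc hmax hnil hM hcore fun p hp hpM => ?_
  haveI := Fact.mk hp
  obtain ⟨S, hSM, hSne, hMS, hinn⟩ := exists_sylow hmax hnil hcore hpM
  have hS := S.isPGroup'
  -- fusion in `S` is inner
  have hF : groupFusionSystem (S : Subgroup G) ≤ innerFusionSystem (S : Subgroup G) := by
    refine FusionSys.alperin hS (FusionSys.groupFusionSystem_saturated S) fun P hP => ?_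
    have hPS : P ≤ (S : Subgroup G) := by
      rcases hP with h | h
      · exact h.le
      · exact h.1.1
    have hNP : Subgroup.normalizer (P : Set G) ≤ M := by
      have hPn : M ≤ Subgroup.normalizer (P : Set G) := by
        rcases hP with h | h
        · rw [h]; exact hMS
        · have hZP : ∀ x ∈ (S : Subgroup G), (∀ y ∈ (S : Subgroup G), y * x = x * y) → x ∈ P := fun x hx hc =>
            FusionSys.mem_of_centralizes h.1 hx fun q hq => hc q (hPS hq)
          have key : ∀ g ∈ M, ∀ x ∈ P, g * x * g⁻¹ ∈ P := by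
            intro g hg x hx
            obtain ⟨u, hu, hux⟩ := hinn g hg
            rw [hux x (hPS hx)]
            have hc : u * x * u⁻¹ * x⁻¹ ∈ P := by
              refine hZP _ (mul_mem (mul_mem (mul_mem hu (hPS hx)) (inv_mem hu)) (inv_mem (hPS hx))) fun y hy => ?_
              have h1 := hcl ⟨u, hSM hu⟩ ⟨x, hSM (hPS hx)⟩ ⟨y, hSM hy⟩
              rw [commutatorElement_eq_one_iff_mul_comm] at h1
              exact (congrArg Subtype.val h1).symm
            simpa using mul_mem hc hx
          intro g hg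
          rw [Subgroup.mem_normalizer_iff]
          intro x
          refine ⟨key g hg x, fun hx => ?_⟩
          simpa [mul_assoc] using key g⁻¹ (inv_mem hg) _ hx
      by_cases hP0 : P = ⊥
      · subst hP0
        rcases hP with h | h
        · exact absurd h.symm hSne
        · exfalso
          have h1 : ∀ x ∈ (S : Subgroup G), (∀ y ∈ (S : Subgroup G), y * x = x * y) → x = 1 := fun x hx hc =>
            Subgroup.mem_bot.1 (FusionSys.mem_of_centralizes h.1 hx fun q hq => hc q (hPS hq))
          refine ThompsonNPC.center_ne_bot hS hSne ((Subgroup.eq_bot_iff_forall _).2 fun x hx => ?_)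
          exact h1 x hx.1 fun y hy => Subgroup.mem_centralizer_iff.1 hx.2 y hy
      · exact (normalizer_eq hmax hcore hP0 (hPS.trans hSM) hPn).le
    intro α hα
    obtain ⟨-, -, g, hg⟩ := (FusionSys.mem_autGroup_iff _ hPS α).1 hα
    have hgN : g ∈ Subgroup.normalizer (P : Set G) := by
      rw [Subgroup.mem_normalizer_iff]
      intro x
      constructor
      · intro hx
        rw [← hg ⟨x, hx⟩]; exact (α ⟨x, hx⟩).2
      · intro hx
        obtain ⟨y, hy⟩ := α.surjective ⟨_, hx⟩
        have h1 : g * (y : G) * g⁻¹ = g * x * g⁻¹ := (hg y).symm.trans (congrArg Subtype.val hy)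
        rw [← mul_left_cancel (mul_right_cancel h1)]
        exact y.2
    obtain ⟨u, hu, hux⟩ := hinn g (hNP hgN)
    refine (FusionSys.mem_autGroup_iff _ hPS α).2 ⟨hPS, u, hu, fun x => ?_⟩
    exact (hg x).trans (hux x (hPS x.2))
  refine Fusion.hasNormalPComplement_of_controlsFusion S fun x hx g hgx => ?_
  have hmem : conjHom (Subgroup.zpowers x) g ∈ (groupFusionSystem (S : Subgroup G)).Hom (Subgroup.zpowers x) := by
    refine ⟨Subgroup.zpowers_le.2 hx, ?_, g, fun y => rfl⟩
    rintro ⟨_, k, rfl⟩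
    show g * x ^ k * g⁻¹ ∈ (S : Subgroup G)
    rw [← conj_zpow]
    exact zpow_mem hgx k
  obtain ⟨-, v, hv, hvx⟩ := hF _ hmem
  exact ⟨v, hv, (hvx ⟨x, Subgroup.mem_zpowers x⟩).symm⟩

end Cfsg.Agent.NilMax
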