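import Cfsg.Agent.S0200
import Cfsg.Agent.Lib.Solvable.SchurZassenhaus
import Cfsg.Agent.Lib.Transfer.Basic

/-!
# Normal Sylow 2-subgroups from odd cyclic normalisers

If every 2-element normalising a cyclic subgroup of odd order centralises it, the Sylow
2-subgroup is normal.
-/

set_option autoImplicit false
set_option linter.style.haveILetI false

open scoped Pointwise

namespace Cfsg.Agent.OddNorm

variable {G : Type*} [Group G]

theorem sylow_two_normal [Finite G]
    (hyp : ∀ x t : G, Odd (orderOf x) → (∃ k : ℕ, t ^ 2 ^ k = 1) →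
      t ∈ Subgroup.normalizer ((Subgroup.zpowers x : Subgroup G) : Set G) → t * x = x * t)
    (P : Sylow 2 G) : (P : Subgroup G).Normal := by
  classical
  haveI h2 : Fact (Nat.Prime 2) := ⟨Nat.prime_two⟩
  set N := Cfsg.pCore 2 G with hNdef
  haveI hNn : N.Normal := Cfsg.pCore_normal 2 G
  have hN2 : IsPGroup 2 N := PBasic.pCore_isPGroup 2 G
  have hodd : ¬ 2 ∣ N.index := by
    intro hd
    rw [Subgroup.index_eq_card] at hd
    obtain ⟨tb, htb⟩ := exists_prime_orderOf_dvd_card' (G := G ⧸ N) 2 hd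
    obtain ⟨hb, hb1, hbodd, hbinv⟩ := Cfsg.Agent.S0200.result tb htb (by
      intro M hM hM2 htM
      haveI := hM
      have hMp : IsPGroup 2 (M.comap (QuotientGroup.mk' N)) :=
        hM2.comap_of_ker_isPGroup _ (by rw [QuotientGroup.ker_mk']; exact hN2)
      have hle := PBasic.le_pCore (p := 2) (hM.comap _) hMp
      obtain ⟨y, rfl⟩ := QuotientGroup.mk'_surjective N tb
      have : (QuotientGroup.mk' N) y = 1 := (QuotientGroup.eq_one_iff y).2 (hle (Subgroup.mem_comap.2 htM))
      rw [this, orderOf_one] at htb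
      norm_num at htb)
    -- odd order lift of `hb`
    obtain ⟨y, hy⟩ := QuotientGroup.mk'_surjective N hb
    obtain ⟨u, x, hux, hu, -, ⟨ku, hku⟩, hxo⟩ := PBasic.exists_pPart_mul (p := 2) y
    have hx : QuotientGroup.mk' N x = hb := by
      have h1 : orderOf (QuotientGroup.mk' N u) ∣ 2 ^ ku := hku ▸ orderOf_map_dvd _ u
      have h2' : orderOf (QuotientGroup.mk' N u) ∣ orderOf hb := by
        obtain ⟨i, hi⟩ := Subgroup.mem_zpowers_iff.1 hu
        rw [← hi, map_zpow, hy]
        exact orderOf_dvd_of_mem_zpowers (Subgroup.zpow_mem_zpowers hb i)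
      have h3 : orderOf (QuotientGroup.mk' N u) = 1 := Nat.dvd_one.1
        ((Nat.Coprime.pow_left ku (Nat.coprime_two_left.2 hbodd)) ▸ Nat.dvd_gcd h1 h2')
      rw [← hy, ← hux, map_mul, orderOf_eq_one_iff.1 h3, one_mul]
    have hxodd : Odd (orderOf x) := Nat.coprime_two_left.1 hxo.symm
    -- conjugacy of complements
    obtain ⟨t, ht⟩ := QuotientGroup.mk'_surjective N tb
    have hAK : Subgroup.zpowers x ≤ Subgroup.normalizer (N : Set G) := by
      rw [Subgroup.normalizer_eq_top]; exact le_top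
    have hcop : (Nat.card (Subgroup.zpowers x)).Coprime (Nat.card N) := by
      obtain ⟨i, hi⟩ := IsPGroup.iff_card.1 hN2
      rw [Nat.card_zpowers, hi]
      exact (Nat.coprime_two_right.2 hxodd).pow_right i
    have htx : t * x * t⁻¹ ∈ N ⊔ Subgroup.zpowers x := by
      have h1 : t * x * t⁻¹ * x ∈ N := by
        rw [← QuotientGroup.eq_one_iff]
        show QuotientGroup.mk' N (t * x * t⁻¹ * x) = 1
        rw [map_mul, map_mul, map_mul, map_inv, hx, ht, hbinv, inv_mul_cancel]
      rw [show t * x * t⁻¹ = (t * x * t⁻¹ * x) * x⁻¹ by group]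
      exact Subgroup.mul_mem_sup h1 (Subgroup.inv_mem _ (Subgroup.mem_zpowers x))
    obtain ⟨k, hk, hkA⟩ := SchurZ.conj_in (A := Subgroup.zpowers x) (K := N)
      (B := (Subgroup.zpowers x).map (MulAut.conj t).toMonoidHom) hAK hcop
      (Or.inl (Group.isSolvable_of_comm fun a b => mul_comm' a b))
      (by rw [MonoidHom.map_zpowers, Subgroup.zpowers_le]; exact htx)
      (Subgroup.card_map_of_injective (MulEquiv.injective _))
    have htk : k⁻¹ * t ∈ Subgroup.normalizer ((Subgroup.zpowers x : Subgroup G) : Set G) := by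
      rw [Subgroup.mem_normalizer_iff]
      intro z
      have e : k⁻¹ * t * z * (k⁻¹ * t)⁻¹ = k⁻¹ * (t * z * t⁻¹) * k := by group
      rw [e]
      constructor
      · intro hz
        have hz' : t * z * t⁻¹ ∈ MulAut.conj k • Subgroup.zpowers x := by
          rw [hkA]; exact ⟨z, hz, rfl⟩
        rw [Subgroup.mem_pointwise_smul_iff_inv_smul_mem] at hz'
        simpa [MulAut.smul_def, mul_assoc] using hz'
      · intro hz
        have hz' : t * z * t⁻¹ ∈ MulAut.conj k • Subgroup.zpowers x := by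
          rw [Subgroup.mem_pointwise_smul_iff_inv_smul_mem]
          simpa [MulAut.smul_def, mul_assoc] using hz
        rw [hkA] at hz'
        obtain ⟨z', hz'', he⟩ := hz'
        have : z' = z := mul_left_cancel (mul_right_cancel (show t * z' * t⁻¹ = t * z * t⁻¹ from he))
        exact this ▸ hz''
    have htk' : QuotientGroup.mk' N (k⁻¹ * t) = tb := by
      rw [map_mul, ht, map_inv, show QuotientGroup.mk' N k = 1 from (QuotientGroup.eq_one_iff k).2 hk,
        inv_one, one_mul]
    have h2el : ∃ i : ℕ, (k⁻¹ * t) ^ 2 ^ i = 1 := by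
      have hm : (k⁻¹ * t) ^ 2 ∈ N := by
        rw [← QuotientGroup.eq_one_iff]
        show QuotientGroup.mk' N ((k⁻¹ * t) ^ 2) = 1
        rw [map_pow, htk', ← htb, pow_orderOf_eq_one]
      obtain ⟨i, hi⟩ := hN2 ⟨_, hm⟩
      exact ⟨i + 1, by rw [pow_succ', pow_mul]; simpa using congrArg Subtype.val hi⟩
    have hc := congrArg (QuotientGroup.mk' N) (hyp x (k⁻¹ * t) hxodd h2el htk)
    rw [map_mul (QuotientGroup.mk' N) (k⁻¹ * t) x, map_mul (QuotientGroup.mk' N) x (k⁻¹ * t), htk',
      hx] at hc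
    rw [mul_inv_eq_iff_eq_mul.2 hc] at hbinv
    have hsq : hb ^ 2 = 1 := by rw [sq]; exact eq_inv_iff_mul_eq_one.1 hbinv
    have h4 : orderOf hb ∣ 2 := orderOf_dvd_of_pow_eq_one hsq
    refine hb1 (orderOf_eq_one_iff.1 ?_)
    rcases (Nat.dvd_prime Nat.prime_two).1 h4 with h5 | h5
    · exact h5
    · rw [h5] at hbodd; exact absurd hbodd (by decide)
  have hNP : N ≤ P := PBasic.pCore_le_sylow P
  have heq : N = (P : Subgroup G) := by
    refine Subgroup.eq_of_le_of_card_ge hNP ?_
    obtain ⟨i, hi⟩ := IsPGroup.iff_card.1 hN2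
    have hdvd : Nat.card (P : Subgroup G) ∣ Nat.card N * N.index := by
      rw [Subgroup.card_mul_index]; exact Subgroup.card_subgroup_dvd_card _
    have hco : Nat.Coprime (Nat.card (P : Subgroup G)) N.index := by
      obtain ⟨j, hj⟩ := IsPGroup.iff_card.1 P.isPGroup'
      rw [hj]
      exact (Nat.prime_two.coprime_iff_not_dvd.2 hodd).pow_left j
    exact Nat.le_of_dvd Nat.card_pos (hco.dvd_of_dvd_mul_right hdvd)
  exact heq ▸ hNn

end Cfsg.Agent.OddNorm
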