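import Mathlib
import Cfsg.Agent.Lib.TwoGroups.Lifts

/-!
Groups with a normal Sylow subgroup and cyclic quotient, and facts about dihedral groups.
-/

set_option autoImplicit false
set_option linter.style.haveILetI false

namespace Cfsg.Agent.PByCyclic

variable {H : Type*} [Group H] [Finite H] {p : ℕ} [hp : Fact p.Prime]

/-- The two conditions of having a normal Sylow subgroup with cyclic quotient. -/
theorem hyps_of {S₀ : Subgroup H} [hn : S₀.Normal] (hS : IsPGroup p S₀) (hidx : ¬ p ∣ S₀.index)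
    (hcyc : IsCyclic (H ⧸ S₀)) :
    (∀ S : Sylow p H, (S : Subgroup H).Normal) ∧
      ∀ (S : Sylow p H) [(S : Subgroup H).Normal], IsCyclic (H ⧸ (S : Subgroup H)) := by
  have heq : ∀ S : Sylow p H, (S : Subgroup H) = S₀ := by
    intro S
    haveI hTn : ((hS.toSylow hidx : Sylow p H) : Subgroup H).Normal := hn
    haveI := Sylow.unique_of_normal (hS.toSylow hidx) hTn
    rw [Subsingleton.elim S (hS.toSylow hidx)]
    rfl
  refine ⟨fun S => (heq S).symm ▸ hn, fun S hSn => ?_⟩
  exact isCyclic_of_surjective (QuotientGroup.quotientMulEquivOfEq (heq S).symm).toMonoidHom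
    (MulEquiv.surjective _)

/-- A central cyclic normal subgroup of coprime index with cyclic quotient: cyclic. -/
theorem isCyclic_of_central {S : Subgroup H} [S.Normal] [IsCyclic S] (hc : S ≤ Subgroup.center H)
    (hcop : (Nat.card S).Coprime S.index) (hq : IsCyclic (H ⧸ S)) : IsCyclic H := by
  obtain ⟨g, hg⟩ := IsCyclic.exists_generator (α := H ⧸ S)
  induction g using QuotientGroup.induction_on with
  | H x =>
    obtain ⟨y, hy⟩ := IsCyclic.exists_generator (α := S)
    set z := x ^ Nat.card S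
    have hxm : x ^ S.index ∈ S := Subgroup.pow_index_mem S x
    have hzo : orderOf z = S.index := by
      refine Nat.dvd_antisymm (orderOf_dvd_of_pow_eq_one ?_) ?_
      · have h1 : (⟨_, hxm⟩ : S) ^ Nat.card S = 1 := pow_card_eq_one'
        rw [← pow_mul, mul_comm, pow_mul]
        exact congrArg Subtype.val h1
      · have h2 : orderOf ((x : H) : H ⧸ S) = S.index := by
          rw [orderOf_eq_card_of_forall_mem_zpowers hg, Subgroup.index_eq_card]
        have h3 : orderOf ((z : H) : H ⧸ S) = S.index := by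
          rw [QuotientGroup.mk_pow, orderOf_pow' _ Nat.card_pos.ne', h2, Nat.Coprime.gcd_eq_one hcop.symm,
            Nat.div_one]
        exact h3 ▸ orderOf_map_dvd (QuotientGroup.mk' S) z
    have hyo : orderOf (y : H) = Nat.card S := by
      rw [Subgroup.orderOf_coe, orderOf_eq_card_of_forall_mem_zpowers hy]
    have hcomm : Commute (y : H) z := (Subgroup.mem_center_iff.1 (hc y.2) z).symm
    refine isCyclic_of_orderOf_eq_card ((y : H) * z) ?_
    rw [hcomm.orderOf_mul_eq_mul_orderOf_of_coprime (by rw [hyo, hzo]; exact hcop), hyo, hzo,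
      S.card_mul_index]

/-- A cyclic normal `2`-subgroup of odd index is central. -/
theorem central_of_cyclic_two {S : Subgroup H} [hSn : S.Normal] [IsCyclic S] (hS : IsPGroup 2 S)
    (hidx : ¬ 2 ∣ S.index) : S ≤ Subgroup.center H := by
  intro s hs
  rw [Subgroup.mem_center_iff]
  intro h
  haveI : Fact (Nat.Prime 2) := ⟨Nat.prime_two⟩
  obtain ⟨k, hk⟩ := IsPGroup.iff_card.1 hS
  set φ : H →* MulAut S := MulAut.conjNormal
  have h1 : φ h ^ S.index = 1 := by
    rw [← map_pow]
    ext v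
    show h ^ S.index * (v : H) * (h ^ S.index)⁻¹ = v
    have hv : Commute (h ^ S.index) (v : H) :=
      congrArg Subtype.val (mul_comm' (⟨_, Subgroup.pow_index_mem S h⟩ : S) v)
    rw [hv.eq, mul_inv_cancel_right]
  have h2 : orderOf (φ h) ∣ 2 ^ k := by
    refine (orderOf_dvd_natCard (φ h)).trans ?_
    rw [IsCyclic.card_mulAut, hk]
    rcases k with _ | k
    · simp
    · rw [Nat.totient_prime_pow_succ Nat.prime_two]
      simp [pow_succ]
  have h3 : φ h = 1 := by
    rw [← orderOf_eq_one_iff]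
    have hcop : (2 ^ k).Coprime S.index :=
      (Nat.coprime_two_left.2 (Nat.odd_iff.2 (Nat.two_dvd_ne_zero.1 hidx))).pow_left k
    exact Nat.eq_one_of_dvd_coprimes hcop h2 (orderOf_dvd_of_pow_eq_one h1)
  have h4 : h * s * h⁻¹ = s := congrArg Subtype.val (MulEquiv.congr_fun h3 ⟨s, hs⟩)
  exact mul_inv_eq_iff_eq_mul.1 h4

omit [Finite H] hp in
/-- A dihedral group of odd degree `q`: rotations and reflections. -/
theorem dihedral_odd_facts {q : ℕ} (hq : Odd q) (e : H ≃* DihedralGroup q) {x : H}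
    (hx : ¬ orderOf x ∣ q) :
    x * x = 1 ∧ (∀ s : H, orderOf s ∣ q → x * s * x⁻¹ = s⁻¹) ∧
      ∀ s : H, orderOf s ∣ q → Commute x s → s = 1 := by
  have hrot : ∀ s : H, orderOf s ∣ q → ∃ j, e s = DihedralGroup.r j := by
    intro s hs
    rcases hes : e s with j | j
    · exact ⟨j, rfl⟩
    · exfalso
      rw [← MulEquiv.orderOf_eq e, hes, DihedralGroup.orderOf_sr] at hs
      exact Nat.not_even_iff_odd.2 hq (even_iff_two_dvd.2 hs)
  obtain ⟨i, hi⟩ : ∃ i, e x = DihedralGroup.sr i := by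
    rcases hex : e x with j | j
    · exfalso
      apply hx
      rw [← MulEquiv.orderOf_eq e, hex, orderOf_dvd_iff_pow_eq_one, DihedralGroup.r_pow,
        ZMod.natCast_self, mul_zero, DihedralGroup.one_def]
    · exact ⟨j, rfl⟩
  have hinv : ∀ s : H, orderOf s ∣ q → x * s * x⁻¹ = s⁻¹ := fun s hs => by
    obtain ⟨j, hj⟩ := hrot s hs
    apply e.injective
    rw [map_mul, map_mul, map_inv, map_inv, hi, hj, DihedralGroup.inv_sr, DihedralGroup.sr_mul_r,
      DihedralGroup.sr_mul_sr, DihedralGroup.inv_r]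
    congr 1
    ring
  refine ⟨e.injective (by rw [map_mul, map_one, hi, DihedralGroup.sr_mul_self]), hinv, fun s hs hc => ?_⟩
  have h1 := hinv s hs
  rw [hc.eq, mul_inv_cancel_right] at h1
  have h2 : s ^ 2 = 1 := by
    rw [pow_two]
    nth_rewrite 2 [h1]
    exact mul_inv_cancel s
  have h3 : orderOf s ∣ 1 := by
    rw [← Nat.Coprime.gcd_eq_one (Nat.coprime_two_left.2 hq)]
    exact Nat.dvd_gcd (orderOf_dvd_of_pow_eq_one h2) hs
  exact orderOf_eq_one_iff.1 (Nat.eq_one_of_dvd_one h3)

/-- Subgroups of dihedral `2`-groups. -/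
theorem dihedral_two_subgroup {n : ℕ} (T : Subgroup (DihedralGroup (2 ^ n))) :
    IsCyclic T ∨ ∃ k, 1 ≤ k ∧ Nonempty (T ≃* DihedralGroup (2 ^ k)) := by
  by_cases hall : ∀ x ∈ T, x ∈ Subgroup.zpowers (DihedralGroup.r (1 : ZMod (2 ^ n)))
  · exact Or.inl (Subgroup.isCyclic_of_le hall)
  push Not at hall
  obtain ⟨t, htT, ht⟩ := hall
  have hrot : ∀ j : ZMod (2 ^ n), DihedralGroup.r j ∈ Subgroup.zpowers (DihedralGroup.r (1 : ZMod (2 ^ n))) := by
    intro j
    obtain ⟨k, rfl⟩ := ZMod.intCast_surjective j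
    refine ⟨k, ?_⟩
    simp [DihedralGroup.r_zpow]
  obtain ⟨i, rfl⟩ : ∃ i, t = DihedralGroup.sr i := by
    rcases t with j | j
    · exact absurd (hrot j) ht
    · exact ⟨j, rfl⟩
  set C := T ⊓ Subgroup.zpowers (DihedralGroup.r (1 : ZMod (2 ^ n)))
  haveI : IsCyclic C := Subgroup.isCyclic_of_le (inf_le_right : C ≤ _)
  obtain ⟨a', ha'⟩ := IsCyclic.exists_generator (α := C)
  set a : DihedralGroup (2 ^ n) := (a' : DihedralGroup (2 ^ n))
  have hC : ∀ x ∈ C, x ∈ Subgroup.zpowers a := fun x hx => by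
    obtain ⟨k, hk⟩ := ha' ⟨x, hx⟩
    exact ⟨k, congrArg Subtype.val hk⟩
  haveI : Fact (Nat.Prime 2) := ⟨Nat.prime_two⟩
  have hP : IsPGroup 2 (DihedralGroup (2 ^ n)) := by
    refine IsPGroup.of_card (n := n + 1) ?_
    rw [DihedralGroup.nat_card]; ring
  obtain ⟨k, hk⟩ := IsPGroup.iff_orderOf.1 hP a
  have hzp : Subgroup.zpowers a ≤ C := Subgroup.zpowers_le.2 a'.2
  have hH : T = Subgroup.closure ({a, DihedralGroup.sr i} : Set (DihedralGroup (2 ^ n))) := by
    have haC : a ∈ Subgroup.closure ({a, DihedralGroup.sr i} : Set (DihedralGroup (2 ^ n))) :=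
      Subgroup.subset_closure (by simp)
    have htC : DihedralGroup.sr i ∈ Subgroup.closure ({a, DihedralGroup.sr i} : Set (DihedralGroup (2 ^ n))) :=
      Subgroup.subset_closure (by simp)
    refine le_antisymm (fun x hx => ?_) ((Subgroup.closure_le _).2 ?_)
    · rcases x with j | j
      · exact Subgroup.zpowers_le.2 haC (hC _ ⟨hx, hrot j⟩)
      · have h1 : DihedralGroup.r (j - i) ∈ C := ⟨by
          have := mul_mem htT hx
          rwa [DihedralGroup.sr_mul_sr] at this, hrot _⟩
        have h2 := mul_mem htC (Subgroup.zpowers_le.2 haC (hC _ h1))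
        rwa [DihedralGroup.sr_mul_r, add_sub_cancel] at h2
    · rintro x (rfl | rfl)
      exacts [a'.2.1, htT]
  have hta : DihedralGroup.sr i * a * (DihedralGroup.sr i)⁻¹ = a⁻¹ := by
    obtain ⟨m, hm⟩ := (a'.2.2 : a ∈ _)
    rw [show a = DihedralGroup.r (1 : ZMod (2 ^ n)) ^ m from hm.symm]
    simp [DihedralGroup.r_zpow]
  obtain ⟨eq⟩ := TwoLift.dihedral_equiv (n := 2 ^ k) hk (DihedralGroup.sr_mul_self i) hta
    (fun h => ht ((inf_le_right : C ≤ _) (hzp h))) hH
  rcases Nat.eq_zero_or_pos k with hk0 | hk0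
  · left
    refine isCyclic_of_prime_card (p := 2) ?_
    rw [Nat.card_congr eq.toEquiv, DihedralGroup.nat_card, hk0]; norm_num
  · exact Or.inr ⟨k, hk0, ⟨eq⟩⟩

/-- Automorphisms of odd order of a dihedral `2`-group of order at least eight are trivial. -/
theorem dihedral_two_aut {k : ℕ} (hk : 2 ≤ k) (α : MulAut (DihedralGroup (2 ^ k))) {m : ℕ}
    (hm : Odd m) (hα : α ^ m = 1) : α = 1 := by
  have h4 : 4 ≤ 2 ^ k := by
    calc 4 = 2 ^ 2 := by norm_num
      _ ≤ 2 ^ k := Nat.pow_le_pow_right two_pos hk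
  haveI : NeZero (2 ^ k) := ⟨by positivity⟩
  obtain ⟨j, hj⟩ : ∃ j, α (DihedralGroup.r 1) = DihedralGroup.r j := by
    rcases he : α (DihedralGroup.r 1) with j | j
    · exact ⟨j, rfl⟩
    · exfalso
      have := MulEquiv.orderOf_eq α (DihedralGroup.r 1)
      rw [he, DihedralGroup.orderOf_sr, DihedralGroup.orderOf_r_one] at this
      omega
  obtain ⟨i, hi⟩ : ∃ i, α (DihedralGroup.sr 0) = DihedralGroup.sr i := by
    rcases he : α (DihedralGroup.sr 0) with i | i
    · exfalso
      obtain ⟨t, rfl⟩ := ZMod.intCast_surjective i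
      have hr : ∀ u : ℤ, α (DihedralGroup.r (u : ZMod (2 ^ k))) = DihedralGroup.r ((u : ZMod (2 ^ k)) * j) := by
        intro u
        have e1 : (DihedralGroup.r 1 : DihedralGroup (2 ^ k)) ^ u = DihedralGroup.r (u : ZMod (2 ^ k)) := by
          simp [DihedralGroup.r_zpow]
        rw [← e1, map_zpow, hj]
        simp [DihedralGroup.r_zpow, mul_comm]
      have hsurj := α.surjective (DihedralGroup.sr 0)
      obtain ⟨y, hy⟩ := hsurj
      rcases y with u | u <;> obtain ⟨u, rfl⟩ := ZMod.intCast_surjective u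
      · rw [hr] at hy; exact absurd hy (by simp)
      · have e2 : (DihedralGroup.sr (u : ZMod (2 ^ k)) : DihedralGroup (2 ^ k)) =
            DihedralGroup.sr 0 * DihedralGroup.r (u : ZMod (2 ^ k)) := by simp
        rw [e2, map_mul, he, hr, DihedralGroup.r_mul_r] at hy
        exact absurd hy (by simp)
    · exact ⟨i, rfl⟩
  have hr : ∀ u : ZMod (2 ^ k), α (DihedralGroup.r u) = DihedralGroup.r (u * j) := by
    intro u
    obtain ⟨u, rfl⟩ := ZMod.intCast_surjective u
    have e1 : (DihedralGroup.r 1 : DihedralGroup (2 ^ k)) ^ u = DihedralGroup.r (u : ZMod (2 ^ k)) := by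
      simp [DihedralGroup.r_zpow]
    rw [← e1, map_zpow, hj]
    simp [DihedralGroup.r_zpow, mul_comm]
  have hpow : ∀ l : ℕ, (α ^ l) (DihedralGroup.r 1) = DihedralGroup.r (j ^ l) := by
    intro l
    induction l with
    | zero => simp
    | succ l ih => rw [pow_succ', MulAut.mul_apply, ih, hr, pow_succ]
  have hjm : j ^ m = 1 := by
    have := hpow m
    rw [hα, MulAut.one_apply] at this
    exact ((DihedralGroup.r.injEq _ _).mp this).symm
  have hj1 : j = 1 := by
    have hm0 : m ≠ 0 := fun h => by rw [h] at hm; exact Nat.not_odd_zero hm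
    obtain ⟨v, rfl⟩ := IsUnit.of_pow_eq_one hjm hm0
    have h1 : v ^ m = 1 := Units.ext (by rw [Units.val_pow_eq_pow_val]; exact hjm)
    have h2 : orderOf v ∣ 2 ^ k := by
      refine orderOf_dvd_natCard v |>.trans ?_
      rw [Nat.card_eq_fintype_card, ZMod.card_units_eq_totient]
      obtain ⟨l, rfl⟩ : ∃ l, k = l + 1 := ⟨k - 1, by omega⟩
      rw [Nat.totient_prime_pow_succ Nat.prime_two]
      simp [pow_succ]
    rw [show v = 1 from orderOf_eq_one_iff.1 (Nat.eq_one_of_dvd_coprimes
      ((Nat.coprime_two_left.2 hm).pow_left k) h2 (orderOf_dvd_of_pow_eq_one h1)), Units.val_one]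
  subst hj1
  have hs : ∀ l : ℕ, (α ^ l) (DihedralGroup.sr 0) = DihedralGroup.sr ((l : ZMod (2 ^ k)) * i) := by
    intro l
    induction l with
    | zero => simp
    | succ l ih =>
      rw [pow_succ', MulAut.mul_apply, ih]
      have e2 : (DihedralGroup.sr ((l : ZMod (2 ^ k)) * i) : DihedralGroup (2 ^ k)) =
          DihedralGroup.sr 0 * DihedralGroup.r ((l : ZMod (2 ^ k)) * i) := by simp
      rw [e2, map_mul, hi, hr, mul_one, DihedralGroup.sr_mul_r]
      congr 1
      push_cast
      ring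
  have hi0 : i = 0 := by
    have h0 := hs m
    rw [hα, MulAut.one_apply] at h0
    have h1 : ((m : ZMod (2 ^ k)) * i) = 0 := ((DihedralGroup.sr.injEq _ _).mp h0).symm
    have hu : IsUnit (m : ZMod (2 ^ k)) :=
      (ZMod.unitOfCoprime m ((Nat.coprime_two_left.2 hm).pow_left k).symm).isUnit
    exact hu.mul_right_eq_zero.1 h1
  subst hi0
  ext d
  rcases d with u | u
  · rw [hr, mul_one]; rfl
  · have e2 : (DihedralGroup.sr u : DihedralGroup (2 ^ k)) = DihedralGroup.sr 0 * DihedralGroup.r u := by simp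
    rw [e2, map_mul, hi, hr, mul_one]
    rfl

end Cfsg.Agent.PByCyclic
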