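import Cfsg.Agent.Lib.Solvable.SchurZassenhaus
import Cfsg.Agent.Lib.Solvable.Fitting
import Cfsg.Agent.Lib.Char.Burnside

/-!
`p`-complements (subgroups of order prime to `p` and `p`-power index) in solvable groups, and the criterion
for an abelian `p`-complement by class sizes of `p`-regular elements.
-/

set_option autoImplicit false
set_option linter.style.haveILetI false

namespace Cfsg.Agent.PCompl

open Cfsg.Agent
open scoped Pointwise

universe u

variable {G : Type u} [Group G]

def IsPCompl (p : ℕ) (H : Subgroup G) : Prop := ¬ p ∣ Nat.card H ∧ ∃ k : ℕ, H.index = p ^ k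

lemma exists_pow_of_dvd {p a b : ℕ} (hp : p.Prime) (hab : a ∣ b) (hb : ∃ k, b = p ^ k) :
    ∃ k, a = p ^ k := by
  obtain ⟨k, rfl⟩ := hb
  obtain ⟨j, -, hj⟩ := (Nat.dvd_prime_pow hp).1 hab
  exact ⟨j, hj⟩

variable [Finite G] {p : ℕ}

lemma IsPCompl.coprime {H : Subgroup G} (hH : IsPCompl p H) (hp : p.Prime) :
    Nat.Coprime (Nat.card H) p :=
  (hp.coprime_iff_not_dvd.2 hH.1).symm

lemma IsPCompl.card_dvd {H K : Subgroup G} (hH : IsPCompl p H) (hp : p.Prime) (hK : ¬ p ∣ Nat.card K) :
    Nat.card K ∣ Nat.card H := by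
  obtain ⟨k, hk⟩ := hH.2
  have : Nat.card K ∣ Nat.card H * p ^ k := by
    rw [← hk, Subgroup.card_mul_index]; exact K.card_subgroup_dvd_card
  exact (Nat.Coprime.pow_right k (hp.coprime_iff_not_dvd.2 hK).symm).dvd_of_dvd_mul_right this

lemma IsPCompl.eq_of_le {H K : Subgroup G} (hH : IsPCompl p H) (hp : p.Prime) (hle : H ≤ K)
    (hK : ¬ p ∣ Nat.card K) : K = H :=
  (Subgroup.eq_of_le_of_card_ge hle (Nat.le_of_dvd Nat.card_pos (hH.card_dvd hp hK))).symm

lemma IsPCompl.card_eq {H K : Subgroup G} (hH : IsPCompl p H) (hK : IsPCompl p K) (hp : p.Prime) :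
    Nat.card H = Nat.card K :=
  Nat.dvd_antisymm (hK.card_dvd hp hH.1) (hH.card_dvd hp hK.1)

lemma not_dvd_card_sup {H K : Subgroup G} (hp : p.Prime) (hK : K ≤ Subgroup.normalizer (H : Set G))
    (h1 : ¬ p ∣ Nat.card H) (h2 : ¬ p ∣ Nat.card K) : ¬ p ∣ Nat.card (H ⊔ K : Subgroup G) := by
  intro h
  have := SolvBasic.card_sup_mul_card_inf hK
  rcases hp.dvd_mul.1 (this ▸ dvd_mul_of_dvd_left h _) with h | h
  · exact h1 h
  · exact h2 h

/-- A normal subgroup of order prime to `p` lies in every `p`-complement. -/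
lemma IsPCompl.normal_le {H : Subgroup G} (hH : IsPCompl p H) (hp : p.Prime) {N : Subgroup G}
    (hn : N.Normal) (hN : ¬ p ∣ Nat.card N) : N ≤ H := by
  have hle : H ≤ Subgroup.normalizer (N : Set G) := by
    rw [Subgroup.normalizer_eq_top]; exact le_top
  rw [← hH.eq_of_le hp (le_sup_right : H ≤ N ⊔ H) (not_dvd_card_sup hp hle hN hH.1)]
  exact le_sup_left

lemma IsPCompl.map {G' : Type*} [Group G'] (f : G →* G') (hf : Function.Surjective f) {H : Subgroup G}
    (hH : IsPCompl p H) (hp : p.Prime) : IsPCompl p (H.map f) :=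
  ⟨fun h => hH.1 (h.trans (H.card_map_dvd f)), exists_pow_of_dvd hp (H.index_map_dvd hf) hH.2⟩

lemma IsPCompl.inf_normal {H : Subgroup G} (hH : IsPCompl p H) (hp : p.Prime) (N : Subgroup G)
    [hn : N.Normal] : IsPCompl p (H.subgroupOf N) := by
  have hle : H ≤ Subgroup.normalizer (N : Set G) := by
    rw [Subgroup.normalizer_eq_top]; exact le_top
  have hc : Nat.card (H.subgroupOf N) = Nat.card (N ⊓ H : Subgroup G) := by
    rw [← Subgroup.inf_subgroupOf_right, inf_comm]
    exact Nat.card_congr (Subgroup.subgroupOfEquivOfLe inf_le_left).toEquiv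
  refine ⟨fun h => hH.1 ?_, exists_pow_of_dvd hp ?_ hH.2⟩
  · rw [hc] at h; exact h.trans (Subgroup.card_dvd_of_le inf_le_right)
  · have h1 := SolvBasic.card_sup_mul_card_inf hle
    have h2 : (H.subgroupOf N).index * Nat.card (N ⊓ H : Subgroup G) = Nat.card N := by
      rw [← hc, mul_comm, Subgroup.card_mul_index]
    rw [← h2, mul_right_comm] at h1
    have h3 := Nat.eq_of_mul_eq_mul_right Nat.card_pos h1
    have h4 : Nat.card H * (H.subgroupOf N).index ∣ Nat.card H * H.index := by
      rw [Subgroup.card_mul_index, mul_comm, ← h3]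
      exact Subgroup.card_subgroup_dvd_card _
    exact (Nat.mul_dvd_mul_iff_left Nat.card_pos).1 h4

lemma card_quotient_lt {A : Subgroup G} [A.Normal] (hA : A ≠ ⊥) :
    Nat.card (G ⧸ A) < Nat.card G := by
  rw [← Subgroup.index_eq_card, ← A.card_mul_index]
  exact lt_mul_of_one_lt_left (Nat.pos_of_ne_zero Subgroup.index_ne_zero_of_finite)
    ((Nat.two_le_iff _).2 ⟨Nat.card_pos.ne', mt Subgroup.card_eq_one.1 hA⟩)

lemma card_comap_mk' (A : Subgroup G) [A.Normal] (L : Subgroup (G ⧸ A)) :
    Nat.card (L.comap (QuotientGroup.mk' A)) = Nat.card A * Nat.card L := by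
  have h1 := (L.comap (QuotientGroup.mk' A)).card_mul_index
  rw [L.index_comap_of_surjective (QuotientGroup.mk'_surjective A), ← A.card_mul_index,
    A.index_eq_card, ← L.card_mul_index, ← mul_assoc] at h1
  exact Nat.eq_of_mul_eq_mul_right (Nat.pos_of_ne_zero Subgroup.index_ne_zero_of_finite) h1

theorem exists_isPCompl {G : Type u} [Group G] [Finite G] [Group.IsSolvable G] (hp : p.Prime) :
    ∃ H : Subgroup G, IsPCompl p H := by
  induction hc : Nat.card G using Nat.strong_induction_on generalizing G with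
  | _ n ih =>
    rcases subsingleton_or_nontrivial G with hs | hnt
    · exact ⟨⊥, by simp [hp.ne_one], 0, by simp [Nat.card_of_subsingleton (1 : G)]⟩
    obtain ⟨A, q, hq, hAn, hA, -, -, -, hAq, -⟩ :=
      SolvBasic.exists_minimal_normal_abelian (N := (⊤ : Subgroup G)) inferInstance top_ne_bot
    obtain ⟨L, hL⟩ := ih _ (hc ▸ card_quotient_lt hA) (G := G ⧸ A) rfl
    set M := L.comap (QuotientGroup.mk' A)
    have hMi : M.index = L.index := L.index_comap_of_surjective (QuotientGroup.mk'_surjective A)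
    haveI : Fact q.Prime := ⟨hq⟩
    obtain ⟨a, ha⟩ := IsPGroup.iff_card.1 hAq
    by_cases hqp : q = p
    · subst hqp
      have hAM : A ≤ M := fun x hx => by
        simp [M, (QuotientGroup.eq_one_iff x).2 hx]
      haveI : (A.subgroupOf M).Normal := Subgroup.Normal.subgroupOf hAn M
      have hcA : Nat.card (A.subgroupOf M) = Nat.card A :=
        Nat.card_congr (Subgroup.subgroupOfEquivOfLe hAM).toEquiv
      have hi : (A.subgroupOf M).index = Nat.card L := by
        have := (A.subgroupOf M).card_mul_index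
        rw [hcA, card_comap_mk'] at this
        exact Nat.eq_of_mul_eq_mul_left Nat.card_pos this
      obtain ⟨K, hK⟩ := Subgroup.exists_right_complement'_of_coprime (N := A.subgroupOf M) (by
        rw [hcA, hi, ha]; exact Nat.Coprime.pow_left a (hL.coprime hp).symm)
      have hKc : Nat.card K = Nat.card L := by rw [← hi]; exact hK.symm.index_eq_card.symm
      refine ⟨K.map M.subtype, ?_, ?_⟩
      · rw [Subgroup.card_subtype, hKc]; exact hL.1
      · obtain ⟨k, hk⟩ := hL.2
        refine ⟨a + k, ?_⟩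
        rw [Subgroup.index_map_subtype, hK.index_eq_card, hcA, ha, hMi, hk, pow_add]
    · refine ⟨M, ?_, hMi ▸ hL.2⟩
      rw [card_comap_mk', hp.dvd_mul]
      rintro (h | h)
      · rw [ha] at h
        exact hqp ((Nat.prime_dvd_prime_iff_eq hp hq).1 (hp.dvd_of_dvd_pow h)).symm
      · exact hL.1 h

theorem exists_conj_mem {G : Type u} [Group G] [Finite G] [Group.IsSolvable G] (hp : p.Prime)
    (H : Subgroup G) (hH : IsPCompl p H) (x : G) (hx : (orderOf x).Coprime p) :
    ∃ g : G, g * x * g⁻¹ ∈ H := by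
  induction hc : Nat.card G using Nat.strong_induction_on generalizing G with
  | _ n ih =>
    rcases subsingleton_or_nontrivial G with hs | hnt
    · exact ⟨1, by rw [Subsingleton.elim (1 * x * (1 : G)⁻¹) 1]; exact H.one_mem⟩
    obtain ⟨A, q, hq, hAn, hA, -, -, -, hAq, -⟩ :=
      SolvBasic.exists_minimal_normal_abelian (N := (⊤ : Subgroup G)) inferInstance top_ne_bot
    obtain ⟨g', hg'⟩ := ih _ (hc ▸ card_quotient_lt hA) (G := G ⧸ A) (H.map (QuotientGroup.mk' A))
      (hH.map _ (QuotientGroup.mk'_surjective A) hp) (QuotientGroup.mk' A x)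
      (Nat.Coprime.coprime_dvd_left (orderOf_map_dvd _ x) hx) rfl
    obtain ⟨g, rfl⟩ := QuotientGroup.mk'_surjective A g'
    set y := g * x * g⁻¹ with hy
    have hyH : y ∈ A ⊔ H := by
      rw [← map_inv, ← map_mul, ← map_mul, ← hy] at hg'
      have : y ∈ (H.map (QuotientGroup.mk' A)).comap (QuotientGroup.mk' A) := hg'
      rwa [Subgroup.comap_map_eq, QuotientGroup.ker_mk', sup_comm] at this
    haveI : Fact q.Prime := ⟨hq⟩
    obtain ⟨a, ha⟩ := IsPGroup.iff_card.1 hAq
    by_cases hqp : q = p
    swap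
    · refine ⟨g, ?_⟩
      have : A ≤ H := hH.normal_le hp hAn (by
        rw [ha]; exact fun h => hqp ((Nat.prime_dvd_prime_iff_eq hp hq).1 (hp.dvd_of_dvd_pow h)).symm)
      rwa [sup_eq_right.2 this] at hyH
    subst hqp
    haveI : Group.IsNilpotent A := hAq.isNilpotent
    set B := (A ⊔ Subgroup.zpowers y) ⊓ H with hB
    have hnorm : ∀ S : Subgroup G, S ≤ Subgroup.normalizer (A : Set G) := fun S => by
      rw [Subgroup.normalizer_eq_top]; exact le_top
    have hsup : A ⊔ B = A ⊔ Subgroup.zpowers y := by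
      refine le_antisymm (sup_le le_sup_left inf_le_left) (sup_le le_sup_left ?_)
      rw [Subgroup.zpowers_le]
      obtain ⟨c, hc, h, hh, he⟩ := (SolvBasic.mem_sup_iff_of_le_normalizer (hnorm H)).1 hyH
      have hhB : h ∈ B := ⟨by
        rw [show h = c⁻¹ * y by rw [he, inv_mul_cancel_left]]
        exact Subgroup.mul_mem_sup (A.inv_mem hc) (Subgroup.mem_zpowers y), hh⟩
      rw [he]
      exact Subgroup.mul_mem_sup hc hhB
    have hyord : orderOf y = orderOf x := by
      rw [hy, ← MulAut.conj_apply]; exact MulEquiv.orderOf_eq _ _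
    have hcopy : (Nat.card (Subgroup.zpowers y)).Coprime (Nat.card A) := by
      rw [Nat.card_zpowers, hyord, ha]; exact Nat.Coprime.pow_right a hx
    have hcopB : (Nat.card B).Coprime (Nat.card A) := by
      rw [ha]
      exact Nat.Coprime.pow_right a
        ((hH.coprime hp).coprime_dvd_left (Subgroup.card_dvd_of_le inf_le_right))
    have hBc : Nat.card (Subgroup.zpowers y) = Nat.card B := by
      refine Nat.eq_of_mul_eq_mul_left (Nat.card_pos (α := A)) ?_
      rw [← SchurZ.card_sup (hnorm _) hcopy, ← SchurZ.card_sup (hnorm _) hcopB, hsup]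
    obtain ⟨k, -, hk⟩ := SchurZ.conj_in (hnorm B) hcopB (Or.inr inferInstance)
      (hsup ▸ le_sup_right : Subgroup.zpowers y ≤ A ⊔ B) hBc
    refine ⟨k⁻¹ * g, ?_⟩
    have : y ∈ MulAut.conj k • B := hk ▸ Subgroup.mem_zpowers y
    rw [SolvBasic.mem_conjSmul] at this
    have h2 := this.2
    rw [hy] at h2
    simpa [mul_assoc] using h2

/-- All classes of `p`-regular elements have `p`-power size. -/
def RegularClassPPow (p : ℕ) (G : Type u) [Group G] : Prop :=
  ∀ x : G, (orderOf x).Coprime p → ∃ k : ℕ, (Subgroup.centralizer ({x} : Set G)).index = p ^ k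

lemma RegularClassPPow.normal {G : Type u} [Group G] [Finite G] (h : RegularClassPPow p G)
    (hp : p.Prime) (N : Subgroup G) [N.Normal] : RegularClassPPow p N := by
  intro x hx
  rw [← Subgroup.orderOf_coe] at hx
  have hC : Subgroup.centralizer ({x} : Set N) =
      (Subgroup.centralizer ({(x : G)} : Set G)).subgroupOf N := by
    ext y
    simp [Subgroup.mem_centralizer_singleton_iff, Subgroup.mem_subgroupOf, Subtype.ext_iff]
  refine exists_pow_of_dvd hp ?_ (h _ hx)
  rw [hC]
  set C := Subgroup.centralizer ({(x : G)} : Set G)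
  have hle : C ≤ Subgroup.normalizer (N : Set G) := by
    rw [Subgroup.normalizer_eq_top]; exact le_top
  have h1 := SolvBasic.card_sup_mul_card_inf hle
  have hc : Nat.card (C.subgroupOf N) = Nat.card (N ⊓ C : Subgroup G) := by
    rw [← Subgroup.inf_subgroupOf_right, inf_comm]
    exact Nat.card_congr (Subgroup.subgroupOfEquivOfLe inf_le_left).toEquiv
  have h2 : (C.subgroupOf N).index * Nat.card (N ⊓ C : Subgroup G) = Nat.card N := by
    rw [← hc, mul_comm, Subgroup.card_mul_index]
  rw [← h2, mul_right_comm] at h1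
  have h3 := Nat.eq_of_mul_eq_mul_right Nat.card_pos h1
  refine (Nat.mul_dvd_mul_iff_left (Nat.card_pos (α := C))).1 ?_
  rw [Subgroup.card_mul_index, mul_comm, ← h3]
  exact Subgroup.card_subgroup_dvd_card _

lemma RegularClassPPow.quotient {G : Type u} [Group G] [Finite G] (h : RegularClassPPow p G)
    (hp : p.Prime) (N : Subgroup G) [N.Normal] : RegularClassPPow p (G ⧸ N) := by
  intro y hy
  obtain ⟨g, rfl⟩ := QuotientGroup.mk'_surjective N y
  obtain ⟨a, r, hr, he⟩ := Nat.exists_eq_pow_mul_and_not_dvd (orderOf_pos g).ne' p hp.ne_one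
  obtain ⟨t, ht⟩ := exists_pow_eq_self_of_coprime
    (x := QuotientGroup.mk' N g) (n := p ^ a) (Nat.Coprime.pow_left a hy.symm)
  have hx : (orderOf (g ^ (p ^ a * t))).Coprime p := by
    rw [pow_mul]
    refine Nat.Coprime.coprime_dvd_left ((orderOf_pow_dvd t).trans (orderOf_dvd_of_pow_eq_one (n := r) ?_))
      (hp.coprime_iff_not_dvd.2 hr).symm
    rw [← pow_mul, ← he, pow_orderOf_eq_one]
  have himg : QuotientGroup.mk' N (g ^ (p ^ a * t)) = QuotientGroup.mk' N g := by
    rw [map_pow, pow_mul, ht]
  refine exists_pow_of_dvd hp ?_ (h _ hx)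
  refine (Subgroup.index_dvd_of_le ?_).trans
    (Subgroup.index_map_dvd (f := QuotientGroup.mk' N) _ (QuotientGroup.mk'_surjective N))
  rintro _ ⟨c, hc, rfl⟩
  rw [Subgroup.mem_centralizer_singleton_iff, ← himg, ← map_mul, ← map_mul,
    Subgroup.mem_centralizer_singleton_iff.1 hc]

lemma isSolvable_of_isMulCommutative {G : Type u} [Group G] (h : IsMulCommutative G) :
    Group.IsSolvable G :=
  Group.isSolvable_of_comm fun a b => h.is_comm.comm a b

lemma isSolvable_of_proper_normal {G : Type u} [Group G] (N : Subgroup G) [N.Normal]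
    (h1 : Group.IsSolvable N) (h2 : Group.IsSolvable (G ⧸ N)) : Group.IsSolvable G := by
  refine solvable_of_ker_le_range N.subtype (QuotientGroup.mk' N) ?_
  simp

theorem RegularClassPPow.isSolvable {G : Type u} [Group G] [Finite G] (hp : p.Prime)
    (h : RegularClassPPow p G) : Group.IsSolvable G := by
  induction hc : Nat.card G using Nat.strong_induction_on generalizing G with
  | _ n ih =>
    by_cases hN : ∃ N : Subgroup G, N.Normal ∧ N ≠ ⊥ ∧ N ≠ ⊤
    · obtain ⟨N, hNn, hN1, hN2⟩ := hN
      exact isSolvable_of_proper_normal N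
        (ih _ (hc ▸ lt_of_le_of_ne N.card_le_card_group (mt N.card_eq_iff_eq_top.1 hN2))
          (h.normal hp N) rfl)
        (ih _ (hc ▸ card_quotient_lt hN1) (h.quotient hp N) rfl)
    push Not at hN
    rcases subsingleton_or_nontrivial G with hs | hnt
    · infer_instance
    haveI : IsSimpleGroup G := ⟨fun N hNn => or_iff_not_imp_left.2 (hN N hNn)⟩
    by_cases hpg : IsPGroup p G
    · haveI : Fact p.Prime := ⟨hp⟩
      haveI := hpg.isNilpotent
      infer_instance
    obtain ⟨q, hq, hqG, hqp⟩ : ∃ q : ℕ, q.Prime ∧ q ∣ Nat.card G ∧ q ≠ p := by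
      by_contra hcon
      push Not at hcon
      exact hpg (IsPGroup.of_card (Nat.eq_prime_pow_of_unique_prime_dvd Nat.card_pos.ne'
        fun hd hdvd => hcon _ hd hdvd))
    haveI : Fact q.Prime := ⟨hq⟩
    obtain ⟨x, hx⟩ := exists_prime_orderOf_dvd_card' q hqG
    obtain ⟨k, hk⟩ := h x (by rw [hx]; exact (Nat.coprime_primes hq hp).2 hqp)
    have := Char.prime_card_of_class_prime_pow hp x (by rintro rfl; simp [hq.ne_one.symm] at hx) hk
    haveI : Fact (Nat.card G).Prime := ⟨this⟩
    haveI : IsCyclic G := isCyclic_of_prime_card rfl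
    exact isSolvable_of_isMulCommutative IsCyclic.isMulCommutative

theorem isMulCommutative_pCompl {G : Type u} [Group G] [Finite G] [Group.IsSolvable G] (hp : p.Prime)
    (h : RegularClassPPow p G) (H : Subgroup G) (hH : IsPCompl p H) : IsMulCommutative H := by
  induction hc : Nat.card G using Nat.strong_induction_on generalizing G with
  | _ n ih =>
    haveI : Fact p.Prime := ⟨hp⟩
    by_cases hM : Cfsg.pCore p G = ⊥
    swap
    · haveI := FittingCores.pCore_normal (G := G) p
      have hc' := ih _ (hc ▸ card_quotient_lt hM) (G := G ⧸ Cfsg.pCore p G)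
        (h.quotient hp _) (H.map (QuotientGroup.mk' _))
        (hH.map _ (QuotientGroup.mk'_surjective _) hp) rfl
      have hdisj : H ⊓ Cfsg.pCore p G = ⊥ := by
        obtain ⟨a, ha⟩ := IsPGroup.iff_card.1 (FittingCores.pCore_isPGroup (G := G) p)
        exact Subgroup.inf_eq_bot_of_coprime (ha ▸ Nat.Coprime.pow_right a (hH.coprime hp))
      refine .of_setLike_mul_comm fun a ha b hb => ?_
      have heq : QuotientGroup.mk' (Cfsg.pCore p G) (a * b) = QuotientGroup.mk' _ (b * a) := by
        have := congrArg Subtype.val (hc'.is_comm.comm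
          ⟨_, Subgroup.mem_map_of_mem _ ha⟩ ⟨_, Subgroup.mem_map_of_mem _ hb⟩)
        simpa using this
      have hmem : (b * a)⁻¹ * (a * b) ∈ H ⊓ Cfsg.pCore p G :=
        ⟨H.mul_mem (H.inv_mem (H.mul_mem hb ha)) (H.mul_mem ha hb), by
          show (b * a)⁻¹ * (a * b) ∈ Cfsg.pCore p G
          rw [← QuotientGroup.eq_one_iff]
          simp only [QuotientGroup.mk'_apply] at heq
          rw [QuotientGroup.mk_mul, QuotientGroup.mk_inv, heq, inv_mul_cancel]⟩
      rw [hdisj, Subgroup.mem_bot, inv_mul_eq_one] at hmem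
      exact hmem.symm
    set R := Cfsg.fittingSubgroup G with hR
    have hRn : R.Normal := FittingCores.fitting_normal
    have hRp : ¬ p ∣ Nat.card R := by
      intro hd
      haveI : Group.IsNilpotent R := FittingCores.fitting_nilpotent
      obtain ⟨P⟩ := (inferInstance : Nonempty (Sylow p R))
      have hle : (P : Subgroup R).map R.subtype ≤ Cfsg.pCore p G :=
        FittingCores.sylow_le_pCore_of_nilpotent hRn p P
      rw [hM, le_bot_iff, Subgroup.map_eq_bot_iff_of_injective _ R.subtype_injective] at hle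
      exact P.ne_bot_of_dvd_card hd hle
    -- every element of `H` centralises some `p`-complement containing it and `R`
    have key : ∀ x ∈ H, ∃ K : Subgroup G, IsPCompl p K ∧ x ∈ K ∧ R ≤ K ∧ ∀ y ∈ K, x * y = y * x := by
      intro x hx
      have hxo : (orderOf x).Coprime p :=
        (hH.coprime hp).coprime_dvd_left (Subgroup.orderOf_dvd_natCard H hx)
      obtain ⟨K, hK⟩ := exists_isPCompl (G := Subgroup.centralizer ({x} : Set G)) hp
      set K' := K.map (Subgroup.centralizer ({x} : Set G)).subtype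
      have hK' : IsPCompl p K' := by
        refine ⟨by rw [Subgroup.card_subtype]; exact hK.1, ?_⟩
        obtain ⟨i, hi⟩ := hK.2
        obtain ⟨j, hj⟩ := h x hxo
        exact ⟨i + j, by rw [Subgroup.index_map_subtype, hi, hj, pow_add]⟩
      have hcent : ∀ y ∈ K', x * y = y * x := by
        rintro _ ⟨⟨y, hy⟩, -, rfl⟩
        exact (Subgroup.mem_centralizer_singleton_iff.1 hy).symm
      refine ⟨K', hK', ?_, hK'.normal_le hp hRn hRp, hcent⟩
      have hn : Subgroup.zpowers x ≤ Subgroup.normalizer (K' : Set G) := by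
        refine Subgroup.zpowers_le.2 ((Subgroup.mem_normalizer_iff).2 fun y => ?_)
        constructor
        · intro hy; rw [hcent y hy, mul_inv_cancel_right]; exact hy
        · intro hy
          have := hcent _ hy
          have e : x * y * x⁻¹ = y := mul_left_cancel (this.trans (by simp))
          rwa [e] at hy
      have hnd : ¬ p ∣ Nat.card (K' ⊔ Subgroup.zpowers x : Subgroup G) :=
        not_dvd_card_sup hp hn hK'.1 (by
          rw [Nat.card_zpowers]; exact hp.coprime_iff_not_dvd.1 hxo.symm)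
      rw [← hK'.eq_of_le hp le_sup_left hnd]
      exact Subgroup.mem_sup_right (Subgroup.mem_zpowers x)
    have hHR : H ≤ R := by
      intro x hx
      obtain ⟨K, -, -, hRK, hcom⟩ := key x hx
      exact FittingCores.centralizer_fitting_le
        (Subgroup.mem_centralizer_iff.2 fun y hy => (hcom y (hRK hy)).symm)
    refine .of_setLike_mul_comm fun a ha b hb => ?_
    obtain ⟨K, -, -, hRK, hcom⟩ := key a ha
    exact hcom b (hRK (hHR hb))

theorem regularClassPPow_of_abelian {G : Type u} [Group G] [Finite G] (hp : p.Prime)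
    (H : Subgroup G) (hH : IsPCompl p H) (hab : IsMulCommutative H) : RegularClassPPow p G := by
  have hclass : ∀ {G : Type u} [Group G] [Finite G] (H : Subgroup G), IsPCompl p H →
      IsMulCommutative H → ∀ x ∈ H, ∃ k : ℕ, (Subgroup.centralizer ({x} : Set G)).index = p ^ k := by
    intro G _ _ H hH hab x hx
    refine exists_pow_of_dvd hp (Subgroup.index_dvd_of_le fun y hy => ?_) hH.2
    rw [Subgroup.mem_centralizer_singleton_iff]
    exact setLike_mul_comm hy hx
  have hsol : Group.IsSolvable G := by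
    induction hc : Nat.card G using Nat.strong_induction_on generalizing G with
    | _ n ih =>
      by_cases hN : ∃ N : Subgroup G, N.Normal ∧ N ≠ ⊥ ∧ N ≠ ⊤
      · obtain ⟨N, hNn, hN1, hN2⟩ := hN
        haveI := hab
        refine isSolvable_of_proper_normal N
          (ih _ (hc ▸ lt_of_le_of_ne N.card_le_card_group (mt N.card_eq_iff_eq_top.1 hN2))
            (H.subgroupOf N) (hH.inf_normal hp N) ?_ rfl)
          (ih _ (hc ▸ card_quotient_lt hN1) (H.map (QuotientGroup.mk' N))
            (hH.map _ (QuotientGroup.mk'_surjective N) hp) inferInstance rfl)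
        refine .of_setLike_mul_comm fun a ha b hb => Subtype.ext ?_
        exact setLike_mul_comm (s := H) ha hb
      push Not at hN
      rcases subsingleton_or_nontrivial G with hs | hnt
      · infer_instance
      haveI : IsSimpleGroup G := ⟨fun N hNn => or_iff_not_imp_left.2 (hN N hNn)⟩
      haveI : Fact p.Prime := ⟨hp⟩
      rcases eq_or_ne H ⊥ with rfl | hHb
      · obtain ⟨k, hk⟩ := hH.2
        rw [Subgroup.index_bot] at hk
        haveI := (IsPGroup.of_card hk).isNilpotent
        infer_instance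
      obtain ⟨x, hx, hx1⟩ := H.bot_or_exists_ne_one.resolve_left hHb
      obtain ⟨k, hk⟩ := hclass H hH hab x hx
      haveI : Fact (Nat.card G).Prime := ⟨Char.prime_card_of_class_prime_pow hp x hx1 hk⟩
      haveI : IsCyclic G := isCyclic_of_prime_card rfl
      exact isSolvable_of_isMulCommutative IsCyclic.isMulCommutative
  intro x hx
  obtain ⟨g, hg⟩ := exists_conj_mem hp H hH x hx
  obtain ⟨k, hk⟩ := hclass H hH hab _ hg
  refine ⟨k, hk ▸ ?_⟩
  letI : Fintype G := Fintype.ofFinite G
  rw [← Char.card_classFinset, ← Char.card_classFinset]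
  congr 1
  ext z
  simp only [Char.mem_classFinset]
  have hgx : IsConj x (g * x * g⁻¹) := isConj_iff.2 ⟨g, rfl⟩
  exact ⟨fun h => hgx.symm.trans h, fun h => hgx.trans h⟩

end Cfsg.Agent.PCompl
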