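import Mathlib.GroupTheory.Sylow
import Mathlib.GroupTheory.PGroup
import Mathlib.Data.Fintype.Pigeonhole

/-!
# Covering the p-elements by proper subgroups

A group generated by its p-elements needs at least `p + 1` proper subgroups to cover them.
-/

set_option autoImplicit false
set_option linter.style.haveILetI false

open scoped Pointwise

universe u v

namespace Cfsg.Agent.PCover

/-- A `p`-group is not covered by `p` proper subgroups. -/
lemma pgroup_case {G : Type u} [Group G] [Finite G] {p : ℕ} [hp : Fact p.Prime] (hG : IsPGroup p G)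
    {ι : Type v} [Fintype ι] (K : ι → Subgroup G) (hcard : Fintype.card ι ≤ p)
    (hcov : ∀ g : G, ∃ i, g ∈ K i) : ∃ i, K i = ⊤ := by
  classical
  by_contra hno
  simp only [not_exists] at hno
  have := Fintype.ofFinite G
  have hsub : (Finset.univ.erase (1 : G)) ⊆
      Finset.univ.biUnion (fun i => (Finset.univ.filter (fun g : G => g ∈ K i)).erase 1) := by
    intro g hg
    obtain ⟨i, hi⟩ := hcov g
    exact Finset.mem_biUnion.2 ⟨i, Finset.mem_univ _, Finset.mem_erase.2
      ⟨(Finset.mem_erase.1 hg).1, Finset.mem_filter.2 ⟨Finset.mem_univ _, hi⟩⟩⟩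
  have h1 := (Finset.card_le_card hsub).trans Finset.card_biUnion_le
  rw [Finset.card_erase_of_mem (Finset.mem_univ _), Finset.card_univ] at h1
  obtain ⟨m, hm⟩ := IsPGroup.iff_card.1 hG
  rw [Nat.card_eq_fintype_card] at hm
  have h2 : ∀ i, p * ((Finset.univ.filter (fun g : G => g ∈ K i)).erase 1).card ≤
      Fintype.card G - p := by
    intro i
    rw [Finset.card_erase_of_mem (Finset.mem_filter.2 ⟨Finset.mem_univ _, (K i).one_mem⟩),
      ← Fintype.card_subtype, ← Nat.card_eq_fintype_card]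
    obtain ⟨j, hj⟩ := IsPGroup.iff_card.1 (hG.to_subgroup (K i))
    have hidx : p ∣ (K i).index := by
      obtain ⟨l, hl⟩ := hG.index (K i)
      rcases Nat.eq_zero_or_pos l with rfl | hl0
      · exact absurd (Subgroup.index_eq_one.1 (by rw [hl, pow_zero])) (hno i)
      · rw [hl]; exact dvd_pow_self p hl0.ne'
    have hmul := (K i).card_mul_index
    obtain ⟨w, hw⟩ := hidx
    have hw0 : 0 < w := Nat.pos_of_ne_zero fun h => (K i).index_ne_zero_of_finite (by rw [hw, h, mul_zero])
    rw [hw, Nat.card_eq_fintype_card (α := G)] at hmul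
    rw [Nat.mul_sub, mul_one]
    refine Nat.sub_le_sub_right ?_ p
    calc p * Nat.card (K i) ≤ p * Nat.card (K i) * w := Nat.le_mul_of_pos_right _ hw0
      _ = Fintype.card G := by rw [← hmul]; ring
  have h3 : p * (Fintype.card G - 1) ≤ Fintype.card ι * (Fintype.card G - p) := by
    refine (Nat.mul_le_mul_left p h1).trans ?_
    rw [Finset.mul_sum]
    refine (Finset.sum_le_sum fun i _ => h2 i).trans ?_
    rw [Finset.sum_const, Finset.card_univ, smul_eq_mul]
  have h4 : p * (Fintype.card G - 1) ≤ p * (Fintype.card G - p) :=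
    h3.trans (Nat.mul_le_mul_right _ hcard)
  have h5 := Nat.le_of_mul_le_mul_left h4 hp.out.pos
  have := hp.out.two_le
  have hpos : 0 < Fintype.card G := Fintype.card_pos
  by_cases hG1 : Fintype.card G = 1
  · haveI : Subsingleton G := Fintype.card_le_one_iff_subsingleton.1 hG1.le
    obtain ⟨i, -⟩ := hcov 1
    exact hno i (Subsingleton.elim _ _)
  · omega

/-- Main theorem. -/
theorem exists_eq_top (p : ℕ) [hp : Fact p.Prime] : ∀ (n : ℕ) (G : Type u) [Group G] [Finite G],
    Nat.card G = n → Subgroup.closure {g : G | ∃ k : ℕ, orderOf g = p ^ k} = ⊤ →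
    ∀ (ι : Type v) [Fintype ι] (K : ι → Subgroup G), Fintype.card ι ≤ p →
      (∀ g : G, (∃ k : ℕ, orderOf g = p ^ k) → ∃ i, g ∈ K i) → ∃ i, K i = ⊤ := by
  intro n
  induction n using Nat.strong_induction_on with
  | _ n ih =>
    intro G _ _ hn hgen ι _ K hcard hcov
    classical
    let PE : G → Prop := fun g => ∃ k : ℕ, orderOf g = p ^ k
    by_contra hno
    simp only [not_exists] at hno
    by_cases hG : IsPGroup p G
    · obtain ⟨i, hi⟩ := pgroup_case hG K hcard (fun g => hcov g (IsPGroup.iff_orderOf.1 hG g))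
      exact hno i hi
    have hsub : ∀ (S : Finset ι), (∀ g : G, PE g → ∃ i ∈ S, g ∈ K i) → ∀ H : Subgroup G, H ≠ ⊤ →
        Subgroup.closure {g : H | ∃ k : ℕ, orderOf g = p ^ k} = ⊤ → ∃ i ∈ S, H ≤ K i := by
      intro S hS H hH hHgen
      have hlt : Nat.card H < n := by
        rw [← hn]
        refine lt_of_le_of_ne (Nat.le_of_dvd Nat.card_pos (Subgroup.card_subgroup_dvd_card H)) fun e => ?_
        exact hH ((Subgroup.card_eq_iff_eq_top H).1 e)
      obtain ⟨i, hi⟩ := ih (Nat.card H) hlt H rfl hHgen S (fun i => (K i.1).subgroupOf H)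
        (by rw [Fintype.card_coe]; exact (Finset.card_le_univ S).trans hcard)
        (fun g hg => by
          obtain ⟨k, hk⟩ := hg
          obtain ⟨i, hiS, hi⟩ := hS (g : G) ⟨k, by rw [Subgroup.orderOf_coe, hk]⟩
          exact ⟨⟨i, hiS⟩, hi⟩)
      exact ⟨i.1, i.2, Subgroup.subgroupOf_eq_top.1 hi⟩
    -- a minimal subfamily
    obtain ⟨S, hS, hmin⟩ := Finset.exists_min_image
      ((Finset.univ : Finset ι).powerset.filter (fun S => ∀ g : G, PE g → ∃ i ∈ S, g ∈ K i))
      Finset.card ⟨Finset.univ, Finset.mem_filter.2 ⟨Finset.mem_powerset.2 subset_rfl,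
        fun g hg => by obtain ⟨i, hi⟩ := hcov g hg; exact ⟨i, Finset.mem_univ _, hi⟩⟩⟩
    have hScov := (Finset.mem_filter.1 hS).2
    have hShare : ∀ a b : G, PE a → PE b → Subgroup.closure ({a, b} : Set G) ≠ ⊤ →
        ∃ i ∈ S, a ∈ K i ∧ b ∈ K i := by
      intro a b ha hb hne
      obtain ⟨i, hiS, hi⟩ := hsub S hScov _ hne (by
        refine eq_top_iff.2 ?_
        rw [← Subgroup.closure_closure_coe_preimage (k := ({a, b} : Set G)), Subgroup.closure_le]
        intro z hz
        refine Subgroup.subset_closure ?_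
        rcases (Set.mem_preimage.1 hz) with h | h
        · obtain ⟨k, hk⟩ := ha
          exact ⟨k, by rw [← Subgroup.orderOf_coe, h, hk]⟩
        · obtain ⟨k, hk⟩ := hb
          exact ⟨k, by rw [← Subgroup.orderOf_coe, Set.mem_singleton_iff.1 h, hk]⟩)
      exact ⟨i, hiS, hi (Subgroup.subset_closure (Set.mem_insert _ _)),
        hi (Subgroup.subset_closure (Set.mem_insert_of_mem _ rfl))⟩
    obtain ⟨i₁, hi₁, -⟩ := hScov 1 ⟨0, by rw [orderOf_one, pow_zero]⟩
    -- an element covered only by `K i₁`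
    obtain ⟨v, hv, hvonly⟩ : ∃ v : G, PE v ∧ ∀ i ∈ S, v ∈ K i → i = i₁ := by
      by_contra hne
      have := hmin (S.erase i₁) (Finset.mem_filter.2 ⟨Finset.mem_powerset.2 (Finset.subset_univ _),
        fun g hg => by
          by_contra hg'
          refine hne ⟨g, hg, fun i hi hgi => ?_⟩
          by_contra hii
          exact hg' ⟨i, Finset.mem_erase.2 ⟨hii, hi⟩, hgi⟩⟩)
      have := Finset.card_erase_lt_of_mem hi₁
      omega
    have hv1 : v ∈ K i₁ := by
      obtain ⟨i, hi, hvi⟩ := hScov v hv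
      exact hvonly i hi hvi ▸ hvi
    have hnb : ∀ a : G, PE a → Subgroup.closure ({a, v} : Set G) ≠ ⊤ → a ∈ K i₁ := by
      intro a ha hne
      obtain ⟨i, hi, hai, hvi⟩ := hShare a v ha hv hne
      exact hvonly i hi hvi ▸ hai
    have hproper : ∀ i, ∀ a ∈ K i, ∀ b ∈ K i, Subgroup.closure ({a, b} : Set G) ≠ ⊤ := by
      intro i a ha b hb he
      refine hno i (top_le_iff.1 ?_)
      rw [← he, Subgroup.closure_le]
      rintro x (rfl | rfl)
      · exact ha
      · exact hb
    have hconjPE : ∀ g a : G, PE a → PE (g * a * g⁻¹) := by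
      rintro g a ⟨k, hk⟩
      exact ⟨k, by rw [show g * a * g⁻¹ = MulAut.conj g a from rfl, MulEquiv.orderOf_eq, hk]⟩
    have hclconj : ∀ g a b : G, Subgroup.closure ({a, b} : Set G) = ⊤ →
        Subgroup.closure ({g * a * g⁻¹, g * b * g⁻¹} : Set G) = ⊤ := by
      intro g a b h
      have h' := congrArg (Subgroup.map (MulAut.conj g).toMonoidHom) h
      rw [MonoidHom.map_closure, Subgroup.map_top_of_surjective _ (MulEquiv.surjective _),
        Set.image_pair] at h'
      exact h'
    set L := Subgroup.closure {a : G | PE a ∧ a ∈ K i₁} with hL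
    have hLK : L ≤ K i₁ := (Subgroup.closure_le _).2 fun a ha => ha.2
    -- p-elements normalise `L`
    have hnorm : ∀ u : G, PE u → u ∈ Subgroup.normalizer (L : Set G) := by
      intro u hu
      by_cases hu1 : u ∈ K i₁
      · exact Subgroup.le_normalizer (Subgroup.subset_closure ⟨hu, hu1⟩)
      obtain ⟨i₀, hi₀, hui₀⟩ := hScov u hu
      have hex : ∀ k : Fin p, ∃ i ∈ S.erase i₀, u ^ (k : ℕ) * v * (u ^ (k : ℕ))⁻¹ ∈ K i := by
        intro k
        obtain ⟨i, hi, hki⟩ := hScov _ (hconjPE (u ^ (k : ℕ)) v hv)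
        refine ⟨i, Finset.mem_erase.2 ⟨fun e => ?_, hi⟩, hki⟩
        subst e
        have hvi : v ∈ K i := by
          have := (K i).mul_mem ((K i).mul_mem ((K i).inv_mem ((K i).pow_mem hui₀ k)) hki)
            ((K i).pow_mem hui₀ k)
          simpa [mul_assoc] using this
        exact hu1 (hvonly i hi hvi ▸ hui₀)
      choose f hf hfK using hex
      have hlt : (S.erase i₀).card < (Finset.univ : Finset (Fin p)).card := by
        rw [Finset.card_univ, Fintype.card_fin]
        exact lt_of_lt_of_le (Finset.card_erase_lt_of_mem hi₀) ((Finset.card_le_univ S).trans hcard)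
      obtain ⟨a, -, b, -, hab, hfab⟩ := Finset.exists_ne_map_eq_of_card_lt_of_maps_to hlt (fun k _ => hf k)
      obtain ⟨a, b, hab, hfab⟩ : ∃ a b : Fin p, a < b ∧ f a = f b := by
        rcases lt_or_gt_of_ne hab with h | h
        · exact ⟨a, b, h, hfab⟩
        · exact ⟨b, a, h, hfab.symm⟩
      set d : ℕ := (b : ℕ) - a with hd
      set w := u ^ d * v * (u ^ d)⁻¹ with hw
      have hw1 : w ∈ K i₁ := by
        refine hnb w (hconjPE _ v hv) fun he => ?_
        refine hproper (f a) _ (hfab ▸ hfK b) _ (hfK a) ?_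
        have h' := hclconj (u ^ (a : ℕ)) w v he
        rw [show u ^ (a : ℕ) * w * (u ^ (a : ℕ))⁻¹ = u ^ (b : ℕ) * v * (u ^ (b : ℕ))⁻¹ by
          rw [hw, show (b : ℕ) = a + d by omega, pow_add]; group] at h'
        exact h'
      have hstep : ∀ x ∈ L, (u ^ d)⁻¹ * x * u ^ d ∈ L := by
        intro x hx
        have hle : L ≤ L.comap (MulAut.conj (u ^ d)⁻¹).toMonoidHom := by
          rw [hL, Subgroup.closure_le]
          rintro z ⟨hz, hz1⟩
          show (u ^ d)⁻¹ * z * (u ^ d)⁻¹⁻¹ ∈ L
          refine Subgroup.subset_closure ⟨hconjPE _ z hz, hnb _ (hconjPE _ z hz) fun he => ?_⟩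
          have h' := hclconj (u ^ d) _ _ he
          rw [show u ^ d * ((u ^ d)⁻¹ * z * (u ^ d)⁻¹⁻¹) * (u ^ d)⁻¹ = z by group, ← hw] at h'
          exact hproper i₁ z hz1 w hw1 h'
        have h9 : (u ^ d)⁻¹ * x * (u ^ d)⁻¹⁻¹ ∈ L := hle hx
        rwa [inv_inv] at h9
      have hd' : (u ^ d)⁻¹ ∈ Subgroup.normalizer (L : Set G) := by
        have hfin : Finite L := inferInstance
        rw [Subgroup.mem_normalizer_iff]
        intro x
        refine ⟨fun hx => by simpa using hstep x hx, fun hx => ?_⟩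
        obtain ⟨y, hy⟩ := Finite.surjective_of_injective
          (f := fun y : L => (⟨(u ^ d)⁻¹ * (y : G) * u ^ d, hstep y y.2⟩ : L))
          (fun y z h => Subtype.ext (mul_left_cancel (mul_right_cancel (congrArg Subtype.val h)))) ⟨_, hx⟩
        have hy' : (u ^ d)⁻¹ * (y : G) * u ^ d = (u ^ d)⁻¹ * x * (u ^ d)⁻¹⁻¹ := congrArg Subtype.val hy
        rw [inv_inv] at hy'
        exact mul_left_cancel (mul_right_cancel hy') ▸ y.2
      have hco : Nat.Coprime d (orderOf u) := by
        obtain ⟨k, hk⟩ := hu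
        rw [hk]
        refine (Nat.Coprime.pow_right k ?_)
        refine (hp.out.coprime_iff_not_dvd.2 fun hpd => ?_).symm
        have := Nat.le_of_dvd (by omega) hpd
        omega
      obtain ⟨m, hm⟩ := exists_pow_eq_self_of_coprime hco
      rw [← hm]
      exact Subgroup.pow_mem _ (inv_inv (u ^ d) ▸ Subgroup.inv_mem _ hd') m
    have hLn : L.Normal := by
      rw [← Subgroup.normalizer_eq_top_iff, eq_top_iff, ← hgen, Subgroup.closure_le]
      exact fun g hg => hnorm g hg
    -- a Sylow subgroup inside `L`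
    obtain ⟨kv, hkv⟩ := hv
    have hvp : IsPGroup p (Subgroup.zpowers v) :=
      IsPGroup.of_card (n := kv) (by rw [Nat.card_zpowers, hkv])
    obtain ⟨P, hP⟩ := hvp.exists_le_sylow
    have hPtop : (P : Subgroup G) ≠ ⊤ := fun e => by
      refine hG ?_
      have := P.isPGroup'
      rw [e] at this
      exact this.of_equiv Subgroup.topEquiv
    obtain ⟨i, hi, hPi⟩ := hsub S hScov P hPtop (by
      refine eq_top_iff.2 fun z _ => Subgroup.subset_closure ?_
      exact IsPGroup.iff_orderOf.1 P.isPGroup' z)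
    have hii : i = i₁ := hvonly i hi (hPi (hP (Subgroup.mem_zpowers v)))
    subst hii
    refine hno i (top_le_iff.1 (le_trans ?_ hLK))
    rw [← hgen, Subgroup.closure_le]
    rintro g ⟨k, hk⟩
    obtain ⟨Q, hQ⟩ := (IsPGroup.of_card (n := k)
      (by rw [Nat.card_zpowers, hk]) : IsPGroup p (Subgroup.zpowers g)).exists_le_sylow
    obtain ⟨y, hy⟩ := MulAction.exists_smul_eq G P Q
    have hg' : g ∈ ((y • P : Sylow p G) : Subgroup G) := hy ▸ hQ (Subgroup.mem_zpowers g)
    rw [Sylow.coe_subgroup_smul, Subgroup.mem_pointwise_smul_iff_inv_smul_mem] at hg'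
    have hz : (MulAut.conj y)⁻¹ • g ∈ L := by
      refine Subgroup.subset_closure ⟨?_, hPi hg'⟩
      obtain ⟨l, hl⟩ := IsPGroup.iff_orderOf.1 P.isPGroup' ⟨_, hg'⟩
      exact ⟨l, by rw [← hl, Subgroup.orderOf_mk]⟩
    have := hLn.conj_mem _ hz y
    simpa [MulAut.smul_def, mul_assoc] using this

end Cfsg.Agent.PCover
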