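import Cfsg.Agent.Lib.Transfer.Basic
import Cfsg.Agent.Lib.CharP.AxB
import Cfsg.Agent.Lib.Solvable.Structure

/-!
`p`-elements with conjugacy classes of `p`-power size, and the action of `p'`-elements on normal
`p`-subgroups whose elements of order `p` (and `4`) have such classes.
-/

set_option autoImplicit false
set_option linter.style.haveILetI false

namespace Cfsg.Agent.PPowerClass

open Cfsg.Agent
open scoped Pointwise commutatorElement

variable {G : Type*} [Group G] [Finite G] {p : ℕ} [hp : Fact p.Prime]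

/-- A `p`-element with a class of `p`-power size lies in `O_p(G)`. -/
theorem mem_pCore {x : G} (hxo : ∃ k, orderOf x = p ^ k)
    (hx : ∃ a, (Subgroup.centralizer ({x} : Set G)).index = p ^ a) : x ∈ Cfsg.pCore p G := by
  classical
  obtain ⟨k, hk⟩ := hxo
  obtain ⟨a, ha⟩ := hx
  obtain ⟨P, hP⟩ := (IsPGroup.of_card (p := p) (n := k)
    (G := Subgroup.zpowers x) (by rw [Nat.card_zpowers, hk])).exists_le_sylow
  have hxP : x ∈ (P : Subgroup G) := hP (Subgroup.mem_zpowers x)
  set C := Subgroup.centralizer ({x} : Set G) with hC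
  obtain ⟨m, hm⟩ := IsPGroup.iff_card.1 P.isPGroup'
  obtain ⟨i, hi⟩ := IsPGroup.iff_card.1 (P.isPGroup'.to_le (inf_le_right : C ⊓ (P : Subgroup G) ≤ _))
  have hrel : C.relIndex (P : Subgroup G) * p ^ i = p ^ m := by
    rw [← hm, ← hi, mul_comm, ← Nat.card_congr (Subgroup.subgroupOfEquivOfLe
      (inf_le_right : C ⊓ (P : Subgroup G) ≤ (P : Subgroup G))).toEquiv, Subgroup.inf_subgroupOf_right]
    exact (C.subgroupOf (P : Subgroup G)).card_mul_index
  have hge : p ^ a ≤ C.relIndex (P : Subgroup G) := by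
    have hcard := C.card_mul_index
    rw [ha] at hcard
    have h1 : p ^ i * p ^ a ∣ Nat.card G := by
      rw [← hcard]
      exact Nat.mul_dvd_mul_right (hi ▸ Subgroup.card_dvd_of_le inf_le_left) _
    rw [← pow_add] at h1
    have h2 : p ^ (i + a) ∣ p ^ m := by
      rw [← hm, P.card_eq_multiplicity]
      exact Nat.pow_dvd_pow p ((hp.out.pow_dvd_iff_le_factorization Nat.card_pos.ne').1 h1)
    have h3 := Nat.le_of_dvd (pow_pos hp.out.pos _) h2
    rw [← hrel, pow_add, mul_comm] at h3
    exact Nat.le_of_mul_le_mul_right h3 (pow_pos hp.out.pos _)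
  have horb : MulAction.orbit (P : Subgroup G) ((1 : G) : G ⧸ C) = Set.univ := by
    apply Set.eq_of_subset_of_ncard_le (Set.subset_univ _)
    rw [Set.ncard_univ, ← Subgroup.index_eq_card, ha]
    refine hge.trans (le_of_eq ?_)
    rw [← MulAction.index_stabilizer]
    show (C.subgroupOf (P : Subgroup G)).index = _
    congr 1
    ext u
    rw [Subgroup.mem_subgroupOf, MulAction.mem_stabilizer_iff]
    show (u : G) ∈ C ↔ ((((u : G) * 1) : G) : G ⧸ C) = ((1 : G) : G ⧸ C)
    rw [mul_one, eq_comm, QuotientGroup.eq, inv_one, one_mul]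
  have hsub : Subgroup.normalClosure ({x} : Set G) ≤ (P : Subgroup G) := by
    refine (Subgroup.closure_le _).2 fun y hy => ?_
    obtain ⟨z, hz, hzy⟩ := Group.mem_conjugatesOfSet_iff.1 hy
    rw [Set.mem_singleton_iff] at hz
    subst hz
    obtain ⟨g, rfl⟩ := isConj_iff.1 hzy
    obtain ⟨u, hu⟩ := horb.ge (Set.mem_univ ((g : G) : G ⧸ C))
    have hu' : (((u : G) * 1 : G) : G ⧸ C) = ((g : G) : G ⧸ C) := hu
    rw [mul_one, QuotientGroup.eq, hC, Subgroup.mem_centralizer_singleton_iff] at hu'
    have h1 : g * z * g⁻¹ = (u : G) * z * (u : G)⁻¹ := by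
      calc g * z * g⁻¹ = (u : G) * (((u : G)⁻¹ * g) * z) * g⁻¹ := by group
        _ = _ := by rw [hu']; group
    rw [h1]
    exact mul_mem (mul_mem u.2 hxP) (inv_mem u.2)
  exact PBasic.le_pCore Subgroup.normalClosure_normal (P.isPGroup'.to_le hsub)
    (Subgroup.subset_normalClosure rfl)

/-- A nontrivial normal `p`-subgroup contains a nontrivial element centralized by a Sylow subgroup. -/
theorem exists_sylow_fixed {V : Subgroup G} [V.Normal] (hV : IsPGroup p V) (hne : V ≠ ⊥) :
    ∃ v ∈ V, v ≠ 1 ∧ ¬ p ∣ (Subgroup.centralizer ({v} : Set G)).index := by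
  obtain ⟨P⟩ : Nonempty (Sylow p G) := inferInstance
  have hVP : V ≤ (P : Subgroup G) := by
    have hsup : IsPGroup p (V ⊔ (P : Subgroup G) : Subgroup G) := hV.to_sup_of_normal_left P.isPGroup'
    exact (P.is_maximal' hsup le_sup_right).le.trans' le_sup_left
  haveI : Group.IsNilpotent (P : Subgroup G) := P.isPGroup'.isNilpotent
  have hne' : V.subgroupOf (P : Subgroup G) ≠ ⊥ := by
    rw [Ne, Subgroup.subgroupOf_eq_bot, disjoint_iff, inf_eq_left.2 hVP]
    exact hne
  obtain ⟨⟨v, hv⟩, hv1⟩ := Subgroup.ne_bot_iff_exists_ne_one.1 (SolvStruct.inf_center_ne_bot hne')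
  refine ⟨v, Subgroup.mem_subgroupOf.1 hv.1, fun h => hv1 (Subtype.ext (Subtype.ext h)), fun h => ?_⟩
  refine P.not_dvd_index (h.trans (Subgroup.index_dvd_of_le ?_))
  intro g hg
  rw [Subgroup.mem_centralizer_singleton_iff]
  exact congrArg Subtype.val (Subgroup.mem_center_iff.1 hv.2 ⟨g, hg⟩)

/-- A `p'`-element centralizes a normal `p`-subgroup all whose classes have `p`-power size. -/
theorem pResidual_le_centralizer_of_classes (V : Subgroup G) [V.Normal] (hV : IsPGroup p V)
    (h : ∀ v ∈ V, ∃ a, (Subgroup.centralizer ({v} : Set G)).index = p ^ a) :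
    Cfsg.pResidual p G ≤ Subgroup.centralizer (V : Set G) := by
  set L := Cfsg.pResidual p G with hL
  set T := V ⊓ Subgroup.centralizer (L : Set G) with hT
  haveI : T.Normal := inferInstance
  suffices hVT : V ≤ T from Subgroup.le_centralizer_iff.1 (hVT.trans inf_le_right)
  by_contra hVT
  haveI : (V.map (QuotientGroup.mk' T)).Normal :=
    (inferInstance : V.Normal).map _ (QuotientGroup.mk'_surjective T)
  have hne : V.map (QuotientGroup.mk' T) ≠ ⊥ := by
    rwa [Ne, Subgroup.map_eq_bot_iff, QuotientGroup.ker_mk']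
  obtain ⟨_, ⟨v, hv, rfl⟩, hv1, hvp⟩ := exists_sylow_fixed (hV.map (QuotientGroup.mk' T)) hne
  obtain ⟨a, ha⟩ := h v hv
  have hdvd : (Subgroup.centralizer ({QuotientGroup.mk' T v} : Set (G ⧸ T))).index ∣ p ^ a := by
    rw [← ha]
    refine (Subgroup.index_dvd_of_le ?_).trans
      (Subgroup.index_map_dvd (Subgroup.centralizer ({v} : Set G)) (QuotientGroup.mk'_surjective T))
    rintro _ ⟨c, hc, rfl⟩
    rw [Subgroup.mem_centralizer_singleton_iff, ← map_mul, ← map_mul,
      Subgroup.mem_centralizer_singleton_iff.1 hc]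
  have hone : Subgroup.centralizer ({QuotientGroup.mk' T v} : Set (G ⧸ T)) = ⊤ := by
    rw [← Subgroup.index_eq_one]
    obtain ⟨j, -, hj⟩ := (Nat.dvd_prime_pow hp.out).1 hdvd
    rcases Nat.eq_zero_or_pos j with rfl | hj0
    · simpa using hj
    · exact absurd (hj ▸ dvd_pow_self p hj0.ne') hvp
  apply hv1
  rw [QuotientGroup.mk'_apply, QuotientGroup.eq_one_iff]
  refine ⟨hv, ?_⟩
  have hle : L ≤ Subgroup.centralizer ({v} : Set G) := by
    rw [hL, Cfsg.pResidual, Subgroup.closure_le]
    intro y hy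
    rw [SetLike.mem_coe, Subgroup.mem_centralizer_singleton_iff]
    have hd : v⁻¹ * (y * v * y⁻¹) ∈ T := by
      have h1 : QuotientGroup.mk' T y ∈ Subgroup.centralizer ({QuotientGroup.mk' T v} : Set (G ⧸ T)) := by
        rw [hone]; exact Subgroup.mem_top _
      rw [Subgroup.mem_centralizer_singleton_iff] at h1
      rw [← QuotientGroup.eq_one_iff, ← QuotientGroup.mk'_apply]
      simp only [map_mul, map_inv]
      rw [h1]
      simp
    refine AxB.commute_of_conj_mem hV hd.1 ?_ (pow_orderOf_eq_one y) (Nat.Coprime.symm hy)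
    exact Subgroup.mem_centralizer_iff.1 hd.2 y (PBasic.mem_pResidual hy)
  exact Subgroup.mem_centralizer_iff.2 fun y hy => Subgroup.mem_centralizer_singleton_iff.1 (hle hy)

/-- Powers of a product in class two. -/
theorem mul_pow_two_step {H : Type*} [Group H] {a b c : H} (ha : c * a = a * c) (hb : c * b = b * c)
    (hba : b * a = c * (a * b)) :
    ∀ n : ℕ, b * a ^ n = c ^ n * (a ^ n * b) ∧ (a * b) ^ n = a ^ n * b ^ n * c ^ n.choose 2 := by
  have hca : ∀ n : ℕ, c ^ n * a = a * c ^ n := fun n => (show Commute c a from ha).pow_left n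
  have hcb : ∀ n : ℕ, c ^ n * b = b * c ^ n := fun n => (show Commute c b from hb).pow_left n
  have h1 : ∀ n : ℕ, b ^ n * a = c ^ n * (a * b ^ n) := by
    intro n
    induction n with
    | zero => simp
    | succ n ih =>
      calc b ^ (n + 1) * a = b * (b ^ n * a) := by rw [pow_succ']; group
        _ = (b * c ^ n) * (a * b ^ n) := by rw [ih]; group
        _ = c ^ n * (b * a) * b ^ n := by rw [← hcb]; group
        _ = c ^ n * c * (a * (b * b ^ n)) := by rw [hba]; group
        _ = _ := by rw [← pow_succ, ← pow_succ']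
  have h2 : ∀ n : ℕ, b * a ^ n = c ^ n * (a ^ n * b) := by
    intro n
    induction n with
    | zero => simp
    | succ n ih =>
      calc b * a ^ (n + 1) = (b * a ^ n) * a := by rw [pow_succ]; group
        _ = c ^ n * a ^ n * (b * a) := by rw [ih]; group
        _ = c ^ n * (a ^ n * c) * (a * b) := by rw [hba]; group
        _ = c ^ n * c * (a ^ n * a * b) := by
          rw [((show Commute c a from ha).pow_right n).symm.eq]; group
        _ = _ := by rw [← pow_succ, ← pow_succ]
  intro n
  refine ⟨h2 n, ?_⟩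
  induction n with
  | zero => simp
  | succ n ih =>
    have e1 : Commute (c ^ n.choose 2) (a * b) :=
      ((show Commute c a from ha).mul_right (show Commute c b from hb)).pow_left _
    have e2 : Commute (c ^ n) (a ^ n * a) :=
      (((show Commute c a from ha).pow_right n).mul_right (show Commute c a from ha)).pow_left n
    have e3 : Commute (c ^ n) (b ^ n * b) :=
      (((show Commute c b from hb).pow_right n).mul_right (show Commute c b from hb)).pow_left n
    rw [pow_succ (a * b), ih, Nat.choose_succ_succ, Nat.choose_one_right, pow_add]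
    calc a ^ n * b ^ n * c ^ n.choose 2 * (a * b)
        = a ^ n * (b ^ n * a) * b * c ^ n.choose 2 := by rw [mul_assoc _ (c ^ _), e1.eq]; group
      _ = (a ^ n * c ^ n) * a * (b ^ n * b) * c ^ n.choose 2 := by rw [h1]; group
      _ = (a ^ n * a) * (c ^ n * (b ^ n * b)) * c ^ n.choose 2 := by
        rw [mul_assoc (a ^ n) (c ^ n) a, hca n]; group
      _ = _ := by rw [e3.eq, ← pow_succ, ← pow_succ]; group

/-- A `p'`-element centralizes a normal `p`-subgroup whose elements of order `p`, and of order `4` when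
`p = 2`, all have classes of `p`-power size. -/
theorem pResidual_le_centralizer_of_omega (R : Subgroup G) [R.Normal] (hR : IsPGroup p R)
    (h : ∀ v ∈ R, (orderOf v = p ∨ (p = 2 ∧ orderOf v = 4)) →
      ∃ a, (Subgroup.centralizer ({v} : Set G)).index = p ^ a) :
    Cfsg.pResidual p G ≤ Subgroup.centralizer (R : Set G) := by
  classical
  set L := Cfsg.pResidual p G with hL
  set T := R ⊓ Subgroup.centralizer (L : Set G) with hT
  haveI : T.Normal := inferInstance
  suffices hRT : R ≤ T from Subgroup.le_centralizer_iff.1 (hRT.trans inf_le_right)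
  by_contra hRT
  let π := QuotientGroup.mk' T
  -- elements of `R` central in `R/T` with `p`-th power in `T`, centralizing `T`
  let Good : G → Prop := fun e => e ∈ R ∧ (∀ r ∈ R, π e * π r = π r * π e) ∧ e ^ p ∈ T ∧ ∀ t ∈ T, e * t = t * e
  have hGmul : ∀ e f, Good e → Good f → Good (e * f) := by
    rintro e f ⟨he1, he2, he3, he4⟩ ⟨hf1, hf2, hf3, hf4⟩
    refine ⟨mul_mem he1 hf1, fun r hr => ?_, ?_, fun t ht => ?_⟩
    · rw [map_mul]; exact ((show Commute (π e) (π r) from he2 r hr).mul_left (hf2 r hr)).eq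
    · rw [← QuotientGroup.eq_one_iff, ← QuotientGroup.mk'_apply, map_pow, map_mul,
        (show Commute (π e) (π f) from he2 f hf1).mul_pow, ← map_pow, ← map_pow,
        show π (e ^ p) = 1 from (QuotientGroup.eq_one_iff _).2 he3,
        show π (f ^ p) = 1 from (QuotientGroup.eq_one_iff _).2 hf3, one_mul]
    · exact ((show Commute e t from he4 t ht).mul_left (hf4 t ht)).eq
  have hGinv : ∀ e, Good e → Good e⁻¹ := by
    rintro e ⟨he1, he2, he3, he4⟩
    refine ⟨inv_mem he1, fun r hr => ?_, ?_, fun t ht => ?_⟩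
    · rw [map_inv]; exact (show Commute (π e) (π r) from he2 r hr).inv_left.eq
    · rw [inv_pow]; exact inv_mem he3
    · exact (show Commute e t from he4 t ht).inv_left.eq
  have hGconj : ∀ (g e : G), Good e → Good (g * e * g⁻¹) := by
    rintro g e ⟨he1, he2, he3, he4⟩
    refine ⟨(inferInstance : R.Normal).conj_mem _ he1 g, fun r hr => ?_, ?_, fun t ht => ?_⟩
    · have h1 : g⁻¹ * r * g ∈ R := by simpa using (inferInstance : R.Normal).conj_mem _ hr g⁻¹
      have h2 : Commute (π e) (π (g⁻¹ * r * g)) := he2 _ h1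
      have h3 := h2.map (MulAut.conj (π g)).toMonoidHom
      simpa [mul_assoc] using h3.eq
    · rw [conj_pow]; exact (inferInstance : T.Normal).conj_mem _ he3 g
    · have h1 : g⁻¹ * t * g ∈ T := by simpa using (inferInstance : T.Normal).conj_mem _ ht g⁻¹
      have h3 := (show Commute e (g⁻¹ * t * g) from he4 _ h1).map (MulAut.conj g).toMonoidHom
      simpa [mul_assoc] using h3.eq
  -- the exponent
  obtain ⟨p', hp', hpd, hchoose⟩ : ∃ p' : ℕ, (∀ m, m ∣ p' → m = 1 ∨ m = p ∨ (p = 2 ∧ m = 4)) ∧ p ∣ p' ∧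
      p ∣ p'.choose 2 := by
    rcases eq_or_ne p 2 with hp2 | hp2
    · refine ⟨4, fun m hm => ?_, by rw [hp2]; norm_num, by rw [hp2]; decide⟩
      have := Nat.le_of_dvd (by norm_num) hm
      interval_cases m <;> simp_all
    · exact ⟨p, fun m hm => (hp.out.eq_one_or_self_of_dvd m hm).imp id Or.inl, dvd_rfl,
        hp.out.dvd_choose_self (by norm_num) (lt_of_le_of_ne hp.out.two_le (Ne.symm hp2))⟩
  have hclass2 : ∀ e f, Good e → Good f →
      (⁅f, e⁆ * e = e * ⁅f, e⁆ ∧ ⁅f, e⁆ * f = f * ⁅f, e⁆ ∧ ⁅f, e⁆ ^ p = 1 ∧ f * e = ⁅f, e⁆ * (e * f)) := by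
    intro e f he hf
    have hc : ⁅f, e⁆ ∈ T := by
      rw [← QuotientGroup.eq_one_iff, ← QuotientGroup.mk'_apply, map_commutatorElement,
        commutatorElement_eq_one_iff_mul_comm]
      exact hf.2.1 e he.1
    have hba : f * e = ⁅f, e⁆ * (e * f) := by rw [commutatorElement_def]; group
    have h1 := (he.2.2.2 _ hc).symm
    have h2 := (hf.2.2.2 _ hc).symm
    refine ⟨h1, h2, ?_, hba⟩
    have h3 := (mul_pow_two_step h1 h2 hba p).1
    rw [hf.2.2.2 _ he.2.2.1] at h3
    simpa using h3
  -- the omega subgroup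
  let V : Subgroup G :=
    { carrier := {e | Good e ∧ e ^ p' = 1}
      one_mem' := ⟨⟨one_mem _, by simp, by rw [one_pow]; exact one_mem _, by simp⟩, one_pow _⟩
      inv_mem' := fun {e} he => ⟨hGinv e he.1, by rw [inv_pow, he.2, inv_one]⟩
      mul_mem' := fun {e f} he hf => by
        refine ⟨hGmul e f he.1 hf.1, ?_⟩
        obtain ⟨h1, h2, h3, h4⟩ := hclass2 e f he.1 hf.1
        rw [(mul_pow_two_step h1 h2 h4 p').2, he.2, hf.2, one_mul, one_mul]
        obtain ⟨q, hq⟩ := hchoose
        rw [hq, pow_mul, h3, one_pow] }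
  haveI : V.Normal := ⟨fun e he g => ⟨hGconj g e he.1, by rw [conj_pow, he.2]; simp⟩⟩
  have hVc : L ≤ Subgroup.centralizer (V : Set G) := by
    refine pResidual_le_centralizer_of_classes V (hR.to_le fun e he => he.1.1) fun e he => ?_
    rcases hp' _ (orderOf_dvd_of_pow_eq_one he.2) with h1 | h1
    · rw [orderOf_eq_one_iff.1 h1]
      exact ⟨0, by rw [pow_zero, Subgroup.index_eq_one, Subgroup.centralizer_eq_top_iff_subset]; simp⟩
    · exact h e he.1.1 h1
  -- good elements are fixed by `p'`-elements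
  have hfix : ∀ y : G, (orderOf y).Coprime p → ∀ e, Good e → y * e = e * y := by
    intro y hy e he
    have hyL : y ∈ L := PBasic.mem_pResidual hy
    set f := e⁻¹ * (y * e * y⁻¹) with hf
    have hfG : Good f := hGmul _ _ (hGinv e he) (hGconj y e he)
    have hef : e * f = y * e * y⁻¹ := by rw [hf]; group
    have hTy : ∀ t ∈ T, y * t = t * y := fun t ht => Subgroup.mem_centralizer_iff.1 ht.2 y hyL
    obtain ⟨h1, h2, h3, h4⟩ := hclass2 e f he hfG
    have hpow : (e * f) ^ p = e ^ p := by
      rw [hef, conj_pow, hTy _ he.2.2.1, mul_inv_cancel_right]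
    rw [(mul_pow_two_step h1 h2 h4 p).2, mul_assoc] at hpow
    have hfp : f ^ p * ⁅f, e⁆ ^ p.choose 2 = 1 := mul_left_cancel (hpow.trans (mul_one _).symm)
    have hfV : f ∈ V := by
      refine ⟨hfG, ?_⟩
      rcases eq_or_ne p 2 with hp2 | hp2
      · have hp4 : p' ∣ 4 ∨ True := Or.inr trivial
        have hf2 : f ^ p = ⁅f, e⁆⁻¹ := by
          have : p.choose 2 = 1 := by rw [hp2]; rfl
          rw [this, pow_one] at hfp
          exact eq_inv_of_mul_eq_one_left hfp
        have hf4 : f ^ (p * p) = 1 := by rw [pow_mul, hf2, inv_pow, h3, inv_one]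
        obtain ⟨q, hq⟩ := hpd
        rcases hp' p' dvd_rfl with h5 | h5 | ⟨-, h5⟩
        · exact absurd (hq ▸ h5) (by intro hh; exact hp.out.ne_one (Nat.eq_one_of_mul_eq_one_right hh))
        · exfalso
          rw [h5, hp2] at hchoose
          norm_num at hchoose
        · rw [h5, show 4 = p * p by rw [hp2]]; exact hf4
      · have : ⁅f, e⁆ ^ p.choose 2 = 1 := by
          obtain ⟨q, hq⟩ := hp.out.dvd_choose_self (k := 2) (by norm_num) (lt_of_le_of_ne hp.out.two_le (Ne.symm hp2))
          rw [hq, pow_mul, h3, one_pow]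
        rw [this, mul_one] at hfp
        rcases hp' p' dvd_rfl with h5 | h5 | ⟨h5, -⟩
        · rw [h5] at hpd; exact absurd (Nat.dvd_one.1 hpd) hp.out.ne_one
        · rw [h5]; exact hfp
        · exact absurd h5 hp2
    exact AxB.commute_of_conj_mem hR hfG.1
      (Subgroup.mem_centralizer_iff.1 (hVc hyL) f hfV).symm (pow_orderOf_eq_one y) hy.symm
  -- an element of order `p` in the centre of `R/T`
  set Rb := R.map π with hRb
  have hRbne : Rb ≠ ⊥ := by rwa [hRb, Ne, Subgroup.map_eq_bot_iff, QuotientGroup.ker_mk']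
  haveI : Nontrivial Rb := (Subgroup.nontrivial_iff_ne_bot Rb).2 hRbne
  obtain ⟨j, hj⟩ := IsPGroup.iff_card.1 ((hR.map π).to_subgroup (Subgroup.center Rb))
  have hj0 : j ≠ 0 := fun h => ((hR.map π).bot_lt_center).ne' (Subgroup.card_eq_one.1 (by rw [hj, h, pow_zero]))
  obtain ⟨z, hz⟩ := exists_prime_orderOf_dvd_card' (G := Subgroup.center Rb) p (hj ▸ dvd_pow_self p hj0)
  obtain ⟨d, hdR, hdz⟩ := (z : Rb).2
  have hdT : d ∉ T := by
    intro hd
    have : π d = 1 := (QuotientGroup.eq_one_iff d).2 hd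
    rw [this] at hdz
    have hz1 : z = 1 := Subtype.ext (Subtype.ext hdz.symm)
    rw [hz1, orderOf_one] at hz
    exact hp.out.ne_one hz.symm
  have hdc : ∀ r ∈ R, π d * π r = π r * π d := by
    intro r hr
    rw [hdz]
    exact congrArg Subtype.val (Subgroup.mem_center_iff.1 z.2 ⟨π r, Subgroup.mem_map_of_mem π hr⟩).symm
  have hdp : d ^ p ∈ T := by
    rw [← QuotientGroup.eq_one_iff, ← QuotientGroup.mk'_apply, map_pow]
    show π d ^ p = 1
    rw [hdz]
    have := congrArg (fun x : Subgroup.center Rb => ((x : Rb) : G ⧸ T)) (hz ▸ pow_orderOf_eq_one z)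
    simpa using this
  apply hdT
  refine ⟨hdR, ?_⟩
  have hle : L ≤ Subgroup.centralizer ({d} : Set G) := by
    rw [hL, Cfsg.pResidual, Subgroup.closure_le]
    intro y hy
    rw [SetLike.mem_coe, Subgroup.mem_centralizer_singleton_iff]
    have hyL : y ∈ L := PBasic.mem_pResidual hy
    set f := d⁻¹ * (y * d * y⁻¹) with hf
    have hd' : y * d * y⁻¹ ∈ R := (inferInstance : R.Normal).conj_mem _ hdR y
    have hTy : ∀ t ∈ T, y * t = t * y := fun t ht => Subgroup.mem_centralizer_iff.1 ht.2 y hyL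
    have hd2 : ∀ r ∈ R, π (y * d * y⁻¹) * π r = π r * π (y * d * y⁻¹) := by
      intro r hr
      have h1 : y⁻¹ * r * y ∈ R := by simpa using (inferInstance : R.Normal).conj_mem _ hr y⁻¹
      have h3 := (show Commute (π d) (π (y⁻¹ * r * y)) from hdc _ h1).map (MulAut.conj (π y)).toMonoidHom
      simpa [mul_assoc] using h3.eq
    have hfG : Good f := by
      refine ⟨mul_mem (inv_mem hdR) hd', fun r hr => ?_, ?_, fun t ht => ?_⟩
      · rw [hf, map_mul, map_inv]
        exact ((show Commute (π d) (π r) from hdc r hr).inv_left.mul_left (hd2 r hr)).eq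
      · rw [← QuotientGroup.eq_one_iff, ← QuotientGroup.mk'_apply, map_pow, hf, map_mul, map_inv,
          (show Commute (π d) (π (y * d * y⁻¹)) from hdc _ hd').inv_left.mul_pow, inv_pow, ← map_pow,
          ← map_pow, conj_pow, hTy _ hdp, mul_inv_cancel_right]
        simp
      · have h1 : d * t * d⁻¹ ∈ T := (inferInstance : T.Normal).conj_mem _ ht d
        have h2 : y * d * y⁻¹ * t * (y * d * y⁻¹)⁻¹ = d * t * d⁻¹ := by
          calc y * d * y⁻¹ * t * (y * d * y⁻¹)⁻¹ = y * d * (y⁻¹ * (t * y)) * d⁻¹ * y⁻¹ := by group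
            _ = y * (d * t * d⁻¹) * y⁻¹ := by rw [← hTy t ht]; group
            _ = _ := by rw [hTy _ h1, mul_inv_cancel_right]
        calc f * t = d⁻¹ * (y * d * y⁻¹ * t * (y * d * y⁻¹)⁻¹) * (y * d * y⁻¹) := by rw [hf]; group
          _ = t * f := by rw [h2, hf]; group
    exact AxB.commute_of_conj_mem hR hfG.1 (hfix y hy f hfG) (pow_orderOf_eq_one y) (Nat.Coprime.symm hy)
  exact Subgroup.mem_centralizer_iff.2 fun y hy => Subgroup.mem_centralizer_singleton_iff.1 (hle hy)

end Cfsg.Agent.PPowerClass
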