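import Mathlib.GroupTheory.Sylow
import Mathlib.GroupTheory.Nilpotent

/-! Redundant Sylow subgroups and central extensions. -/

set_option autoImplicit false

namespace Cfsg.Agent.RedundantSylow

variable {G : Type*} [Group G] {p : ℕ}

/-- Every element of `p`-power order lies in a Sylow subgroup other than `Q`. -/
def Redundant (Q : Sylow p G) : Prop :=
  ∀ x : G, (∃ k : ℕ, orderOf x = p ^ k) → ∃ P : Sylow p G, P ≠ Q ∧ x ∈ P

theorem transfer [Finite G] [Fact p.Prime] {H : Type*} [Group H] (f : G →* H) (hf : Function.Surjective f)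
    (hker : f.ker ≤ Subgroup.center G) :
    (∃ Q : Sylow p G, Redundant Q) ↔ ∃ Q : Sylow p H, Redundant Q := by
  haveI : Finite H := Finite.of_surjective f hf
  -- a `p`-element lies in `P` as soon as its image lies in the image of `P`
  have key : ∀ (P : Sylow p G) (x : G), (∃ k : ℕ, orderOf x = p ^ k) → f x ∈ (P : Subgroup G).map f → x ∈ P := by
    rintro P x ⟨k, hk⟩ ⟨u, hu, hfu⟩
    have hc : u⁻¹ * x ∈ Subgroup.center G := hker (by rw [MonoidHom.mem_ker, map_mul, map_inv, hfu, inv_mul_cancel])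
    have hx : x ∈ Subgroup.normalizer ((P : Subgroup G) : Set G) := by
      have : Subgroup.center G ≤ Subgroup.normalizer ((P : Subgroup G) : Set G) :=
        (Subgroup.center_le_centralizer _).trans (Subgroup.centralizer_le_normalizer _)
      have h2 := Subgroup.mul_mem _ (Subgroup.le_normalizer hu) (this hc)
      rwa [mul_inv_cancel_left] at h2
    have hx' : IsPGroup p (Subgroup.zpowers x) := IsPGroup.of_card (n := k) (by rw [Nat.card_zpowers, hk])
    have hsup : IsPGroup p ((P : Subgroup G) ⊔ Subgroup.zpowers x : Subgroup G) :=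
      P.2.to_sup_of_normal_left' hx' (Subgroup.zpowers_le.2 hx)
    have := P.3 hsup le_sup_left
    show x ∈ (P : Subgroup G)
    rw [← this]; exact Subgroup.mem_sup_right (Subgroup.mem_zpowers x)
  have hmap : ∀ P : Sylow p G, ((P.mapSurjective hf : Sylow p H) : Subgroup H) = (P : Subgroup G).map f :=
    fun P => Sylow.coe_mapSurjective hf P
  have hinj : ∀ P P' : Sylow p G, P.mapSurjective hf = P'.mapSurjective hf → P = P' := by
    intro P P' h
    refine Sylow.ext (P'.3 P.2 ?_)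
    intro y hy
    obtain ⟨k, hk⟩ := IsPGroup.exists_orderOf_eq_pow P'.2 ⟨y, hy⟩
    exact key P y ⟨k, by rw [← hk, Subgroup.orderOf_mk]⟩ (by
      rw [← hmap, h, hmap]; exact Subgroup.mem_map_of_mem f hy)
  constructor
  · rintro ⟨Q, hQ⟩
    refine ⟨Q.mapSurjective hf, fun h ⟨k, hk⟩ => ?_⟩
    obtain ⟨P₁, hP₁⟩ := (IsPGroup.of_card (n := k) (by rw [Nat.card_zpowers, hk]) : IsPGroup p (Subgroup.zpowers h)).exists_le_sylow
    obtain ⟨P₂, hP₂⟩ := Sylow.mapSurjective_surjective hf p P₁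
    have hh : h ∈ (P₂ : Subgroup G).map f := by
      rw [← hmap, hP₂]; exact hP₁ (Subgroup.mem_zpowers h)
    obtain ⟨x, hx, rfl⟩ := hh
    obtain ⟨j, hj⟩ := IsPGroup.exists_orderOf_eq_pow P₂.2 ⟨x, hx⟩
    obtain ⟨P, hP, hxP⟩ := hQ x ⟨j, by rw [← hj, Subgroup.orderOf_mk]⟩
    exact ⟨P.mapSurjective hf, fun he => hP (hinj _ _ he), by
      show f x ∈ ((P.mapSurjective hf : Sylow p H) : Subgroup H)
      rw [hmap]; exact Subgroup.mem_map_of_mem f hxP⟩
  · rintro ⟨Q', hQ'⟩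
    obtain ⟨Q, rfl⟩ := Sylow.mapSurjective_surjective hf p Q'
    refine ⟨Q, fun x hx => ?_⟩
    obtain ⟨k, hk⟩ := hx
    obtain ⟨j, -, hj⟩ := (Nat.dvd_prime_pow (Fact.out : p.Prime)).1 (hk ▸ orderOf_map_dvd f x)
    obtain ⟨P', hP', hfx⟩ := hQ' (f x) ⟨j, hj⟩
    obtain ⟨P, rfl⟩ := Sylow.mapSurjective_surjective hf p P'
    refine ⟨P, fun he => hP' (he ▸ rfl), key P x ⟨k, hk⟩ ?_⟩
    rw [← hmap]; exact hfx

/-- A `p'`-element normalizing a `p`-subgroup and fixing a self-centralizing part of it centralizes it. -/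
theorem fixes_of_self_centralizing [Finite G] [Fact p.Prime] {Q : Subgroup G} (hQ : IsPGroup p Q) {y : G}
    (hy : (orderOf y).Coprime p) (hyQ : ∀ n ∈ Q, y * n * y⁻¹ ∈ Q)
    (hself : ∀ c ∈ Q, (∀ t ∈ Q, y * t = t * y → c * t = t * c) → y * c = c * y) :
    ∀ n ∈ Q, y * n = n * y := by
  haveI := IsPGroup.isNilpotent hQ
  let R : Subgroup G := Q ⊓ Subgroup.centralizer {y}
  have hR : ∀ t, t ∈ R ↔ t ∈ Q ∧ y * t = t * y := fun t => by
    show t ∈ Q ∧ t ∈ Subgroup.centralizer ({y} : Set G) ↔ _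
    rw [Subgroup.mem_centralizer_singleton_iff, eq_comm]
  by_contra hcon
  have hlt : R.subgroupOf Q < ⊤ := lt_top_iff_ne_top.2 fun h => hcon fun n hn => by
    rw [Subgroup.subgroupOf_eq_top] at h
    exact ((hR n).1 (h hn)).2
  obtain ⟨⟨n, hnQ⟩, hn, hn'⟩ := SetLike.exists_of_lt (normalizerCondition_of_isNilpotent _ hlt)
  apply hn'
  rw [Subgroup.mem_subgroupOf, hR]
  refine ⟨hnQ, ?_⟩
  have hnR : ∀ t ∈ R, n * t * n⁻¹ ∈ R := fun t ht => by
    have := (Subgroup.mem_normalizer_iff.1 hn ⟨t, ((hR t).1 ht).1⟩).1 ht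
    exact Subgroup.mem_subgroupOf.1 this
  set z := n⁻¹ * (y * n * y⁻¹) with hz
  have hzQ : z ∈ Q := Q.mul_mem (Q.inv_mem hnQ) (hyQ n hnQ)
  have hzc : y * z = z * y := by
    refine hself z hzQ fun t ht hyt => ?_
    have h1 : y * (n * t * n⁻¹) = (n * t * n⁻¹) * y := ((hR _).1 (hnR t ((hR t).2 ⟨ht, hyt⟩))).2
    have h2 : y⁻¹ * t = t * y⁻¹ := (show Commute y t from hyt).inv_left.eq
    calc z * t = n⁻¹ * (y * n) * (y⁻¹ * t) := by rw [hz]; group
      _ = n⁻¹ * (y * (n * t * n⁻¹)) * n * y⁻¹ := by rw [h2]; group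
      _ = t * z := by rw [h1, hz]; group
  have hit : ∀ i : ℕ, y ^ i * n * (y ^ i)⁻¹ = n * z ^ i := by
    intro i
    induction i with
    | zero => simp
    | succ i ih =>
      have h3 : y * z ^ i * y⁻¹ = z ^ i := by
        rw [((show Commute y z from hzc).pow_right i).eq, mul_inv_cancel_right]
      calc y ^ (i + 1) * n * (y ^ (i + 1))⁻¹ = y * (y ^ i * n * (y ^ i)⁻¹) * y⁻¹ := by rw [pow_succ']; group
        _ = (y * n * y⁻¹) * (y * z ^ i * y⁻¹) := by rw [ih]; group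
        _ = n * z * z ^ i := by rw [h3, hz]; group
        _ = n * z ^ (i + 1) := by rw [pow_succ', mul_assoc]
  have hr := hit (orderOf y)
  rw [pow_orderOf_eq_one, one_mul, inv_one, mul_one, left_eq_mul] at hr
  obtain ⟨k, hk⟩ := IsPGroup.exists_orderOf_eq_pow hQ ⟨z, hzQ⟩
  rw [Subgroup.orderOf_mk] at hk
  have hz1 : z = 1 := by
    refine orderOf_eq_one_iff.1 (Nat.eq_one_of_dvd_coprimes (hy.pow_right k) (orderOf_dvd_of_pow_eq_one hr) ?_)
    rw [hk]
  rw [hz, inv_mul_eq_one] at hz1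
  exact mul_inv_eq_iff_eq_mul.1 hz1.symm

end Cfsg.Agent.RedundantSylow
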