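import Cfsg.Prelude.Def_CaseTheorems
import Cfsg.Agent.Lib.FiniteGroup.FrattiniAut
import Mathlib.GroupTheory.Nilpotent

/-! Non-abelian normal subgroups with centres of order two in 2-groups of sectional rank at most four. -/

set_option autoImplicit false
set_option linter.style.haveILetI false

open scoped commutatorElement

namespace Cfsg.Agent.SectionalFour

variable {S : Type*} [Group S]

/-- A non-trivial normal subgroup of a finite 2-group meets the centre. -/
theorem exists_central {G : Type*} [Group G] [Finite G] (hG : IsPGroup 2 G) {N : Subgroup G} [hNn : N.Normal]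
    (hN : N ≠ ⊥) : ∃ x ∈ N, x ≠ 1 ∧ ∀ y : G, y * x = x * y := by
  haveI : Group.IsNilpotent G := IsPGroup.isNilpotent hG
  obtain ⟨n, hn⟩ := Group.IsNilpotent.nilpotent' (G := G)
  by_contra hcon
  push Not at hcon
  have hbot : ∀ i, N ⊓ Subgroup.upperCentralSeries G i = ⊥ := by
    intro i
    induction i with
    | zero => simp
    | succ i ih =>
      rw [eq_bot_iff]
      intro x hx
      obtain ⟨hxN, hxU⟩ := Subgroup.mem_inf.1 hx
      refine Subgroup.mem_bot.2 ?_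
      by_contra hx1
      obtain ⟨y, hy⟩ := hcon x hxN hx1
      apply hy
      have h1 : x * y * x⁻¹ * y⁻¹ ∈ N ⊓ Subgroup.upperCentralSeries G i :=
        Subgroup.mem_inf.2 ⟨by
          have := mul_mem hxN (hNn.conj_mem x⁻¹ (inv_mem hxN) y)
          simpa [mul_assoc] using this,
          (Subgroup.mem_upperCentralSeries_succ_iff.1 hxU) y⟩
      rw [ih, Subgroup.mem_bot, mul_inv_eq_one, mul_inv_eq_iff_eq_mul] at h1
      exact h1.symm
  exact hN (by rw [← hbot n, hn, inf_top_eq])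

theorem exists_center [Finite S] (P : Subgroup S) (hZ : Nat.card (Subgroup.center P) = 2) :
    ∃ z ∈ P, z ≠ 1 ∧ z * z = 1 ∧ (Subgroup.center P).map P.subtype = Subgroup.zpowers z ∧
      ∀ x ∈ P, ((∀ y ∈ P, y * x = x * y) ↔ x = 1 ∨ x = z) := by
  haveI : Nontrivial (Subgroup.center P) := Finite.one_lt_card_iff_nontrivial.1 (by omega)
  obtain ⟨⟨z, hz⟩, hz1⟩ := exists_ne (1 : Subgroup.center P)
  have hsq : z * z = 1 := by
    have : (⟨z, hz⟩ : Subgroup.center P) ^ 2 = 1 := hZ ▸ pow_card_eq_one'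
    rw [sq] at this
    exact congrArg Subtype.val this
  have hall : ∀ w ∈ Subgroup.center P, w = 1 ∨ w = z := by
    intro w hw
    by_contra hcon
    obtain ⟨h1, h2⟩ := not_or.1 hcon
    have hsub : ({1, z, w} : Set P) ⊆ (Subgroup.center P : Set P) := by
      rintro u (rfl | rfl | rfl)
      exacts [Subgroup.one_mem _, hz, hw]
    have h3 := Set.ncard_le_ncard hsub (Set.toFinite _)
    have hzne : (1 : P) ≠ z := fun h => hz1 (Subtype.ext h.symm)
    rw [Set.ncard_insert_of_notMem (by simp [hzne, Ne.symm h1]), Set.ncard_pair (Ne.symm h2)] at h3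
    change 2 + 1 ≤ Nat.card (Subgroup.center P) at h3
    omega
  refine ⟨z, z.2, fun h => hz1 (Subtype.ext (Subtype.ext h)), congrArg Subtype.val hsq, ?_, fun x hx => ⟨fun h => ?_, fun h => ?_⟩⟩
  · ext x
    constructor
    · rintro ⟨w, hw, rfl⟩
      rcases hall w hw with rfl | rfl
      exacts [Subgroup.one_mem _, Subgroup.mem_zpowers _]
    · intro hx
      obtain ⟨k, rfl⟩ := Subgroup.mem_zpowers_iff.1 hx
      exact ⟨z ^ k, Subgroup.zpow_mem _ hz k, rfl⟩
  · rcases hall ⟨x, hx⟩ (Subgroup.mem_center_iff.2 fun y => Subtype.ext (h y y.2)) with h' | h'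
    · exact Or.inl (congrArg Subtype.val h')
    · exact Or.inr (congrArg Subtype.val h')
  · intro y hy
    rcases h with rfl | rfl
    · rw [mul_one, one_mul]
    · exact congrArg Subtype.val (Subgroup.mem_center_iff.1 hz ⟨y, hy⟩)

variable [Finite S]

theorem frattini_index (P : Subgroup S) (hP2 : IsPGroup 2 P) (hP : ¬ IsMulCommutative P) : 4 ≤ (frattini P).index := by
  obtain ⟨n, hn⟩ := IsPGroup.iff_card.1 hP2
  obtain ⟨r, -, hr⟩ := (Nat.dvd_prime_pow Nat.prime_two).1 (hn ▸ (frattini P).index_dvd_card)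
  rw [hr]
  by_contra hcon
  have hr1 : r ≤ 1 := by
    by_contra h
    exact hcon (le_trans (by norm_num) (Nat.pow_le_pow_right two_pos (show 2 ≤ r by omega)))
  obtain ⟨⟨t, ht⟩, -⟩ := FrattiniAut.exists_generators (p := 2) hn hr
  have htop := FrattiniAut.closure_eq_top ht
  apply hP
  have hcomm : IsMulCommutative (Subgroup.closure (Set.range t)) := Subgroup.isMulCommutative_closure (by
    rintro _ ⟨i, rfl⟩ _ ⟨j, rfl⟩
    rw [show i = j from Fin.ext (by have := i.2; have := j.2; omega)])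
  exact ⟨⟨fun a b => congrArg Subtype.val
    (hcomm.is_comm.comm ⟨a, htop ▸ Subgroup.mem_top a⟩ ⟨b, htop ▸ Subgroup.mem_top b⟩)⟩⟩

theorem center_le_frattini (P : Subgroup S) (hP2 : IsPGroup 2 P) (hP : ¬ IsMulCommutative P) {z : S} (hz : z ∈ P)
    (hzc : ∀ x ∈ P, ((∀ y ∈ P, y * x = x * y) ↔ x = 1 ∨ x = z)) : (⟨z, hz⟩ : P) ∈ frattini P := by
  haveI : Group.IsNilpotent P := IsPGroup.isNilpotent hP2
  have hne : commutator P ≠ ⊥ := fun h => hP ⟨⟨fun a b => commutatorElement_eq_one_iff_mul_comm.1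
    (Subgroup.mem_bot.1 (h ▸ Subgroup.commutator_mem_commutator (Subgroup.mem_top a) (Subgroup.mem_top b)))⟩⟩
  obtain ⟨x, hx, hx1, hxc⟩ := exists_central hP2 hne
  rcases (hzc x x.2).1 (fun y hy => congrArg Subtype.val (hxc ⟨y, hy⟩)) with h | h
  · exact absurd (Subtype.ext h) hx1
  · have : (⟨z, hz⟩ : P) = x := Subtype.ext h.symm
    rw [this]
    exact SolvStruct.commutator_le_frattini P hx

/-- a section with more than 16 elements of exponent two contradicts sectional rank four -/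
theorem card_le {p k : ℕ} (hr : Cfsg.SectionalPRankLE p k S) {X : Type*} [Group X] (m : X →* S) (N : Subgroup X) [N.Normal]
    (hker : m.ker ≤ N) (A : Subgroup (X ⧸ N)) (hc : IsMulCommutative A) (hexp : ∀ a ∈ A, a ^ p = 1) :
    Nat.card A ≤ p ^ k := by
  haveI : (N.map m.rangeRestrict).Normal := Subgroup.Normal.map inferInstance _ m.rangeRestrict_surjective
  let φ := QuotientGroup.map N (N.map m.rangeRestrict) m.rangeRestrict (Subgroup.le_comap_map _ _)
  have hφ : Function.Injective φ := by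
    rw [injective_iff_map_eq_one]
    intro q hq
    obtain ⟨x, rfl⟩ := QuotientGroup.mk_surjective q
    have h5 : m.rangeRestrict x ∈ N.map m.rangeRestrict := (QuotientGroup.eq_one_iff _).1 hq
    obtain ⟨y, hy, hxy⟩ := h5
    refine (QuotientGroup.eq_one_iff x).2 ?_
    have h6 : y⁻¹ * x ∈ N := hker (by
      rw [MonoidHom.mem_ker, map_mul, map_inv, show m y = m x from congrArg Subtype.val hxy, inv_mul_cancel])
    have := N.mul_mem hy h6
    rwa [mul_inv_cancel_left] at this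
  have := hr m.range (N.map m.rangeRestrict) (A.map φ) (Subgroup.map_isMulCommutative A φ) (by
    rintro _ ⟨a, ha, rfl⟩
    rw [← map_pow, hexp a ha, map_one])
  rwa [Subgroup.card_map_of_injective hφ] at this

theorem top_comm_of_sq {G : Type*} [Group G] (h : ∀ x : G, x ^ 2 = 1) : IsMulCommutative (⊤ : Subgroup G) := by
  refine ⟨⟨fun x y => Subtype.ext ?_⟩⟩
  have hi : ∀ z : G, z⁻¹ = z := fun z => inv_eq_of_mul_eq_one_right (by rw [← sq, h])
  show (x : G) * y = y * x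
  rw [← hi (x * y), mul_inv_rev, hi, hi]

theorem quot_sq {P : Subgroup S} (hP : IsPGroup 2 P) (x : P ⧸ frattini P) : x ^ 2 = 1 := by
  obtain ⟨y, rfl⟩ := QuotientGroup.mk_surjective x
  rw [← QuotientGroup.mk_pow, QuotientGroup.eq_one_iff]
  exact Cfsg.Agent.PGroupBasics.pow_mem_frattini hP y

/-- the hypotheses on a pair -/
structure Pair (P Q : Subgroup S) (z w : S) : Prop where
  nP : ¬ IsMulCommutative P
  nQ : ¬ IsMulCommutative Q
  zmem : z ∈ P
  wmem : w ∈ Q
  zc : ∀ x ∈ P, ((∀ y ∈ P, y * x = x * y) ↔ x = 1 ∨ x = z)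
  wc : ∀ x ∈ Q, ((∀ y ∈ Q, y * x = x * y) ↔ x = 1 ∨ x = w)
  hz : z ≠ 1
  hw : w ≠ 1
  z2 : z * z = 1
  w2 : w * w = 1
  hzw : z ≠ w
  normPQ : ∀ b ∈ Q, ∀ a ∈ P, b * a * b⁻¹ ∈ P
  normQP : ∀ a ∈ P, ∀ b ∈ Q, a * b * a⁻¹ ∈ Q

variable {P Q : Subgroup S} {z w : S}

theorem Pair.disjoint (h2 : IsPGroup 2 S) (h : Pair P Q z w) : ∀ x ∈ P, x ∈ Q → x = 1 := by
  intro x hxP hxQ
  by_contra hx
  set J := P ⊔ Q
  have hn : ((P ⊓ Q).subgroupOf J).Normal := by
    refine (Subgroup.normal_subgroupOf_iff_le_normalizer (inf_le_left.trans le_sup_left)).2 (sup_le ?_ ?_)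
    · intro a ha
      refine Subgroup.mem_normalizer_iff.2 fun y => ⟨fun hy => ⟨P.mul_mem (P.mul_mem ha hy.1) (P.inv_mem ha), h.normQP a ha y hy.2⟩, fun hy => ⟨?_, ?_⟩⟩
      · have := P.mul_mem (P.mul_mem (P.inv_mem ha) hy.1) ha
        rwa [show a⁻¹ * (a * y * a⁻¹) * a = y by group] at this
      · have := h.normQP a⁻¹ (P.inv_mem ha) _ hy.2
        rwa [show a⁻¹ * (a * y * a⁻¹) * a⁻¹⁻¹ = y by group] at this
    · intro b hb
      refine Subgroup.mem_normalizer_iff.2 fun y => ⟨fun hy => ⟨h.normPQ b hb y hy.1, Q.mul_mem (Q.mul_mem hb hy.2) (Q.inv_mem hb)⟩, fun hy => ⟨?_, ?_⟩⟩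
      · have := h.normPQ b⁻¹ (Q.inv_mem hb) _ hy.1
        rwa [show b⁻¹ * (b * y * b⁻¹) * b⁻¹⁻¹ = y by group] at this
      · have := Q.mul_mem (Q.mul_mem (Q.inv_mem hb) hy.2) hb
        rwa [show b⁻¹ * (b * y * b⁻¹) * b = y by group] at this
  obtain ⟨⟨u, huJ⟩, hu, hu1, huc⟩ := exists_central (h2.to_subgroup J) (N := (P ⊓ Q).subgroupOf J) (fun hb => hx (by
    have : (⟨x, Subgroup.mem_sup_left hxP⟩ : J) ∈ (P ⊓ Q).subgroupOf J := ⟨hxP, hxQ⟩
    rw [hb, Subgroup.mem_bot] at this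
    exact congrArg Subtype.val this))
  have hu' : u ≠ 1 := fun h' => hu1 (Subtype.ext h')
  have e1 := ((h.zc u hu.1).1 fun y hy => congrArg Subtype.val (huc ⟨y, Subgroup.mem_sup_left hy⟩)).resolve_left hu'
  have e2 := ((h.wc u hu.2).1 fun y hy => congrArg Subtype.val (huc ⟨y, Subgroup.mem_sup_right hy⟩)).resolve_left hu'
  exact h.hzw (e1.symm.trans e2)

theorem Pair.commute (h2 : IsPGroup 2 S) (h : Pair P Q z w) {a b : S} (ha : a ∈ P) (hb : b ∈ Q) : a * b = b * a := by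
  refine commutatorElement_eq_one_iff_mul_comm.1 (h.disjoint h2 _ ?_ ?_)
  · rw [commutatorElement_def, show a * b * a⁻¹ * b⁻¹ = a * (b * a⁻¹ * b⁻¹) by group]
    exact P.mul_mem ha (h.normPQ b hb _ (P.inv_mem ha))
  · rw [commutatorElement_def]
    exact Q.mul_mem (h.normQP a ha b hb) (Q.inv_mem hb)

theorem Pair.split (h2 : IsPGroup 2 S) (h : Pair P Q z w) {x : S} (hx : x ∈ P ⊔ Q) : ∃ a ∈ P, ∃ b ∈ Q, x = a * b := by
  have hn : Q ≤ Subgroup.normalizer (P : Set S) := fun b hb =>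
    Subgroup.centralizer_le_normalizer _ (Subgroup.mem_centralizer_iff.2 fun a ha => h.commute h2 ha hb)
  rw [← SetLike.mem_coe, Subgroup.coe_mul_of_right_le_normalizer_left _ _ hn] at hx
  obtain ⟨a, ha, b, hb, rfl⟩ := hx
  exact ⟨a, ha, b, hb, rfl⟩

/-- elements centralizing `P` and `Q` lie in `PQ` -/
theorem Pair.self_centralizing (h2 : IsPGroup 2 S) (hr : Cfsg.SectionalPRankLE 2 4 S) (h : Pair P Q z w) {c : S}
    (hcP : ∀ a ∈ P, a * c = c * a) (hcQ : ∀ b ∈ Q, b * c = c * b) : c ∈ P ⊔ Q := by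
  classical
  by_contra hc0
  obtain ⟨k, hk⟩ := IsPGroup.exists_orderOf_eq_pow h2 c
  have hex : ∃ i, c ^ 2 ^ i ∈ P ⊔ Q := ⟨k, by rw [← hk, pow_orderOf_eq_one]; exact Subgroup.one_mem _⟩
  obtain ⟨j, hj⟩ : ∃ j, Nat.find hex = j + 1 := ⟨Nat.find hex - 1, by
    have : Nat.find hex ≠ 0 := fun h0 => hc0 (by have := Nat.find_spec hex; rwa [h0, pow_zero, pow_one] at this)
    omega⟩
  set d := c ^ 2 ^ j with hd
  have hd0 : d ∉ P ⊔ Q := Nat.find_min hex (by omega)
  have hd2 : d * d ∈ P ⊔ Q := by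
    have := Nat.find_spec hex
    rw [hj, pow_succ, pow_mul, sq] at this
    exact this
  have hdP : ∀ a ∈ P, Commute a d := fun a ha => (show Commute a c from hcP a ha).pow_right _
  have hdQ : ∀ b ∈ Q, Commute b d := fun b hb => (show Commute b c from hcQ b hb).pow_right _
  obtain ⟨a₀, ha₀, b₀, hb₀, hab⟩ := h.split h2 hd2
  have ha₀' : a₀ = 1 ∨ a₀ = z := (h.zc a₀ ha₀).1 fun y hy => by
    have h5 : Commute y (a₀ * b₀) := hab ▸ (hdP y hy).mul_right (hdP y hy)
    have h6 : Commute y b₀ := h.commute h2 hy hb₀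
    have := h5.mul_right h6.inv_right
    rwa [mul_inv_cancel_right] at this
  have hb₀' : b₀ = 1 ∨ b₀ = w := (h.wc b₀ hb₀).1 fun y hy => by
    have h5 : Commute y (a₀ * b₀) := hab ▸ (hdQ y hy).mul_right (hdQ y hy)
    have h6 : Commute y a₀ := (h.commute h2 ha₀ hy).symm
    have := h6.inv_right.mul_right h5
    rwa [inv_mul_cancel_left] at this
  let D := Subgroup.zpowers d
  let m : P × Q × D →* S :=
    { toFun := fun t => (t.1 : S) * t.2.1 * t.2.2
      map_one' := by simp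
      map_mul' := fun s t => by
        obtain ⟨i, hi⟩ := Subgroup.mem_zpowers_iff.1 s.2.2.2
        have c1 : Commute ((s.2.2 : D) : S) ((t.1 : P) : S) := hi ▸ ((hdP _ t.1.2).zpow_right i).symm
        have c2 : Commute ((s.2.2 : D) : S) ((t.2.1 : Q) : S) := hi ▸ ((hdQ _ t.2.1.2).zpow_right i).symm
        have c3 : Commute ((s.2.1 : Q) : S) ((t.1 : P) : S) := (h.commute h2 t.1.2 s.2.1.2).symm
        show ((s.1 : S) * t.1) * ((s.2.1 : S) * t.2.1) * ((s.2.2 : S) * t.2.2) = _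
        calc ((s.1 : S) * t.1) * ((s.2.1 : S) * t.2.1) * ((s.2.2 : S) * t.2.2)
            = (s.1 : S) * ((t.1 : S) * s.2.1) * (((t.2.1 : Q) : S) * s.2.2) * t.2.2 := by group
          _ = (s.1 : S) * s.2.1 * ((t.1 : S) * s.2.2) * t.2.1 * t.2.2 := by rw [← c3.eq, ← c2.eq]; group
          _ = _ := by rw [← c1.eq]; group }
  let N : Subgroup (P × Q × D) := (frattini P).prod ((frattini Q).prod ((Subgroup.zpowers (d * d)).subgroupOf D))
  haveI hDn : ((Subgroup.zpowers (d * d)).subgroupOf D).Normal := ⟨fun x hx g => by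
    have : g * x * g⁻¹ = x := Subtype.ext (by
      obtain ⟨i, hi⟩ := Subgroup.mem_zpowers_iff.1 g.2
      obtain ⟨l, hl⟩ := Subgroup.mem_zpowers_iff.1 x.2
      show (g : S) * x * (g : S)⁻¹ = x
      rw [← hi, ← hl, ((Commute.refl d).zpow_zpow i l).eq, mul_inv_cancel_right])
    rwa [this]⟩
  haveI : N.Normal := inferInstance
  have hzΦ := center_le_frattini P (h2.to_subgroup P) h.nP h.zmem h.zc
  have hwΦ := center_le_frattini Q (h2.to_subgroup Q) h.nQ h.wmem h.wc
  have hker : m.ker ≤ N := by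
    rintro ⟨a, b, e⟩ ht
    rw [MonoidHom.mem_ker] at ht
    change (a : S) * b * e = 1 at ht
    obtain ⟨i, hi⟩ := Subgroup.mem_zpowers_iff.1 e.2
    have hemem : (e : S) ∈ P ⊔ Q := by
      rw [eq_inv_of_mul_eq_one_right ht]
      exact Subgroup.inv_mem _ (Subgroup.mul_mem _ (Subgroup.mem_sup_left a.2) (Subgroup.mem_sup_right b.2))
    rcases Int.even_or_odd' i with ⟨l, rfl | rfl⟩
    swap
    · exfalso; apply hd0
      rw [zpow_add, zpow_mul, zpow_one] at hi
      have h7 := Subgroup.mul_mem _ (Subgroup.inv_mem _ (Subgroup.zpow_mem _ (show d ^ (2 : ℤ) ∈ P ⊔ Q by rw [zpow_two]; exact hd2) l)) (hi ▸ hemem)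
      rwa [inv_mul_cancel_left] at h7
    rw [zpow_mul, zpow_two] at hi
    have heab : (e : S) = a₀ ^ l * b₀ ^ l := by rw [← hi, hab, (show Commute a₀ b₀ from h.commute h2 ha₀ hb₀).mul_zpow]
    have hsplit : ((a : S) * a₀ ^ l) = ((b : S) * b₀ ^ l)⁻¹ := by
      refine eq_inv_of_mul_eq_one_left ?_
      rw [heab] at ht
      calc (a : S) * a₀ ^ l * ((b : S) * b₀ ^ l) = (a : S) * (a₀ ^ l * b) * b₀ ^ l := by group
        _ = (a : S) * b * (a₀ ^ l * b₀ ^ l) := by
          rw [h.commute h2 (P.zpow_mem ha₀ l) b.2]; group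
        _ = 1 := ht
    have hA := h.disjoint h2 _ (P.mul_mem a.2 (P.zpow_mem ha₀ l)) (hsplit ▸ Q.inv_mem (Q.mul_mem b.2 (Q.zpow_mem hb₀ l)))
    have hB : (b : S) * b₀ ^ l = 1 := by rwa [hA, eq_comm, inv_eq_one] at hsplit
    refine Subgroup.mem_prod.2 ⟨?_, Subgroup.mem_prod.2 ⟨?_, ?_⟩⟩
    · show a ∈ frattini P
      have : a = (⟨a₀, ha₀⟩ : P)⁻¹ ^ l := Subtype.ext (by
        show (a : S) = a₀⁻¹ ^ l
        rw [inv_zpow]; exact eq_inv_of_mul_eq_one_left hA)
      rw [this]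
      refine Subgroup.zpow_mem _ (Subgroup.inv_mem _ ?_) _
      rcases ha₀' with rfl | rfl
      exacts [Subgroup.one_mem _, hzΦ]
    · show b ∈ frattini Q
      have : b = (⟨b₀, hb₀⟩ : Q)⁻¹ ^ l := Subtype.ext (by
        show (b : S) = b₀⁻¹ ^ l
        rw [inv_zpow]; exact eq_inv_of_mul_eq_one_left hB)
      rw [this]
      refine Subgroup.zpow_mem _ (Subgroup.inv_mem _ ?_) _
      rcases hb₀' with rfl | rfl
      exacts [Subgroup.one_mem _, hwΦ]
    · show (e : S) ∈ Subgroup.zpowers (d * d)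
      rw [← hi]; exact Subgroup.zpow_mem _ (Subgroup.mem_zpowers _) _
  have hexp : ∀ q : (P × Q × D) ⧸ N, q ^ 2 = 1 := by
    intro q
    obtain ⟨⟨a, b, e⟩, rfl⟩ := QuotientGroup.mk_surjective q
    rw [← QuotientGroup.mk_pow, QuotientGroup.eq_one_iff]
    refine Subgroup.mem_prod.2 ⟨Cfsg.Agent.PGroupBasics.pow_mem_frattini (h2.to_subgroup P) a,
      Subgroup.mem_prod.2 ⟨Cfsg.Agent.PGroupBasics.pow_mem_frattini (h2.to_subgroup Q) b, ?_⟩⟩
    show ((e ^ 2 : D) : S) ∈ Subgroup.zpowers (d * d)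
    obtain ⟨i, hi⟩ := Subgroup.mem_zpowers_iff.1 e.2
    refine ⟨i, ?_⟩
    show (d * d) ^ i = ((e ^ 2 : D) : S)
    rw [Subgroup.coe_pow, ← hi, sq, (Commute.refl d).mul_zpow]
  have hle := card_le hr m N hker ⊤ (top_comm_of_sq hexp) fun a _ => hexp a
  have hD : 2 ≤ ((Subgroup.zpowers (d * d)).subgroupOf D).index := by
    have hne : ((Subgroup.zpowers (d * d)).subgroupOf D).index ≠ 1 := by
      rw [ne_eq, Subgroup.index_eq_one, Subgroup.subgroupOf_eq_top]
      intro hle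
      exact hd0 ((Subgroup.zpowers_le.2 hd2) (hle (Subgroup.mem_zpowers d)))
    have hne0 : ((Subgroup.zpowers (d * d)).subgroupOf D).index ≠ 0 := Subgroup.index_ne_zero_of_finite
    omega
  have h4P := frattini_index P (h2.to_subgroup P) h.nP
  have h4Q := frattini_index Q (h2.to_subgroup Q) h.nQ
  rw [Subgroup.card_top, ← Subgroup.index_eq_card, Subgroup.index_prod, Subgroup.index_prod] at hle
  have h5 : 4 * (4 * 2) ≤ (frattini P).index * ((frattini Q).index * ((Subgroup.zpowers (d * d)).subgroupOf D).index) :=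
    Nat.mul_le_mul h4P (Nat.mul_le_mul h4Q hD)
  omega

/-- In a pair each member has sectional rank at most two. -/
theorem Pair.rank (h2 : IsPGroup 2 S) (hr : Cfsg.SectionalPRankLE 2 4 S) (h : Pair P Q z w) :
    Cfsg.SectionalPRankLE 2 2 P := by
  intro H N _ A hA hexp
  let m : H × Q →* S :=
    { toFun := fun t => ((t.1 : P) : S) * t.2
      map_one' := by simp
      map_mul' := fun s t => by
        show ((s.1 : P) : S) * ((t.1 : P) : S) * ((s.2 : S) * t.2) = _
        have c1 := h.commute h2 (t.1 : P).2 s.2.2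
        calc _ = ((s.1 : P) : S) * (((t.1 : P) : S) * (s.2 : S)) * t.2 := by group
          _ = _ := by rw [c1]; group }
  have hker : m.ker ≤ N.prod (frattini Q) := by
    rintro ⟨a, b⟩ ht
    rw [MonoidHom.mem_ker] at ht
    change ((a : P) : S) * b = 1 at ht
    have hA := h.disjoint h2 _ (a : P).2 (by rw [eq_inv_of_mul_eq_one_left ht]; exact Q.inv_mem b.2)
    rw [hA, one_mul] at ht
    have ha : a = 1 := Subtype.ext (Subtype.ext hA)
    have hb : b = 1 := Subtype.ext ht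
    subst ha hb
    exact Subgroup.one_mem _
  haveI : (N.prod (frattini Q)).Normal := inferInstance
  let B : Subgroup ((H × Q) ⧸ N.prod (frattini Q)) :=
    ((A.comap (QuotientGroup.mk' N)).prod (⊤ : Subgroup Q)).map (QuotientGroup.mk' _)
  have hexp' : ∀ q ∈ B, q ^ 2 = 1 := by
    rintro _ ⟨⟨a, b⟩, ⟨ha, -⟩, rfl⟩
    rw [← map_pow]
    refine (QuotientGroup.eq_one_iff _).2 (Subgroup.mem_prod.2 ⟨?_, Cfsg.Agent.PGroupBasics.pow_mem_frattini (h2.to_subgroup Q) b⟩)
    have := hexp _ ha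
    rw [← map_pow] at this
    exact (QuotientGroup.eq_one_iff _).1 this
  have hBc : IsMulCommutative B := by
    have := top_comm_of_sq (G := B) fun x => Subtype.ext (hexp' x x.2)
    exact ⟨⟨fun x y => congrArg Subtype.val (this.is_comm.comm ⟨x, trivial⟩ ⟨y, trivial⟩)⟩⟩
  have hle := card_le hr m _ hker B hBc hexp'
  -- compare orders
  let ψ : (H × Q) ⧸ N.prod (frattini Q) →* (H ⧸ N) × (Q ⧸ frattini Q) :=
    QuotientGroup.lift _ ((QuotientGroup.mk' N).prodMap (QuotientGroup.mk' (frattini Q))) fun t ht => by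
      obtain ⟨h1, h2⟩ := Subgroup.mem_prod.1 ht
      exact MonoidHom.mem_ker.2 (Prod.ext ((QuotientGroup.eq_one_iff _).2 h1) ((QuotientGroup.eq_one_iff _).2 h2))
  let f : B → A × (Q ⧸ frattini Q) := fun q => (⟨(ψ q).1, by
    obtain ⟨⟨a, b⟩, ⟨ha, -⟩, hq⟩ := q.2
    rw [← hq]; exact ha⟩, (ψ q).2)
  have hsurj : Function.Surjective f := by
    rintro ⟨⟨a, ha⟩, b⟩
    obtain ⟨a', rfl⟩ := QuotientGroup.mk_surjective a
    obtain ⟨b', rfl⟩ := QuotientGroup.mk_surjective b
    exact ⟨⟨QuotientGroup.mk (a', b'), ⟨(a', b'), ⟨ha, trivial⟩, rfl⟩⟩, rfl⟩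
  have h5 := Nat.card_le_card_of_surjective f hsurj
  rw [Nat.card_prod, ← Subgroup.index_eq_card] at h5
  have h4Q := frattini_index Q (h2.to_subgroup Q) h.nQ
  nlinarith

end Cfsg.Agent.SectionalFour
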