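import Mathlib

/-!
Generators of a finite `p`-group shifted by an isomorphism of a subgroup of index `p` (after Sims and Glauberman).
-/

set_option autoImplicit false
set_option linter.style.haveILetI false
open scoped Pointwise

namespace Cfsg.Agent.ShiftChain

variable {G : Type*} [Group G]

/-- Conjugation by `g ^ k` on the right. -/
def cj (g : G) (k : ℤ) : G →* G := (MulAut.conj (g ^ k)⁻¹).toMonoidHom

theorem cj_apply (g : G) (k : ℤ) (a : G) : cj g k a = (g ^ k)⁻¹ * a * g ^ k := by
  show MulAut.conj (g ^ k)⁻¹ a = _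
  rw [MulAut.conj_apply, inv_inv]

theorem cj_add (g : G) (i j : ℤ) (a : G) : cj g i (cj g j a) = cj g (i + j) a := by
  simp only [cj_apply]
  rw [add_comm i j, zpow_add]
  group

theorem cj_zero (g : G) (a : G) : cj g 0 a = a := by simp [cj_apply]

theorem cj_injective (g : G) (k : ℤ) : Function.Injective (cj g k) := (MulAut.conj (g ^ k)⁻¹).injective

theorem cj_surjective (g : G) (k : ℤ) : Function.Surjective (cj g k) := (MulAut.conj (g ^ k)⁻¹).surjective

theorem map_cj_cj (g : G) (i j : ℤ) (H : Subgroup G) : (H.map (cj g j)).map (cj g i) = H.map (cj g (i + j)) := by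
  rw [Subgroup.map_map]
  congr 1
  exact MonoidHom.ext (cj_add g i j)

theorem map_cj_zero (g : G) (H : Subgroup G) : H.map (cj g 0) = H := by
  conv_rhs => rw [← Subgroup.map_id H]
  congr 1
  exact MonoidHom.ext (cj_zero g)

theorem card_map_cj (g : G) (k : ℤ) (H : Subgroup G) : Nat.card (H.map (cj g k)) = Nat.card H :=
  Subgroup.card_map_of_injective (cj_injective g k)

/-- The `i`-th generator. -/
def X (g x₀ : G) (i : ℤ) : G := cj g i x₀

/-- The subgroup generated by `k` consecutive generators. -/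
def W (g x₀ : G) (a : ℤ) (k : ℕ) : Subgroup G := Subgroup.closure (X g x₀ '' Set.Ico a (a + k))

theorem cj_X (g x₀ : G) (b i : ℤ) : cj g b (X g x₀ i) = X g x₀ (b + i) := cj_add g b i x₀

theorem mem_W {g x₀ : G} {a i : ℤ} {k : ℕ} (h1 : a ≤ i) (h2 : i < a + k) : X g x₀ i ∈ W g x₀ a k :=
  Subgroup.subset_closure ⟨i, ⟨h1, h2⟩, rfl⟩

theorem W_le {g x₀ : G} {a b : ℤ} {k m : ℕ} (h1 : b ≤ a) (h2 : a + k ≤ b + m) : W g x₀ a k ≤ W g x₀ b m :=
  Subgroup.closure_mono (Set.image_mono fun i hi => ⟨h1.trans hi.1, lt_of_lt_of_le hi.2 h2⟩)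

theorem W_zero (g x₀ : G) (a : ℤ) : W g x₀ a 0 = ⊥ := by
  rw [W, Nat.cast_zero, add_zero, Set.Ico_self, Set.image_empty, Subgroup.closure_empty]

theorem W_one (g x₀ : G) (a : ℤ) : W g x₀ a 1 = Subgroup.zpowers (X g x₀ a) := by
  have h : Set.Ico a (a + ((1 : ℕ) : ℤ)) = {a} := by ext i; simp; omega
  rw [W, h, Set.image_singleton, Subgroup.zpowers_eq_closure]

theorem map_W (g x₀ : G) (b a : ℤ) (k : ℕ) : (W g x₀ a k).map (cj g b) = W g x₀ (b + a) k := by
  rw [W, W, MonoidHom.map_closure]
  congr 1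
  ext w
  constructor
  · rintro ⟨_, ⟨i, hi, rfl⟩, rfl⟩
    exact ⟨b + i, ⟨by linarith [hi.1], by linarith [hi.2]⟩, (cj_X g x₀ b i).symm⟩
  · rintro ⟨i, hi, rfl⟩
    refine ⟨_, ⟨i - b, ⟨by linarith [hi.1], by linarith [hi.2]⟩, rfl⟩, ?_⟩
    rw [cj_X, add_sub_cancel]

theorem W_split (g x₀ : G) (a : ℤ) (k : ℕ) :
    W g x₀ a (k + 1) = Subgroup.zpowers (X g x₀ a) ⊔ W g x₀ (a + 1) k := by
  refine le_antisymm ((Subgroup.closure_le _).2 ?_)
    (sup_le (Subgroup.zpowers_le.2 (mem_W le_rfl (by push_cast; omega))) (W_le (by omega) (by push_cast; omega)))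
  rintro _ ⟨i, hi, rfl⟩
  rcases eq_or_lt_of_le hi.1 with rfl | h
  · exact Subgroup.mem_sup_left (Subgroup.mem_zpowers _)
  · refine Subgroup.mem_sup_right (mem_W (by omega) ?_)
    have := hi.2
    push_cast at this
    omega

theorem W_split' (g x₀ : G) (a : ℤ) (k : ℕ) :
    W g x₀ a (k + 1) = W g x₀ a k ⊔ Subgroup.zpowers (X g x₀ (a + k)) := by
  refine le_antisymm ((Subgroup.closure_le _).2 ?_)
    (sup_le (W_le le_rfl (by push_cast; omega)) (Subgroup.zpowers_le.2 (mem_W (by omega) (by push_cast; omega))))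
  rintro _ ⟨i, hi, rfl⟩
  have := hi.2
  push_cast at this
  by_cases h : i = a + k
  · subst h; exact Subgroup.mem_sup_right (Subgroup.mem_zpowers _)
  · exact Subgroup.mem_sup_left (mem_W hi.1 (by omega))

theorem le_normalizer_of_card [Finite G] {p : ℕ} [hp : Fact p.Prime] {H K : Subgroup G} (hK : IsPGroup p K)
    (hle : H ≤ K) (hc : Nat.card K = p * Nat.card H) : K ≤ Subgroup.normalizer (H : Set G) := by
  haveI := hK.isNilpotent
  have hlt : H.subgroupOf K < ⊤ := by
    refine lt_top_iff_ne_top.2 fun h => ?_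
    have := Subgroup.card_le_of_le (Subgroup.subgroupOf_eq_top.1 h)
    have := Nat.mul_le_mul_right (Nat.card H) hp.out.two_le
    have := Nat.card_pos (α := H)
    omega
  have hn := normalizerCondition_of_isNilpotent (G := K) _ hlt
  have hcard := (H.subgroupOf K).card_mul_index
  rw [Nat.card_congr (Subgroup.subgroupOfEquivOfLe hle).toEquiv, hc, mul_comm p] at hcard
  have hidx : (H.subgroupOf K).index = p := Nat.eq_of_mul_eq_mul_left Nat.card_pos hcard
  have htop : Subgroup.normalizer (H.subgroupOf K : Set K) = ⊤ := by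
    rcases (Nat.dvd_prime hp.out).1 (hidx ▸ Subgroup.index_dvd_of_le hn.le) with h | h
    · exact Subgroup.index_eq_one.1 h
    · exfalso
      have h2 := Subgroup.relIndex_mul_index hn.le
      rw [h, hidx] at h2
      have : (H.subgroupOf K).relIndex (Subgroup.normalizer (H.subgroupOf K : Set K)) = 1 :=
        Nat.eq_of_mul_eq_mul_right hp.out.pos (h2.trans (one_mul p).symm)
      exact hn.not_ge (Subgroup.relIndex_eq_one.1 this)
  intro k hk
  refine Subgroup.mem_normalizer_fintype fun h hh => ?_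
  have := (Subgroup.mem_normalizer_iff.1 (htop.ge (Subgroup.mem_top (⟨k, hk⟩ : K))) ⟨h, hle hh⟩).1
    (Subgroup.mem_subgroupOf.2 hh)
  exact Subgroup.mem_subgroupOf.1 this

theorem commutator_mem_inf [Finite G] {p : ℕ} [Fact p.Prime] {H₁ H₂ K : Subgroup G} (hK : IsPGroup p K)
    (h1 : H₁ ≤ K) (h2 : H₂ ≤ K) (hc1 : Nat.card K = p * Nat.card H₁) (hc2 : Nat.card K = p * Nat.card H₂)
    {x y : G} (hx : x ∈ H₁) (hy : y ∈ H₂) : x * y * x⁻¹ * y⁻¹ ∈ H₁ ⊓ H₂ := by
  refine Subgroup.mem_inf.2 ⟨?_, ?_⟩
  · rw [show x * y * x⁻¹ * y⁻¹ = x * (y * x⁻¹ * y⁻¹) by group]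
    exact mul_mem hx ((Subgroup.mem_normalizer_iff.1 (le_normalizer_of_card hK h1 hc1 (h2 hy)) _).1 (inv_mem hx))
  · exact mul_mem ((Subgroup.mem_normalizer_iff.1 (le_normalizer_of_card hK h2 hc2 (h1 hx)) _).1 hy) (inv_mem hy)

/-- The decreasing chain of intersections. -/
def D (g : G) (P : Subgroup G) : ℕ → Subgroup G
  | 0 => P
  | k + 1 => P ⊓ (D g P k).map (cj g 1)

/-- The residual of a subgroup for the prime `p`, inside the ambient group. -/
def res (p : ℕ) (H : Subgroup G) : Subgroup G := Subgroup.closure {a | a ∈ H ∧ (orderOf a).Coprime p}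

theorem res_mono {p : ℕ} {H H' : Subgroup G} (h : H ≤ H') : res p H ≤ res p H' :=
  Subgroup.closure_mono fun _ ha => ⟨h ha.1, ha.2⟩

theorem res_map {p : ℕ} (g : G) (k : ℤ) (H : Subgroup G) : (res p H).map (cj g k) = res p (H.map (cj g k)) := by
  rw [res, res, MonoidHom.map_closure]
  congr 1
  ext a
  constructor
  · rintro ⟨b, hb, rfl⟩
    exact ⟨⟨b, hb.1, rfl⟩, by rw [orderOf_injective _ (cj_injective g k)]; exact hb.2⟩
  · rintro ⟨⟨b, hb, rfl⟩, ha⟩
    exact ⟨b, ⟨hb, by rwa [orderOf_injective _ (cj_injective g k)] at ha⟩, rfl⟩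

variable [Finite G]

/-- The shifted generators of `P`. -/
theorem exists_gen (P : Subgroup G) (g : G) {p : ℕ} [hp : Fact p.Prime]
    (hN : ((P ⊓ MulAut.conj g⁻¹ • P).subgroupOf (MulAut.conj g⁻¹ • P)).Normal)
    (hidx : (P ⊓ MulAut.conj g⁻¹ • P).relIndex (MulAut.conj g⁻¹ • P) = p)
    (h1 : ∀ Q : Subgroup G, Q ≤ P → (Q.subgroupOf P).Normal → MulAut.conj g • Q = Q → Q = ⊥) :
    ∃ (x₀ : G) (t : ℕ), 1 ≤ t ∧ W g x₀ 0 t = P ∧ ∀ (a : ℤ) (k : ℕ), k ≤ t → Nat.card (W g x₀ a k) = p ^ k := by
  have hs : ∀ H : Subgroup G, MulAut.conj g⁻¹ • H = H.map (cj g 1) := fun H => by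
    rw [cj, zpow_one]; rfl
  rw [hs] at hN hidx
  set N := P ⊓ P.map (cj g 1) with hNdef
  have hanti : ∀ k, D g P (k + 1) ≤ D g P k := by
    intro k
    induction k with
    | zero => exact inf_le_left
    | succ k ih => exact inf_le_inf_left P (Subgroup.map_mono ih)
  have hleP : ∀ k, D g P k ≤ P := fun k => by
    cases k with
    | zero => exact le_rfl
    | succ k => exact inf_le_left
  have hsh : ∀ k, D g P (k + 1) ≤ (D g P k).map (cj g 1) := fun k => inf_le_right
  have hNn : P.map (cj g 1) ≤ Subgroup.normalizer (N : Set G) := by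
    intro a ha
    refine Subgroup.mem_normalizer_fintype fun n hn => ?_
    exact Subgroup.mem_subgroupOf.1 (hN.conj_mem ⟨n, hn.2⟩ (Subgroup.mem_subgroupOf.2 hn) ⟨a, ha⟩)
  have hcop : ∀ a ∈ P.map (cj g 1), (orderOf a).Coprime p → a ∈ N := by
    intro a ha hac
    haveI := hN
    have h1 : orderOf (QuotientGroup.mk' (N.subgroupOf (P.map (cj g 1))) ⟨a, ha⟩) ∣ orderOf a :=
      (orderOf_map_dvd _ _).trans (dvd_of_eq (Subgroup.orderOf_mk a ha))
    have h2 : orderOf (QuotientGroup.mk' (N.subgroupOf (P.map (cj g 1))) ⟨a, ha⟩) ∣ p :=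
      (orderOf_dvd_natCard _).trans (dvd_of_eq hidx)
    have h3 := Nat.eq_one_of_dvd_coprimes hac h1 h2
    rw [orderOf_eq_one_iff, QuotientGroup.mk'_apply, QuotientGroup.eq_one_iff] at h3
    exact Subgroup.mem_subgroupOf.1 h3
  have hres : ∀ k, (res p (D g P k)).map (cj g 1) = res p (D g P (k + 1)) := by
    intro k
    refine le_antisymm ?_ ((res_mono (hsh k)).trans (res_map g 1 _).ge)
    rw [res_map, res, Subgroup.closure_le]
    rintro a ⟨ha, hac⟩
    exact Subgroup.subset_closure ⟨⟨(hcop a (Subgroup.map_mono (hleP k) ha) hac).1, ha⟩, hac⟩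
  have hR : res p P = ⊥ := by
    have e : (res p P).map (cj g 1) = res p P := by
      refine Subgroup.eq_of_le_of_card_ge ?_ (card_map_cj g 1 _).ge
      exact ((hres 0).le).trans (res_mono (hleP 1))
    refine h1 _ ((Subgroup.closure_le _).2 fun a ha => ha.1) ⟨fun a ha b => ?_⟩ ?_
    · rw [Subgroup.mem_subgroupOf] at ha ⊢
      have hle : res p P ≤ (res p P).comap (MulAut.conj (b : G)).toMonoidHom := by
        refine (Subgroup.closure_le _).2 fun c hc => Subgroup.subset_closure ⟨?_, ?_⟩
        · exact mul_mem (mul_mem b.2 hc.1) (inv_mem b.2)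
        · rw [orderOf_injective _ (MulAut.conj (b : G)).injective]; exact hc.2
      exact hle ha
    · conv_lhs => rw [← e, ← hs, ← mul_smul, ← map_mul, mul_inv_cancel, map_one, one_smul]
  have hP : IsPGroup p P := by
    refine IsPGroup.iff_orderOf.2 fun a => ?_
    obtain ⟨k, m, hm, hkm⟩ := Nat.exists_eq_pow_mul_and_not_dvd (orderOf_pos a).ne' p hp.out.ne_one
    refine ⟨k, ?_⟩
    have h0 : orderOf (a ^ p ^ k) = m := by
      rw [orderOf_pow' _ (pow_ne_zero _ hp.out.ne_zero), hkm, Nat.gcd_eq_right (dvd_mul_right _ _),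
        Nat.mul_div_cancel_left _ (pow_pos hp.out.pos k)]
    have hb : ((a ^ p ^ k : P) : G) ∈ res p P := Subgroup.subset_closure ⟨SetLike.coe_mem _, by
      rw [Subgroup.orderOf_coe, h0]; exact (hp.out.coprime_iff_not_dvd.2 hm).symm⟩
    rw [hR, Subgroup.mem_bot, OneMemClass.coe_eq_one] at hb
    rw [hb, orderOf_one] at h0
    rw [hkm, ← h0, mul_one]
  have hshP : ∀ k, IsPGroup p ((D g P k).map (cj g 1)) := fun k => (hP.to_le (hleP k)).map _
  have hstep : ∀ k, Nat.card (D g P k) = Nat.card (D g P (k + 1)) ∨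
      Nat.card (D g P k) = p * Nat.card (D g P (k + 1)) := by
    intro k
    have hd : (D g P (k + 1)).relIndex ((D g P k).map (cj g 1)) ∣ p := by
      have e : D g P (k + 1) = N ⊓ (D g P k).map (cj g 1) := by
        rw [hNdef, inf_assoc, inf_eq_right.2 (Subgroup.map_mono (hleP k))]; rfl
      rw [e, Subgroup.inf_relIndex_right, ← hidx]
      haveI := hN
      rw [← Subgroup.relIndex_subgroupOf (Subgroup.map_mono (hleP k))]
      exact Subgroup.relIndex_dvd_index_of_normal _ _
    have hmul := Subgroup.card_mul_index ((D g P (k + 1)).subgroupOf ((D g P k).map (cj g 1)))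
    rw [Nat.card_congr (Subgroup.subgroupOfEquivOfLe (hsh k)).toEquiv, card_map_cj] at hmul
    rcases (Nat.dvd_prime hp.out).1 hd with h | h <;> rw [Subgroup.relIndex] at h <;> rw [h] at hmul
    · exact Or.inl (by rw [← hmul, mul_one])
    · exact Or.inr (by rw [← hmul, mul_comm])
  have hex : ∃ k, D g P (k + 1) = D g P k := by
    by_contra h
    push Not at h
    have hlt : ∀ k, Nat.card (D g P (k + 1)) + k < Nat.card P + 1 := by
      intro k
      have hs' : ∀ j, Nat.card (D g P (j + 1)) < Nat.card (D g P j) := fun j =>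
        lt_of_le_of_ne (Subgroup.card_le_of_le (hanti j))
          fun e => h j (Subgroup.eq_of_le_of_card_ge (hanti j) e.ge)
      induction k with
      | zero => have := hs' 0; simp only [D] at this ⊢; omega
      | succ k ih => have := hs' (k + 1); omega
    have := hlt (Nat.card P)
    have := Nat.card_pos (α := D g P (Nat.card P + 1))
    omega
  classical
  set t := Nat.find hex with ht
  have htD : D g P (t + 1) = D g P t := Nat.find_spec hex
  have hMinv : (D g P t).map (cj g 1) = D g P t :=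
    (Subgroup.eq_of_le_of_card_ge (htD ▸ hsh t) (card_map_cj g 1 _).le).symm
  have hstrict : ∀ k < t, Nat.card (D g P k) = p * Nat.card (D g P (k + 1)) := fun k hk =>
    (hstep k).resolve_left fun e => Nat.find_min hex hk (Subgroup.eq_of_le_of_card_ge (hanti k) e.le)
  have hinvz : ∀ (H : Subgroup G), H.map (cj g 1) = H → ∀ z : ℤ, H.map (cj g z) = H := by
    intro H h z
    induction z using Int.induction_on with
    | zero => exact map_cj_zero g H
    | succ i ih => rw [← map_cj_cj, h, ih]
    | pred i ih =>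
      conv_lhs => rw [← h, map_cj_cj]
      rw [show -(i : ℤ) - 1 + 1 = -(i : ℤ) by ring, ih]
  have ht1 : 1 ≤ t := by
    by_contra h
    have e : P.map (cj g 1) = P := by
      have := hMinv
      rwa [show t = 0 by omega] at this
    rw [hNdef, e, inf_idem, Subgroup.relIndex_self] at hidx
    exact hp.out.ne_one hidx.symm
  -- every earlier term is generated by two copies of the next one
  have hgen : ∀ k, k + 1 < t → D g P k = (D g P (k + 1)).map (cj g (-1)) ⊔ D g P (k + 1) := by
    intro k hk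
    have hle : (D g P (k + 1)).map (cj g (-1)) ≤ D g P k := by
      refine (Subgroup.map_mono (hsh k)).trans ?_
      rw [map_cj_cj, neg_add_cancel, map_cj_zero]
    have hne : (D g P (k + 1)).map (cj g (-1)) ≠ D g P (k + 1) := by
      intro e
      refine Nat.find_min hex hk ?_
      have e' : (D g P (k + 1)).map (cj g 1) = D g P (k + 1) := by
        conv_lhs => rw [← e, map_cj_cj, add_neg_cancel, map_cj_zero]
      show P ⊓ (D g P (k + 1)).map (cj g 1) = D g P (k + 1)
      rw [e', inf_eq_right.2 (hleP _)]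
    refine (Subgroup.eq_of_le_of_card_ge (sup_le hle (hanti k)) ?_).symm
    have hlt : D g P (k + 1) < (D g P (k + 1)).map (cj g (-1)) ⊔ D g P (k + 1) := by
      refine lt_of_le_of_ne le_sup_right fun e => hne (Subgroup.eq_of_le_of_card_ge ?_ (card_map_cj g (-1) _).ge)
      exact le_sup_left.trans e.ge
    obtain ⟨a, ha⟩ := IsPGroup.iff_card.1 (hP.to_le ((sup_le hle (hanti k)).trans (hleP k)))
    obtain ⟨b, hb⟩ := IsPGroup.iff_card.1 (hP.to_le (hleP (k + 1)))
    have hcl := Subgroup.card_le_of_le hlt.le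
    have hne2 : a ≠ b := fun e => hlt.ne (Subgroup.eq_of_le_of_card_ge hlt.le (by rw [ha, hb, e]))
    rw [ha, hb, Nat.pow_le_pow_iff_right hp.out.one_lt] at hcl
    rw [hstrict k (by omega), ha, hb, ← pow_succ']
    exact Nat.pow_le_pow_right hp.out.pos (by omega)
  -- the stable term is trivial
  have hM : D g P t = ⊥ := by
    refine h1 _ (hleP t) ?_ ?_
    · refine Subgroup.normal_subgroupOf_of_le_normalizer ?_
      have base : D g P (t - 1) ≤ Subgroup.normalizer (D g P t : Set G) := by
        have := hstrict (t - 1) (by omega)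
        rw [show t - 1 + 1 = t by omega] at this
        exact le_normalizer_of_card (hP.to_le (hleP _))
          (by have := hanti (t - 1); rwa [show t - 1 + 1 = t by omega] at this) this
      have key : ∀ m k, k + 1 + m = t → D g P k ≤ Subgroup.normalizer (D g P t : Set G) := by
        intro m
        induction m with
        | zero => intro k hk; rw [show k = t - 1 by omega]; exact base
        | succ m ih =>
          intro k hk
          rw [hgen k (by omega)]
          refine sup_le ?_ (ih (k + 1) (by omega))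
          rintro _ ⟨a, ha, rfl⟩
          refine Subgroup.mem_normalizer_fintype fun w hw => ?_
          have hinv := hinvz _ hMinv
          rw [SetLike.mem_coe, ← hinv (-1)] at hw
          obtain ⟨v, hv, rfl⟩ := hw
          rw [← map_inv, ← map_mul, ← map_mul, SetLike.mem_coe, ← hinv (-1)]
          exact ⟨_, (Subgroup.mem_normalizer_iff.1 (ih (k + 1) (by omega) ha) v).1 hv, rfl⟩
      exact key (t - 1) 0 (by omega)
    · conv_lhs => rw [← hMinv, ← hs, ← mul_smul, ← map_mul, mul_inv_cancel, map_one, one_smul]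
  have hcardD : ∀ m k, k + m = t → Nat.card (D g P k) = p ^ m := by
    intro m
    induction m with
    | zero => intro k hk; rw [show k = t by omega, hM, Subgroup.card_bot, pow_zero]
    | succ m ih => intro k hk; rw [hstrict k (by omega), ih (k + 1) (by omega), pow_succ']
  have hcx : Nat.card (D g P (t - 1)) = p := by rw [hcardD 1 (t - 1) (by omega), pow_one]
  obtain ⟨x, hx, hx1⟩ := (Subgroup.ne_bot_iff_exists_ne_one (H := D g P (t - 1))).1
    (fun h => hp.out.ne_one (by rw [← hcx, h, Subgroup.card_bot])) |> fun ⟨a, ha⟩ =>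
      (⟨a, a.2, fun e => ha (Subtype.ext e)⟩ : ∃ x, x ∈ D g P (t - 1) ∧ x ≠ 1)
  set x₀ := cj g (-((t : ℤ) - 1)) x with hx₀
  have hXt : X g x₀ ((t : ℤ) - 1) = x := by rw [X, hx₀, cj_add, add_neg_cancel, cj_zero]
  have hDW : ∀ m k, k + (m + 1) = t → D g P k = W g x₀ k (m + 1) := by
    intro m
    induction m with
    | zero =>
      intro k hk
      rw [W_one, show (k : ℤ) = (t : ℤ) - 1 by omega, hXt, show k = t - 1 by omega]
      refine (Subgroup.eq_of_le_of_card_ge (Subgroup.zpowers_le.2 hx) ?_).symm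
      rw [hcx, Nat.card_zpowers]
      rcases (Nat.dvd_prime hp.out).1 (hcx ▸ Subgroup.orderOf_dvd_natCard _ hx : orderOf x ∣ p) with e | e
      · exact absurd (orderOf_eq_one_iff.1 e) hx1
      · exact e.ge
    | succ m ih =>
      intro k hk
      rw [hgen k (by omega), ih (k + 1) (by omega), map_W]
      refine le_antisymm (sup_le (W_le (by push_cast; omega) (by push_cast; omega))
        (W_le (by push_cast; omega) (by push_cast; omega))) ?_
      rw [W_split']
      exact sup_le_sup (W_le (by push_cast; omega) (by push_cast; omega))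
        (Subgroup.zpowers_le.2 (mem_W (by push_cast; omega) (by push_cast; omega)))
  refine ⟨x₀, t, ht1, ?_, fun a k hk => ?_⟩
  · have := hDW (t - 1) 0 (by omega)
    rw [show t - 1 + 1 = t by omega] at this
    exact this.symm
  · rcases k with _ | m
    · rw [W_zero, Subgroup.card_bot, pow_zero]
    · have h := map_W g x₀ (a - ((t - (m + 1) : ℕ) : ℤ)) ((t - (m + 1) : ℕ) : ℤ) (m + 1)
      rw [sub_add_cancel] at h
      rw [← h, card_map_cj, ← hDW m _ (by omega)]
      exact hcardD (m + 1) _ (by omega)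

end Cfsg.Agent.ShiftChain
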