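import Cfsg.Agent.Lib.FGStruct.ShiftSpan

/-!
A group whose quotient by its 2-core is dihedral, with an automorphism of a Sylow 2-subgroup moving the core:
the bound on the number of generators.
-/

set_option autoImplicit false
set_option linter.style.haveILetI false
open scoped Pointwise

open scoped commutatorElement

namespace Cfsg.Agent.ShiftChain

variable {G : Type*} [Group G]

theorem mem_conj_smul {y w : G} {M : Subgroup G} : w ∈ MulAut.conj y • M ↔ y⁻¹ * w * y ∈ M := by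
  rw [Subgroup.mem_pointwise_smul_iff_inv_smul_mem]
  simp [MulAut.smul_def]

theorem smul_eq_of_mem_normalizer {y : G} {M : Subgroup G} (h : y ∈ Subgroup.normalizer (M : Set G)) :
    MulAut.conj y • M = M := by
  ext w
  rw [mem_conj_smul]
  exact (Subgroup.mem_normalizer_iff''.1 h w).symm

variable [Finite G]

/-- The data: `P = W 0 t`, `H = W 0 (t + 1)`, `Q = W 1 (t - 1)`. -/
structure Setup (g x₀ : G) (t : ℕ) (y : G) : Prop where
  gen : Gen 2 g x₀ t
  two_le : 2 ≤ t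
  normQ : W g x₀ 0 (t + 1) ≤ Subgroup.normalizer (W g x₀ 1 (t - 1) : Set G)
  conjP : ∃ x ∈ W g x₀ 0 (t + 1), MulAut.conj x⁻¹ • W g x₀ 0 t = W g x₀ 1 t
  hyN : MulAut.conj y • W g x₀ 0 t = W g x₀ 0 t
  hy2 : y ^ 2 ∈ W g x₀ 0 t ⊔ Subgroup.centralizer (W g x₀ 0 t : Set G)
  hyQ : ∀ M : Subgroup G, M ≤ W g x₀ 0 t → W g x₀ 0 (t + 1) ≤ Subgroup.normalizer (M : Set G) →
    MulAut.conj y • M = M → M = ⊥

variable {g x₀ y : G} {t : ℕ}

theorem Setup.sq_fix (S : Setup g x₀ t y) {M : Subgroup G} (hM : M ≤ W g x₀ 0 t)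
    (hn : W g x₀ 0 t ≤ Subgroup.normalizer (M : Set G)) : MulAut.conj y • MulAut.conj y • M = M := by
  rw [← mul_smul, ← map_mul, ← pow_two]
  refine smul_eq_of_mem_normalizer (sup_le hn ?_ S.hy2)
  exact (Subgroup.centralizer_le (show (M : Set G) ⊆ W g x₀ 0 t from hM)).trans
    (fun c hc => Subgroup.mem_normalizer_iff''.2 fun w => by
      have key : ∀ v ∈ M, c⁻¹ * v * c = v := fun v hv => by
        rw [mul_assoc, Subgroup.mem_centralizer_iff.1 hc v hv, inv_mul_cancel_left]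
      refine ⟨fun hw => by rw [key w hw]; exact hw, fun hw => ?_⟩
      have h1 := Subgroup.mem_centralizer_iff.1 hc _ hw
      have : c⁻¹ * w * c = w := by
        have h2 : w * c = c * (c⁻¹ * w * c) := by group
        rw [← h1] at h2
        have h3 : w = c⁻¹ * w * c := mul_right_cancel h2
        exact h3.symm
      rwa [this] at hw)

theorem Setup.inf_conj (S : Setup g x₀ t y) {M : Subgroup G} (hM : M ≤ W g x₀ 0 t)
    (hn : W g x₀ 0 t ≤ Subgroup.normalizer (M : Set G))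
    (hH : W g x₀ 0 (t + 1) ≤ Subgroup.normalizer ((M ⊓ MulAut.conj y • M : Subgroup G) : Set G)) :
    M ⊓ MulAut.conj y • M = ⊥ := by
  refine S.hyQ _ (inf_le_left.trans hM) hH ?_
  rw [Subgroup.smul_inf, S.sq_fix hM hn, inf_comm]

theorem Span.ne_comm {s : ℕ} (hs : Span g x₀ t s) (hst : s < t) (a : ℤ) :
    X g x₀ a * X g x₀ (a + s) ≠ X g x₀ (a + s) * X g x₀ a := fun e => by
  have h1 := congrArg (cj g (-a)) e
  rw [map_mul, map_mul, cj_X, cj_X, neg_add_cancel, neg_add_cancel_left] at h1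
  exact hs.fail hst h1

/-- Elements of `P` centralising `P` are in the middle. -/
theorem Span.center_le {p : ℕ} [Fact p.Prime] (h : Gen p g x₀ t) {s : ℕ} (hs : Span g x₀ t s) (h2 : 2 * t ≤ 3 * s)
    {w : G} (hw : w ∈ W g x₀ 0 t) (hc : ∀ i : ℤ, 0 ≤ i → i < t → X g x₀ i * w = w * X g x₀ i) :
    w ∈ W g x₀ ((t - s : ℕ) : ℤ) (2 * s - t) := by
  have hlow : ∀ r : ℕ, r ≤ t - s → w ∈ W g x₀ r (t - r) := by
    intro r
    induction r with
    | zero => intro _; simpa using hw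
    | succ r ih =>
      intro hr
      have hwr := ih (by omega)
      rw [show t - r = (t - (r + 1)) + 1 by omega] at hwr
      obtain ⟨e, v, hv, hwv⟩ := h.exists_split (by omega) hwr
      by_cases he : X g x₀ r ^ e = 1
      · rw [he, one_mul] at hwv
        rw [hwv]; exact_mod_cast hv
      exfalso
      set z := X g x₀ ((r : ℤ) + s) with hz
      have hzv : z * v = v * z := hs.commute_W (by omega) (by omega) hv
      have hzw : z * w = w * z := hc _ (by omega) (by omega)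
      have hze : X g x₀ r ^ e * z = z * X g x₀ r ^ e := by
        have h3 : X g x₀ r ^ e = w * v⁻¹ := by rw [hwv, mul_inv_cancel_right]
        rw [h3]
        exact ((show Commute z w from hzw).mul_right (show Commute z v from hzv).inv_right).symm.eq
      exact hs.ne_comm (by omega) r (h.commute_of_zpow hze he)
  have hhigh : ∀ j : ℕ, j ≤ t - s → w ∈ W g x₀ ((t - s : ℕ) : ℤ) (s - j) := by
    intro j
    induction j with
    | zero =>
      intro _
      have := hlow (t - s) le_rfl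
      rwa [show t - (t - s) = s - 0 by have := hs.le; omega] at this
    | succ j ih =>
      intro hj
      have hwj := ih (by omega)
      rw [show s - j = (s - (j + 1)) + 1 by have := hs.le; omega] at hwj
      obtain ⟨v, hv, e, hwv⟩ := h.exists_split' (by have := hs.le; omega) hwj
      set q := ((t - s : ℕ) : ℤ) + (s - (j + 1) : ℕ) with hq
      by_cases he : X g x₀ q ^ e = 1
      · rw [he, mul_one] at hwv
        rw [hwv]; exact hv
      exfalso
      set z := X g x₀ (q - s) with hz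
      have hzv : z * v = v * z := hs.commute_W (by omega) (by omega) hv
      have hzw : z * w = w * z := hc _ (by omega) (by omega)
      have hze : X g x₀ q ^ e * z = z * X g x₀ q ^ e := by
        have h3 : X g x₀ q ^ e = v⁻¹ * w := by rw [hwv, inv_mul_cancel_left]
        rw [h3]
        exact ((show Commute z v from hzv).inv_right.mul_right (show Commute z w from hzw)).symm.eq
      have h4 := hs.ne_comm (by omega) (q - s)
      rw [sub_add_cancel] at h4
      exact h4 (h.commute_of_zpow hze he).symm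
  have := hhigh (t - s) le_rfl
  rwa [show s - (t - s) = 2 * s - t by have := hs.le; omega] at this

theorem W_le_centralizer {s : ℕ} (hs : Span g x₀ t s) {a b : ℤ} {k m : ℕ}
    (h : ∀ i : ℤ, a ≤ i → i < a + k → i - b < s ∧ b + m - i ≤ s) :
    W g x₀ a k ≤ Subgroup.centralizer (W g x₀ b m : Set G) := by
  refine (Subgroup.closure_le _).2 ?_
  rintro _ ⟨i, hi, rfl⟩
  exact Subgroup.mem_centralizer_iff.2 fun w hw => (hs.commute_W (h i hi.1 hi.2).1 (h i hi.1 hi.2).2 hw).symm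

/-- The main inequality. -/
theorem Setup.bound (S : Setup g x₀ t y) {s : ℕ} (hs : Span g x₀ t s) : 2 * s ≤ t + 2 := by
  have h2t := hs.two_mul_le S.gen
  have ht := S.two_le
  have hsl := hs.le
  set P := W g x₀ 0 t with hP
  set A := W g x₀ ((t - s : ℕ) + 1 : ℤ) (2 * s - t - 1) with hA
  set B := W g x₀ ((t - s : ℕ) : ℤ) (2 * s - t) with hB
  have hAP : A ≤ P := W_le (by omega) (by omega)
  have hAH : A ≤ Subgroup.centralizer (W g x₀ 0 (t + 1) : Set G) :=
    W_le_centralizer hs fun i h1 h2 => ⟨by omega, by omega⟩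
  have hfix : ∀ (H M : Subgroup G), M ≤ Subgroup.centralizer (H : Set G) → H ≤ Subgroup.normalizer (M : Set G) := by
    intro H M hM c hc
    refine Subgroup.mem_normalizer_fintype fun w hw => ?_
    show c * w * c⁻¹ ∈ M
    rw [Subgroup.mem_centralizer_iff.1 (hM hw) c hc, mul_inv_cancel_right]; exact hw
  have hAn : P ≤ Subgroup.normalizer (A : Set G) := (W_le le_rfl (by omega)).trans (hfix _ _ hAH)
  have hbot := S.inf_conj hAP hAn (hfix _ _ (inf_le_left.trans hAH))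
  have hAy : MulAut.conj y • A ≤ P := by
    rw [hP, ← S.hyN]; exact Subgroup.pointwise_smul_le_pointwise_smul_iff.2 hAP
  have hZ : ∀ w ∈ MulAut.conj y • A, ∀ i : ℤ, 0 ≤ i → i < t → X g x₀ i * w = w * X g x₀ i := by
    intro w hw i hi0 hit
    rw [mem_conj_smul] at hw
    have hi : X g x₀ i ∈ MulAut.conj y • P := by rw [S.hyN]; exact mem_W hi0 (by omega)
    rw [mem_conj_smul] at hi
    have hi' : y⁻¹ * X g x₀ i * y ∈ W g x₀ 0 (t + 1) := W_le le_rfl (by omega) hi
    have e := Subgroup.mem_centralizer_iff.1 (hAH hw) _ hi'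
    calc X g x₀ i * w = y * ((y⁻¹ * X g x₀ i * y) * (y⁻¹ * w * y)) * y⁻¹ := by group
      _ = y * ((y⁻¹ * w * y) * (y⁻¹ * X g x₀ i * y)) * y⁻¹ := by rw [e]
      _ = w * X g x₀ i := by group
  have hAB : A ≤ B := W_le (by omega) (by omega)
  have hAyB : MulAut.conj y • A ≤ B := fun w hw => hs.center_le S.gen h2t (hAy hw) (hZ w hw)
  have hinj : Function.Injective fun q : A × ↥(MulAut.conj y • A) => (⟨(q.1 : G) * q.2, mul_mem (hAB q.1.2)
      (hAyB q.2.2)⟩ : B) := fun q r e => Subgroup.mul_injective_of_disjoint (disjoint_iff.2 hbot)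
        (congrArg Subtype.val e)
  have hc := Nat.card_le_card_of_injective _ hinj
  rw [Nat.card_prod, ← Nat.card_congr (Subgroup.equivSMul (MulAut.conj y) A).toEquiv, hA, hB, S.gen.card _ _ (by omega), S.gen.card _ _ (by omega), ← pow_add,
    Nat.pow_le_pow_iff_right (by norm_num : 1 < 2)] at hc
  omega

theorem Gen.zpow_X_cases (h : Gen 2 g x₀ t) (a e : ℤ) : X g x₀ a ^ e = 1 ∨ X g x₀ a ^ e = X g x₀ a := by
  rcases Int.even_or_odd e with ⟨k, rfl⟩ | ⟨k, rfl⟩
  · left; rw [← two_mul, zpow_mul, zpow_two, ← pow_two, h.pow_X, one_zpow]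
  · right; rw [zpow_add, zpow_mul, zpow_two, ← pow_two, h.pow_X, one_zpow, one_mul, zpow_one]

theorem Gen.mul_self_X (h : Gen 2 g x₀ t) (a : ℤ) : X g x₀ a * X g x₀ a = 1 := by
  rw [← pow_two]; exact h.pow_X a

theorem Gen.inv_X (h : Gen 2 g x₀ t) (a : ℤ) : (X g x₀ a)⁻¹ = X g x₀ a :=
  inv_eq_of_mul_eq_one_right (h.mul_self_X a)

/-- Six generators are impossible. -/
theorem Setup.not_six (S : Setup g x₀ 6 y) (hs : Span g x₀ 6 4) : False := by
  set P := W g x₀ 0 6 with hP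
  set H := W g x₀ 0 7 with hH
  set Q := W g x₀ 1 5 with hQ
  have hQn : H ≤ Subgroup.normalizer (Q : Set G) := S.normQ
  have hQP : Q ≤ P := W_le (by norm_num) (by norm_num)
  have hPH : P ≤ H := W_le le_rfl (by norm_num)
  set Z := Q ⊓ Subgroup.centralizer (Q : Set G) with hZ
  have hZn : H ≤ Subgroup.normalizer (Z : Set G) := by
    intro h hh
    refine Subgroup.mem_normalizer_fintype fun w hw => Subgroup.mem_inf.2 ⟨?_, ?_⟩
    · exact (Subgroup.mem_normalizer_iff.1 (hQn hh) w).1 hw.1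
    · refine Subgroup.mem_centralizer_iff.2 fun q hq => ?_
      have hq' := (Subgroup.mem_normalizer_iff''.1 (hQn hh) q).1 hq
      have e := Subgroup.mem_centralizer_iff.1 hw.2 _ hq'
      calc q * (h * w * h⁻¹) = h * ((h⁻¹ * q * h) * w) * h⁻¹ := by group
        _ = h * (w * (h⁻¹ * q * h)) * h⁻¹ := by rw [e]
        _ = h * w * h⁻¹ * q := by group
  have hmid : W g x₀ 2 3 ≤ Z :=
    le_inf (W_le (by norm_num) (by norm_num)) (W_le_centralizer hs fun i h1 h2 => ⟨by omega, by omega⟩)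
  have h15 : X g x₀ 1 * X g x₀ 5 ≠ X g x₀ 5 * X g x₀ 1 := by
    simpa using hs.ne_comm (by norm_num) 1
  have h5Q : X g x₀ 5 ∈ Q := mem_W (by norm_num) (by norm_num)
  have h1Q : X g x₀ 1 ∈ Q := mem_W (by norm_num) (by norm_num)
  have hcZ : ∀ z ∈ Z, ∀ q ∈ Q, z * q = q * z := fun z hz q hq => (Subgroup.mem_centralizer_iff.1 hz.2 q hq).symm
  set Q' := MulAut.conj y • Q with hQ'
  set D := Q ⊓ Q' with hD
  have hQ'P : Q' ≤ P := by
    rw [hP, ← S.hyN]; exact Subgroup.pointwise_smul_le_pointwise_smul_iff.2 hQP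
  have hPn : P ≤ Subgroup.normalizer (Q : Set G) := hPH.trans hQn
  have hDy : MulAut.conj y • D = D := by rw [hD, Subgroup.smul_inf, hQ', S.sq_fix hQP hPn, inf_comm]
  have hidx : (Q'.subgroupOf P).index = 2 := by
    have h := (Q'.subgroupOf P).card_mul_index
    rw [Nat.card_congr (Subgroup.subgroupOfEquivOfLe hQ'P).toEquiv, hQ', ← Nat.card_congr (Subgroup.equivSMul (MulAut.conj y) Q).toEquiv, hQ, hP,
      S.gen.card _ _ (by norm_num), S.gen.card _ _ le_rfl] at h
    rw [hQ', hQ, hP]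
    norm_num at h ⊢
    omega
  have hZD : Z ≤ D := by
    by_contra hne
    obtain ⟨z, hz, hzD⟩ := SetLike.not_le_iff_exists.1 hne
    have hzQ' : z ∉ Q' := fun h => hzD (Subgroup.mem_inf.2 ⟨hz.1, h⟩)
    have hdec : ∀ q ∈ Q, ∃ ζ ∈ Z, ∃ d ∈ D, q = ζ * d := by
      intro q hq
      by_cases hqD : q ∈ Q'
      · exact ⟨1, one_mem _, q, Subgroup.mem_inf.2 ⟨hq, hqD⟩, (one_mul q).symm⟩
      refine ⟨z, hz, z⁻¹ * q, Subgroup.mem_inf.2 ⟨mul_mem (inv_mem hz.1) hq, ?_⟩, (mul_inv_cancel_left z q).symm⟩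
      have h := (Subgroup.mul_mem_iff_of_index_two hidx (a := (⟨z, hQP hz.1⟩⁻¹ : ↥P)) (b := ⟨q, hQP hq⟩)).2
        ⟨fun h => absurd (inv_mem_iff.1 h) (fun h' => hzQ' (Subgroup.mem_subgroupOf.1 h')),
         fun h => absurd (Subgroup.mem_subgroupOf.1 h) hqD⟩
      exact Subgroup.mem_subgroupOf.1 h
    have hQD : ⁅Q, Q⁆ = ⁅D, D⁆ := by
      refine le_antisymm (Subgroup.commutator_le.2 fun q hq r hr => ?_) (Subgroup.commutator_mono inf_le_left inf_le_left)
      obtain ⟨ζ, hζ, d, hd, rfl⟩ := hdec q hq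
      obtain ⟨ξ, hξ, e, he, rfl⟩ := hdec r hr
      have c1 : ∀ w ∈ Q, Commute ζ w := fun w hw => hcZ ζ hζ w hw
      have c2 : ∀ w ∈ Q, Commute ξ w := fun w hw => hcZ ξ hξ w hw
      have : ⁅ζ * d, ξ * e⁆ = ⁅d, e⁆ := by
        rw [commutatorElement_def, commutatorElement_def]
        calc ζ * d * (ξ * e) * (ζ * d)⁻¹ * (ξ * e)⁻¹
            = ζ * (d * ξ) * e * d⁻¹ * ζ⁻¹ * e⁻¹ * ξ⁻¹ := by group
          _ = (ζ * ξ) * (d * e * d⁻¹) * ζ⁻¹ * e⁻¹ * ξ⁻¹ := by rw [← (c2 d hd.1).eq]; group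
          _ = (ξ * ζ) * (d * e * d⁻¹) * ζ⁻¹ * e⁻¹ * ξ⁻¹ := by rw [(c1 ξ hξ.1).eq]
          _ = ξ * (ζ * (d * e * d⁻¹)) * ζ⁻¹ * e⁻¹ * ξ⁻¹ := by group
          _ = ξ * (d * e * d⁻¹ * e⁻¹) * ξ⁻¹ := by rw [(c1 _ (mul_mem (mul_mem hd.1 he.1) (inv_mem hd.1))).eq]; group
          _ = d * e * d⁻¹ * e⁻¹ := by
            rw [(c2 _ (mul_mem (mul_mem (mul_mem hd.1 he.1) (inv_mem hd.1)) (inv_mem he.1))).eq, mul_inv_cancel_right]
      rw [this]
      exact Subgroup.commutator_mem_commutator hd he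
    have hbot : ⁅Q, Q⁆ = ⊥ := by
      refine S.hyQ _ ((Subgroup.commutator_le_self Q).trans hQP) ?_ ?_
      · intro h hh
        have e1 : MulAut.conj h • ⁅Q, Q⁆ = ⁅Q, Q⁆ := by
          show Subgroup.map (MulAut.conj h).toMonoidHom _ = _
          rw [Subgroup.map_commutator]
          have : MulAut.conj h • Q = Q := smul_eq_of_mem_normalizer (hQn hh)
          exact congrArg₂ _ this this
        refine Subgroup.mem_normalizer_fintype fun w hw => ?_
        have := Subgroup.smul_mem_pointwise_smul w (MulAut.conj h) _ hw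
        rwa [e1] at this
      · rw [hQD]
        show Subgroup.map (MulAut.conj y).toMonoidHom _ = _
        rw [Subgroup.map_commutator]
        exact congrArg₂ _ hDy hDy
    have := Subgroup.mem_bot.1 (hbot.le (Subgroup.commutator_mem_commutator h1Q h5Q))
    exact h15 (commutatorElement_eq_one_iff_mul_comm.1 this)
  -- the two outer generators act trivially modulo the centre of `Q`
  have hinj : ∀ {a : G}, a ∈ H → ∀ {w : G}, a * w * a⁻¹ ∈ Z → w ∈ Z := fun {a} ha {w} h =>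
    (Subgroup.mem_normalizer_iff.1 (hZn ha) w).2 h
  have h1Z : X g x₀ 1 ∉ Z := fun h => h15 (hcZ _ h _ h5Q)
  have h5Z : X g x₀ 5 ∉ Z := fun h => h15 (hcZ _ h _ h1Q).symm
  have hform : ∀ u ∈ Q, u * u = 1 → u ∈ Z ∨ (∃ z ∈ Z, u = X g x₀ 1 * z) ∨ ∃ z ∈ Z, u = z * X g x₀ 5 := by
    intro u hu hu2
    obtain ⟨e, r, hr, rfl⟩ := S.gen.exists_split (by norm_num) hu
    obtain ⟨z, hz, f, rfl⟩ := S.gen.exists_split' (by norm_num) hr
    have hz' : z ∈ Z := hmid (by simpa using hz)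
    rw [show (1 : ℤ) + 1 + ((3 : ℕ) : ℤ) = 5 by norm_num] at hu2 ⊢
    rcases S.gen.zpow_X_cases 1 e with he | he <;> rcases S.gen.zpow_X_cases 5 f with hf | hf <;>
      rw [he, hf] at hu2 ⊢
    · left; simpa using hz'
    · exact Or.inr (Or.inr ⟨z, hz', one_mul _⟩)
    · exact Or.inr (Or.inl ⟨z, hz', by rw [mul_one]⟩)
    · exfalso
      set b := X g x₀ 1
      set c := X g x₀ 5
      have hzz : z * z = 1 := by
        have hcomm : ∀ v ∈ W g x₀ 2 3, v * v = 1 := by
          intro v hv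
          induction hv using Subgroup.closure_induction with
          | mem v hv => obtain ⟨i, -, rfl⟩ := hv; exact S.gen.mul_self_X i
          | one => exact one_mul 1
          | mul v w hv hw ev ew =>
            rw [mul_assoc, ← mul_assoc w, hcZ w (hmid hw) v (hmid hv).1, mul_assoc v w, ew, mul_one, ev]
          | inv v hv ev => rw [← mul_inv_rev, ev, inv_one]
        exact hcomm z (by simpa using hz)
      have e2 : b * (z * c) = z * (b * c) := by rw [← mul_assoc, ← hcZ z hz' b h1Q, mul_assoc]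
      have e3 : b * c * (b * c) = 1 := by
        rw [e2] at hu2
        calc b * c * (b * c) = (z * z) * (b * c * (b * c)) := by rw [hzz, one_mul]
          _ = z * (z * (b * c)) * (b * c) := by group
          _ = z * ((b * c) * z) * (b * c) := by rw [hcZ z hz' _ (mul_mem h1Q h5Q)]
          _ = z * (b * c) * (z * (b * c)) := by group
          _ = 1 := hu2
      apply h15
      calc b * c = (b * c)⁻¹ := (inv_eq_of_mul_eq_one_right e3).symm
        _ = c * b := by rw [mul_inv_rev, S.gen.inv_X, S.gen.inv_X]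
  have hQmem : ∀ {a : G}, a ∈ H → ∀ {q : G}, q ∈ Q → a * q * a⁻¹ ∈ Q := fun {a} ha {q} hq =>
    (Subgroup.mem_normalizer_iff.1 (hQn ha) q).1 hq
  have hcom : ∀ a ∈ H, (∀ i : ℤ, 1 ≤ i → i < 6 → a * X g x₀ i * a⁻¹ * (X g x₀ i)⁻¹ ∈ Z) →
      ∀ q ∈ Q, a * q * a⁻¹ * q⁻¹ ∈ Z := by
    intro a ha hgen q hq
    induction hq using Subgroup.closure_induction with
    | mem q hq => obtain ⟨i, hi, rfl⟩ := hq; exact hgen i hi.1 (by have := hi.2; simpa using this)
    | one => simp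
    | mul q r hq hr eq er =>
      have : a * (q * r) * a⁻¹ * (q * r)⁻¹ = (a * q * a⁻¹ * q⁻¹) * (a * r * a⁻¹ * r⁻¹) := by
        calc a * (q * r) * a⁻¹ * (q * r)⁻¹ = (a * q * a⁻¹) * (a * r * a⁻¹ * r⁻¹) * q⁻¹ := by group
          _ = (a * q * a⁻¹) * (q⁻¹ * (a * r * a⁻¹ * r⁻¹)) := by
            rw [mul_assoc, hcZ _ er _ (inv_mem hq)]
          _ = (a * q * a⁻¹ * q⁻¹) * (a * r * a⁻¹ * r⁻¹) := by group
      rw [this]; exact mul_mem eq er
    | inv q hq eq =>
      have : a * q⁻¹ * a⁻¹ * q⁻¹⁻¹ = (a * q * a⁻¹ * q⁻¹)⁻¹ := by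
        calc a * q⁻¹ * a⁻¹ * q⁻¹⁻¹ = q⁻¹ * ((a * q * a⁻¹ * q⁻¹)⁻¹ * q) := by group
          _ = q⁻¹ * (q * (a * q * a⁻¹ * q⁻¹)⁻¹) := by rw [hcZ _ (inv_mem eq) q hq]
          _ = _ := inv_mul_cancel_left _ _
      rw [this]; exact inv_mem eq
  have hmidc : ∀ a ∈ H, ∀ v ∈ Z, a * v * a⁻¹ * v⁻¹ ∈ Z := fun a ha v hv =>
    mul_mem ((Subgroup.mem_normalizer_iff.1 (hZn ha) v).1 hv) (inv_mem hv)
  have key : ∀ a ∈ H, ∀ b c : G, b ∈ Q → c ∈ Q → a * b * a⁻¹ = b → c * c = 1 → b * c ≠ c * b → c ∉ Z →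
      (∀ u ∈ Q, u * u = 1 → u ∈ Z ∨ (∃ z ∈ Z, u = b * z) ∨ ∃ z ∈ Z, u = z * c) →
      a * c * a⁻¹ * c⁻¹ ∈ Z := by
    intro a ha b c hb hc hab hc2 hbc hcZ' hf
    rcases hf _ (hQmem ha hc) (by rw [conj_mul, hc2]; group) with h | ⟨z, hz, e⟩ | ⟨z, hz, e⟩
    · exact absurd (hinj ha h) hcZ'
    · exfalso
      have hv : b⁻¹ * c ∈ Z := hinj ha (w := b⁻¹ * c) (by
        rw [← conj_mul, ← conj_inv, hab, e, inv_mul_cancel_left]; exact hz)
      refine hbc ?_
      have e2 := hcZ _ hv b hb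
      calc b * c = b * (b * (b⁻¹ * c)) := by rw [mul_inv_cancel_left]
        _ = b * ((b⁻¹ * c) * b) := by rw [e2]
        _ = c * b := by group
    · rw [e, mul_inv_cancel_right]; exact hz
  have h0 : ∀ q ∈ Q, X g x₀ 0 * q * (X g x₀ 0)⁻¹ * q⁻¹ ∈ Z := by
    refine hcom _ (mem_W le_rfl (by norm_num)) fun i hi1 hi6 => ?_
    by_cases h5 : i = 5
    · subst h5
      exact key _ (mem_W le_rfl (by norm_num)) _ _ h1Q h5Q
        (mul_inv_eq_iff_eq_mul.2 (hs.comm 0 1 (by norm_num) (by norm_num))) (S.gen.mul_self_X 5) h15 h5Z hform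
    by_cases h1 : i = 1
    · subst h1
      rw [mul_inv_eq_iff_eq_mul.2 (hs.comm 0 1 (by norm_num) (by norm_num)), mul_inv_cancel]; exact one_mem _
    exact hmidc _ (mem_W le_rfl (by norm_num)) _ (hmid (mem_W (by omega) (by omega)))
  have h6 : ∀ q ∈ Q, X g x₀ 6 * q * (X g x₀ 6)⁻¹ * q⁻¹ ∈ Z := by
    refine hcom _ (mem_W (by norm_num) (by norm_num)) fun i hi1 hi6 => ?_
    by_cases h1 : i = 1
    · subst h1
      refine key _ (mem_W (by norm_num) (by norm_num)) _ _ h5Q h1Q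
        (mul_inv_eq_iff_eq_mul.2 (hs.comm 6 5 (by norm_num) (by norm_num))) (S.gen.mul_self_X 1) (Ne.symm h15) h1Z
        fun u hu hu2 => ?_
      rcases hform u hu hu2 with h | ⟨z, hz, e⟩ | ⟨z, hz, e⟩
      · exact Or.inl h
      · exact Or.inr (Or.inr ⟨z, hz, by rw [e, hcZ z hz _ h1Q]⟩)
      · exact Or.inr (Or.inl ⟨z, hz, by rw [e, hcZ z hz _ h5Q]⟩)
    by_cases h5 : i = 5
    · subst h5
      rw [mul_inv_eq_iff_eq_mul.2 (hs.comm 6 5 (by norm_num) (by norm_num)), mul_inv_cancel]; exact one_mem _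
    exact hmidc _ (mem_W (by norm_num) (by norm_num)) _ (hmid (mem_W (by omega) (by omega)))
  have hDn : H ≤ Subgroup.normalizer (D : Set G) := by
    refine (Subgroup.closure_le _).2 ?_
    rintro _ ⟨i, hi, rfl⟩
    refine Subgroup.mem_normalizer_fintype fun d hd => ?_
    have hi2 := hi.2
    have hi1 := hi.1
    by_cases hi0 : i = 0
    · subst hi0
      have := mul_mem (hZD (h0 d hd.1)) hd
      rwa [inv_mul_cancel_right] at this
    by_cases hi6 : i = 6
    · subst hi6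
      have := mul_mem (hZD (h6 d hd.1)) hd
      rwa [inv_mul_cancel_right] at this
    have hq : X g x₀ i ∈ Q := mem_W (by omega) (by omega)
    show X g x₀ i * d * (X g x₀ i)⁻¹ ∈ D
    refine Subgroup.mem_inf.2 ⟨mul_mem (mul_mem hq hd.1) (inv_mem hq), ?_⟩
    haveI := Subgroup.normal_of_index_eq_two hidx
    exact Subgroup.mem_subgroupOf.1 (this.conj_mem ⟨d, hQ'P hd.2⟩ (Subgroup.mem_subgroupOf.2 hd.2)
      ⟨X g x₀ i, hQP hq⟩)
  have hbot := S.hyQ D (inf_le_left.trans hQP) hDn hDy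
  have h3 := S.gen.card 2 1 (by norm_num)
  have h2 : X g x₀ 2 ∈ D := hZD (hmid (mem_W le_rfl (by norm_num)))
  rw [hbot, Subgroup.mem_bot] at h2
  rw [W_one, h2, Subgroup.zpowers_one_eq_bot, Subgroup.card_bot] at h3
  norm_num at h3

end Cfsg.Agent.ShiftChain
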