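import Cfsg.Agent.Lib.FGStruct.ShiftDihedralSetup

/-!
The cases of two, three and four generators.
-/

set_option autoImplicit false
set_option linter.style.haveILetI false
open scoped Pointwise

namespace Cfsg.Agent.ShiftChain

variable {G : Type*} [Group G] [Finite G] {g x₀ y : G} {t : ℕ}

theorem Gen.notMem_right (h : Gen 2 g x₀ t) {a : ℤ} {k : ℕ} (hk : k < t) : X g x₀ (a + k) ∉ W g x₀ a k := by
  intro hm
  have hle : W g x₀ a (k + 1) ≤ W g x₀ a k := by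
    rw [W_split']; exact sup_le le_rfl (Subgroup.zpowers_le.2 hm)
  have := Subgroup.card_le_of_le hle
  rw [h.card _ _ hk, h.card _ _ hk.le, Nat.pow_le_pow_iff_right (by norm_num : 1 < 2)] at this
  omega

theorem Gen.notMem_left (h : Gen 2 g x₀ t) {a : ℤ} {k : ℕ} (hk : k < t) : X g x₀ a ∉ W g x₀ (a + 1) k := by
  intro hm
  have hle : W g x₀ a (k + 1) ≤ W g x₀ (a + 1) k := by
    rw [W_split]; exact sup_le (Subgroup.zpowers_le.2 hm) le_rfl
  have := Subgroup.card_le_of_le hle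
  rw [h.card _ _ hk, h.card _ _ hk.le, Nat.pow_le_pow_iff_right (by norm_num : 1 < 2)] at this
  omega

theorem W_two (g x₀ : G) (a : ℤ) : W g x₀ a 2 = Subgroup.closure {X g x₀ a, X g x₀ (a + 1)} := by
  have h : Set.Ico a (a + ((2 : ℕ) : ℤ)) = {a, a + 1} := by ext i; simp; omega
  rw [W, h, Set.image_pair]

theorem Gen.shift_eq (g x₀ : G) {a b c d e f : ℤ} (h : X g x₀ a * X g x₀ b * X g x₀ a * X g x₀ b = X g x₀ c) (k : ℤ)
    (h1 : k + a = d) (h2 : k + b = e) (h3 : k + c = f) :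
    X g x₀ d * X g x₀ e * X g x₀ d * X g x₀ e = X g x₀ f := by
  have := congrArg (cj g k) h
  simpa only [map_mul, cj_X, h1, h2, h3] using this

/-- Three generators: the two elements spanning the core behave like a natural module. -/
theorem three_data (S : Setup g x₀ 3 y) (hs : Span g x₀ 3 2) :
    X g x₀ 0 * X g x₀ 1 * X g x₀ 0 = X g x₀ 1 ∧ X g x₀ 0 * X g x₀ 2 * X g x₀ 0 = X g x₀ 1 * X g x₀ 2 ∧
      X g x₀ 3 * X g x₀ 2 * X g x₀ 3 = X g x₀ 2 ∧ X g x₀ 3 * X g x₀ 1 * X g x₀ 3 = X g x₀ 1 * X g x₀ 2 := by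
  have h := S.gen
  have hm := h.comm_mem (i := 0) (d := 2) (by norm_num) (by norm_num)
  simp only [h.inv_X] at hm
  rw [show (0 : ℤ) + 1 = 1 by norm_num, show 2 - 1 = 1 by norm_num, W_one,
    show (0 : ℤ) + ((2 : ℕ) : ℤ) = 2 by norm_num] at hm
  obtain ⟨e, he⟩ := Subgroup.mem_zpowers_iff.1 hm
  have hc : X g x₀ 0 * X g x₀ 2 * X g x₀ 0 * X g x₀ 2 = X g x₀ 1 := by
    rcases h.zpow_X_cases 1 e with h1 | h1 <;> rw [h1] at he
    · exfalso
      refine hs.fail (by norm_num) ?_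
      have : X g x₀ 0 * X g x₀ 2 * (X g x₀ 0)⁻¹ * (X g x₀ 2)⁻¹ = 1 := by rw [h.inv_X, h.inv_X, ← he]
      rwa [mul_inv_eq_one, mul_inv_eq_iff_eq_mul] at this
    · exact he.symm
  have hc' := Gen.shift_eq g x₀ hc 1 (d := 1) (e := 3) (f := 2) (by norm_num) (by norm_num) (by norm_num)
  refine ⟨?_, ?_, ?_, ?_⟩
  · rw [hs.comm 0 1 (by norm_num) (by norm_num), mul_assoc, h.mul_self_X, mul_one]
  · rw [← hc, mul_assoc _ (X g x₀ 2) (X g x₀ 2), h.mul_self_X, mul_one]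
  · rw [hs.comm 3 2 (by norm_num) (by norm_num), mul_assoc, h.mul_self_X, mul_one]
  · rw [← hc']
    simp only [← mul_assoc, h.mul_self_X, one_mul]

/-- Commutators with `w` land in the middle group. -/
def Flat (g x₀ : G) (w : G) : Prop :=
  ∀ q ∈ W g x₀ 1 3, w * q * w⁻¹ * q⁻¹ ∈ W g x₀ 2 1

theorem four_center (S : Setup g x₀ 4 y) (hs : Span g x₀ 4 3) {h : G} (hh : h ∈ W g x₀ 0 5) {z : G}
    (hz : z ∈ W g x₀ 2 1) : z * h = h * z := by
  have := W_le_centralizer hs (a := 2) (k := 1) (b := 0) (m := 5) (fun i h1 h2 => ⟨by omega, by omega⟩) hz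
  exact (Subgroup.mem_centralizer_iff.1 this h hh).symm

theorem flat_mul (S : Setup g x₀ 4 y) (hs : Span g x₀ 4 3) {u v : G} (hu : u ∈ W g x₀ 0 5) (hv : v ∈ W g x₀ 0 5)
    (fu : Flat g x₀ u) (fv : Flat g x₀ v) : Flat g x₀ (u * v) := by
  intro q hq
  have hqH : q ∈ W g x₀ 0 5 := W_le (by norm_num) (by norm_num) hq
  have hz := fv q hq
  have e := four_center S hs (mul_mem (mul_mem hu hqH) (inv_mem hu)) hz
  have e2 := four_center S hs hu hz
  have : u * v * q * (u * v)⁻¹ * q⁻¹ = (v * q * v⁻¹ * q⁻¹) * (u * q * u⁻¹ * q⁻¹) := by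
    set z := v * q * v⁻¹ * q⁻¹ with hzd
    calc u * v * q * (u * v)⁻¹ * q⁻¹ = u * z * (q * u⁻¹ * q⁻¹) := by rw [hzd]; group
      _ = z * u * (q * u⁻¹ * q⁻¹) := by rw [← e2]
      _ = z * (u * q * u⁻¹ * q⁻¹) := by group
  rw [this]; exact mul_mem hz (fu q hq)

theorem flat_inv (S : Setup g x₀ 4 y) {u : G} (hu : u ∈ W g x₀ 0 5) (fu : Flat g x₀ u) : Flat g x₀ u⁻¹ := by
  intro q hq
  have hq' : u⁻¹ * q * u ∈ W g x₀ 1 3 := (Subgroup.mem_normalizer_iff''.1 (S.normQ hu) q).1 hq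
  have := inv_mem (fu _ hq')
  rwa [show (u * (u⁻¹ * q * u) * u⁻¹ * (u⁻¹ * q * u)⁻¹)⁻¹ = u⁻¹ * q * u⁻¹⁻¹ * q⁻¹ by group] at this

theorem flat_of_gens (S : Setup g x₀ 4 y) (hs : Span g x₀ 4 3) {u : G} (hu : u ∈ W g x₀ 0 5)
    (hg : ∀ i : ℤ, 1 ≤ i → i < 4 → u * X g x₀ i * u⁻¹ * (X g x₀ i)⁻¹ ∈ W g x₀ 2 1) : Flat g x₀ u := by
  intro q hq
  induction hq using Subgroup.closure_induction with
  | mem q hq => obtain ⟨i, hi, rfl⟩ := hq; exact hg i hi.1 (by have := hi.2; simpa using this)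
  | one => simp
  | mul q r hq hr eq er =>
    have hqH : q ∈ W g x₀ 0 5 := W_le (by norm_num) (by norm_num) (show q ∈ W g x₀ 1 3 from hq)
    have e := four_center S hs hqH er
    have : u * (q * r) * u⁻¹ * (q * r)⁻¹ = (u * q * u⁻¹ * q⁻¹) * (u * r * u⁻¹ * r⁻¹) := by
      calc u * (q * r) * u⁻¹ * (q * r)⁻¹ = (u * q * u⁻¹ * q⁻¹) * (q * (u * r * u⁻¹ * r⁻¹) * q⁻¹) := by group
        _ = (u * q * u⁻¹ * q⁻¹) * (u * r * u⁻¹ * r⁻¹) := by rw [← e, mul_inv_cancel_right]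
    rw [this]; exact mul_mem eq er
  | inv q hq eq =>
    have hqH : q ∈ W g x₀ 0 5 := W_le (by norm_num) (by norm_num) (show q ∈ W g x₀ 1 3 from hq)
    have e := four_center S hs hqH (inv_mem eq)
    have : u * q⁻¹ * u⁻¹ * q⁻¹⁻¹ = (u * q * u⁻¹ * q⁻¹)⁻¹ := by
      calc u * q⁻¹ * u⁻¹ * q⁻¹⁻¹ = q⁻¹ * ((u * q * u⁻¹ * q⁻¹)⁻¹ * q) := by group
        _ = q⁻¹ * (q * (u * q * u⁻¹ * q⁻¹)⁻¹) := by rw [e]
        _ = _ := inv_mul_cancel_left _ _
    rw [this]; exact inv_mem eq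

theorem flat_Q (S : Setup g x₀ 4 y) (hs : Span g x₀ 4 3) {u : G} (hu : u ∈ W g x₀ 1 3) : Flat g x₀ u := by
  intro q hq
  have := W_le_centralizer hs (a := 1) (k := 3) (b := 1) (m := 3) (fun i h1 h2 => ⟨by omega, by omega⟩) hu
  rw [← Subgroup.mem_centralizer_iff.1 this q hq, mul_inv_cancel_right, mul_inv_cancel]
  exact one_mem _

theorem flat_left_right (S : Setup g x₀ 4 y) (hs : Span g x₀ 4 3) :
    Flat g x₀ (X g x₀ 0) ↔ Flat g x₀ (X g x₀ 4) := by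
  obtain ⟨x, hx, hxP⟩ := S.conjP
  have hle : ∀ a : ℤ, 0 ≤ a → a ≤ 1 → W g x₀ a 4 ≤ W g x₀ 0 5 := fun a h0 h1 => W_le h0 (by omega)
  have hblock : ∀ a : ℤ, 0 ≤ a → a ≤ 1 → (∀ i, a ≤ i → i < a + 4 → Flat g x₀ (X g x₀ i)) →
      ∀ w ∈ W g x₀ a 4, Flat g x₀ w := by
    intro a h0 h1 hi w hw
    induction hw using Subgroup.closure_induction with
    | mem w hw => obtain ⟨i, hi', rfl⟩ := hw; exact hi i hi'.1 (by have := hi'.2; simpa using this)
    | one => intro q _; simp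
    | mul u v hu hv eu ev => exact flat_mul S hs (hle a h0 h1 hu) (hle a h0 h1 hv) eu ev
    | inv u hu eu => exact flat_inv S (hle a h0 h1 hu) eu
  have hmid : ∀ i : ℤ, 1 ≤ i → i < 4 → Flat g x₀ (X g x₀ i) := fun i h1 h2 =>
    flat_Q S hs (mem_W h1 (by simpa using h2))
  have hconj : ∀ c ∈ W g x₀ 0 5, ∀ w ∈ W g x₀ 0 5, Flat g x₀ w → Flat g x₀ (c * w * c⁻¹) := by
    intro c hc w hw fw q hq
    have hq' : c⁻¹ * q * c ∈ W g x₀ 1 3 := (Subgroup.mem_normalizer_iff''.1 (S.normQ hc) q).1 hq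
    have hz := fw _ hq'
    have e := four_center S hs hc hz
    have : c * w * c⁻¹ * q * (c * w * c⁻¹)⁻¹ * q⁻¹ = c * (w * (c⁻¹ * q * c) * w⁻¹ * (c⁻¹ * q * c)⁻¹) * c⁻¹ := by
      group
    rw [this, ← e, mul_inv_cancel_right]; exact hz
  constructor
  · intro h0
    have hP := hblock 0 le_rfl (by norm_num) fun i h1 h2 => by
      by_cases hi : i = 0
      · subst hi; exact h0
      · exact hmid i (by omega) (by omega)
    have h4 : X g x₀ 4 ∈ W g x₀ 1 4 := mem_W (by norm_num) (by norm_num)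
    rw [← hxP, mem_conj_smul, inv_inv] at h4
    have := hconj x⁻¹ (inv_mem hx) _ (hle 0 le_rfl (by norm_num) h4) (hP _ h4)
    rwa [inv_inv, show x⁻¹ * (x * X g x₀ 4 * x⁻¹) * x = X g x₀ 4 by group] at this
  · intro h4
    have hP := hblock 1 (by norm_num) le_rfl fun i h1 h2 => by
      by_cases hi : i = 4
      · subst hi; exact h4
      · exact hmid i h1 (by omega)
    have h0 : x⁻¹ * X g x₀ 0 * x ∈ W g x₀ 1 4 := by
      rw [← hxP, mem_conj_smul, inv_inv, show x * (x⁻¹ * X g x₀ 0 * x) * x⁻¹ = X g x₀ 0 by group]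
      exact mem_W le_rfl (by norm_num)
    have := hconj x hx _ (hle 1 (by norm_num) le_rfl h0) (hP _ h0)
    rwa [show x * (x⁻¹ * X g x₀ 0 * x) * x⁻¹ = X g x₀ 0 by group] at this

/-- Four generators. -/
theorem four_data (S : Setup g x₀ 4 y) (hs : Span g x₀ 4 3) :
    X g x₀ 0 * X g x₀ 3 * X g x₀ 0 = X g x₀ 1 * X g x₀ 2 * X g x₀ 3 ∧
      X g x₀ 4 * X g x₀ 1 * X g x₀ 4 = X g x₀ 1 * X g x₀ 2 * X g x₀ 3 := by
  have h := S.gen
  have hm := h.comm_mem (i := 0) (d := 3) (by norm_num) (by norm_num)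
  simp only [h.inv_X] at hm
  rw [show (0 : ℤ) + 1 = 1 by norm_num, show 3 - 1 = 1 + 1 by norm_num,
    show (0 : ℤ) + ((3 : ℕ) : ℤ) = 3 by norm_num] at hm
  obtain ⟨e, r, hr, hc⟩ := h.exists_split (by norm_num) hm
  rw [show (1 : ℤ) + 1 = 2 by norm_num, W_one] at hr
  obtain ⟨f, rfl⟩ := Subgroup.mem_zpowers_iff.1 hr
  have hfix : ∀ i j : ℤ, i - j < 3 → j - i < 3 → X g x₀ i * X g x₀ j * X g x₀ i * X g x₀ j = 1 := by
    intro i j h1 h2
    rw [hs.comm i j h1 h2, mul_assoc (X g x₀ j), h.mul_self_X, mul_one, h.mul_self_X]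
  rcases h.zpow_X_cases 1 e with he | he <;> rcases h.zpow_X_cases 2 f with hf | hf <;> rw [he, hf] at hc
  · exfalso
    refine hs.fail (by norm_num) ?_
    have : X g x₀ 0 * X g x₀ 3 * (X g x₀ 0)⁻¹ * (X g x₀ 3)⁻¹ = 1 := by rw [h.inv_X, h.inv_X, hc, one_mul]
    rwa [mul_inv_eq_one, mul_inv_eq_iff_eq_mul] at this
  · exfalso
    rw [one_mul] at hc
    have h0 : Flat g x₀ (X g x₀ 0) := flat_of_gens S hs (mem_W le_rfl (by norm_num)) fun i h1 h2 => by
      rw [h.inv_X, h.inv_X]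
      by_cases hi : i = 3
      · subst hi; rw [hc]; exact mem_W le_rfl (by norm_num)
      · rw [hfix 0 i (by omega) (by omega)]; exact one_mem _
    have h4 := (flat_left_right S hs).1 h0 _ (mem_W (i := 1) le_rfl (by norm_num))
    have hc' := Gen.shift_eq g x₀ hc 1 (d := 1) (e := 4) (f := 3) (by norm_num) (by norm_num) (by norm_num)
    have h3 := inv_mem h4
    simp only [mul_inv_rev, inv_inv, h.inv_X, ← mul_assoc] at h3
    rw [hc'] at h3
    exact h.notMem_right (a := 2) (k := 1) (by norm_num) (by simpa using h3)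
  · exfalso
    rw [mul_one] at hc
    have hc' := Gen.shift_eq g x₀ hc 1 (d := 1) (e := 4) (f := 2) (by norm_num) (by norm_num) (by norm_num)
    have h4 : Flat g x₀ (X g x₀ 4) := flat_of_gens S hs (mem_W (by norm_num) (by norm_num)) fun i h1 h2 => by
      rw [h.inv_X, h.inv_X]
      by_cases hi : i = 1
      · subst hi
        have : X g x₀ 4 * X g x₀ 1 * X g x₀ 4 * X g x₀ 1
            = (X g x₀ 1 * X g x₀ 4 * X g x₀ 1 * X g x₀ 4)⁻¹ := by
          simp only [mul_inv_rev, h.inv_X, ← mul_assoc]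
        rw [this, hc']; exact inv_mem (mem_W le_rfl (by norm_num))
      · rw [hfix 4 i (by omega) (by omega)]; exact one_mem _
    have h0 := (flat_left_right S hs).2 h4 _ (mem_W (i := 3) (by norm_num) (by norm_num))
    rw [h.inv_X, h.inv_X, hc] at h0
    exact h.notMem_left (a := 1) (k := 1) (by norm_num) (by simpa using h0)
  · have hc1 := congrArg (cj g 1) hc
    simp only [map_mul, cj_X] at hc1
    norm_num at hc1
    refine ⟨?_, ?_⟩
    · rw [← hc, mul_assoc _ (X g x₀ 3) (X g x₀ 3), h.mul_self_X, mul_one]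
    · calc X g x₀ 4 * X g x₀ 1 * X g x₀ 4
          = X g x₀ 1 * (X g x₀ 1 * X g x₀ 4 * X g x₀ 1 * X g x₀ 4) := by
            simp only [← mul_assoc, h.mul_self_X, one_mul]
        _ = X g x₀ 1 * X g x₀ 2 * X g x₀ 3 := by rw [hc1, mul_assoc]

end Cfsg.Agent.ShiftChain
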