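import Mathlib
import Cfsg.Prelude.Def_CaseTheorems
import Cfsg.Agent.Lib.Transfer.Basic

/-!
Groups with a normal 2-subgroup and odd dihedral quotient: the quotient by the odd core.
-/

set_option autoImplicit false
set_option linter.style.haveILetI false

namespace Cfsg.Agent.DihedralTop

open Cfsg
open scoped Pointwise

variable {H : Type*} [Group H] [Finite H]

/-- A normal 2-subgroup `Q` and two involutions generating a dihedral group of odd degree `n` modulo `Q`. -/
structure Split (Q : Subgroup H) (a b : H) (n : ℕ) : Prop where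
  odd : Odd n
  normal : Q.Normal
  pg : IsPGroup 2 Q
  ha : a * a = 1
  hb : b * b = 1
  gen : Q ⊔ Subgroup.zpowers a ⊔ Subgroup.zpowers b = ⊤
  card : Nat.card H = 2 * n * Nat.card Q
  pow : (a * b) ^ n ∈ Q

variable {Q : Subgroup H} {a b : H} {n : ℕ}

theorem orderOf_le_two (ha : a * a = 1) : Nat.card (Subgroup.zpowers a) ≤ 2 := by
  rw [Nat.card_zpowers]
  exact Nat.le_of_dvd two_pos (orderOf_dvd_of_pow_eq_one (by rwa [pow_two]))

theorem Split.exists_complement (S : Split Q a b n) :
    ∃ r : H, r ^ n = 1 ∧ a * r * a⁻¹ = r⁻¹ ∧ Q ⊔ (Subgroup.zpowers a ⊔ Subgroup.zpowers r) = ⊤ ∧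
      Q ⊓ (Subgroup.zpowers a ⊔ Subgroup.zpowers r) = ⊥ ∧
      Nat.card ↥(Subgroup.zpowers a ⊔ Subgroup.zpowers r) = 2 * n ∧ orderOf r = n ∧
      ∃ q ∈ Q, ∃ j : ℤ, a * b = q * r ^ j := by
  haveI : Fact (Nat.Prime 2) := ⟨Nat.prime_two⟩
  obtain ⟨k, hk⟩ := S.pg ⟨_, S.pow⟩
  replace hk : ((a * b) ^ n) ^ (2 ^ k) = 1 := congrArg Subtype.val hk
  have hinv : a⁻¹ = a := inv_eq_of_mul_eq_one_right S.ha
  have hbinv : b⁻¹ = b := inv_eq_of_mul_eq_one_right S.hb
  set u := a * b with hu
  set r := u ^ (2 ^ k) with hr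
  have hrn : r ^ n = 1 := by rw [hr, ← pow_mul, mul_comm, pow_mul, hk]
  have hau : a * u * a⁻¹ = u⁻¹ := by rw [hu, mul_inv_rev, hbinv, hinv, ← mul_assoc, S.ha, one_mul]
  have har : a * r * a⁻¹ = r⁻¹ := by rw [hr, ← conj_pow, hau, inv_pow]
  have hcop : IsCoprime (n : ℤ) ((2 ^ k : ℕ) : ℤ) :=
    Int.isCoprime_iff_nat_coprime.2 (by simpa using (Nat.coprime_two_right.2 S.odd).pow_right k)
  obtain ⟨α, β, hαβ⟩ := hcop
  have huq : u = (u ^ n) ^ α * r ^ β := by
    rw [hr, ← zpow_natCast, ← zpow_natCast, ← zpow_mul, ← zpow_mul, ← zpow_add, mul_comm (n : ℤ),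
      mul_comm ((2 ^ k : ℕ) : ℤ), hαβ, zpow_one]
  set M := Subgroup.zpowers a ⊔ Subgroup.zpowers r with hM
  haveI := S.normal
  have htop : Q ⊔ M = ⊤ := by
    rw [eq_top_iff, ← S.gen]
    refine sup_le (sup_le le_sup_left (le_sup_left.trans le_sup_right)) (Subgroup.zpowers_le.2 ?_)
    rw [show b = a⁻¹ * u by rw [hu, inv_mul_cancel_left], huq]
    refine mul_mem (inv_mem (Subgroup.mem_sup_right (Subgroup.mem_sup_left (Subgroup.mem_zpowers a)))) (mul_mem ?_ ?_)
    · exact Subgroup.mem_sup_left (zpow_mem S.pow α)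
    · exact Subgroup.mem_sup_right (Subgroup.mem_sup_right (zpow_mem (Subgroup.mem_zpowers r) β))
  have hord : orderOf r ∣ n := orderOf_dvd_of_pow_eq_one hrn
  have hnorm : Subgroup.zpowers a ≤ Subgroup.normalizer (Subgroup.zpowers r : Set H) := by
    rw [Subgroup.zpowers_le]
    refine Subgroup.mem_normalizer_fintype fun w hw => ?_
    obtain ⟨j, rfl⟩ := hw
    show a * r ^ j * a⁻¹ ∈ _
    rw [← conj_zpow, har, inv_zpow]
    exact inv_mem (zpow_mem (Subgroup.mem_zpowers r) j)
  have hle : Nat.card M ≤ 2 * orderOf r := by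
    have h1 : Nat.card M ≤ Nat.card (Subgroup.zpowers a × Subgroup.zpowers r) := by
      refine Nat.card_le_card_of_surjective (fun z => ⟨(z.1 : H) * z.2,
        mul_mem (Subgroup.mem_sup_left z.1.2) (Subgroup.mem_sup_right z.2.2)⟩) fun w => ?_
      have hw : (w : H) ∈ (M : Set H) := w.2
      rw [show (M : Set H) = (Subgroup.zpowers a : Set H) * (Subgroup.zpowers r : Set H) from
        Subgroup.coe_mul_of_left_le_normalizer_right _ _ hnorm] at hw
      obtain ⟨u, hu, v, hv, e⟩ := Set.mem_mul.1 hw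
      exact ⟨(⟨u, hu⟩, ⟨v, hv⟩), Subtype.ext e⟩
    rw [Nat.card_prod, Nat.card_zpowers r] at h1
    exact h1.trans (Nat.mul_le_mul_right _ (orderOf_le_two S.ha))
  have hidx : Q.index = 2 * n := by
    have h := Q.card_mul_index
    rw [S.card, mul_comm (2 * n)] at h
    exact Nat.eq_of_mul_eq_mul_left Nat.card_pos h
  have hrle : orderOf r ≤ n := Nat.le_of_dvd S.odd.pos hord
  set f := (QuotientGroup.mk' Q).comp M.subtype with hf
  have hfs : Function.Surjective f := by
    rw [← MonoidHom.range_eq_top, hf, MonoidHom.range_comp, Subgroup.range_subtype]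
    have h := congrArg (Subgroup.map (QuotientGroup.mk' Q)) htop
    rwa [Subgroup.map_sup, QuotientGroup.map_mk'_self, bot_sup_eq, Subgroup.map_top_of_surjective _
      (QuotientGroup.mk'_surjective Q)] at h
  have hcM : Nat.card M = 2 * n := by
    have h1 := Nat.card_le_card_of_surjective f hfs
    rw [← Subgroup.index_eq_card, hidx] at h1
    omega
  have hbij : Function.Bijective f :=
    (Nat.bijective_iff_surjective_and_card f).2 ⟨hfs, by rw [hcM, ← Subgroup.index_eq_card, hidx]⟩
  refine ⟨r, hrn, har, htop, ?_, hcM, by omega, _, zpow_mem S.pow α, β, huq⟩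
  rw [Subgroup.eq_bot_iff_forall]
  intro w hw
  have : f ⟨w, hw.2⟩ = f 1 := by rw [map_one]; exact (QuotientGroup.eq_one_iff w).2 hw.1
  exact congrArg Subtype.val (hbij.1 this)

theorem le_oddCore {N : Subgroup H} (hn : N.Normal) (h : Odd (Nat.card N)) : N ≤ oddCore H :=
  PBasic.le_pPrimeCore hn (Nat.coprime_two_right.2 h)

theorem oddCore_commute (hQn : Q.Normal) (hQ : IsPGroup 2 Q) {o q : H} (ho : o ∈ oddCore H) (hq : q ∈ Q) :
    o * q = q * o := by
  haveI : Fact (Nat.Prime 2) := ⟨Nat.prime_two⟩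
  have hb := PBasic.inf_eq_bot_of_coprime (PBasic.pPrimeCore_coprime 2 H) hQ
  have hn : (oddCore H).Normal := Cfsg.pPrimeCore_normal 2 H
  have hd : o * q * o⁻¹ * q⁻¹ ∈ oddCore H ⊓ Q := Subgroup.mem_inf.2
    ⟨by rw [show o * q * o⁻¹ * q⁻¹ = o * (q * o⁻¹ * q⁻¹) by group]; exact mul_mem ho (hn.conj_mem _ (inv_mem ho) q),
     mul_mem (hQn.conj_mem _ hq o) (inv_mem hq)⟩
  rw [hb, Subgroup.mem_bot, mul_inv_eq_one, mul_inv_eq_iff_eq_mul] at hd
  exact hd

theorem normal_of_sup_eq_top {A B N : Subgroup H} (h : A ⊔ B = ⊤) (hA : A ≤ Subgroup.normalizer (N : Set H))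
    (hB : B ≤ Subgroup.normalizer (N : Set H)) : N.Normal :=
  Subgroup.normalizer_eq_top_iff.1 (top_le_iff.1 (h ▸ sup_le hA hB))

theorem centralizer_le_normalizer' (N A : Subgroup H) (h : ∀ w ∈ N, ∀ c ∈ A, c * w = w * c) :
    A ≤ Subgroup.normalizer (N : Set H) := fun c hc =>
  Subgroup.mem_normalizer_fintype fun w hw => by
    show c * w * c⁻¹ ∈ N
    rw [h w hw c hc, mul_inv_cancel_right]; exact hw

theorem zpowers_le_normalizer {N : Subgroup H} {x : H} (h : ∀ w ∈ N, x * w * x⁻¹ ∈ N) :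
    Subgroup.zpowers x ≤ Subgroup.normalizer (N : Set H) :=
  Subgroup.zpowers_le.2 (Subgroup.mem_normalizer_fintype h)

/-- The case of a core of order two. -/
theorem Split.klein (S : Split Q a b n) (h2 : Nat.card Q = 2) :
    Nonempty (H ⧸ oddCore H ≃* Multiplicative (ZMod 2) × Multiplicative (ZMod 2)) := by
  haveI : Fact (Nat.Prime 2) := ⟨Nat.prime_two⟩
  obtain ⟨r, hrn, har, htop, -, -, hord, -⟩ := S.exists_complement
  have hsq : ∀ q ∈ Q, q * q = 1 := fun q hq => by
    have : (⟨q, hq⟩ : Q) ^ 2 = 1 := by rw [← h2]; exact pow_card_eq_one'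
    simpa [pow_two] using congrArg Subtype.val this
  have hcen : ∀ q ∈ Q, ∀ h : H, h * q = q * h := by
    intro q hq h
    by_cases hq1 : q = 1
    · rw [hq1, mul_one, one_mul]
    have hc := S.normal.conj_mem q hq h
    have key : ∀ w ∈ Q, w = 1 ∨ w = q := by
      intro w hw
      classical
      by_contra hh
      push Not at hh
      haveI : Fintype Q := Fintype.ofFinite Q
      have h3 : ({⟨1, one_mem Q⟩, ⟨q, hq⟩, ⟨w, hw⟩} : Finset Q).card ≤ Fintype.card Q := Finset.card_le_univ _
      rw [Finset.card_eq_three.2 ⟨_, _, _, by simpa using Ne.symm hq1, by simpa using Ne.symm hh.1,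
        by simpa using Ne.symm hh.2, rfl⟩, ← Nat.card_eq_fintype_card, h2] at h3
      omega
    rcases key _ hc with e | e
    · exact absurd (conj_eq_one_iff.1 e) hq1
    · exact mul_inv_eq_iff_eq_mul.1 e
  set N := Subgroup.zpowers r with hN
  haveI hNn : N.Normal := by
    refine normal_of_sup_eq_top htop (centralizer_le_normalizer' _ _ fun w _ q hq => (hcen q hq w).symm)
      (sup_le (zpowers_le_normalizer fun w hw => ?_) Subgroup.le_normalizer)
    obtain ⟨j, rfl⟩ := hw
    show a * r ^ j * a⁻¹ ∈ N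
    rw [← conj_zpow, har, inv_zpow]
    exact inv_mem (zpow_mem (Subgroup.mem_zpowers r) j)
  have hcardN : Nat.card N = n := by rw [hN, Nat.card_zpowers, hord]
  have hidx : N.index = 4 := by
    have h := N.card_mul_index
    rw [hcardN, S.card, h2] at h
    exact Nat.eq_of_mul_eq_mul_left S.odd.pos (by rw [h]; ring)
  set π := QuotientGroup.mk' N with hπ
  have hr1 : π r = 1 := (QuotientGroup.eq_one_iff r).2 (Subgroup.mem_zpowers r)
  have hgen : Q.map π ⊔ Subgroup.zpowers (π a) = ⊤ := by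
    have h := congrArg (Subgroup.map π) htop
    rw [Subgroup.map_sup, Subgroup.map_sup, MonoidHom.map_zpowers, MonoidHom.map_zpowers, hr1,
      Subgroup.zpowers_one_eq_bot, sup_bot_eq,
      Subgroup.map_top_of_surjective _ (QuotientGroup.mk'_surjective N)] at h
    exact h
  have hq0 : Q.map π ≤ Subgroup.center (H ⧸ N) := by
    rintro _ ⟨q, hq, rfl⟩
    refine Subgroup.mem_center_iff.2 fun x => ?_
    obtain ⟨h, rfl⟩ := QuotientGroup.mk'_surjective N x
    rw [← map_mul, ← map_mul, hcen q hq h]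
  have ha0 : π a ∈ Subgroup.center (H ⧸ N) := by
    refine Subgroup.mem_center_iff.2 fun x => ?_
    have hx : x ∈ Q.map π ⊔ Subgroup.zpowers (π a) := hgen ▸ Subgroup.mem_top x
    have hle : Q.map π ⊔ Subgroup.zpowers (π a) ≤ Subgroup.centralizer ({π a} : Set (H ⧸ N)) :=
      sup_le (fun y hy => Subgroup.mem_centralizer_singleton_iff.2 (Subgroup.mem_center_iff.1 (hq0 hy) _).symm)
        (Subgroup.zpowers_le.2 (Subgroup.mem_centralizer_singleton_iff.2 rfl))
    exact Subgroup.mem_centralizer_singleton_iff.1 (hle hx)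
  have hcomm : ∀ x y : H ⧸ N, x * y = y * x := by
    intro x y
    have : y ∈ Subgroup.center (H ⧸ N) :=
      (hgen ▸ sup_le hq0 (Subgroup.zpowers_le.2 ha0) : (⊤ : Subgroup (H ⧸ N)) ≤ _) (Subgroup.mem_top y)
    exact Subgroup.mem_center_iff.1 this x
  have hexp : ∀ x : H ⧸ N, x * x = 1 := by
    intro x
    have hx : x ∈ Subgroup.closure ((Q.map π : Set (H ⧸ N)) ∪ {π a}) := by
      rw [Subgroup.closure_union, Subgroup.closure_eq, ← Subgroup.zpowers_eq_closure, hgen]
      exact Subgroup.mem_top x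
    induction hx using Subgroup.closure_induction with
    | mem x hx =>
      rcases hx with ⟨q, hq, rfl⟩ | hx
      · rw [← map_mul, hsq q hq, map_one]
      · rw [hx, ← map_mul, S.ha, map_one]
    | one => exact one_mul 1
    | mul x y _ _ ex ey => rw [mul_mul_mul_comm_of_comm hcomm, ex, ey, one_mul]
    | inv x _ ex => rw [← mul_inv_rev, ex, inv_one]
  have hodd : oddCore H = N := by
    refine le_antisymm (fun o ho => ?_) (le_oddCore hNn (by rw [hcardN]; exact S.odd))
    have h1 : π o = 1 := by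
      refine PBasic.eq_one_of_isPGroup_of_coprime (p := 2) (P := ⊤) (x := π o) ?_ (Subgroup.mem_top _) ?_
      · exact IsPGroup.of_card (n := 2) (by rw [Subgroup.card_top, ← Subgroup.index_eq_card, hidx]; rfl)
      · exact Nat.Coprime.coprime_dvd_left (orderOf_map_dvd _ o)
          (PBasic.coprime_orderOf_of_mem (PBasic.pPrimeCore_coprime 2 H) ho)
    exact (QuotientGroup.eq_one_iff o).1 h1
  haveI : IsKleinFour (H ⧸ N) :=
    { card_four := by rw [← Subgroup.index_eq_card, hidx]
      exponent_two := by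
        rcases (Nat.dvd_prime Nat.prime_two).1 (Monoid.exponent_dvd_of_forall_pow_eq_one
          (G := H ⧸ N) (n := 2) fun x => by rw [pow_two, hexp]) with h | h
        · exfalso
          have := (Nat.card_eq_one_iff_unique.2
            ⟨Monoid.exp_eq_one_iff.1 h, ⟨1⟩⟩ : Nat.card (H ⧸ N) = 1)
          rw [← Subgroup.index_eq_card, hidx] at this
          omega
        · exact h }
  haveI : IsKleinFour (Multiplicative (ZMod 2) × Multiplicative (ZMod 2)) :=
    { card_four := by simp
      exponent_two := by simp [Monoid.exponent_prod] }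
  obtain ⟨e⟩ := IsKleinFour.nonempty_mulEquiv (G₁ := H ⧸ N)
    (G₂ := Multiplicative (ZMod 2) × Multiplicative (ZMod 2))
  exact ⟨(QuotientGroup.quotientMulEquivOfEq hodd).trans e⟩
where
  mul_mul_mul_comm_of_comm {K : Type _} [Group K] (hc : ∀ x y : K, x * y = y * x) {x y : K} :
      x * y * (x * y) = x * x * (y * y) := by
    rw [mul_assoc, ← mul_assoc y, hc y x, mul_assoc x y, ← mul_assoc]

/-- The case of a natural module. -/
theorem Split.sym_four (S : Split Q a b n) (C : Subgroup H) (c c' : H) (hC : C ≤ Subgroup.center H)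
    (hC2 : Nat.card C ≤ 2) (hQ : Q = Subgroup.closure {c, c'} ⊔ C)
    (hc : c * c = 1) (hc' : c' * c' = 1) (hc1 : c ≠ 1) (hc1' : c' ≠ 1) (hne : c ≠ c') (hcc : c * c' = c' * c)
    (hac : a * c * a = c) (hac' : a * c' * a = c * c') (hbc' : b * c' * b = c') (hbc : b * c * b = c * c') :
    Nonempty (H ⧸ oddCore H ≃* Equiv.Perm (Fin 4)) ∨
      Nonempty (H ⧸ oddCore H ≃* Equiv.Perm (Fin 4) × Multiplicative (ZMod 2)) := by
  haveI : Fact (Nat.Prime 2) := ⟨Nat.prime_two⟩
  haveI := S.normal
  obtain ⟨r, hrn, har, htop, hMQ, hcM, hord, q0, hq0, j0, hab⟩ := S.exists_complement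
  set M := Subgroup.zpowers a ⊔ Subgroup.zpowers r with hM
  set V := Subgroup.closure ({c, c'} : Set H) with hV
  have hai : a⁻¹ = a := inv_eq_of_mul_eq_one_right S.ha
  have hbi : b⁻¹ = b := inv_eq_of_mul_eq_one_right S.hb
  have hcV : c ∈ V := Subgroup.subset_closure (Set.mem_insert _ _)
  have hcV' : c' ∈ V := Subgroup.subset_closure (Set.mem_insert_of_mem _ rfl)
  have hVmem : ∀ v ∈ V, v = 1 ∨ v = c ∨ v = c' ∨ v = c * c' := by
    have hpp : ∀ u v : H, (u = 1 ∨ u = c ∨ u = c' ∨ u = c * c') → (v = 1 ∨ v = c ∨ v = c' ∨ v = c * c') →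
        (u * v = 1 ∨ u * v = c ∨ u * v = c' ∨ u * v = c * c') := by
      have e1 : c * (c * c') = c' := by rw [← mul_assoc, hc, one_mul]
      have e2 : c' * (c * c') = c := by rw [hcc, ← mul_assoc, hc', one_mul]
      have e3 : c * c' * c = c' := by rw [hcc, mul_assoc, hc, mul_one]
      have e4 : c * c' * c' = c := by rw [mul_assoc, hc', mul_one]
      have e5 : c * c' * (c * c') = 1 := by rw [mul_assoc, e2, hc]
      rintro u v (rfl | rfl | rfl | rfl) (rfl | rfl | rfl | rfl) <;>
        simp [hc, hc', e1, e2, e3, e4, e5, ← hcc]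
    intro v hv
    induction hv using Subgroup.closure_induction with
    | mem v hv => rcases hv with rfl | rfl <;> simp
    | one => simp
    | mul u v _ _ eu ev => exact hpp u v eu ev
    | inv u _ eu =>
      have : u⁻¹ = u := by
        refine inv_eq_of_mul_eq_one_right ?_
        rcases eu with rfl | rfl | rfl | rfl
        · exact one_mul 1
        · exact hc
        · exact hc'
        · rw [mul_assoc, ← mul_assoc c' c, ← hcc, mul_assoc c c', hc', mul_one, hc]
      rw [this]; exact eu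
  have hcardV : Nat.card V = 4 := by
    have he : (V : Set H) = {1, c, c', c * c'} := by
      ext v
      refine ⟨fun hv => by simpa using hVmem v hv, fun hv => ?_⟩
      rcases hv with rfl | rfl | rfl | rfl
      · exact one_mem V
      · exact hcV
      · exact hcV'
      · exact mul_mem hcV hcV'
    show Nat.card (V : Set H) = 4
    have h3 : c * c' ≠ 1 := fun e => hne (mul_right_cancel (e.trans hc'.symm))
    rw [he, Nat.card_coe_set_eq, Set.ncard_insert_of_notMem (by simp [Ne.symm hc1, Ne.symm hc1', Ne.symm h3]),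
      Set.ncard_insert_of_notMem (by simp [hne, hc1']), Set.ncard_insert_of_notMem (by simp [hc1]),
      Set.ncard_singleton]
  have hVC : V ⊓ C = ⊥ := by
    rw [Subgroup.eq_bot_iff_forall]
    intro z hz
    have hzc := Subgroup.mem_center_iff.1 (hC hz.2)
    have hfa : a * z * a = z := by rw [hzc a, mul_assoc, S.ha, mul_one]
    have hfb : b * z * b = z := by rw [hzc b, mul_assoc, S.hb, mul_one]
    rcases hVmem z hz.1 with rfl | rfl | rfl | rfl
    · rfl
    · rw [hbc] at hfb; exact absurd (mul_eq_left.1 hfb) hc1'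
    · rw [hac'] at hfa; exact absurd (mul_eq_right.1 hfa) hc1
    · exfalso
      have : a * (c * c') * a = c' := by
        calc a * (c * c') * a = (a * c * a) * (a * c' * a) := by
              simp only [mul_assoc]; rw [← mul_assoc a a, S.ha, one_mul]
          _ = c' := by rw [hac, hac', ← mul_assoc, hc, one_mul]
      rw [this] at hfa
      exact hc1 (mul_eq_right.1 hfa.symm)
  have hVQ : V ≤ Q := hQ ▸ le_sup_left
  have hCQ : C ≤ Q := hQ ▸ le_sup_right
  have hVab : ∀ u ∈ V, ∀ v ∈ V, u * v = v * u := by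
    have h0 : ∀ u ∈ V, u * c = c * u := by
      intro u hu
      rcases hVmem u hu with rfl | rfl | rfl | rfl
      · simp
      · rfl
      · exact hcc.symm
      · rw [mul_assoc, ← hcc]
    have h1 : ∀ u ∈ V, u * c' = c' * u := by
      intro u hu
      rcases hVmem u hu with rfl | rfl | rfl | rfl
      · simp
      · exact hcc
      · rfl
      · rw [← mul_assoc c', ← hcc, mul_assoc]
    intro u hu v hv
    rcases hVmem v hv with rfl | rfl | rfl | rfl
    · simp
    · exact h0 u hu
    · exact h1 u hu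
    · rw [← mul_assoc, h0 u hu, mul_assoc, h1 u hu, mul_assoc]
  have hQV : ∀ q ∈ Q, ∀ v ∈ V, q * v = v * q := by
    intro q hq v hv
    have hle : Q ≤ Subgroup.centralizer ({v} : Set H) := by
      rw [hQ]
      exact sup_le (fun u hu => Subgroup.mem_centralizer_singleton_iff.2 (hVab u hu v hv))
        (fun u hu => Subgroup.mem_centralizer_singleton_iff.2 (Subgroup.mem_center_iff.1 (hC hu) v).symm)
    exact Subgroup.mem_centralizer_singleton_iff.1 (hle hq)
  have hconjV : ∀ x : H, x * x = 1 → x * c * x ∈ V → x * c' * x ∈ V →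
      Subgroup.zpowers x ≤ Subgroup.normalizer (V : Set H) := by
    intro x hx h1 h2
    refine zpowers_le_normalizer fun w hw => ?_
    rw [inv_eq_of_mul_eq_one_right hx]
    rcases hVmem w hw with rfl | rfl | rfl | rfl
    · rw [mul_one, hx]; exact one_mem V
    · exact h1
    · exact h2
    · have : x * (c * c') * x = (x * c * x) * (x * c' * x) := by
        simp only [mul_assoc]; rw [← mul_assoc x x, hx, one_mul]
      rw [this]; exact mul_mem h1 h2
  have haV : Subgroup.zpowers a ≤ Subgroup.normalizer (V : Set H) :=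
    hconjV a S.ha (by rw [hac]; exact hcV) (by rw [hac']; exact mul_mem hcV hcV')
  have hbV : Subgroup.zpowers b ≤ Subgroup.normalizer (V : Set H) :=
    hconjV b S.hb (by rw [hbc]; exact mul_mem hcV hcV') (by rw [hbc']; exact hcV')
  haveI hVn : V.Normal := normal_of_sup_eq_top S.gen
    (sup_le (centralizer_le_normalizer' _ _ fun w hw q hq => hQV q hq w hw) haV) hbV
  have htop' : V ⊔ (M ⊔ C) = ⊤ := by rw [← htop, hQ]; ac_rfl
  set L := M ⊔ C with hL
  have hLV : L ⊓ V = ⊥ := by
    rw [Subgroup.eq_bot_iff_forall]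
    intro x hx
    haveI : C.Normal := ⟨fun w hw h => by
      rw [Subgroup.mem_center_iff.1 (hC hw) h, mul_inv_cancel_right]; exact hw⟩
    obtain ⟨m, hm, z, hz, rfl⟩ := Subgroup.mem_sup_of_normal_right.1 hx.1
    have hmQ : m ∈ Q := (mul_mem_cancel_right (hCQ hz)).1 (hVQ hx.2)
    have hm1 : m = 1 := Subgroup.mem_bot.1 (hMQ.le ⟨hmQ, hm⟩)
    rw [hm1, one_mul] at hx ⊢
    exact Subgroup.mem_bot.1 (hVC.le ⟨hx.2, hz⟩)
  have hLidx : L.index = 4 := by
    have h := PBasic.relIndex_eq_relIndex_sup L V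
    rw [htop', Subgroup.relIndex_top_right] at h
    rw [← h, ← Subgroup.inf_relIndex_right, hLV, Subgroup.relIndex_bot_left, hcardV]
  set W := V ⊔ M with hW
  have hWC : W ⊔ C = ⊤ := by rw [← htop', hW, hL, sup_assoc]
  haveI hWn : W.Normal := normal_of_sup_eq_top hWC Subgroup.le_normalizer
    (centralizer_le_normalizer' _ _ fun w _ z hz => (Subgroup.mem_center_iff.1 (hC hz) w).symm)
  have hWCb : C ⊓ W = ⊥ := by
    rw [Subgroup.eq_bot_iff_forall]
    intro x hx
    obtain ⟨v, hv, m, hm, rfl⟩ := Subgroup.mem_sup_of_normal_left.1 hx.2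
    have hmQ : m ∈ Q := (mul_mem_cancel_left (hVQ hv)).1 (hCQ hx.1)
    have hm1 : m = 1 := Subgroup.mem_bot.1 (hMQ.le ⟨hmQ, hm⟩)
    rw [hm1, mul_one] at hx ⊢
    exact Subgroup.mem_bot.1 (hVC.le ⟨hv, hx.1⟩)
  have hWidx : W.index = Nat.card C := by
    have h := PBasic.relIndex_eq_relIndex_sup C W
    have h3 : W.relIndex C = W.index := by
      rw [← Subgroup.relIndex_top_right, ← hWC]
      exact (Subgroup.relIndex_sup_left (H := C) (K := W)).symm.trans (by rw [sup_comm])
    rw [← h3, ← Subgroup.inf_relIndex_right, inf_comm, hWCb, Subgroup.relIndex_bot_left]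
  set N := M ⊓ Subgroup.centralizer (V : Set H) with hN
  have hNV : ∀ w ∈ N, ∀ v ∈ V, v * w = w * v := fun w hw v hv => Subgroup.mem_centralizer_iff.1 hw.2 v hv
  haveI hNn : N.Normal := by
    refine normal_of_sup_eq_top htop' (centralizer_le_normalizer' _ _ fun w hw v hv => hNV w hw v hv)
      (sup_le (fun m hm => Subgroup.mem_normalizer_fintype fun w hw => ?_)
        (centralizer_le_normalizer' _ _ fun w _ z hz => (Subgroup.mem_center_iff.1 (hC hz) w).symm))
    refine Subgroup.mem_inf.2 ⟨mul_mem (mul_mem hm hw.1) (inv_mem hm), Subgroup.mem_centralizer_iff.2 fun v hv => ?_⟩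
    have hv' := hVn.conj_mem v hv m⁻¹
    rw [inv_inv] at hv'
    calc v * (m * w * m⁻¹) = m * ((m⁻¹ * v * m) * w) * m⁻¹ := by group
      _ = m * (w * (m⁻¹ * v * m)) * m⁻¹ := by rw [hNV w hw _ hv']
      _ = m * w * m⁻¹ * v := by group
  set ρ := (MulAction.toPermHom H (H ⧸ L)).prod (QuotientGroup.mk' W) with hρ
  have hker : ρ.ker = N := by
    rw [hρ, MonoidHom.ker_prod, ← Subgroup.normalCore_eq_ker, QuotientGroup.ker_mk']
    refine le_antisymm (fun x hx => ?_) (le_inf (Subgroup.normal_le_normalCore.2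
      (inf_le_left.trans le_sup_left)) (inf_le_left.trans le_sup_right))
    have hxc := hx.1
    have hxV : ∀ v ∈ V, v * x = x * v := by
      intro v hv
      have h1 : v * x * v⁻¹ * x⁻¹ ∈ L ⊓ V := Subgroup.mem_inf.2
        ⟨Subgroup.normalCore_le L (mul_mem ((Subgroup.normalCore_normal L).conj_mem x hxc v) (inv_mem hxc)),
         by rw [show v * x * v⁻¹ * x⁻¹ = v * (x * v⁻¹ * x⁻¹) by group]
            exact mul_mem hv (hVn.conj_mem _ (inv_mem hv) x)⟩
      rw [hLV, Subgroup.mem_bot, mul_inv_eq_one, mul_inv_eq_iff_eq_mul] at h1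
      exact h1
    have hxL : x ∈ L := Subgroup.normalCore_le L hxc
    haveI : C.Normal := ⟨fun w hw h => by
      rw [Subgroup.mem_center_iff.1 (hC hw) h, mul_inv_cancel_right]; exact hw⟩
    obtain ⟨m, hm, z, hz, rfl⟩ := Subgroup.mem_sup_of_normal_right.1 hxL
    have hz1 : z = 1 := Subgroup.mem_bot.1 (hWCb.le ⟨hz, (mul_mem_cancel_left (Subgroup.mem_sup_right hm)).1 hx.2⟩)
    rw [hz1, mul_one] at hxV ⊢
    exact Subgroup.mem_inf.2 ⟨hm, Subgroup.mem_centralizer_iff.2 hxV⟩
  set i := N.relIndex M with hi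
  have hNM : N ≤ M := inf_le_left
  have hiN : Nat.card N * i = 2 * n := by rw [hi, PBasic.card_mul_relIndex hNM, hcM]
  have hNi : N.index = 4 * Nat.card C * i := by
    have h := N.card_mul_index
    have hcQ : Nat.card Q = 4 * Nat.card C := by
      have h1 := PBasic.card_mul_relIndex hCQ
      have h2 := PBasic.relIndex_eq_relIndex_sup C V
      rw [← hQ, ← Subgroup.inf_relIndex_right, inf_comm, hVC, Subgroup.relIndex_bot_left, hcardV] at h2
      rw [← h1, ← h2, mul_comm]
    rw [S.card, ← hiN, hcQ] at h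
    exact Nat.eq_of_mul_eq_mul_left Nat.card_pos (h.trans (by ring))
  have hinj : Function.Injective (QuotientGroup.kerLift ρ) := QuotientGroup.kerLift_injective ρ
  have hperm : Nat.card (Equiv.Perm (H ⧸ L) × H ⧸ W) = 24 * Nat.card C := by
    rw [Nat.card_prod, Nat.card_perm, ← Subgroup.index_eq_card, ← Subgroup.index_eq_card, hLidx, hWidx]
    rfl
  have hi6 : i ≤ 6 := by
    have h := Nat.card_le_card_of_injective _ hinj
    rw [hperm, ← Subgroup.index_eq_card, hker, hNi] at h
    have := Nat.card_pos (α := C)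
    nlinarith
  have haN : a ∉ N := fun h => hc1 (by
    have e := hNV a h c' hcV'
    have : a * c' * a = c' := by rw [← e, mul_assoc, S.ha, mul_one]
    rw [hac'] at this
    exact mul_eq_right.1 this)
  have hrN : r ∉ N := fun h => hne (by
    have hu : ∀ v ∈ V, (a * b) * v = v * (a * b) := by
      intro v hv
      rw [hab]
      exact ((show Commute q0 v from hQV q0 hq0 v hv).mul_left
        ((show Commute v r from hNV r h v hv).zpow_right j0).symm).eq
    have e := hu c hcV
    have : a * b * c * (a * b)⁻¹ = c' := by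
      rw [mul_inv_rev, hbi, hai]
      calc a * b * c * (b * a) = a * (b * c * b) * a := by group
        _ = (a * c * a) * (a * c' * a) := by
          rw [hbc]; simp only [mul_assoc]; rw [← mul_assoc a a, S.ha, one_mul]
        _ = c' := by rw [hac, hac', ← mul_assoc, hc, one_mul]
    rw [e, mul_inv_cancel_right] at this
    exact this)
  haveI : (N.subgroupOf M).Normal := Subgroup.normal_subgroupOf
  have hicard : Nat.card (M ⧸ N.subgroupOf M) = i := by rw [← Subgroup.index_eq_card]; rfl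
  have h2i : 2 ∣ i := by
    have ha1 : orderOf (QuotientGroup.mk' (N.subgroupOf M) ⟨a, Subgroup.mem_sup_left (Subgroup.mem_zpowers a)⟩) = 2 := by
      refine orderOf_eq_prime ?_ fun e => ?_
      · rw [← map_pow]
        convert map_one (QuotientGroup.mk' (N.subgroupOf M))
        exact Subtype.ext (by simpa [pow_two] using S.ha)
      · exact haN (Subgroup.mem_subgroupOf.1 ((QuotientGroup.eq_one_iff _).1 e))
    rw [← hicard, ← ha1]
    exact orderOf_dvd_natCard _
  obtain ⟨d, hd1, hdn, hdi⟩ : ∃ d, d ≠ 1 ∧ d ∣ n ∧ d ∣ i := by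
    refine ⟨orderOf (QuotientGroup.mk' (N.subgroupOf M) ⟨r, Subgroup.mem_sup_right (Subgroup.mem_zpowers r)⟩),
      fun e => hrN (Subgroup.mem_subgroupOf.1 ((QuotientGroup.eq_one_iff _).1 (orderOf_eq_one_iff.1 e))),
      (orderOf_map_dvd _ _).trans ?_, hicard ▸ orderOf_dvd_natCard _⟩
    rw [Subgroup.orderOf_mk, hord]
  have hdo : Odd d := S.odd.of_dvd_nat hdn
  have hi0 : i ≠ 0 := fun e => by rw [e, mul_zero] at hiN; have := S.odd.pos; omega
  have hi_eq : i = 6 := by
    have hd6 : d ≤ 6 := (Nat.le_of_dvd (by omega) hdi).trans hi6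
    rcases hdo with ⟨m, rfl⟩
    obtain ⟨k, hk⟩ := h2i
    obtain ⟨w, hw⟩ := hdi
    have hm : m = 1 ∨ m = 2 := by omega
    rcases hm with rfl | rfl <;> omega
  have hodd : oddCore H = N := by
    have hN0 : N ≤ oddCore H := by
      refine le_oddCore hNn ?_
      rw [hi_eq] at hiN
      rcases Nat.even_or_odd (Nat.card N) with ⟨k, hk⟩ | h
      · rcases S.odd with ⟨m, hm⟩; omega
      · exact h
    refine le_antisymm (fun o ho => ?_) hN0
    have hom : o ∈ Q ⊔ M := htop ▸ Subgroup.mem_top o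
    obtain ⟨q, hq, m, hm, rfl⟩ := Subgroup.mem_sup_of_normal_left.1 hom
    have hmN : m ∈ N := by
      refine Subgroup.mem_inf.2 ⟨hm, Subgroup.mem_centralizer_iff.2 fun v hv => ?_⟩
      have e := oddCore_commute S.normal S.pg ho (hVQ hv)
      calc v * m = q⁻¹ * (q * v) * m := by group
        _ = q⁻¹ * (v * q) * m := by rw [hQV q hq v hv]
        _ = q⁻¹ * (v * (q * m)) := by group
        _ = q⁻¹ * ((q * m) * v) := by rw [e]
        _ = m * v := by group
    have hq1 : q ∈ oddCore H ⊓ Q := Subgroup.mem_inf.2 ⟨(mul_mem_cancel_right (hN0 hmN)).1 ho, hq⟩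
    rw [PBasic.inf_eq_bot_of_coprime (PBasic.pPrimeCore_coprime 2 H) S.pg, Subgroup.mem_bot] at hq1
    rw [hq1, one_mul]; exact hmN
  have hbij : Function.Bijective (QuotientGroup.kerLift ρ) := by
    refine (Nat.bijective_iff_injective_and_card _).2 ⟨hinj, ?_⟩
    rw [hperm, ← Subgroup.index_eq_card, hker, hNi, hi_eq]; ring
  let eL : H ⧸ L ≃ Fin 4 := (Finite.equivFinOfCardEq (by rw [← Subgroup.index_eq_card, hLidx]))
  let e := ((QuotientGroup.quotientMulEquivOfEq (hodd.trans hker.symm)).trans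
    (MulEquiv.ofBijective _ hbij)).trans (MulEquiv.prodCongr eL.permCongrHom (MulEquiv.refl (H ⧸ W)))
  rcases Nat.lt_or_ge (Nat.card C) 2 with h1 | h2
  · left
    have hu : Nat.card (H ⧸ W) = 1 := by
      rw [← Subgroup.index_eq_card, hWidx]; have := Nat.card_pos (α := C); omega
    obtain ⟨hs, -⟩ := Nat.card_eq_one_iff_unique.1 hu
    haveI := hs
    haveI : Unique (H ⧸ W) := uniqueOfSubsingleton 1
    exact ⟨e.trans MulEquiv.prodUnique⟩
  · right
    have hu : Nat.card (H ⧸ W) = 2 := by rw [← Subgroup.index_eq_card, hWidx]; omega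
    exact ⟨e.trans (MulEquiv.prodCongr (MulEquiv.refl _) (mulEquivOfPrimeCardEq hu (by simp)))⟩

end Cfsg.Agent.DihedralTop
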