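import Cfsg.Agent.Lib.FGStruct.ShiftDihedralBound
import Cfsg.Agent.Lib.FGStruct.ShiftDihedralQuot

/-!
Shifted generators attached to a group with dihedral quotient by its 2-core.
-/

set_option autoImplicit false
set_option linter.style.haveILetI false
open scoped Pointwise

namespace Cfsg.Agent.ShiftChain

variable {G : Type*} [Group G] [Finite G]

theorem mem_normalizer_of_smul_eq {w : G} {M : Subgroup G} (h : MulAut.conj w • M = M) :
    w ∈ Subgroup.normalizer (M : Set G) := Subgroup.mem_normalizer_fintype fun v hv => by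
  have h1 := Subgroup.smul_mem_pointwise_smul v (MulAut.conj w) M hv
  rwa [h] at h1

/-- The facts that are used afterwards. -/
theorem exists_setup (H : Subgroup G) (hO : Cfsg.pCore 2 ↥H ≠ ⊥) (n : ℕ) (hn : 2 ≤ n)
    (hdih : Nonempty (↥H ⧸ Cfsg.pCore 2 ↥H ≃* DihedralGroup n))
    (P : Subgroup G) (hPH : P ≤ H) (hP : IsPGroup 2 P) (hPsyl : ¬ 2 ∣ P.relIndex H)
    (y : G) (hy2 : y ^ 2 ∈ P ⊔ Subgroup.centralizer (P : Set G)) (hyN : MulAut.conj y • P = P)
    (hyQ : ∀ Q : Subgroup G, Q ≤ P → (Q.subgroupOf H).Normal → MulAut.conj y • Q = Q → Q = ⊥) :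
    ∃ (g x₀ : G) (t : ℕ), W g x₀ 0 t = P ∧ W g x₀ 0 (t + 1) = H ∧
      (Cfsg.pCore 2 ↥H).map H.subtype = W g x₀ 1 (t - 1) ∧ Setup g x₀ t y ∧
      ∀ (a b : H), (a : G) = X g x₀ 0 → (b : G) = X g x₀ t → DihedralTop.Split (Cfsg.pCore 2 ↥H) a b n := by
  haveI : Fact (Nat.Prime 2) := ⟨Nat.prime_two⟩
  obtain ⟨e⟩ := hdih
  set Qh := Cfsg.pCore 2 ↥H with hQh
  have hQhp : IsPGroup 2 Qh := PBasic.pCore_isPGroup 2 _
  haveI : NeZero n := ⟨by omega⟩
  set f : H →* DihedralGroup n := e.toMonoidHom.comp (QuotientGroup.mk' Qh) with hf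
  have hker : f.ker = Qh := by
    rw [hf, show e.toMonoidHom = (e : H ⧸ Qh →* DihedralGroup n) from rfl, MonoidHom.ker_mulEquiv_comp,
      QuotientGroup.ker_mk']
  have hfs : Function.Surjective f := e.surjective.comp (QuotientGroup.mk'_surjective Qh)
  have hodd : Odd n := by
    rcases Nat.even_or_odd n with ⟨m, hm⟩ | h
    swap
    · exact h
    exfalso
    set z : DihedralGroup n := DihedralGroup.r ((m : ℕ) : ZMod n) with hz
    have hmm : ((m : ℕ) : ZMod n) + (m : ℕ) = 0 := by rw [← Nat.cast_add, ← hm, ZMod.natCast_self]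
    have hzz : z ^ 2 = 1 := by rw [pow_two, hz, DihedralGroup.r_mul_r, hmm, DihedralGroup.r_zero]
    haveI : (Subgroup.zpowers z).Normal := ⟨fun w hw d => by
      obtain ⟨j, rfl⟩ := hw
      show d * z ^ j * d⁻¹ ∈ _
      have hd : d * z * d⁻¹ = z := by
        rcases d with i | i
        · simp [hz]
        · simp only [hz, DihedralGroup.inv_sr, DihedralGroup.sr_mul_r, DihedralGroup.sr_mul_sr]
          congr 1
          linear_combination -hmm
      rw [← conj_zpow, hd]
      exact zpow_mem (Subgroup.mem_zpowers z) j⟩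
    have hN : (Subgroup.zpowers z).comap f ≤ Qh :=
      PBasic.le_pCore inferInstance (IsPGroup.comap_of_ker_isPGroup (IsPGroup.of_card_dvd_pow (n := 1) (by
        rw [Nat.card_zpowers, pow_one]; exact orderOf_dvd_of_pow_eq_one hzz)) f (by rw [hker]; exact hQhp))
    obtain ⟨w, hw⟩ := hfs z
    have h1 : f w = 1 := by
      rw [← MonoidHom.mem_ker, hker]
      exact hN (by rw [Subgroup.mem_comap, hw]; exact Subgroup.mem_zpowers z)
    rw [hw, hz, DihedralGroup.one_def] at h1
    have h2 := (ZMod.natCast_eq_zero_iff m n).1 (DihedralGroup.r.inj h1)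
    have := Nat.le_of_dvd (by omega) h2
    omega
  have hn3 : 3 ≤ n := by rcases hodd with ⟨m, rfl⟩; omega
  haveI : Fact (1 < n) := ⟨by omega⟩
  set Ph := P.subgroupOf H with hPh
  have hPhp : IsPGroup 2 Ph := hP.of_equiv (Subgroup.subgroupOfEquivOfLe hPH).symm
  have hQP : Qh ≤ Ph := by
    have hmax := (hPhp.toSylow hPsyl).is_maximal'
      (hPhp.to_sup_of_normal_right hQhp (H := Ph) (K := Qh)) le_sup_left
    exact le_sup_right.trans hmax.le
  have hcardH : Nat.card H = 2 * n * Nat.card Qh := by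
    rw [← Qh.card_mul_index, Subgroup.index_eq_card, Nat.card_congr e.toEquiv, DihedralGroup.nat_card, mul_comm]
  have hcardPh : Nat.card Ph = 2 * Nat.card Qh := by
    obtain ⟨a, ha⟩ := IsPGroup.iff_card.1 hPhp
    obtain ⟨b, hb⟩ := IsPGroup.iff_card.1 hQhp
    have h := Ph.card_mul_index
    rw [hcardH, ha, hb, show 2 * n * 2 ^ b = 2 ^ (b + 1) * n by ring] at h
    rw [ha, hb, ← pow_succ']
    exact Nat.dvd_antisymm
      ((Nat.Coprime.pow_left a (Nat.coprime_two_left.2 hodd)).dvd_of_dvd_mul_right (Dvd.intro _ h))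
      ((Nat.Coprime.pow_left (b + 1) ((Nat.prime_two.coprime_iff_not_dvd).2 hPsyl)).dvd_of_dvd_mul_right
        (Dvd.intro _ h.symm))
  have hrot : ∀ w ∈ Ph, ∀ i, f w = DihedralGroup.r i → f w = 1 := by
    intro w hw i hi
    obtain ⟨k, hk⟩ := hPhp ⟨w, hw⟩
    have hk' : w ^ 2 ^ k = 1 := congrArg Subtype.val hk
    have h1 : orderOf (f w) ∣ 2 ^ k := orderOf_dvd_of_pow_eq_one (by rw [← map_pow, hk', map_one])
    have h2 : orderOf (f w) ∣ n := orderOf_dvd_of_pow_eq_one (by
      rw [hi, DihedralGroup.r_pow, ZMod.natCast_self, mul_zero, DihedralGroup.r_zero])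
    exact orderOf_eq_one_iff.1
      (Nat.eq_one_of_dvd_coprimes ((Nat.coprime_two_left.2 hodd).pow_left k) h1 h2)
  obtain ⟨p, hpP, hpQ⟩ : ∃ p ∈ Ph, p ∉ Qh := by
    by_contra h
    push Not at h
    have := Subgroup.card_le_of_le (show Ph ≤ Qh from h)
    have := Nat.card_pos (α := Qh)
    omega
  obtain ⟨i, hi⟩ : ∃ i, f p = DihedralGroup.sr i := by
    rcases hfp : f p with j | j
    · exact absurd (hker.le (MonoidHom.mem_ker.2 (hrot p hpP j hfp))) hpQ
    · exact ⟨j, rfl⟩
  have himg : ∀ w ∈ Ph, f w = 1 ∨ f w = DihedralGroup.sr i := by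
    intro w hw
    rcases hfw : f w with j | j
    · exact Or.inl (hfw ▸ hrot w hw j hfw)
    · right
      have h1 : f (p * w) = DihedralGroup.r (j - i) := by rw [map_mul, hi, hfw, DihedralGroup.sr_mul_sr]
      have h2 := hrot _ (mul_mem hpP hw) _ h1
      rw [h1, DihedralGroup.one_def] at h2
      rw [show j = i from sub_eq_zero.1 (DihedralGroup.r.inj h2)]
  obtain ⟨x, hx⟩ := hfs (DihedralGroup.r (((n + 1) / 2 : ℕ) : ZMod n))
  have hk1 : (((n + 1) / 2 : ℕ) : ZMod n) + (((n + 1) / 2 : ℕ) : ZMod n) = 1 := by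
    rw [← Nat.cast_add, show (n + 1) / 2 + (n + 1) / 2 = n + 1 by rcases hodd with ⟨m, rfl⟩; omega,
      Nat.cast_add, ZMod.natCast_self, Nat.cast_one, zero_add]
  have hfconj : ∀ w : H, f w = DihedralGroup.sr i → f (x⁻¹ * w * x) = DihedralGroup.sr (i + 1) := by
    intro w hw
    rw [map_mul, map_mul, map_inv, hx, hw, DihedralGroup.inv_r, DihedralGroup.r_mul_sr, DihedralGroup.sr_mul_r,
      ← hk1]
    congr 1
    ring
  set g := y * (x : G) with hg
  set Q := Qh.map H.subtype with hQ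
  set P' := MulAut.conj (x : G)⁻¹ • P with hP'
  have hyN' : MulAut.conj y⁻¹ • P = P := by rw [map_inv, inv_smul_eq_iff, hyN]
  have hgP : MulAut.conj g⁻¹ • P = P' := by rw [hg, mul_inv_rev, map_mul, mul_smul, hyN', hP']
  have hP'H : P' ≤ H := fun w hw => by
    rw [hP', mem_conj_smul, inv_inv] at hw
    have := mul_mem (mul_mem (inv_mem x.2) (hPH hw)) x.2
    rwa [mul_assoc (x : G) w, inv_mul_cancel_left, inv_mul_cancel_right] at this
  have hQiff : ∀ w : H, (w : G) ∈ Q ↔ w ∈ Qh := fun w =>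
    Subgroup.mem_map_iff_mem H.subtype_injective
  have hQleP : Q ≤ P := by
    rintro _ ⟨w, hw, rfl⟩; exact Subgroup.mem_subgroupOf.1 (hQP hw)
  have hQH : H ≤ Subgroup.normalizer (Q : Set G) := fun h hh => Subgroup.mem_normalizer_fintype fun w hw => by
    obtain ⟨v, hv, rfl⟩ := hw
    exact ⟨⟨h, hh⟩ * v * ⟨h, hh⟩⁻¹, (inferInstance : Qh.Normal).conj_mem v hv _, rfl⟩
  have hQP' : Q ≤ P' := by
    intro w hw
    rw [hP', mem_conj_smul, inv_inv]
    exact hQleP ((Subgroup.mem_normalizer_iff.1 (hQH x.2) w).1 hw)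
  have hint : P ⊓ P' = Q := by
    refine le_antisymm (fun w hw => ?_) (le_inf hQleP hQP')
    have hwH := hPH hw.1
    rw [show w = ((⟨w, hwH⟩ : H) : G) from rfl, hQiff, ← hker, MonoidHom.mem_ker]
    have hw2 : w ∈ P' := hw.2
    rw [hP', mem_conj_smul, inv_inv] at hw2
    set v : H := x * ⟨w, hwH⟩ * x⁻¹ with hv
    have hvP : v ∈ Ph := Subgroup.mem_subgroupOf.2 hw2
    have hwv : (⟨w, hwH⟩ : H) = x⁻¹ * v * x := by rw [hv]; group
    rcases himg v hvP with h1 | h1
    · rw [hwv, map_mul, map_mul, h1, mul_one, ← map_mul, inv_mul_cancel, map_one]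
    · rcases himg ⟨w, hwH⟩ (Subgroup.mem_subgroupOf.2 hw.1) with h2 | h2
      · exact h2
      · exfalso
        rw [hwv, hfconj v h1] at h2
        exact one_ne_zero (add_eq_left.1 (DihedralGroup.sr.inj h2))
  have hgenH : P ⊔ P' = H := by
    refine le_antisymm (sup_le hPH hP'H) ?_
    set M := (P ⊔ P').subgroupOf H with hM
    have hkM : f.ker ≤ M := fun w hw =>
      Subgroup.mem_subgroupOf.2 (Subgroup.mem_sup_left (hQleP ((hQiff w).2 (hker.le hw))))
    have hpx : f (x⁻¹ * p * x) ∈ M.map f := Subgroup.mem_map_of_mem f (Subgroup.mem_subgroupOf.2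
      (Subgroup.mem_sup_right (show ((x⁻¹ * p * x : H) : G) ∈ P' by
        rw [hP', mem_conj_smul, inv_inv]
        simpa [mul_assoc] using Subgroup.mem_subgroupOf.1 hpP)))
    have hp' : DihedralGroup.sr i ∈ M.map f := hi ▸ Subgroup.mem_map_of_mem f
      (Subgroup.mem_subgroupOf.2 (Subgroup.mem_sup_left (Subgroup.mem_subgroupOf.1 hpP)))
    rw [hfconj p hi] at hpx
    have hr : DihedralGroup.r (1 : ZMod n) ∈ M.map f := by
      have := mul_mem hp' hpx
      rwa [DihedralGroup.sr_mul_sr, add_sub_cancel_left] at this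
    have hrj : ∀ j : ZMod n, DihedralGroup.r j ∈ M.map f := fun j => by
      have := pow_mem hr j.val
      rwa [DihedralGroup.r_one_pow, ZMod.natCast_zmod_val] at this
    have htop : M.map f = ⊤ := by
      refine eq_top_iff.2 fun d _ => ?_
      rcases d with j | j
      · exact hrj j
      · have := mul_mem hp' (hrj (j - i))
        rwa [DihedralGroup.sr_mul_r, add_sub_cancel] at this
    have : M = ⊤ := by
      rw [← Subgroup.comap_map_eq_self hkM, htop, Subgroup.comap_top]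
    exact Subgroup.subgroupOf_eq_top.1 this
  have hcardP : Nat.card P = 2 * Nat.card Qh := by
    rw [← hcardPh, Nat.card_congr (Subgroup.subgroupOfEquivOfLe hPH).toEquiv]
  have hcardQ : Nat.card Q = Nat.card Qh := Subgroup.card_map_of_injective H.subtype_injective
  have hidx : (P ⊓ MulAut.conj g⁻¹ • P).relIndex (MulAut.conj g⁻¹ • P) = 2 := by
    rw [hgP, hint]
    have h := PBasic.card_mul_relIndex hQP'
    rw [hcardQ, hP', ← Nat.card_congr (Subgroup.equivSMul (MulAut.conj (x : G)⁻¹) P).toEquiv, hcardP,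
      mul_comm 2] at h
    exact Nat.eq_of_mul_eq_mul_left Nat.card_pos h
  have h1 : ∀ M : Subgroup G, M ≤ P → (M.subgroupOf P).Normal → MulAut.conj g • M = M → M = ⊥ := by
    intro M hMP hMn hgM
    have hPn : P ≤ Subgroup.normalizer (M : Set G) :=
      (Subgroup.normal_subgroupOf_iff_le_normalizer hMP).1 hMn
    have e1 : MulAut.conj (x : G) • M = MulAut.conj y⁻¹ • M := by
      conv_rhs => rw [← hgM, hg, map_mul, mul_smul, ← mul_smul, ← map_mul, inv_mul_cancel, map_one, one_smul]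
    have hP'n : P' ≤ Subgroup.normalizer (M : Set G) := by
      intro w hw
      rw [hP', mem_conj_smul, inv_inv] at hw
      refine mem_normalizer_of_smul_eq ?_
      set v := (x : G) * w * (x : G)⁻¹ with hv
      have hw' : w = (x : G)⁻¹ * v * x := by rw [hv]; group
      have hyv : y * v * y⁻¹ ∈ P := by
        have := Subgroup.smul_mem_pointwise_smul v (MulAut.conj y) P hw
        rwa [hyN] at this
      rw [hw', map_mul, map_mul, mul_smul, mul_smul, e1, ← mul_smul (MulAut.conj v), ← map_mul,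
        show v * y⁻¹ = y⁻¹ * (y * v * y⁻¹) by group, map_mul, mul_smul, smul_eq_of_mem_normalizer (hPn hyv),
        ← e1, ← mul_smul, ← map_mul, inv_mul_cancel, map_one, one_smul]
    have hHn : H ≤ Subgroup.normalizer (M : Set G) := hgenH ▸ sup_le hPn hP'n
    refine hyQ M hMP ((Subgroup.normal_subgroupOf_iff_le_normalizer (hMP.trans hPH)).2 hHn) ?_
    rw [smul_eq_of_mem_normalizer (hHn x.2), map_inv, eq_inv_smul_iff] at e1
    exact e1
  have hN : ((P ⊓ MulAut.conj g⁻¹ • P).subgroupOf (MulAut.conj g⁻¹ • P)).Normal :=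
    Subgroup.normal_of_index_eq_two hidx
  obtain ⟨x₀, t, ht1, hWP, hcard⟩ := exists_gen P g hN hidx h1
  have hgen : Gen 2 g x₀ t := ⟨ht1, hcard⟩
  have hW1 : W g x₀ 1 t = P' := by
    have e := map_W g x₀ 1 0 t
    rw [add_zero, hWP] at e
    rw [← hgP, ← e, cj, zpow_one]
    rfl
  have hWH : W g x₀ 0 (t + 1) = H := by
    rw [← hgenH, ← hWP, ← hW1]
    refine le_antisymm ?_ (sup_le (W_le le_rfl (by omega)) (W_le (by omega) (by omega)))
    rw [W_split, zero_add]
    exact sup_le_sup_right (Subgroup.zpowers_le.2 (mem_W le_rfl (by omega))) _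
  have hPt : Nat.card P = 2 ^ t := by rw [← hWP, hcard 0 t le_rfl]
  have hWQ : Q = W g x₀ 1 (t - 1) := by
    refine (Subgroup.eq_of_le_of_card_ge ?_ ?_).symm
    · rw [← hint]
      exact le_inf (hWP ▸ W_le (by omega) (by omega)) (hW1 ▸ W_le le_rfl (by omega))
    · rw [hcard 1 (t - 1) (by omega), hcardQ]
      have e : 2 ^ t = 2 * 2 ^ (t - 1) := by rw [← pow_succ']; congr 1; omega
      omega
  have ht2 : 2 ≤ t := by
    by_contra h
    refine hO (Subgroup.eq_bot_of_card_eq _ ?_)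
    rw [← hcardQ, hWQ, hcard 1 (t - 1) (by omega), show t - 1 = 0 by omega, pow_zero]
  refine ⟨g, x₀, t, hWP, hWH, hWQ, ⟨hgen, ht2, ?_, ?_, hWP ▸ hyN, hWP ▸ hy2, ?_⟩, ?_⟩
  · rw [hWH, ← hWQ]; exact hQH
  · exact ⟨x, by rw [hWH]; exact x.2, by rw [hWP, hW1]⟩
  · intro M hM hn' hy'
    rw [hWP] at hM
    rw [hWH] at hn'
    exact hyQ M hM ((Subgroup.normal_subgroupOf_iff_le_normalizer (hM.trans hPH)).2 hn') hy'
  intro a b ha hb
  have ha2 : a * a = 1 := Subtype.ext (by rw [Subgroup.coe_mul, ha]; exact hgen.mul_self_X 0)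
  have hb2 : b * b = 1 := Subtype.ext (by rw [Subgroup.coe_mul, hb]; exact hgen.mul_self_X t)
  have hinv : ∀ w : H, w * w = 1 → w ∉ Qh → ∃ j, f w = DihedralGroup.sr j := by
    intro w hw hwQ
    rcases hfw : f w with j | j
    swap
    · exact ⟨j, rfl⟩
    refine absurd (hker.le (MonoidHom.mem_ker.2 (orderOf_eq_one_iff.1 ?_))) hwQ
    refine Nat.eq_one_of_dvd_coprimes (Nat.coprime_two_left.2 hodd) (orderOf_dvd_of_pow_eq_one
      (by rw [pow_two, ← map_mul, hw, map_one])) (orderOf_dvd_of_pow_eq_one (by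
      rw [hfw, DihedralGroup.r_pow, ZMod.natCast_self, mul_zero, DihedralGroup.r_zero]))
  have hlt : Nat.card Q < 2 ^ t := by
    rw [← hPt, hcardQ, hcardP]; have := Nat.card_pos (α := Qh); omega
  have haQ : a ∉ Qh := fun h => by
    have h' := (hQiff a).2 h
    rw [ha] at h'
    have : W g x₀ 0 ((t - 1) + 1) ≤ Q := by
      rw [W_split, zero_add]; exact sup_le (Subgroup.zpowers_le.2 h') hWQ.ge
    have := Subgroup.card_le_of_le this
    rw [hcard _ _ (by omega), show t - 1 + 1 = t by omega] at this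
    omega
  have hbQ : b ∉ Qh := fun h => by
    have h' := (hQiff b).2 h
    rw [hb] at h'
    have : W g x₀ 1 ((t - 1) + 1) ≤ Q := by
      rw [W_split']
      refine sup_le hWQ.ge (Subgroup.zpowers_le.2 ?_)
      rwa [show (1 : ℤ) + ((t - 1 : ℕ) : ℤ) = t by omega]
    have := Subgroup.card_le_of_le this
    rw [hcard _ _ (by omega), show t - 1 + 1 = t by omega] at this
    omega
  obtain ⟨ja, hja⟩ := hinv a ha2 haQ
  obtain ⟨jb, hjb⟩ := hinv b hb2 hbQ
  refine ⟨hodd, inferInstance, hQhp, ha2, hb2, ?_, hcardH, ?_⟩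
  · apply Subgroup.map_injective H.subtype_injective
    rw [Subgroup.map_sup, Subgroup.map_sup, MonoidHom.map_zpowers, MonoidHom.map_zpowers, ← hQ,
      ← MonoidHom.range_eq_map, Subgroup.range_subtype, Subgroup.coe_subtype, ha, hb, hWQ]
    refine le_antisymm ?_ ?_
    · rw [← hWH]
      exact sup_le (sup_le (W_le (by omega) (by omega)) (Subgroup.zpowers_le.2 (mem_W le_rfl (by omega))))
        (Subgroup.zpowers_le.2 (mem_W (by omega) (by omega)))
    · rw [← hWH, W_split, zero_add]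
      refine sup_le ((le_sup_right).trans le_sup_left) ?_
      conv_lhs => rw [show t = (t - 1) + 1 by omega, W_split']
      refine sup_le (le_sup_left.trans le_sup_left) ?_
      rw [show (1 : ℤ) + ((t - 1 : ℕ) : ℤ) = t by omega]
      exact le_sup_right
  · rw [← hker, MonoidHom.mem_ker, map_pow, map_mul, hja, hjb, DihedralGroup.sr_mul_sr, DihedralGroup.r_pow,
      ZMod.natCast_self, mul_zero, DihedralGroup.r_zero]

end Cfsg.Agent.ShiftChain
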