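import Cfsg.Agent.Lib.FGStruct.ShiftChain

/-!
Commutators of shifted generators: the two-thirds inequality.
-/

set_option autoImplicit false
set_option linter.style.haveILetI false
open scoped Pointwise

namespace Cfsg.Agent.ShiftChain

variable {G : Type*} [Group G] [Finite G]

/-- The standing facts about shifted generators. -/
structure Gen (p : ℕ) (g x₀ : G) (t : ℕ) : Prop where
  one_le : 1 ≤ t
  card : ∀ (a : ℤ) (k : ℕ), k ≤ t → Nat.card (W g x₀ a k) = p ^ k

variable {p : ℕ} [hp : Fact p.Prime] {g x₀ : G} {t : ℕ}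

theorem Gen.isPGroup (h : Gen p g x₀ t) {a : ℤ} {k : ℕ} (hk : k ≤ t) : IsPGroup p (W g x₀ a k) :=
  IsPGroup.of_card (h.card a k hk)

/-- The commutator of two generators lies strictly between them. -/
theorem Gen.comm_mem (h : Gen p g x₀ t) {i : ℤ} {d : ℕ} (hd : 1 ≤ d) (hdt : d < t) :
    X g x₀ i * X g x₀ (i + d) * (X g x₀ i)⁻¹ * (X g x₀ (i + d))⁻¹ ∈ W g x₀ (i + 1) (d - 1) := by
  have hK := h.isPGroup (a := i) (k := d + 1) (by omega)
  have h1 : W g x₀ i d ≤ W g x₀ i (d + 1) := W_le le_rfl (by push_cast; omega)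
  have h2 : W g x₀ (i + 1) d ≤ W g x₀ i (d + 1) := W_le (by omega) (by push_cast; omega)
  have hc : ∀ a : ℤ, Nat.card (W g x₀ i (d + 1)) = p * Nat.card (W g x₀ a d) := fun a => by
    rw [h.card _ _ (by omega), h.card _ _ (by omega), pow_succ']
  have hmem := commutator_mem_inf hK h1 h2 (hc i) (hc _) (mem_W (g := g) (x₀ := x₀) (i := i) le_rfl (by omega))
    (mem_W (g := g) (x₀ := x₀) (i := i + d) (by omega) (by omega))
  have hsub : W g x₀ (i + 1) (d - 1) ≤ W g x₀ i d ⊓ W g x₀ (i + 1) d :=
    le_inf (W_le (by omega) (by omega)) (W_le le_rfl (by omega))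
  have hlt : W g x₀ i d ⊓ W g x₀ (i + 1) d < W g x₀ i d := by
    refine lt_of_le_of_ne inf_le_left fun e => ?_
    have he : W g x₀ i d = W g x₀ (i + 1) d := Subgroup.eq_of_le_of_card_ge (inf_eq_left.1 e)
      (by rw [h.card _ _ (by omega), h.card _ _ (by omega)])
    have hle : W g x₀ i (d + 1) ≤ W g x₀ i d := by
      rw [W_split g x₀ i d, ← he]
      exact sup_le (Subgroup.zpowers_le.2 (mem_W le_rfl (by omega))) le_rfl
    have hc' := Subgroup.card_le_of_le hle
    rw [h.card _ _ (by omega), h.card _ _ (by omega), Nat.pow_le_pow_iff_right hp.out.one_lt] at hc'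
    omega
  have heq : W g x₀ (i + 1) (d - 1) = W g x₀ i d ⊓ W g x₀ (i + 1) d := by
    refine Subgroup.eq_of_le_of_card_ge hsub ?_
    obtain ⟨b, hb⟩ := IsPGroup.iff_card.1 ((h.isPGroup (a := i) (k := d) (by omega)).to_le hlt.le)
    have h3 : Nat.card (W g x₀ i d ⊓ W g x₀ (i + 1) d : Subgroup G) < Nat.card (W g x₀ i d) :=
      lt_of_le_of_ne (Subgroup.card_le_of_le hlt.le)
        fun e => hlt.ne (Subgroup.eq_of_le_of_card_ge hlt.le e.ge)
    rw [hb, h.card _ _ (by omega), Nat.pow_lt_pow_iff_right hp.out.one_lt] at h3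
    rw [hb, h.card _ _ (by omega)]
    exact Nat.pow_le_pow_right hp.out.pos (by omega)
  rw [heq]; exact hmem

/-- The first generator splits off. -/
theorem Gen.exists_split (h : Gen p g x₀ t) {a : ℤ} {k : ℕ} (hk : k < t) {w : G} (hw : w ∈ W g x₀ a (k + 1)) :
    ∃ e : ℤ, ∃ r ∈ W g x₀ (a + 1) k, w = (X g x₀ a) ^ e * r := by
  have hn : W g x₀ a (k + 1) ≤ Subgroup.normalizer (W g x₀ (a + 1) k : Set G) :=
    le_normalizer_of_card (h.isPGroup (by omega)) (W_le (by omega) (by push_cast; omega))
      (by rw [h.card _ _ (by omega), h.card _ _ (by omega), pow_succ'])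
  have hw' : w ∈ (Subgroup.zpowers (X g x₀ a) : Set G) * (W g x₀ (a + 1) k : Set G) := by
    rw [← Subgroup.coe_mul_of_left_le_normalizer_right _ _
      ((Subgroup.zpowers_le.2 (mem_W le_rfl (by push_cast; omega))).trans hn), ← W_split]
    exact hw
  obtain ⟨u, hu, r, hr, rfl⟩ := Set.mem_mul.1 hw'
  obtain ⟨e, rfl⟩ := hu
  exact ⟨e, r, hr, rfl⟩

/-- The last generator splits off. -/
theorem Gen.exists_split' (h : Gen p g x₀ t) {a : ℤ} {k : ℕ} (hk : k < t) {w : G} (hw : w ∈ W g x₀ a (k + 1)) :
    ∃ r ∈ W g x₀ a k, ∃ e : ℤ, w = r * (X g x₀ (a + k)) ^ e := by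
  have hn : W g x₀ a (k + 1) ≤ Subgroup.normalizer (W g x₀ a k : Set G) :=
    le_normalizer_of_card (h.isPGroup (by omega)) (W_le le_rfl (by push_cast; omega))
      (by rw [h.card _ _ (by omega), h.card _ _ (by omega), pow_succ'])
  have hw' : w ∈ (W g x₀ a k : Set G) * (Subgroup.zpowers (X g x₀ (a + k)) : Set G) := by
    rw [← Subgroup.coe_mul_of_right_le_normalizer_left _ _
      ((Subgroup.zpowers_le.2 (mem_W (by omega) (by push_cast; omega))).trans hn), ← W_split']
    exact hw
  obtain ⟨r, hr, u, hu, rfl⟩ := Set.mem_mul.1 hw'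
  obtain ⟨e, rfl⟩ := hu
  exact ⟨r, hr, e, rfl⟩

theorem Gen.pow_X (h : Gen p g x₀ t) (a : ℤ) : X g x₀ a ^ p = 1 := by
  have h1 : orderOf (X g x₀ a) ∣ p := by
    rw [← Nat.card_zpowers, ← W_one, h.card a 1 h.one_le, pow_one]
  exact orderOf_dvd_iff_pow_eq_one.1 h1

theorem Gen.commute_of_zpow (h : Gen p g x₀ t) {a : ℤ} {e : ℤ} {y : G}
    (hc : X g x₀ a ^ e * y = y * X g x₀ a ^ e) (hne : X g x₀ a ^ e ≠ 1) :
    X g x₀ a * y = y * X g x₀ a := by
  have hle : Subgroup.zpowers (X g x₀ a ^ e) = Subgroup.zpowers (X g x₀ a) := by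
    refine Subgroup.eq_of_le_of_card_ge (Subgroup.zpowers_le.2 (zpow_mem (Subgroup.mem_zpowers _) e)) ?_
    rw [Nat.card_zpowers, Nat.card_zpowers]
    have h1 : orderOf (X g x₀ a) ∣ p := orderOf_dvd_of_pow_eq_one (h.pow_X a)
    have h2 : orderOf (X g x₀ a ^ e) ∣ p := orderOf_dvd_of_pow_eq_one (by
      rw [← zpow_natCast, ← zpow_mul, mul_comm, zpow_mul, zpow_natCast, h.pow_X, one_zpow])
    rcases (Nat.dvd_prime hp.out).1 h2 with h3 | h3
    · exact absurd (orderOf_eq_one_iff.1 h3) hne
    · rw [h3]; exact Nat.le_of_dvd hp.out.pos h1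
  obtain ⟨i, hi⟩ := Subgroup.mem_zpowers_iff.1 (hle.ge (Subgroup.mem_zpowers _))
  rw [← hi]
  exact ((show Commute (X g x₀ a ^ e) y from hc).zpow_left i).eq

/-- Commuting generators: distances below `s` commute and `s` is the first failure (or `t`). -/
structure Span (g x₀ : G) (t s : ℕ) : Prop where
  le : s ≤ t
  pos : 1 ≤ s
  comm : ∀ i j : ℤ, i - j < s → j - i < s → X g x₀ i * X g x₀ j = X g x₀ j * X g x₀ i
  fail : s < t → X g x₀ 0 * X g x₀ s ≠ X g x₀ s * X g x₀ 0

theorem exists_span (h : Gen p g x₀ t) : ∃ s, Span g x₀ t s := by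
  classical
  have hex : ∃ s, s = t ∨ X g x₀ 0 * X g x₀ s ≠ X g x₀ s * X g x₀ 0 := ⟨t, Or.inl rfl⟩
  refine ⟨Nat.find hex, ⟨Nat.find_min' hex (Or.inl rfl), ?_, ?_, fun hlt => ?_⟩⟩
  · by_contra hz
    rcases Nat.find_spec hex with e | e
    · have := h.one_le; omega
    · rw [show Nat.find hex = 0 by omega] at e
      exact e rfl
  · have key : ∀ (i : ℤ) (d : ℕ), d < Nat.find hex →
        X g x₀ i * X g x₀ (i + d) = X g x₀ (i + d) * X g x₀ i := by
      intro i d hd
      have hmin := Nat.find_min hex hd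
      push Not at hmin
      have e := congrArg (cj g i) hmin.2
      rwa [map_mul, map_mul, cj_X, cj_X, add_zero] at e
    intro i j hij hji
    rcases le_total i j with hle | hle
    · have := key i (j - i).toNat (by omega)
      rwa [show i + ((j - i).toNat : ℤ) = j by omega] at this
    · have := key j (i - j).toNat (by omega)
      rw [show j + ((i - j).toNat : ℤ) = i by omega] at this
      exact this.symm
  · exact (Nat.find_spec hex).resolve_left hlt.ne

theorem Span.commute_W {s : ℕ} (hs : Span g x₀ t s) {k a : ℤ} {m : ℕ}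
    (h1 : k - a < s) (h2 : a + m - k ≤ s) {w : G} (hw : w ∈ W g x₀ a m) : X g x₀ k * w = w * X g x₀ k := by
  have hle : W g x₀ a m ≤ Subgroup.centralizer ({X g x₀ k} : Set G) := by
    refine (Subgroup.closure_le _).2 ?_
    rintro _ ⟨i, hi, rfl⟩
    exact Subgroup.mem_centralizer_singleton_iff.2 (hs.comm i k (by have := hi.2; omega) (by have := hi.1; omega))
  exact (Subgroup.mem_centralizer_singleton_iff.1 (hle hw)).symm

/-- **The two-thirds inequality.** -/
theorem Span.two_mul_le (h : Gen p g x₀ t) {s : ℕ} (hs : Span g x₀ t s) : 2 * t ≤ 3 * s := by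
  by_contra hlt
  have hst : s < t := by omega
  set a := X g x₀ 0 with ha
  set b := X g x₀ s with hb
  set c := a * b * a⁻¹ * b⁻¹ with hc
  have hcne : c ≠ 1 := fun e => hs.fail hst (by
    rw [hc, mul_inv_eq_one, mul_inv_eq_iff_eq_mul] at e; exact e)
  have hcW : c ∈ W g x₀ 1 (s - 1) := by
    have := h.comm_mem (i := 0) hs.pos hst
    simpa [hc, ha, hb] using this
  -- generators commuting with `c`
  have hfix : ∀ k : ℤ, (s : ℤ) - t < k → -(s : ℤ) < k → k < t → k < 2 * s → X g x₀ k * c = c * X g x₀ k := by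
    intro k hk1 hk2 hk3 hk4
    set y := X g x₀ k with hy
    rcases lt_or_ge k 0 with hneg | hnn
    · have hya : y * a = a * y := hs.comm k 0 (by omega) (by omega)
      set m := ((s : ℤ) - k - 1).toNat with hm
      have heW : y * b * y⁻¹ * b⁻¹ ∈ W g x₀ (k + 1) m := by
        have := h.comm_mem (i := k) (d := ((s : ℤ) - k).toNat) (by omega) (by omega)
        rwa [show k + (((s : ℤ) - k).toNat : ℤ) = s by omega, show ((s : ℤ) - k).toNat - 1 = m by omega]
          at this
      set e := b⁻¹ * (y * b * y⁻¹ * b⁻¹) * b with he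
      have hn : W g x₀ (k + 1) (m + 1) ≤ Subgroup.normalizer (W g x₀ (k + 1) m : Set G) :=
        le_normalizer_of_card (h.isPGroup (by omega)) (W_le le_rfl (by omega))
          (by rw [h.card _ _ (by omega), h.card _ _ (by omega), pow_succ'])
      have heW' : e ∈ W g x₀ (k + 1) m := by
        have hb' : b⁻¹ ∈ W g x₀ (k + 1) (m + 1) := inv_mem (mem_W (by omega) (by omega))
        have := (Subgroup.mem_normalizer_iff.1 (hn hb') _).1 heW
        rwa [inv_inv] at this
      have hae : a * e = e * a := hs.commute_W (k := 0) (by omega) (by omega) heW'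
      refine mul_inv_eq_iff_eq_mul.1 ?_
      calc y * c * y⁻¹ = (y * a * y⁻¹) * (b * e) * (y * a * y⁻¹)⁻¹ * (b * e)⁻¹ := by rw [hc, he]; group
        _ = a * b * (e * a⁻¹) * e⁻¹ * b⁻¹ := by rw [hya, mul_inv_cancel_right]; group
        _ = c := by rw [((show Commute a e from hae).inv_left).symm.eq, hc]; group
    · by_cases hks : k ≤ s
      · exact hs.commute_W (by omega) (by omega) hcW
      have hyb : y * b = b * y := hs.comm k s (by omega) (by omega)
      set m := (k - 1).toNat with hm
      have hdW : a * y * a⁻¹ * y⁻¹ ∈ W g x₀ 1 m := by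
        have := h.comm_mem (i := 0) (d := k.toNat) (by omega) (by omega)
        rw [zero_add, zero_add, show ((k.toNat : ℕ) : ℤ) = k by omega,
          show k.toNat - 1 = m by omega] at this
        exact this
      set d := a⁻¹ * (a * y * a⁻¹ * y⁻¹)⁻¹ * a with hd
      have hn : W g x₀ 0 (m + 1) ≤ Subgroup.normalizer (W g x₀ 1 m : Set G) :=
        le_normalizer_of_card (h.isPGroup (by omega)) (W_le (by omega) (by omega))
          (by rw [h.card _ _ (by omega), h.card _ _ (by omega), pow_succ'])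
      have hdW' : d ∈ W g x₀ 1 m := by
        have ha' : a⁻¹ ∈ W g x₀ 0 (m + 1) := inv_mem (mem_W (by omega) (by omega))
        have := (Subgroup.mem_normalizer_iff.1 (hn ha') _).1 (inv_mem hdW)
        rwa [inv_inv] at this
      have hbd : b * d = d * b := hs.commute_W (k := (s : ℤ)) (by omega) (by omega) hdW'
      refine mul_inv_eq_iff_eq_mul.1 ?_
      calc y * c * y⁻¹ = (y * a * y⁻¹) * (y * b * y⁻¹) * (y * a * y⁻¹)⁻¹ * (y * b * y⁻¹)⁻¹ := by rw [hc]; group
        _ = (a * d) * b * (a * d)⁻¹ * b⁻¹ := by rw [hyb, mul_inv_cancel_right, hd]; group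
        _ = a * (d * b) * d⁻¹ * a⁻¹ * b⁻¹ := by group
        _ = c := by rw [← hbd, hc]; group
  -- move the lower end up
  have hlow : ∀ r : ℕ, 1 ≤ r → r ≤ s → r + s ≤ t → c ∈ W g x₀ r (s - r) := by
    intro r
    induction r with
    | zero => intro h0; omega
    | succ r ih =>
      intro _ hr hrt
      rcases Nat.eq_zero_or_pos r with rfl | hr0
      · simpa using hcW
      have hcr := ih hr0 (by omega) (by omega)
      rw [show s - r = (s - (r + 1)) + 1 by omega] at hcr
      obtain ⟨e, w, hw, hcw⟩ := h.exists_split (by omega) hcr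
      by_cases he : X g x₀ r ^ e = 1
      · rw [he, one_mul] at hcw
        rw [hcw]; exact_mod_cast hw
      exfalso
      set y := X g x₀ ((r : ℤ) + s) with hy
      have hyw : y * w = w * y := hs.commute_W (by omega) (by omega) hw
      have hyc : y * c = c * y := hfix _ (by omega) (by omega) (by omega) (by omega)
      have hye : X g x₀ r ^ e * y = y * X g x₀ r ^ e := by
        have h2 : X g x₀ r ^ e = c * w⁻¹ := by rw [hcw, mul_inv_cancel_right]
        rw [h2]
        exact ((show Commute y c from hyc).mul_right (show Commute y w from hyw).inv_right).symm.eq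
      have hbad := congrArg (cj g (-(r : ℤ))) (h.commute_of_zpow hye he)
      rw [map_mul, map_mul, hy, cj_X, cj_X, neg_add_cancel, neg_add_cancel_left] at hbad
      exact hs.fail hst hbad
  have hts : t < 2 * s := by
    by_contra h2
    have hcs := hlow s hs.pos le_rfl (by omega)
    rw [Nat.sub_self, W_zero, Subgroup.mem_bot] at hcs
    exact hcne hcs
  set r := t - s with hr
  have hcr := hlow r (by omega) (by omega) (by omega)
  -- move the upper end down
  have hhigh : ∀ j : ℕ, j ≤ s - r → 2 * s + 1 - t ≤ s - j + 1 → c ∈ W g x₀ r (s - r - j) := by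
    intro j
    induction j with
    | zero => intro _ _; simpa using hcr
    | succ j ih =>
      intro hj hjq
      have hcj := ih (by omega) (by omega)
      rw [show s - r - j = (s - r - (j + 1)) + 1 by omega] at hcj
      obtain ⟨w, hw, e, hcw⟩ := h.exists_split' (by omega) hcj
      set q := (r : ℤ) + (s - r - (j + 1) : ℕ) with hq
      by_cases he : X g x₀ q ^ e = 1
      · rw [he, mul_one] at hcw
        rw [hcw]; exact hw
      exfalso
      set y := X g x₀ (q - s) with hy
      have hyw : y * w = w * y := hs.commute_W (by omega) (by omega) hw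
      have hyc : y * c = c * y := hfix _ (by omega) (by omega) (by omega) (by omega)
      have hye : X g x₀ q ^ e * y = y * X g x₀ q ^ e := by
        have h2 : X g x₀ q ^ e = w⁻¹ * c := by rw [hcw, inv_mul_cancel_left]
        rw [h2]
        exact ((show Commute y w from hyw).inv_right.mul_right (show Commute y c from hyc)).symm.eq
      have hbad := congrArg (cj g (-(q - s))) (h.commute_of_zpow hye he).symm
      rw [map_mul, map_mul, hy, cj_X, cj_X, neg_add_cancel, show -(q - s) + q = (s : ℤ) by ring] at hbad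
      exact hs.fail hst hbad
  have hc0 := hhigh (s - r) le_rfl (by omega)
  rw [Nat.sub_self, W_zero, Subgroup.mem_bot] at hc0
  exact hcne hc0

/-- The generators in the middle are central. -/
theorem Span.central {s : ℕ} (hs : Span g x₀ t s) {i a : ℤ} (h1 : a + t - s ≤ i) (h2 : i < a + s) :
    W g x₀ a t ≤ Subgroup.centralizer ({X g x₀ i} : Set G) := fun w hw =>
  Subgroup.mem_centralizer_singleton_iff.2 (hs.commute_W (by omega) (by omega) hw).symm

end Cfsg.Agent.ShiftChain
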