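import Mathlib
import Cfsg.Agent.Lib.FGStruct.Counting
import Cfsg.Agent.Lib.Transfer.Basic

/-!
Class sizes of `p`-singular elements: two elements of order `p` are joined through one class.
-/

set_option autoImplicit false
set_option linter.style.haveILetI false
open scoped Pointwise

namespace Cfsg.Agent.SingularClasses

variable {G : Type*} [Group G]

/-- The class size. -/
noncomputable def cl (x : G) : ℕ := (Subgroup.centralizer ({x} : Set G)).index

theorem mem_cent {x c : G} : c ∈ Subgroup.centralizer ({x} : Set G) ↔ c * x = x * c :=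
  Subgroup.mem_centralizer_singleton_iff

variable [Finite G]

theorem cl_pos (x : G) : cl x ≠ 0 := Subgroup.index_ne_zero_of_finite

theorem cl_dvd {x z : G} (h : ∀ c : G, c * x = x * c → c * z = z * c) : cl z ∣ cl x :=
  Subgroup.index_dvd_of_le fun c hc => mem_cent.2 (h c (mem_cent.1 hc))

theorem cl_conj (g x : G) : cl (g * x * g⁻¹) = cl x := by
  have e : Subgroup.centralizer ({g * x * g⁻¹} : Set G) =
      (Subgroup.centralizer ({x} : Set G)).map (MulAut.conj g).toMonoidHom := by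
    ext c
    rw [Subgroup.mem_map, mem_cent]
    constructor
    · intro hc
      refine ⟨g⁻¹ * c * g, mem_cent.2 ?_, by simp [mul_assoc]⟩
      calc g⁻¹ * c * g * x = g⁻¹ * (c * (g * x * g⁻¹)) * g := by group
        _ = g⁻¹ * (g * x * g⁻¹ * c) * g := by rw [hc]
        _ = x * (g⁻¹ * c * g) := by group
    · rintro ⟨d, hd, rfl⟩
      show g * d * g⁻¹ * (g * x * g⁻¹) = g * x * g⁻¹ * (g * d * g⁻¹)
      rw [conj_mul, conj_mul, mem_cent.1 hd]
  rw [cl, cl, e]
  exact Subgroup.index_map_of_bijective (MulAut.conj g).bijective _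

theorem exists_common_rep {A B : Subgroup G} (h : Nat.Coprime A.index B.index) (g k : G) :
    ∃ m : G, g⁻¹ * m ∈ A ∧ k⁻¹ * m ∈ B := by
  have h1 : A.index * B.index ∣ (A ⊓ B).index :=
    h.mul_dvd_of_dvd_of_dvd (Subgroup.index_dvd_of_le inf_le_left) (Subgroup.index_dvd_of_le inf_le_right)
  have h2 := Subgroup.index_inf_le (H := A) (K := B)
  have heq : (A ⊓ B).index = A.index * B.index :=
    le_antisymm h2 (Nat.le_of_dvd (Nat.pos_of_ne_zero Subgroup.index_ne_zero_of_finite) h1)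
  let F : G ⧸ (A ⊓ B) → (G ⧸ A) × (G ⧸ B) := fun w =>
    (Subgroup.quotientMapOfLE inf_le_left w, Subgroup.quotientMapOfLE inf_le_right w)
  have hF : Function.Injective F := by
    intro u v e
    induction u using QuotientGroup.induction_on with
    | H u =>
      induction v using QuotientGroup.induction_on with
      | H v =>
        simp only [F, Subgroup.quotientMapOfLE_apply_mk, Prod.mk.injEq, QuotientGroup.eq] at e
        exact QuotientGroup.eq.2 (Subgroup.mem_inf.2 e)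
  have hb : Function.Bijective F := (Nat.bijective_iff_injective_and_card F).2 ⟨hF, by
    rw [Nat.card_prod, ← Subgroup.index_eq_card, ← Subgroup.index_eq_card, ← Subgroup.index_eq_card, heq]⟩
  obtain ⟨w, hw⟩ := hb.2 (QuotientGroup.mk g, QuotientGroup.mk k)
  induction w using QuotientGroup.induction_on with
  | H w =>
    simp only [F, Subgroup.quotientMapOfLE_apply_mk, Prod.mk.injEq] at hw
    exact ⟨w, QuotientGroup.eq.1 hw.1.symm, QuotientGroup.eq.1 hw.2.symm⟩

theorem card_class (x : G) : Nat.card (ConjClasses.mk x).carrier = cl x := by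
  have h1 := Counting.card_carrier_mul x
  have h2 := (Subgroup.centralizer ({x} : Set G)).index_mul_card
  exact Nat.eq_of_mul_eq_mul_right Nat.card_pos (h1.trans h2.symm)

theorem mem_class {x w : G} : w ∈ (ConjClasses.mk x).carrier ↔ ∃ g : G, w = g * x * g⁻¹ := by
  rw [ConjClasses.mem_carrier_iff_mk_eq, ConjClasses.mk_eq_mk_iff_isConj, isConj_comm, isConj_iff]
  exact exists_congr fun g => eq_comm

theorem mul_mem_class {y z : G} (hco : Nat.Coprime (cl y) (cl z)) (g k : G) :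
    g * y * g⁻¹ * (k * z * k⁻¹) ∈ (ConjClasses.mk (y * z)).carrier := by
  obtain ⟨m, hm1, hm2⟩ := exists_common_rep (A := Subgroup.centralizer ({y} : Set G))
    (B := Subgroup.centralizer ({z} : Set G)) hco g k
  refine mem_class.2 ⟨m, ?_⟩
  have e1 := mem_cent.1 hm1
  have e2 := mem_cent.1 hm2
  have f1 : m * y * m⁻¹ = g * y * g⁻¹ :=
    calc m * y * m⁻¹ = g * (g⁻¹ * m * y) * m⁻¹ := by group
      _ = g * (y * (g⁻¹ * m)) * m⁻¹ := by rw [e1]
      _ = g * y * g⁻¹ := by group
  have f2 : m * z * m⁻¹ = k * z * k⁻¹ :=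
    calc m * z * m⁻¹ = k * (k⁻¹ * m * z) * m⁻¹ := by group
      _ = k * (z * (k⁻¹ * m)) * m⁻¹ := by rw [e2]
      _ = k * z * k⁻¹ := by group
  rw [← f1, ← f2, conj_mul]

theorem cl_mul_dvd {y z : G} (hco : Nat.Coprime (cl y) (cl z)) : cl (y * z) ∣ cl y * cl z := by
  have h1 : cl y * cl z ∣ (Subgroup.centralizer ({y} : Set G) ⊓ Subgroup.centralizer ({z} : Set G)).index :=
    hco.mul_dvd_of_dvd_of_dvd (Subgroup.index_dvd_of_le inf_le_left) (Subgroup.index_dvd_of_le inf_le_right)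
  have h2 : (Subgroup.centralizer ({y} : Set G) ⊓ Subgroup.centralizer ({z} : Set G)).index ≤ cl y * cl z :=
    Subgroup.index_inf_le
  have heq := le_antisymm h2 (Nat.le_of_dvd (Nat.pos_of_ne_zero Subgroup.index_ne_zero_of_finite) h1)
  rw [← heq]
  refine Subgroup.index_dvd_of_le fun c hc => mem_cent.2 ?_
  have e1 : Commute c y := mem_cent.1 hc.1
  have e2 : Commute c z := mem_cent.1 hc.2
  exact (e1.mul_right e2).eq

theorem le_cl_mul_left {y z : G} (hco : Nat.Coprime (cl y) (cl z)) : cl y ≤ cl (y * z) := by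
  rw [← card_class y, ← card_class (y * z)]
  refine Nat.card_le_card_of_injective (fun w => ⟨(w : G) * z, ?_⟩) fun u v e => Subtype.ext
    (mul_right_cancel (congrArg Subtype.val e))
  obtain ⟨g, hg⟩ := mem_class.1 w.2
  simpa [hg] using mul_mem_class hco g 1

variable {p : ℕ} [hp : Fact p.Prime]

/-- If the product class is no larger than the first, `p` divides the first class size. -/
theorem dvd_of_product {y z : G} {k0 : ℕ} (hz : z ^ p ^ k0 = 1) (hz1 : cl z ≠ 1)
    (hco : Nat.Coprime (cl y) (cl z)) (hw : cl (y * z) = cl y) :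
    p ∣ cl y ∧ ∀ g : G, Commute z (g * z * g⁻¹) := by
  classical
  set K := (ConjClasses.mk y).carrier with hK
  set L := (ConjClasses.mk (y * z)).carrier with hL
  have hmul : ∀ k : G, (fun w => k * z * k⁻¹ * w) '' K = L := by
    intro k
    refine Set.eq_of_subset_of_ncard_le ?_ ?_ (Set.toFinite _)
    · rintro _ ⟨w, hw', rfl⟩
      obtain ⟨g, rfl⟩ := mem_class.1 hw'
      have h := mul_mem_class hco g ((g * y * g⁻¹)⁻¹ * k)
      have : g * y * g⁻¹ * ((g * y * g⁻¹)⁻¹ * k * z * ((g * y * g⁻¹)⁻¹ * k)⁻¹) = k * z * k⁻¹ * (g * y * g⁻¹) := by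
        group
      rw [this] at h
      exact h
    · rw [Set.ncard_image_of_injective _ (mul_right_injective _), ← Nat.card_coe_set_eq, ← Nat.card_coe_set_eq,
        hL, hK, card_class, card_class, hw]
  set N : Subgroup G := MulAction.stabilizer G K with hN
  have hmemN : ∀ n : G, n ∈ N ↔ (fun w => n * w) '' K = K := fun n => Iff.rfl
  have hNn : N.Normal := by
    refine ⟨fun n hn g => (hmemN _).2 (Set.eq_of_subset_of_ncard_le ?_ ?_ (Set.toFinite _))⟩
    · rintro _ ⟨w, hw', rfl⟩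
      obtain ⟨c, hc⟩ := mem_class.1 hw'
      have h1 : n * (g⁻¹ * w * g) ∈ K := by
        rw [← (hmemN n).1 hn]
        exact ⟨_, mem_class.2 ⟨g⁻¹ * c, by rw [hc]; group⟩, rfl⟩
      obtain ⟨d, hd⟩ := mem_class.1 h1
      refine mem_class.2 ⟨g * d, ?_⟩
      calc g * n * g⁻¹ * w = g * (n * (g⁻¹ * w * g)) * g⁻¹ := by group
        _ = g * (d * y * d⁻¹) * g⁻¹ := by rw [hd]
        _ = g * d * y * (g * d)⁻¹ := by group
    · rw [Set.ncard_image_of_injective _ (mul_right_injective _)]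
  haveI := hNn
  have hdiv : Nat.card N ∣ cl y := by
    rw [← card_class y]
    have e2 : QuotientGroup.mk ⁻¹' ((QuotientGroup.mk : G → G ⧸ N) '' (K⁻¹ : Set G)) = (K⁻¹ : Set G) := by
      refine (Set.subset_preimage_image _ _).antisymm' ?_
      rintro w ⟨v, hv, e⟩
      have hn : v⁻¹ * w ∈ N := QuotientGroup.eq.1 e
      rw [Set.mem_inv] at hv ⊢
      have h1 : (v⁻¹ * w)⁻¹ * v⁻¹ ∈ K := by
        rw [← (hmemN _).1 (inv_mem hn)]; exact ⟨_, hv, rfl⟩
      simpa using h1
    have e1 := Nat.card_congr (QuotientGroup.preimageMkEquivSubgroupProdSet N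
      ((QuotientGroup.mk : G → G ⧸ N) '' (K⁻¹ : Set G)))
    rw [e2, Nat.card_prod] at e1
    have e3 : Nat.card ↥(K⁻¹ : Set G) = Nat.card K := by
      rw [Nat.card_coe_set_eq, Nat.card_coe_set_eq, Set.ncard_inv]
    rw [← hK, ← e3, e1]
    exact dvd_mul_right _ _
  have hNz : N ≤ Subgroup.centralizer ({z} : Set G) := by
    have h1 : (Subgroup.centralizer ({z} : Set G)).relIndex N ∣ cl z := by
      rw [PBasic.relIndex_eq_relIndex_sup]
      exact Subgroup.relIndex_dvd_index_of_le le_sup_right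
    have h2 : (Subgroup.centralizer ({z} : Set G)).relIndex N ∣ Nat.card N := Subgroup.relIndex_dvd_card _ _
    exact Subgroup.relIndex_eq_one.1 (Nat.eq_one_of_dvd_coprimes hco (h2.trans hdiv) h1)
  obtain ⟨k, hk⟩ : ∃ k : G, k * z * k⁻¹ ≠ z := by
    by_contra h
    push Not at h
    refine hz1 (Subgroup.index_eq_one.2 (eq_top_iff.2 fun c _ => mem_cent.2 ?_))
    exact mul_inv_eq_iff_eq_mul.1 (h c)
  have hall : ∀ k : G, z⁻¹ * (k * z * k⁻¹) ∈ N := by
    intro k
    refine (hmemN _).2 ?_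
    have h1 := hmul k
    have h2 := hmul 1
    simp only [one_mul, inv_one, mul_one] at h2
    apply (mul_right_injective z).image_injective
    rw [h2, ← h1, Set.image_image]
    refine Set.image_congr fun w _ => ?_
    group
  have hcomm : ∀ g : G, Commute z (g * z * g⁻¹) := fun g => by
    have e := (Commute.refl z).mul_right (show Commute z (z⁻¹ * (g * z * g⁻¹)) from (mem_cent.1 (hNz (hall g))).symm)
    rwa [mul_inv_cancel_left] at e
  refine ⟨?_, hcomm⟩
  set n := z⁻¹ * (k * z * k⁻¹) with hn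
  have hnp : n ^ p ^ k0 = 1 := by
    rw [hn, ((hcomm k).inv_left).mul_pow, inv_pow, conj_pow, hz, inv_one, one_mul, mul_one, mul_inv_cancel]
  have hne : n ≠ 1 := fun e => hk (by
    have : z * n = k * z * k⁻¹ := mul_inv_cancel_left z _
    rw [e, mul_one] at this
    exact this.symm)
  obtain ⟨j, -, hj⟩ := (Nat.dvd_prime_pow hp.out).1 (orderOf_dvd_of_pow_eq_one hnp)
  have hpn : p ∣ orderOf n := by
    rw [hj]
    refine dvd_pow_self p fun e0 => hne ?_
    rwa [e0, pow_zero, orderOf_eq_one_iff] at hj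
  exact (hpn.trans (Subgroup.orderOf_dvd_natCard N (hall k))).trans hdiv

theorem exists_sylow_le {H : Subgroup G} (h : ¬ p ∣ H.index) : ∃ R : Sylow p G, (R : Subgroup G) ≤ H := by
  obtain ⟨S⟩ := (inferInstance : Nonempty (Sylow p H))
  have hidx : ¬ p ∣ ((S : Subgroup H).map H.subtype).index := by
    rw [Subgroup.index_map_subtype]
    exact fun hd => ((hp.out.dvd_mul).1 hd).elim S.not_dvd_index h
  exact ⟨(S.2.map H.subtype).toSylow hidx, Subgroup.map_subtype_le _⟩

theorem conj_mem_of_sylow (P : Sylow p G) {H : Subgroup G} (hP : (P : Subgroup G) ≤ H) {R : Sylow p G}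
    (hR : (R : Subgroup G) ≤ H) : ∃ c ∈ H, ∀ u ∈ (P : Subgroup G), c * u * c⁻¹ ∈ (R : Subgroup G) := by
  obtain ⟨c, hc⟩ := MulAction.exists_smul_eq H (P.subtype hP) (R.subtype hR)
  refine ⟨c, c.2, fun u hu => ?_⟩
  have hu' : (⟨u, hP hu⟩ : H) ∈ (P.subtype hP : Subgroup H) := Subgroup.mem_subgroupOf.2 hu
  have h1 : c * ⟨u, hP hu⟩ * c⁻¹ ∈ ((c • P.subtype hP : Sylow p H) : Subgroup H) := by
    rw [Sylow.coe_subgroup_smul]
    exact Subgroup.smul_mem_pointwise_smul _ _ _ hu'
  rw [hc] at h1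
  exact Subgroup.mem_subgroupOf.1 h1

theorem orderOf_dvd_conj {x g : G} : orderOf (g * x * g⁻¹) = orderOf x :=
  orderOf_injective (MulAut.conj g).toMonoidHom (MulAut.conj g).injective x

omit hp in
theorem cl_ne_one_of_order (hZ : ¬ p ∣ Nat.card (Subgroup.center G)) {z : G} (hz : orderOf z = p) : cl z ≠ 1 := by
  intro h
  refine hZ (hz ▸ Subgroup.orderOf_dvd_natCard _ (Subgroup.mem_center_iff.2 fun c => ?_))
  exact mem_cent.1 ((Subgroup.index_eq_one.1 h).ge (Subgroup.mem_top c))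

/-- The Sylow subgroup centralising `z` is normal and abelian. -/
theorem sylow_structure (P : Sylow p G) {z : G} (hzP : z ∈ (P : Subgroup G))
    (hzc : ∀ u ∈ (P : Subgroup G), u * z = z * u) {k0 : ℕ} (hzk : orderOf z = p ^ k0) (hpz : p ∣ orderOf z)
    (hzb : cl z ≠ 1) (hzG : ∀ g : G, Commute z (g * z * g⁻¹))
    (hstar : ∀ x : G, p ∣ orderOf x → ¬ Nat.Coprime (cl x) (cl z) → ¬ p ∣ cl x) :
    (P : Subgroup G).Normal ∧ (∀ y ∈ (P : Subgroup G), ∀ v ∈ (P : Subgroup G), v * y = y * v) ∧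
      Subgroup.centralizer ({z} : Set G) =
        (P : Subgroup G) ⊔ Subgroup.centralizer ((P : Subgroup G) : Set G) := by
  have hPz : (P : Subgroup G) ≤ Subgroup.centralizer ({z} : Set G) := fun u hu => mem_cent.2 (hzc u hu)
  have hYP : Subgroup.closure (ConjClasses.mk z).carrier ≤ (P : Subgroup G) := by
    set Y := Subgroup.closure (ConjClasses.mk z).carrier with hY
    have hgen : ∀ u ∈ (ConjClasses.mk z).carrier, ∀ v ∈ (ConjClasses.mk z).carrier, u * v = v * u := by
      intro u hu v hv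
      obtain ⟨g, rfl⟩ := mem_class.1 hu
      obtain ⟨h, rfl⟩ := mem_class.1 hv
      calc g * z * g⁻¹ * (h * z * h⁻¹) = g * (z * (g⁻¹ * h * z * (g⁻¹ * h)⁻¹)) * g⁻¹ := by group
        _ = g * ((g⁻¹ * h * z * (g⁻¹ * h)⁻¹) * z) * g⁻¹ := by rw [(hzG (g⁻¹ * h)).eq]
        _ = h * z * h⁻¹ * (g * z * g⁻¹) := by group
    haveI : IsMulCommutative Y := Subgroup.isMulCommutative_closure hgen
    have hYpow : ∀ w ∈ Y, w ^ (p ^ k0) = 1 := by
      intro w hw
      induction hw using Subgroup.closure_induction with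
      | mem w hw => obtain ⟨g, rfl⟩ := mem_class.1 hw; rw [conj_pow, ← hzk, pow_orderOf_eq_one, mul_one, mul_inv_cancel]
      | one => exact one_pow _
      | mul u v hu hv eu ev =>
        have : Commute u v := congrArg Subtype.val (IsMulCommutative.is_comm.comm (⟨u, hu⟩ : Y) ⟨v, hv⟩)
        rw [this.mul_pow, eu, ev, one_mul]
      | inv u _ eu => rw [inv_pow, eu, inv_one]
    have hYp : IsPGroup p Y := fun w => ⟨k0, Subtype.ext (hYpow w w.2)⟩
    have hYn : (P : Subgroup G) ≤ Subgroup.normalizer (Y : Set G) := fun c _ =>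
      Subgroup.mem_normalizer_fintype fun w hw => by
        have hle : Y ≤ Y.comap (MulAut.conj c).toMonoidHom := (Subgroup.closure_le _).2 fun v hv => by
          obtain ⟨g, rfl⟩ := mem_class.1 hv
          exact Subgroup.subset_closure (mem_class.2 ⟨c * g, by
            show c * (g * z * g⁻¹) * c⁻¹ = _
            group⟩)
        exact hle hw
    exact le_sup_right.trans (P.is_maximal' (P.2.to_sup_of_normal_right' hYp hYn) le_sup_left).le
  set C := Subgroup.centralizer ({z} : Set G) with hC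
  set CP := Subgroup.centralizer ((P : Subgroup G) : Set G) with hCP
  have hCPz : CP ≤ C := fun c hc => mem_cent.2 (Subgroup.mem_centralizer_iff.1 hc z hzP).symm
  -- `C(z)` is `P C(P)`
  have hreg : ∀ h ∈ C, (orderOf h).Coprime p → ∃ c ∈ C, c⁻¹ * h * c ∈ CP := by
    intro h hh hcop
    have hc : Commute z h := (mem_cent.1 hh).symm
    have hzh : Nat.Coprime (orderOf z) (orderOf h) := by
      rw [hzk]; exact (hcop.pow_right k0).symm
    have hord : orderOf (z * h) = orderOf z * orderOf h := hc.orderOf_mul_eq_mul_orderOf_of_coprime hzh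
    have hcomm : ∀ c : G, c * (z * h) = z * h * c → c * z = z * c ∧ c * h = h * c := by
      intro c hcc
      obtain ⟨m, hm⟩ := exists_pow_eq_self_of_coprime (x := z) (n := orderOf h) hzh.symm
      have h1 : Commute c ((z * h) ^ orderOf h) := (show Commute c (z * h) from hcc).pow_right _
      rw [hc.mul_pow, pow_orderOf_eq_one, mul_one] at h1
      have h2 := h1.pow_right m
      rw [hm] at h2
      refine ⟨h2.eq, ?_⟩
      have h3 : Commute c (z⁻¹ * (z * h)) := h2.inv_right.mul_right (show Commute c (z * h) from hcc)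
      rwa [inv_mul_cancel_left] at h3
    have hb : cl z ∣ cl (z * h) := cl_dvd fun c hcc => (hcomm c hcc).1
    have hnp := hstar (z * h) (hord ▸ hpz.mul_right _)
      fun h' => hzb (Nat.eq_one_of_dvd_coprimes h' hb dvd_rfl)
    obtain ⟨R, hR⟩ := exists_sylow_le hnp
    have hRC : (R : Subgroup G) ≤ C := fun c hcR => mem_cent.2 (hcomm c (mem_cent.1 (hR hcR))).1
    obtain ⟨c, hcC, hc'⟩ := conj_mem_of_sylow P hPz hRC
    refine ⟨c, hcC, Subgroup.mem_centralizer_iff.2 fun u hu => ?_⟩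
    have e := (hcomm _ (mem_cent.1 (hR (hc' u hu)))).2
    calc u * (c⁻¹ * h * c) = c⁻¹ * ((c * u * c⁻¹) * h) * c := by group
      _ = c⁻¹ * (h * (c * u * c⁻¹)) * c := by rw [e]
      _ = c⁻¹ * h * c * u := by group
  have hPCle : (P : Subgroup G) ⊔ CP ≤ C := sup_le hPz hCPz
  have hCeq : C = (P : Subgroup G) ⊔ CP := by
    refine le_antisymm ?_ hPCle
    refine Subgroup.subgroupOf_eq_top.1 (Counting.eq_top_of_conj_cover _ fun g => ?_)
    obtain ⟨u, v, huv, hu, hv, hku, hcv⟩ := PBasic.exists_pPart_mul (p := p) (g : G)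
    have hgle : Subgroup.zpowers (g : G) ≤ C := Subgroup.zpowers_le.2 g.2
    obtain ⟨c, hcC, hcv'⟩ := hreg v (hgle hv) hcv
    have huvc : Commute u v := by
      obtain ⟨i, rfl⟩ := hu
      obtain ⟨j, rfl⟩ := hv
      exact Commute.zpow_zpow_self _ _ _
    set u' := c⁻¹ * u * c with hu'
    set v' := c⁻¹ * v * c with hv'
    set D := C ⊓ Subgroup.centralizer ({v'} : Set G) with hD
    have hPD : (P : Subgroup G) ≤ D := le_inf hPz fun w hw => mem_cent.2 (Subgroup.mem_centralizer_iff.1 hcv' w hw)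
    have hu'D : u' ∈ D := Subgroup.mem_inf.2 ⟨mul_mem (mul_mem (inv_mem hcC) (hgle hu)) hcC, mem_cent.2 (by
      calc u' * v' = c⁻¹ * (u * v) * c := by rw [hu', hv']; group
        _ = c⁻¹ * (v * u) * c := by rw [huvc.eq]
        _ = v' * u' := by rw [hu', hv']; group)⟩
    obtain ⟨k, hk⟩ := hku
    have hup : IsPGroup p (Subgroup.zpowers (⟨u', hu'D⟩ : D)) := IsPGroup.of_card (n := k) (by
      rw [Nat.card_zpowers, Subgroup.orderOf_mk, hu', show c⁻¹ * u * c = c⁻¹ * u * c⁻¹⁻¹ by group,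
        orderOf_dvd_conj, hk])
    obtain ⟨S, hS⟩ := hup.exists_le_sylow
    obtain ⟨d, hd⟩ := MulAction.exists_smul_eq D S (P.subtype hPD)
    have h1 : d * ⟨u', hu'D⟩ * d⁻¹ ∈ ((d • S : Sylow p D) : Subgroup D) := by
      rw [Sylow.coe_subgroup_smul]
      exact Subgroup.smul_mem_pointwise_smul _ _ _ (hS (Subgroup.mem_zpowers _))
    rw [hd] at h1
    have h1' : (d : G) * u' * (d : G)⁻¹ ∈ (P : Subgroup G) := Subgroup.mem_subgroupOf.1 h1
    have hdv : (d : G) * v' * (d : G)⁻¹ = v' := mul_inv_eq_iff_eq_mul.2 (mem_cent.1 d.2.2)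
    refine ⟨⟨c * (d : G)⁻¹, mul_mem hcC (inv_mem d.2.1)⟩, Subgroup.mem_subgroupOf.2 ?_⟩
    show (c * (d : G)⁻¹)⁻¹ * (g : G) * (c * (d : G)⁻¹) ∈ _
    have : (c * (d : G)⁻¹)⁻¹ * (g : G) * (c * (d : G)⁻¹) = (d : G) * u' * (d : G)⁻¹ * ((d : G) * v' * (d : G)⁻¹) := by
      rw [← huv, hu', hv']; group
    rw [this, hdv]
    exact mul_mem (Subgroup.mem_sup_left h1') (Subgroup.mem_sup_right hcv')
  have hCPdvd : ∃ k, CP.relIndex C ∣ p ^ k := by
    obtain ⟨k, hk⟩ := IsPGroup.iff_card.1 P.2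
    haveI hn : (CP.subgroupOf C).Normal := by
      refine (Subgroup.normal_subgroupOf_iff_le_normalizer hCPz).2 ?_
      rw [hCeq]
      refine sup_le (fun w hw => Subgroup.mem_normalizer_fintype fun c hc => ?_) Subgroup.le_normalizer
      show w * c * w⁻¹ ∈ CP
      rwa [Subgroup.mem_centralizer_iff.1 hc w hw, mul_inv_cancel_right]
    refine ⟨k, ?_⟩
    set π := QuotientGroup.mk' (CP.subgroupOf C)
    have htop : ((P : Subgroup G).subgroupOf C).map π = ⊤ := by
      rw [← Subgroup.map_top_of_surjective π (QuotientGroup.mk'_surjective _), ← Subgroup.subgroupOf_self C]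
      conv_rhs => arg 2; arg 1; rw [hCeq]
      rw [Subgroup.subgroupOf_sup hPz hCPz, Subgroup.map_sup, QuotientGroup.map_mk'_self, sup_bot_eq]
    have := Subgroup.card_map_dvd (f := π) ((P : Subgroup G).subgroupOf C)
    rw [htop, Subgroup.card_top, Nat.card_congr (Subgroup.subgroupOfEquivOfLe hPz).toEquiv, hk] at this
    exact this
  obtain ⟨kp, hkp⟩ := hCPdvd
  have hzO : z ∈ (P : Subgroup G).normalCore := fun g => by
    set Y := Subgroup.closure (ConjClasses.mk z).carrier with hY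
    exact hYP (Subgroup.subset_closure (mem_class.2 ⟨g, rfl⟩))
  have hclu : ∀ u ∈ (P : Subgroup G), cl u ∣ p ^ kp * cl z := by
    intro u hu
    have h1 : cl u ∣ CP.index :=
      Subgroup.index_dvd_of_le fun c hc => mem_cent.2 (Subgroup.mem_centralizer_iff.1 hc u hu).symm
    rw [← Subgroup.relIndex_mul_index hCPz] at h1
    exact h1.trans (Nat.mul_dvd_mul_right hkp _)
  have hconjP : ∀ u ∈ (P : Subgroup G), Nat.Coprime (cl u) (cl z) → ∀ g : G,
      ∃ x ∈ (P : Subgroup G), g * u * g⁻¹ = x * u * x⁻¹ := by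
    intro u hu hc g
    have hd : cl u ∣ p ^ kp := hc.dvd_of_dvd_mul_right (hclu u hu)
    have hcop : Nat.Coprime (Subgroup.centralizer ({u} : Set G)).index (P : Subgroup G).index :=
      ((hp.out.coprime_iff_not_dvd.2 P.not_dvd_index).pow_left kp).coprime_dvd_left hd
    obtain ⟨m, hm1, hm2⟩ := exists_common_rep hcop g 1
    rw [inv_one, one_mul] at hm2
    refine ⟨m, hm2, ?_⟩
    calc g * u * g⁻¹ = g * (u * (g⁻¹ * m)) * m⁻¹ := by group
      _ = g * (g⁻¹ * m * u) * m⁻¹ := by rw [mem_cent.1 hm1]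
      _ = m * u * m⁻¹ := by group
  set O := (P : Subgroup G).normalCore with hO
  have hAcore : ∀ u ∈ (P : Subgroup G), Nat.Coprime (cl u) (cl z) → u ∈ O := by
    intro u hu hc g
    obtain ⟨x, hx, e⟩ := hconjP u hu hc g
    rw [e]; exact mul_mem (mul_mem hx hu) (inv_mem hx)
  have hB : ∀ u ∈ (P : Subgroup G), ¬ Nat.Coprime (cl u) (cl z) →
      ∃ R : Sylow p G, (R : Subgroup G) ≤ Subgroup.centralizer ({u} : Set G) := by
    intro u hu hnc
    have hne : u ≠ 1 := fun e => hnc (by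
      rw [e, show cl (1 : G) = 1 from Subgroup.index_eq_one.2 (eq_top_iff.2 fun c _ => mem_cent.2 (by simp))]
      exact Nat.coprime_one_left _)
    obtain ⟨j, hj⟩ := IsPGroup.iff_orderOf.1 P.2 ⟨u, hu⟩
    rw [Subgroup.orderOf_mk] at hj
    have hord : p ∣ orderOf u := by
      rw [hj]
      refine dvd_pow_self p fun e0 => hne ?_
      rwa [e0, pow_zero, orderOf_eq_one_iff] at hj
    exact exists_sylow_le (hstar u hord hnc)
  have hOR : ∀ R : Sylow p G, O ≤ (R : Subgroup G) := by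
    intro R o ho
    obtain ⟨g, hg⟩ := MulAction.exists_smul_eq G P R
    rw [← hg, Sylow.coe_subgroup_smul, Subgroup.mem_pointwise_smul_iff_inv_smul_mem, ← map_inv]
    exact ho g⁻¹
  have hsplit : ∀ u ∈ (P : Subgroup G), u ∈ O ∨ ∀ o ∈ O, o * u = u * o := by
    intro u hu
    by_cases h : Nat.Coprime (cl u) (cl z)
    · exact Or.inl (hAcore u hu h)
    · obtain ⟨R, hR⟩ := hB u hu h
      exact Or.inr fun o ho => mem_cent.1 (hR (hOR R ho))
  have hPO : (P : Subgroup G) = O := by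
    refine le_antisymm (fun x0 hx0 => ?_) (Subgroup.normalCore_le _)
    by_contra hx
    have hc0 := (hsplit x0 hx0).resolve_left hx
    have hcent : ∀ o ∈ O, ∀ u ∈ (P : Subgroup G), u * o = o * u := by
      intro o ho u hu
      rcases hsplit u hu with h | h
      swap
      · exact (h o ho).symm
      have hm : x0 * u ∈ (P : Subgroup G) := mul_mem hx0 hu
      have hc := (hsplit _ hm).resolve_left fun hh => hx ((mul_mem_cancel_right h).1 hh)
      have e := hc o ho
      rw [← mul_assoc, hc0 o ho, mul_assoc, mul_assoc] at e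
      exact (mul_left_cancel e).symm
    have hPn : (P : Subgroup G) ≤ O := by
      intro u hu g
      have hgC : ((g⁻¹ • P : Sylow p G) : Subgroup G) ≤ C := by
        intro w hw
        rw [Sylow.coe_subgroup_smul, Subgroup.mem_pointwise_smul_iff_inv_smul_mem, ← map_inv, inv_inv] at hw
        have hw' : g * w * g⁻¹ ∈ (P : Subgroup G) := hw
        refine mem_cent.2 ?_
        have e := hcent (g * z * g⁻¹) (((P : Subgroup G).normalCore_normal.conj_mem z hzO g)) _ hw'
        rw [conj_mul, conj_mul] at e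
        exact mul_left_cancel (mul_right_cancel e)
      obtain ⟨c, hcC, hc⟩ := conj_mem_of_sylow P hPz hgC
      have hnP : C ≤ Subgroup.normalizer ((P : Subgroup G) : Set G) := by
        rw [hCeq]
        refine sup_le Subgroup.le_normalizer fun w hw => Subgroup.mem_normalizer_fintype fun v hv => ?_
        show w * v * w⁻¹ ∈ (P : Subgroup G)
        rwa [← Subgroup.mem_centralizer_iff.1 hw v hv, mul_inv_cancel_right]
      have hu' : c⁻¹ * u * c ∈ (P : Subgroup G) := (Subgroup.mem_normalizer_iff''.1 (hnP hcC) u).1 hu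
      have h1 := hc _ hu'
      rw [show c * (c⁻¹ * u * c) * c⁻¹ = u by group, Sylow.coe_subgroup_smul,
        Subgroup.mem_pointwise_smul_iff_inv_smul_mem, ← map_inv, inv_inv] at h1
      exact h1
    exact hx (hPn hx0)
  haveI hPn : (P : Subgroup G).Normal := hPO ▸ Subgroup.normalCore_normal _
  have hA : ∀ u ∈ (P : Subgroup G), (¬ ∀ v ∈ (P : Subgroup G), v * u = u * v) → Nat.Coprime (cl u) (cl z) := by
    intro u hu hnc
    by_contra h
    obtain ⟨R, hR⟩ := hB u hu h
    exact hnc fun v hv => mem_cent.1 (hR (hOR R (hPO ▸ hv)))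
  refine ⟨hPn, fun y hyP v hv => by_contra fun hne => ?_, hCeq⟩
  have hynotc : ¬ ∀ u ∈ (P : Subgroup G), u * y = y * u := fun h => hne (h v hv)
  -- a prime of `cl z`
  set q := (cl z).minFac with hq
  haveI : Fact q.Prime := ⟨Nat.minFac_prime hzb⟩
  obtain ⟨Q⟩ := (inferInstance : Nonempty (Sylow q G))
  have hfix : ∀ u ∈ (P : Subgroup G), (¬ ∀ v ∈ (P : Subgroup G), v * u = u * v) →
      ∃ x ∈ (P : Subgroup G), ∀ h ∈ (Q : Subgroup G), h * (x * u * x⁻¹) = (x * u * x⁻¹) * h := by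
    intro u hu hnc
    have hc := hA u hu hnc
    have hnq : ¬ q ∣ (Subgroup.centralizer ({u} : Set G)).index := fun h =>
      Nat.not_coprime_of_dvd_of_dvd (Fact.out : q.Prime).one_lt h (Nat.minFac_dvd (cl z)) hc
    obtain ⟨R, hR⟩ := exists_sylow_le hnq
    obtain ⟨g, hg⟩ := MulAction.exists_smul_eq G R Q
    obtain ⟨x, hx, e⟩ := hconjP u hu hc g
    refine ⟨x, hx, fun h hh => ?_⟩
    rw [← e]
    have hh' : g⁻¹ * h * g ∈ (R : Subgroup G) := by
      rw [← hg, Sylow.coe_subgroup_smul, Subgroup.mem_pointwise_smul_iff_inv_smul_mem] at hh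
      simpa using hh
    have e2 := mem_cent.1 (hR hh')
    calc h * (g * u * g⁻¹) = g * (g⁻¹ * h * g * u) * g⁻¹ := by group
      _ = g * (u * (g⁻¹ * h * g)) * g⁻¹ := by rw [e2]
      _ = g * u * g⁻¹ * h := by group
  set W := (P : Subgroup G) ⊓ Subgroup.centralizer ((Q : Subgroup G) : Set G) with hW
  set ZP := (P : Subgroup G) ⊓ CP with hZP
  have hWle : W ⊔ ZP = (P : Subgroup G) := by
    refine le_antisymm (sup_le inf_le_left inf_le_left) ?_
    refine Subgroup.subgroupOf_eq_top.1 (Counting.eq_top_of_conj_cover _ fun u => ?_)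
    by_cases hc : ∀ v ∈ (P : Subgroup G), v * (u : G) = u * v
    · refine ⟨1, Subgroup.mem_subgroupOf.2 (Subgroup.mem_sup_right ?_)⟩
      simp only [inv_one, one_mul, mul_one]
      exact Subgroup.mem_inf.2 ⟨u.2, Subgroup.mem_centralizer_iff.2 fun v hv => hc v hv⟩
    · obtain ⟨x, hx, hxh⟩ := hfix u u.2 hc
      refine ⟨⟨x, hx⟩⁻¹, Subgroup.mem_subgroupOf.2 (Subgroup.mem_sup_left ?_)⟩
      simp only [inv_inv, Subgroup.coe_mul, Subgroup.coe_inv]
      exact Subgroup.mem_inf.2 ⟨mul_mem (mul_mem hx u.2) (inv_mem hx),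
        Subgroup.mem_centralizer_iff.2 fun h hh => hxh h hh⟩
  obtain ⟨x1, hx1, hx1h⟩ := hfix y hyP hynotc
  set u0 := x1 * y * x1⁻¹ with hu0
  have hu0P : u0 ∈ (P : Subgroup G) := mul_mem (mul_mem hx1 hyP) (inv_mem hx1)
  have hu0nc : ¬ ∀ v ∈ (P : Subgroup G), v * u0 = u0 * v := fun h => hynotc fun v hv => by
    have e := h (x1 * v * x1⁻¹) (mul_mem (mul_mem hx1 hv) (inv_mem hx1))
    rw [hu0, conj_mul, conj_mul] at e
    exact mul_left_cancel (mul_right_cancel e)
  have hnc : ¬ ∀ v ∈ (P : Subgroup G), v * (u0 * z) = u0 * z * v := fun h => hu0nc fun v hv => by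
    have e := h v hv
    have e' : v * u0 * z = u0 * v * z := by rw [mul_assoc v, e, mul_assoc u0, mul_assoc u0, hzc v hv]
    exact mul_right_cancel e'
  obtain ⟨x, hx, hxh⟩ := hfix (u0 * z) (mul_mem hu0P hzP) hnc
  have hxm : x ∈ W ⊔ ZP := hWle.symm ▸ hx
  have hn : W ≤ Subgroup.normalizer (ZP : Set G) := fun w hw => Subgroup.mem_normalizer_fintype fun c hc => by
    show w * c * w⁻¹ ∈ ZP
    rwa [Subgroup.mem_centralizer_iff.1 (Subgroup.mem_inf.1 hc).2 w hw.1, mul_inv_cancel_right]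
  have hxm' : x ∈ (W : Set G) * (ZP : Set G) := by
    rw [← Subgroup.coe_mul_of_left_le_normalizer_right W ZP hn]; exact hxm
  obtain ⟨c, hc, z1, hz1, rfl⟩ := Set.mem_mul.1 hxm'
  have hz1c := (Subgroup.mem_centralizer_iff.1 hz1.2)
  have hval : c * z1 * (u0 * z) * (c * z1)⁻¹ = c * u0 * c⁻¹ * z := by
    calc c * z1 * (u0 * z) * (c * z1)⁻¹ = c * (z1 * (u0 * z)) * z1⁻¹ * c⁻¹ := by group
      _ = c * ((u0 * z) * z1) * z1⁻¹ * c⁻¹ := by rw [hz1c _ (mul_mem hu0P hzP)]
      _ = c * u0 * (z * c⁻¹) := by group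
      _ = c * u0 * (c⁻¹ * z) := by rw [hzc _ (inv_mem hc.1)]
      _ = c * u0 * c⁻¹ * z := by group
  refine Q.not_dvd_index ((Nat.minFac_dvd (cl z)).trans (Subgroup.index_dvd_of_le fun h hh => mem_cent.2 ?_))
  have e := hxh h hh
  rw [hval] at e
  have hcc : Commute h c := Subgroup.mem_centralizer_iff.1 hc.2 h hh
  have hcu : Commute h (c * u0 * c⁻¹) :=
    (hcc.mul_right (show Commute h u0 from hx1h h hh)).mul_right hcc.inv_right
  have e2 : Commute h (c * u0 * c⁻¹ * z) := e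
  have := hcu.inv_right.mul_right e2
  rwa [inv_mul_cancel_left] at this


/-- The central case: `z` centralises a Sylow subgroup through `y`. -/
theorem exists_join_central (hZ : ¬ p ∣ Nat.card (Subgroup.center G)) (P : Sylow p G) {y z : G}
    (hyP : y ∈ (P : Subgroup G)) (hzP : z ∈ (P : Subgroup G)) (hzc : ∀ u ∈ (P : Subgroup G), u * z = z * u)
    (hy : orderOf y = p) (hz : orderOf z = p) (hco : Nat.Coprime (cl y) (cl z)) :
    ∃ x : G, p ∣ orderOf x ∧ ¬ Nat.Coprime (cl x) (cl y) ∧ ¬ Nat.Coprime (cl x) (cl z) := by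
  by_contra hcon
  push Not at hcon
  have hya := cl_ne_one_of_order hZ hy
  have hzb := cl_ne_one_of_order hZ hz
  have hPz : (P : Subgroup G) ≤ Subgroup.centralizer ({z} : Set G) := fun u hu => mem_cent.2 (hzc u hu)
  have hpb : ¬ p ∣ cl z := fun h =>
    P.not_dvd_index (h.trans (Subgroup.index_dvd_of_le hPz))
  have hyzc : y * z = z * y := hzc y hyP
  have hpow : ∀ {u : G}, orderOf u = p → u ^ p = 1 := fun h => h ▸ pow_orderOf_eq_one _
  have hwne : y * z ≠ 1 := fun e => by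
    have he : cl y = cl z := by
      rw [eq_inv_of_mul_eq_one_left e, cl, cl]
      congr 1
      ext c
      simp only [mem_cent]
      exact ⟨fun h => (Commute.inv_right_iff.1 (show Commute c z⁻¹ from h)).eq,
        fun h => ((show Commute c z from h).inv_right).eq⟩
    rw [he, Nat.coprime_self] at hco
    exact hzb hco
  have hword : orderOf (y * z) = p := orderOf_eq_prime
    (by rw [(show Commute y z from hyzc).mul_pow, hpow hy, hpow hz, one_mul]) hwne
  obtain ⟨hpa, hzG⟩ : p ∣ cl y ∧ ∀ g : G, Commute z (g * z * g⁻¹) := by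
    by_cases h : Nat.Coprime (cl (y * z)) (cl z)
    · have hdvd : cl (y * z) ∣ cl y := h.dvd_of_dvd_mul_right (cl_mul_dvd hco)
      exact dvd_of_product (k0 := 1) (by rw [pow_one]; exact hpow hz) hzb hco
        (le_antisymm (Nat.le_of_dvd (Nat.pos_of_ne_zero (cl_pos y)) hdvd) (le_cl_mul_left hco))
    · have h' : Nat.Coprime (cl (y * z)) (cl y) := not_not.1 fun hh => h (hcon _ (dvd_of_eq hword.symm) hh)
      rw [hyzc] at h'
      have hdvd : cl (z * y) ∣ cl z := h'.dvd_of_dvd_mul_right (cl_mul_dvd hco.symm)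
      exact absurd (dvd_of_product (k0 := 1) (by rw [pow_one]; exact hpow hy) hya hco.symm
        (le_antisymm (Nat.le_of_dvd (Nat.pos_of_ne_zero (cl_pos z)) hdvd) (le_cl_mul_left hco.symm))).1 hpb
  -- the star: a class meeting `cl z` is prime to `p`
  have hstar : ∀ x : G, p ∣ orderOf x → ¬ Nat.Coprime (cl x) (cl z) → ¬ p ∣ cl x := fun x hx h hpx =>
    h (hcon x hx (Nat.Prime.not_coprime_iff_dvd.2 ⟨p, hp.out, hpx, hpa⟩))
  obtain ⟨-, hab, -⟩ := sylow_structure P hzP hzc (k0 := 1) (by rw [hz, pow_one]) (dvd_of_eq hz.symm) hzb hzG hstar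
  exact P.not_dvd_index (hpa.trans (Subgroup.index_dvd_of_le fun u hu => mem_cent.2 (hab y hyP u hu)))

/-- Any two elements of order `p` are linked through a common class. -/
theorem exists_join (hZ : ¬ p ∣ Nat.card (Subgroup.center G)) {y z : G} (hy : orderOf y = p) (hz : orderOf z = p) :
    ∃ x : G, p ∣ orderOf x ∧ ¬ Nat.Coprime (cl x) (cl y) ∧ ¬ Nat.Coprime (cl x) (cl z) := by
  by_cases hco : Nat.Coprime (cl y) (cl z)
  swap
  · exact ⟨y, dvd_of_eq hy.symm, fun h => cl_ne_one_of_order hZ hy (by rwa [Nat.coprime_self] at h), hco⟩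
  wlog hpz : ¬ p ∣ cl z generalizing y z with H
  · have hpy : ¬ p ∣ cl y := fun h =>
      hpz fun h' => Nat.not_coprime_of_dvd_of_dvd hp.out.one_lt h h' hco
    obtain ⟨x, h1, h2, h3⟩ := H hz hy hco.symm hpy
    exact ⟨x, h1, h3, h2⟩
  obtain ⟨R, hR⟩ := exists_sylow_le hpz
  have hzR : z ∈ (R : Subgroup G) := by
    have hzg : IsPGroup p (Subgroup.zpowers z) := IsPGroup.of_card (n := 1) (by rw [Nat.card_zpowers, hz, pow_one])
    have hn : (R : Subgroup G) ≤ Subgroup.normalizer ((Subgroup.zpowers z : Subgroup G) : Set G) := by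
      refine le_trans hR fun c hc => Subgroup.mem_normalizer_fintype fun w hw => ?_
      obtain ⟨j, rfl⟩ := hw
      show c * z ^ j * c⁻¹ ∈ _
      rw [((show Commute c z from mem_cent.1 hc).zpow_right j).eq, mul_inv_cancel_right]
      exact zpow_mem (Subgroup.mem_zpowers z) j
    exact (R.is_maximal' (R.2.to_sup_of_normal_right' hzg hn) le_sup_left).le
      (Subgroup.mem_sup_right (Subgroup.mem_zpowers z))
  have hyg : IsPGroup p (Subgroup.zpowers y) := IsPGroup.of_card (n := 1) (by rw [Nat.card_zpowers, hy, pow_one])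
  obtain ⟨S, hS⟩ := hyg.exists_le_sylow
  obtain ⟨g, hg⟩ := MulAction.exists_smul_eq G S R
  have hyR : g * y * g⁻¹ ∈ (R : Subgroup G) := by
    rw [← hg, Sylow.coe_subgroup_smul]
    exact Subgroup.smul_mem_pointwise_smul _ _ _ (hS (Subgroup.mem_zpowers y))
  obtain ⟨x, h1, h2, h3⟩ := exists_join_central hZ R hyR hzR (fun u hu => mem_cent.1 (hR hu))
    (by rw [orderOf_dvd_conj, hy]) hz (by rwa [cl_conj])
  exact ⟨x, h1, by rwa [cl_conj] at h2, h3⟩

/-- Two primes are joined when their product divides one of the class sizes. -/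
def Adj (p : ℕ) (G : Type*) [Group G] (r s : ℕ) : Prop := ∃ x : G, p ∣ orderOf x ∧ r * s ∣ cl x

/-- A vertex of the graph. -/
def Vert (p : ℕ) (G : Type*) [Group G] (r : ℕ) : Prop := r.Prime ∧ ∃ x : G, p ∣ orderOf x ∧ r ∣ cl x

theorem adj_or_eq {r s : ℕ} {x : G} (hr : r.Prime) (hs : s.Prime) (hx : p ∣ orderOf x) (h1 : r ∣ cl x)
    (h2 : s ∣ cl x) : r = s ∨ Adj p G r s := by
  by_cases e : r = s
  · exact Or.inl e
  · exact Or.inr ⟨x, hx, ((Nat.coprime_primes hr hs).2 e).mul_dvd_of_dvd_of_dvd h1 h2⟩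

theorem exists_walk (hZ : ¬ p ∣ Nat.card (Subgroup.center G)) {r s : ℕ} (hr : Vert p G r) (hs : Vert p G s) :
    ∃ u v, Vert p G u ∧ Vert p G v ∧ (r = u ∨ Adj p G r u) ∧ (u = v ∨ Adj p G u v) ∧ (v = s ∨ Adj p G v s) := by
  obtain ⟨hrp, x, hx, hrx⟩ := hr
  obtain ⟨hsp, x', hx', hsx⟩ := hs
  have key : ∀ w : G, p ∣ orderOf w → ∃ y : G, orderOf y = p ∧ cl y ∣ cl w := fun w hw => by
    obtain ⟨k, hk⟩ := hw
    have hk0 : k ≠ 0 := fun e => (orderOf_pos w).ne' (by rw [hk, e, mul_zero])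
    refine ⟨w ^ k, ?_, cl_dvd fun c hc => ((show Commute c w from hc).pow_right k).eq⟩
    rw [orderOf_pow' _ hk0, hk, Nat.gcd_mul_left_left, Nat.mul_div_cancel _ (Nat.pos_of_ne_zero hk0)]
  obtain ⟨y, hy, hyd⟩ := key x hx
  obtain ⟨z, hz, hzd⟩ := key x' hx'
  obtain ⟨m, hm, h1, h2⟩ := exists_join hZ hy hz
  obtain ⟨u, hu, hum, huy⟩ := Nat.Prime.not_coprime_iff_dvd.1 h1
  obtain ⟨v, hv, hvm, hvz⟩ := Nat.Prime.not_coprime_iff_dvd.1 h2
  exact ⟨u, v, ⟨hu, m, hm, hum⟩, ⟨hv, m, hm, hvm⟩, adj_or_eq hrp hu hx hrx (huy.trans hyd),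
    adj_or_eq hu hv hm hum hvm, adj_or_eq hv hsp hx' (hvz.trans hzd) hsx⟩

end Cfsg.Agent.SingularClasses
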