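import Cfsg.Agent.Lib.FGStruct.SmallMain

/-!
The possible shapes of the normal Sylow 2-subgroup in a minimal configuration.
-/

set_option autoImplicit false
set_option linter.style.haveILetI false
open scoped commutatorElement

namespace Cfsg.Agent.SmallTwo

variable {S : Type*} [Group S] [Finite S]

theorem center_map (X : Subgroup S) :
    (Subgroup.center X).map X.subtype = X ⊓ Subgroup.centralizer (X : Set S) := by
  ext w
  refine ⟨?_, fun hw => ⟨⟨w, hw.1⟩, Subgroup.mem_center_iff.2 fun g => Subtype.ext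
    (Subgroup.mem_centralizer_iff.1 hw.2 g g.2), rfl⟩⟩
  rintro ⟨v, hv, rfl⟩
  exact ⟨v.2, Subgroup.mem_centralizer_iff.2 fun g hg =>
    congrArg Subtype.val (Subgroup.mem_center_iff.1 hv ⟨g, hg⟩)⟩

theorem card_map_subtype (X : Subgroup S) (H : Subgroup X) : Nat.card (H.map X.subtype) = Nat.card H :=
  Subgroup.card_map_of_injective X.subtype_injective

theorem not_cyclic_frat {X K : Subgroup S} (hX : IsPGroup 2 X)
    (hsmall : ∀ Y : Subgroup S, Y ≤ X → Y ≠ X → (∀ k ∈ K, k ∈ Subgroup.normalizer (Y : Set S)) → Small Y)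
    (hKX : ∀ k ∈ K, k ∈ Subgroup.normalizer (X : Set S)) {k₀ : S} (hk₀ : k₀ ∈ K) (hkodd : ∀ k ∈ K, Odd (orderOf k))
    (hkc : ¬ ∀ x ∈ X, k₀ * x = x * k₀) (hFc : ∀ f ∈ frat X, ∀ x ∈ X, x * f = f * x) (h4 : 4 ≤ Nat.card (frat X)) :
    ¬ IsCyclic (frat X) := by
  intro hcyc
  haveI : Fact (Nat.Prime 2) := ⟨Nat.prime_two⟩
  have hFn : ∀ k ∈ K, k ∈ Subgroup.normalizer (frat X : Set S) := fun k hk => normalizer_le_frat X (hKX k hk)
  have hfixF : ∀ k ∈ K, ∀ f ∈ frat X, k * f = f * k := fun k hk =>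
    fix_cyclic (hX.to_le (frat_le X)) hcyc (hkodd k hk) (hFn k hk)
  obtain ⟨g, hg⟩ := hcyc.exists_generator
  obtain ⟨i, hi⟩ := IsPGroup.iff_card.1 (hX.to_le (frat_le X))
  obtain ⟨j, rfl⟩ : ∃ j, i = j + 2 := ⟨i - 2, by
    by_contra hc
    have := Nat.pow_le_pow_right two_pos (show i ≤ 1 by omega)
    rw [← hi] at this; omega⟩
  have hgo : orderOf (g : S) = 2 ^ (j + 2) := by
    rw [Subgroup.orderOf_coe, orderOf_eq_card_of_forall_mem_zpowers hg, hi]
  set z := (g : S) ^ 2 ^ (j + 1) with hz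
  have hcomm : ∀ x ∈ X, ∀ y ∈ X, x * y * x⁻¹ * y⁻¹ ∈ Subgroup.zpowers z := by
    intro x hx y hy
    have hcF := comm_mem_frat hX hx hy
    obtain ⟨n, hn⟩ := Subgroup.mem_zpowers_iff.1 (hg ⟨_, hcF⟩)
    have hn' : (g : S) ^ n = x * y * x⁻¹ * y⁻¹ := congrArg Subtype.val hn
    set c := x * y * x⁻¹ * y⁻¹ with hc
    have hxy : x * y * x⁻¹ = c * y := by rw [hc]; group
    have hyy := hFc _ (sq_mem_frat hX hy) x hx
    have hcc : c * c = 1 := by
      have h : c * c * (y * y) = y * y := by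
        calc c * c * (y * y) = c * (c * y) * y := by group
          _ = c * (y * c) * y := by rw [hFc c hcF y hy]
          _ = (x * y * x⁻¹) * (x * y * x⁻¹) := by rw [hxy]; group
          _ = x * (y * y) * x⁻¹ := by group
          _ = y * y := by rw [hyy, mul_inv_cancel_right]
      exact mul_eq_right.1 h
    rw [← hn'] at hcc ⊢
    rw [← zpow_add, ← orderOf_dvd_iff_zpow_eq_one, hgo] at hcc
    obtain ⟨m, hm⟩ : (2 : ℤ) ^ (j + 1) ∣ n := by
      obtain ⟨m, hm⟩ := hcc
      refine ⟨m, ?_⟩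
      push_cast at hm
      rw [pow_succ 2 (j + 1)] at hm
      linarith
    refine Subgroup.mem_zpowers_iff.2 ⟨m, ?_⟩
    rw [hz, ← zpow_natCast, ← zpow_mul, hm]
    push_cast; rfl
  set D := Subgroup.zpowers ((g : S) ^ 2) with hD
  have hzD : Subgroup.zpowers z ≤ D := by
    rw [Subgroup.zpowers_le, hz, pow_succ', pow_mul]
    exact pow_mem (Subgroup.mem_zpowers _) _
  have hDF : D ≤ frat X := Subgroup.zpowers_le.2 (pow_mem g.2 2)
  set Y := sqSub X D (fun d hd => hFc d (hDF hd)) (fun x hx y hy => hzD (hcomm x hx y hy)) with hY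
  have hYX : Y ≤ X := fun x hx => hx.1
  have hYne : Y ≠ X := by
    intro he
    have hle : frat X ≤ D := frat_le_of (fun x hx y hy => hzD (hcomm x hx y hy)) (fun x hx => (he.ge hx).2)
    have h1 := Subgroup.card_le_of_le hle
    rw [hi, hD, Nat.card_zpowers, orderOf_pow' _ two_ne_zero, hgo,
      Nat.gcd_eq_right (dvd_pow_self 2 (by omega))] at h1
    have hp : 0 < 2 ^ (j + 2) := pow_pos two_pos _
    omega
  have hYn : ∀ k ∈ K, k ∈ Subgroup.normalizer (Y : Set S) := fun k hk =>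
    Subgroup.mem_normalizer_fintype fun x hx => ⟨(Subgroup.mem_normalizer_iff.1 (hKX k hk) x).1 hx.1, by
      rw [show k * x * k⁻¹ * (k * x * k⁻¹) = k * (x * x) * k⁻¹ by group, hfixF k hk _ (sq_mem_frat hX hx.1),
        mul_inv_cancel_right]
      exact hx.2⟩
  have hgY : (g : S) ∈ Y := ⟨frat_le X g.2, by rw [← pow_two]; exact Subgroup.mem_zpowers _⟩
  have ho : orderOf ((g : S) ^ 2 ^ j) = 4 := by
    rw [orderOf_pow' _ (pow_ne_zero _ two_ne_zero), hgo, Nat.gcd_eq_right (pow_dvd_pow 2 (by omega)),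
      pow_add, Nat.mul_div_cancel_left _ (pow_pos two_pos j)]
    norm_num
  have hYc := (hsmall Y hYX hYne hYn).cyclic_of_central (hX.to_le hYX) (pow_mem hgY (2 ^ j)) ho
    fun y hy => hFc _ (pow_mem g.2 _) y (hYX hy)
  have hfixY : ∀ y ∈ Y, k₀ * y = y * k₀ := fix_cyclic (hX.to_le hYX) hYc (hkodd k₀ hk₀) (hYn k₀ hk₀)
  refine hkc fun x hx => ?_
  set x' := k₀ * x * k₀⁻¹ with hx'
  have hx'X : x' ∈ X := (Subgroup.mem_normalizer_iff.1 (hKX k₀ hk₀) x).1 hx
  have hsq' : x' * x' = x * x := by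
    rw [hx', show k₀ * x * k₀⁻¹ * (k₀ * x * k₀⁻¹) = k₀ * (x * x) * k₀⁻¹ by group,
      hfixF k₀ hk₀ _ (sq_mem_frat hX hx), mul_inv_cancel_right]
  set c := x' * x⁻¹ * x'⁻¹ * x with hcd
  have hcD : c ∈ D := by
    have h := hzD (hcomm x' hx'X x⁻¹ (inv_mem hx))
    rwa [inv_inv] at h
  have hy : x⁻¹ * x' ∈ Y := by
    refine ⟨mul_mem (inv_mem hx) hx'X, ?_⟩
    have e : x⁻¹ * x' * (x⁻¹ * x') = c := by
      calc x⁻¹ * x' * (x⁻¹ * x') = x⁻¹ * (x' * x⁻¹) * x' := by group
        _ = x⁻¹ * (c * (x⁻¹ * x')) * x' := by rw [hcd]; group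
        _ = (x⁻¹ * c) * x⁻¹ * x' * x' := by group
        _ = c * (x * x)⁻¹ * (x' * x') := by rw [hFc c (hDF hcD) _ (inv_mem hx)]; group
        _ = c := by rw [hsq']; group
    rw [e]; exact hcD
  refine fix_of_fix (hkodd k₀ hk₀) (IsPGroup.exists_orderOf_eq_pow (hX.to_le hYX) ⟨_, hy⟩ |>.imp fun n hn => ?_)
    (show k₀ * x * k₀⁻¹ = x * (x⁻¹ * x') by rw [hx']; group) (hfixY _ hy)
  rw [← hn, ← Subgroup.orderOf_coe]

theorem special_of_four {X K : Subgroup S} (hX : IsPGroup 2 X)
    (hsmall : ∀ Y : Subgroup S, Y ≤ X → Y ≠ X → (∀ k ∈ K, k ∈ Subgroup.normalizer (Y : Set S)) → Small Y)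
    (hKX : ∀ k ∈ K, k ∈ Subgroup.normalizer (X : Set S)) (hnab : ¬ IsMulCommutative X)
    (hFc : ∀ f ∈ frat X, ∀ x ∈ X, x * f = f * x) (h4 : Nat.card (frat X) = 4) (hnc : ¬ IsCyclic (frat X)) :
    Cfsg.IsSpecial 2 X ∧ Nat.card (Subgroup.center X) = 4 := by
  haveI : Fact (Nat.Prime 2) := ⟨Nat.prime_two⟩
  have hFsq := sq_eq_one_of_four h4 hnc
  set Z := X ⊓ Subgroup.centralizer (X : Set S) with hZ
  have hFZ : frat X ≤ Z := fun f hf => Subgroup.mem_inf.2 ⟨frat_le X hf,
    Subgroup.mem_centralizer_iff.2 fun x hx => hFc f hf x hx⟩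
  have hZX : Z ≤ X := inf_le_left
  have hZF : Z = frat X := by
    refine (hsmall Z hZX (fun he => hnab (isMulCommutative_of fun a ha b hb => ?_)) fun k hk => ?_).eq_of_four
      (hX.to_le hZX) hFZ h4 hnc fun f hf y hy => hFc f hf y hy.1
    · exact (Subgroup.mem_centralizer_iff.1 (he.ge ha).2 b hb).symm
    · rw [hZ, ← center_map]
      exact char_map_normalizer X (Subgroup.center X) (hKX k hk)
  set D := (commutator X).map X.subtype with hD
  have hDF : D ≤ frat X := by
    refine Subgroup.map_mono ?_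
    rw [commutator_def, Subgroup.commutator_le]
    intro a _ b _
    exact MaximalCount.comm_mem_frattini hX a b
  have hDc : ∀ x ∈ X, ∀ y ∈ X, x * y * x⁻¹ * y⁻¹ ∈ D := fun x hx y hy =>
    ⟨_, Subgroup.commutator_mem_commutator (Subgroup.mem_top (⟨x, hx⟩ : X)) (Subgroup.mem_top ⟨y, hy⟩),
      by simp [commutatorElement_def]⟩
  have hDeq : D = frat X := by
    by_contra hne
    set Y := sqSub X D (fun d hd => hFc d (hDF hd)) hDc with hY
    have hYX : Y ≤ X := fun x hx => hx.1
    have hFY : frat X ≤ Y := fun f hf => ⟨frat_le X hf, by rw [hFsq f hf]; exact one_mem D⟩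
    have hYne : Y ≠ X := fun he => hne (le_antisymm hDF (frat_le_of hDc fun x hx => (he.ge hx).2))
    have hYn : ∀ k ∈ K, k ∈ Subgroup.normalizer (Y : Set S) := fun k hk =>
      Subgroup.mem_normalizer_fintype fun x hx => ⟨(Subgroup.mem_normalizer_iff.1 (hKX k hk) x).1 hx.1, by
        rw [show k * x * k⁻¹ * (k * x * k⁻¹) = k * (x * x) * k⁻¹ by group]
        exact (Subgroup.mem_normalizer_iff.1 (char_map_normalizer X (commutator X) (hKX k hk)) (x * x)).1 hx.2⟩
    have hYF : Y = frat X := (hsmall Y hYX hYne hYn).eq_of_four (hX.to_le hYX) hFY h4 hnc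
      fun f hf y hy => hFc f hf y (hYX hy)
    have hlt : 2 * Nat.card D ≤ 4 := h4 ▸ two_mul_card_le (lt_of_le_of_ne hDF hne)
    have hDne : D ≠ ⊥ := fun h => hnab (isMulCommutative_of fun a ha b hb => by
      have h1 := hDc a ha b hb
      rw [h, Subgroup.mem_bot] at h1
      exact mul_inv_eq_iff_eq_mul.1 (mul_inv_eq_one.1 h1))
    have hidx : (D.subgroupOf (frat X)).index = 2 := by
      have h1 := (D.subgroupOf (frat X)).card_mul_index
      rw [Nat.card_congr (Subgroup.subgroupOfEquivOfLe hDF).toEquiv, h4] at h1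
      have h2 : 1 < Nat.card D := (Subgroup.one_lt_card_iff_ne_bot D).2 hDne
      have hD2 : Nat.card D = 2 := by omega
      rw [hD2] at h1; omega
    refine hnab (isMulCommutative_of fun x hx y hy => ?_)
    by_cases hxF : x ∈ frat X
    · exact (hFc x hxF y hy).symm
    by_cases hyF : y ∈ frat X
    · exact hFc y hyF x hx
    have hxy : x * y ∈ frat X := by
      rw [← hYF] at hxF hyF ⊢
      have h1 : x * x ∉ D := fun h => hxF ⟨hx, h⟩
      have h2 : y * y ∉ D := fun h => hyF ⟨hy, h⟩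
      refine ⟨mul_mem hx hy, ?_⟩
      have h3 : x * x * (y * y) ∈ D := by
        have h := (Subgroup.mul_mem_iff_of_index_two hidx (a := (⟨x * x, sq_mem_frat hX hx⟩ : frat X))
          (b := ⟨y * y, sq_mem_frat hX hy⟩)).2
          ⟨fun h => absurd (Subgroup.mem_subgroupOf.1 h) h1, fun h => absurd (Subgroup.mem_subgroupOf.1 h) h2⟩
        exact Subgroup.mem_subgroupOf.1 h
      have e : x * y * (x * y) = (y * x * y⁻¹ * x⁻¹) * ((x * x) * (y * y)) := by
        calc x * y * (x * y) = x * (y * x * y⁻¹ * x⁻¹) * x * y * y := by group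
          _ = (y * x * y⁻¹ * x⁻¹) * x * x * y * y := by rw [hFc _ (hDF (hDc y hy x hx)) x hx]
          _ = _ := by group
      rw [e]; exact mul_mem (hDc y hy x hx) h3
    have h := hFc _ hxy x hx
    exact mul_left_cancel (h.trans (mul_assoc x y x))
  have e1 : frattini X = Subgroup.center X := Subgroup.map_injective X.subtype_injective
    (by rw [center_map]; exact hZF.symm)
  have e2 : commutator X = Subgroup.center X := Subgroup.map_injective X.subtype_injective
    (by rw [center_map, ← hD, hDeq]; exact hZF.symm)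
  refine ⟨⟨hX, e1, e2⟩, ?_⟩
  rw [← card_map_subtype, center_map, ← hZ, hZF, h4]

theorem isMulCommutative_of_card_le_four {W : Subgroup S} (hW : IsPGroup 2 W) (h : Nat.card W ≤ 4) :
    IsMulCommutative W := by
  haveI : Fact (Nat.Prime 2) := ⟨Nat.prime_two⟩
  obtain ⟨n, hn⟩ := IsPGroup.iff_card.1 hW
  have : n ≤ 2 := by
    rw [hn] at h
    exact (Nat.pow_le_pow_iff_right (by norm_num : 1 < 2)).1 (h.trans (le_of_eq (by norm_num)))
  rcases (show n = 0 ∨ n = 1 ∨ n = 2 by omega) with rfl | rfl | rfl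
  · rw [pow_zero] at hn
    haveI : Subsingleton W := (Nat.card_eq_one_iff_unique.1 hn).1
    exact ⟨⟨fun a b => Subsingleton.elim _ _⟩⟩
  · rw [pow_one] at hn
    haveI := isCyclic_of_prime_card hn
    infer_instance
  · exact IsPGroup.isMulCommutative_of_card_eq_prime_sq hn

/-- An extraspecial 2-group of order sixteen does not exist. -/
theorem central_of_sixteen {X : Subgroup S} (hX : IsPGroup 2 X) (h16 : Nat.card X = 16) {z : S}
    (hz1 : z ≠ 1) (hzc : ∀ x ∈ X, x * z = z * x)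
    (hcm : ∀ x ∈ X, ∀ y ∈ X, x * y * x⁻¹ * y⁻¹ ∈ ({1, z} : Set S))
    {x y : S} (hx : x ∈ X) (hy : y ∈ X) (hxy : x * y ≠ y * x) :
    4 ≤ Nat.card ↥(X ⊓ Subgroup.centralizer (X : Set S)) := by
  classical
  haveI : Fact (Nat.Prime 2) := ⟨Nat.prime_two⟩
  set W := X ⊓ Subgroup.centralizer ({x, y} : Set S) with hW
  have memW : ∀ w, w ∈ W ↔ w ∈ X ∧ w * x = x * w ∧ w * y = y * w := by
    intro w
    rw [hW, Subgroup.mem_inf, Subgroup.mem_centralizer_iff]
    refine and_congr_right fun _ => ⟨fun h => ⟨(h x (Or.inl rfl)).symm, (h y (Or.inr rfl)).symm⟩, ?_⟩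
    rintro ⟨h1, h2⟩ u (rfl | rfl)
    exacts [h1.symm, h2.symm]
  have alt : ∀ u ∈ X, ∀ v ∈ X, u * v * u⁻¹ = v ∨ u * v * u⁻¹ = z * v := by
    intro u hu v hv
    rcases hcm u hu v hv with h | h
    · exact Or.inl (mul_inv_eq_one.1 h)
    · exact Or.inr (mul_inv_eq_iff_eq_mul.1 h)
  have ne_of : ∀ u v : S, u * v ≠ v * u → u * v * u⁻¹ ≠ v := fun u v h e => h (mul_inv_eq_iff_eq_mul.1 e)
  have hyx : y * x * y⁻¹ = z * x := (alt y hy x hx).resolve_left (ne_of y x (Ne.symm hxy))
  have hxy' : x * y * x⁻¹ = z * y := (alt x hx y hy).resolve_left (ne_of x y hxy)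
  let rep : Bool × Bool → S := fun t => (if t.1 then y else 1) * (if t.2 then x else 1)
  have hrep : ∀ u : X, ∃ t, (rep t)⁻¹ * u ∈ W := by
    intro u
    obtain ⟨t, ht1, ht2, ht3⟩ : ∃ t, rep t ∈ X ∧ rep t * x * (rep t)⁻¹ = u * x * (u : S)⁻¹ ∧
        rep t * y * (rep t)⁻¹ = u * y * (u : S)⁻¹ := by
      rcases alt u u.2 x hx with a | a <;> rcases alt u u.2 y hy with b | b <;> rw [a, b]
      · exact ⟨(false, false), by simp [rep], by simp [rep], by simp [rep]⟩
      · exact ⟨(false, true), by simpa [rep] using hx, by simp [rep], by simpa [rep] using hxy'⟩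
      · exact ⟨(true, false), by simpa [rep] using hy, by simpa [rep] using hyx, by simp [rep]⟩
      · refine ⟨(true, true), by simpa [rep] using mul_mem hy hx, ?_, ?_⟩
        · simp only [rep, if_true]
          calc y * x * x * (y * x)⁻¹ = y * x * y⁻¹ := by group
            _ = z * x := hyx
        · simp only [rep, if_true]
          calc y * x * y * (y * x)⁻¹ = y * (x * y * x⁻¹) * y⁻¹ := by group
            _ = (y * z) * y * y⁻¹ := by rw [hxy']; group
            _ = z * y := by rw [mul_inv_cancel_right, hzc y hy]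
    refine ⟨t, (memW _).2 ⟨mul_mem (inv_mem ht1) u.2, ?_, ?_⟩⟩
    · calc (rep t)⁻¹ * u * x = (rep t)⁻¹ * (u * x * (u : S)⁻¹) * u := by group
        _ = (rep t)⁻¹ * (rep t * x * (rep t)⁻¹) * u := by rw [ht2]
        _ = _ := by group
    · calc (rep t)⁻¹ * u * y = (rep t)⁻¹ * (u * y * (u : S)⁻¹) * u := by group
        _ = (rep t)⁻¹ * (rep t * y * (rep t)⁻¹) * u := by rw [ht3]
        _ = _ := by group
  choose t ht using hrep
  have hinj : Function.Injective fun u : X => (t u, (⟨_, ht u⟩ : W)) := by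
    intro a b h
    obtain ⟨h1, h2⟩ := Prod.ext_iff.1 h
    have h2' : (rep (t a))⁻¹ * (a : S) = (rep (t b))⁻¹ * (b : S) := congrArg Subtype.val h2
    rw [show t a = t b from h1] at h2'
    exact Subtype.ext (mul_left_cancel h2')
  have hW4 := Nat.card_le_card_of_injective _ hinj
  simp only [Nat.card_prod, Nat.card_eq_fintype_card (α := Bool), Fintype.card_bool, h16] at hW4
  have hWX : W ≤ X := inf_le_left
  set D := W ⊔ Subgroup.zpowers x with hD
  have hWD : W < D := by
    refine lt_of_le_of_ne le_sup_left fun e => hxy ?_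
    exact ((memW x).1 (e.ge (Subgroup.mem_sup_right (Subgroup.mem_zpowers x)))).2.2
  have hDX : D < X := by
    refine lt_of_le_of_ne (sup_le hWX (Subgroup.zpowers_le.2 hx)) fun e => hxy ?_
    have h : D ≤ Subgroup.centralizer ({x} : Set S) := sup_le
      (fun w hw => Subgroup.mem_centralizer_singleton_iff.2 ((memW w).1 hw).2.1)
      (Subgroup.zpowers_le.2 (Subgroup.mem_centralizer_singleton_iff.2 rfl))
    exact (Subgroup.mem_centralizer_singleton_iff.1 (h (e.ge hy))).symm
  have h1 := two_mul_card_le hWD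
  have h2 := two_mul_card_le hDX
  have hWc := isMulCommutative_of_card_le_four (hX.to_le hWX) (by omega)
  refine le_trans (by omega : 4 ≤ Nat.card W) (Subgroup.card_le_of_le fun w hw => Subgroup.mem_inf.2 ⟨hWX hw, ?_⟩)
  refine Subgroup.mem_centralizer_iff.2 fun u hu => ?_
  have hwx := ((memW w).1 hw).2.1
  have hwy := ((memW w).1 hw).2.2
  have hr : Commute w (rep (t ⟨u, hu⟩)) := by
    have h1 : ∀ b : Bool, Commute w (if b then y else 1) := fun b => by
      cases b <;> simp [Commute, SemiconjBy, hwy]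
    have h2 : ∀ b : Bool, Commute w (if b then x else 1) := fun b => by
      cases b <;> simp [Commute, SemiconjBy, hwx]
    exact (h1 _).mul_right (h2 _)
  have h3 := hr.mul_right (show Commute w _ from comm_of hWc hw (ht ⟨u, hu⟩))
  rw [mul_inv_cancel_left] at h3
  exact h3.symm.eq

theorem two_cases {X K A : Subgroup S} (hX : IsPGroup 2 X) (hAX : A ≤ X) (hA : IsMulCommutative A)
    (hA8 : Nat.card A = 8)
    (hsmall : ∀ Y : Subgroup S, Y ≤ X → Y ≠ X → (∀ k ∈ K, k ∈ Subgroup.normalizer (Y : Set S)) → Small Y)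
    (hKX : ∀ k ∈ K, k ∈ Subgroup.normalizer (X : Set S)) (hKodd : Odd (Nat.card K)) {k₀ : S} (hk₀ : k₀ ∈ K)
    (hkc : ¬ ∀ x ∈ X, k₀ * x = x * k₀) (hnab : ¬ IsMulCommutative X) (hF2 : Nat.card (frat X) ≤ 2) :
    (Cfsg.IsExtraspecial 2 X ∧ 32 ≤ Nat.card X) ∨
      (∃ (X₀ : Subgroup S) (k : ℕ), X₀ ≤ X ∧ X₀.relIndex X = 2 ∧
        Nonempty (↥X₀ ≃* QuaternionGroup (2 ^ (k + 1))) ∧ X₀ ⊔ (X ⊓ Subgroup.centralizer (X₀ : Set S)) = X) := by
  haveI : Fact (Nat.Prime 2) := ⟨Nat.prime_two⟩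
  have hkodd : ∀ k ∈ K, Odd (orderOf k) := fun k hk => Odd.of_dvd_nat hKodd (K.orderOf_dvd_natCard hk)
  obtain ⟨x, hx, y, hy, hxy⟩ : ∃ x ∈ X, ∃ y ∈ X, x * y ≠ y * x := by
    by_contra h
    push Not at h
    exact hnab (isMulCommutative_of h)
  have hFne : frat X ≠ ⊥ := fun h => hxy (by
    have h1 := comm_mem_frat hX hx hy
    rw [h, Subgroup.mem_bot] at h1
    exact mul_inv_eq_iff_eq_mul.1 (mul_inv_eq_one.1 h1))
  obtain ⟨z, hzF, hz1, hz2, hzc⟩ := exists_central_of_normal hX (frat_le X)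
    (Subgroup.le_normalizer.trans (normalizer_le_frat X)) hFne
  have hF := eq_or_eq_of_card_two hzF hz1 hF2
  have hcm : ∀ a ∈ X, ∀ b ∈ X, a * b * a⁻¹ * b⁻¹ ∈ ({1, z} : Set S) := fun a ha b hb =>
    hF _ (comm_mem_frat hX ha hb)
  have hsq : ∀ a ∈ X, a * a ∈ ({1, z} : Set S) := fun a ha => hF _ (sq_mem_frat hX ha)
  have hkz : ∀ k ∈ K, k * z = z * k := by
    intro k hk
    rcases hF _ ((Subgroup.mem_normalizer_iff.1 (normalizer_le_frat X (hKX k hk)) z).1 hzF) with h | h
    · exact (hz1 (conj_eq_one_iff.1 h)).elim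
    · exact mul_inv_eq_iff_eq_mul.1 h
  have hF2' : Nat.card (frat X) = 2 := le_antisymm hF2 ((Subgroup.one_lt_card_iff_ne_bot _).2 hFne)
  set Z := X ⊓ Subgroup.centralizer (X : Set S) with hZ
  have hZX : Z ≤ X := inf_le_left
  have hFZ : frat X ≤ Z := by
    intro f hf
    refine Subgroup.mem_inf.2 ⟨frat_le X hf, Subgroup.mem_centralizer_iff.2 fun a ha => ?_⟩
    rcases hF f hf with rfl | rfl
    · simp
    · exact hzc a ha
  by_cases hZF : Z ≤ frat X
  · left
    have hZeq : Z = frat X := le_antisymm hZF hFZ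
    have e1 : frattini X = Subgroup.center X := Subgroup.map_injective X.subtype_injective
      (by rw [center_map]; exact hZeq.symm)
    have hD : (commutator X).map X.subtype = frat X := by
      refine Subgroup.eq_of_le_of_card_ge (Subgroup.map_mono ?_) ?_
      · rw [commutator_def, Subgroup.commutator_le]
        intro a _ b _
        exact MaximalCount.comm_mem_frattini hX a b
      · rw [hF2']
        refine (Subgroup.one_lt_card_iff_ne_bot _).2 fun h => hxy ?_
        have h1 : x * y * x⁻¹ * y⁻¹ ∈ (commutator X).map X.subtype :=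
          ⟨_, Subgroup.commutator_mem_commutator (Subgroup.mem_top (⟨x, hx⟩ : X)) (Subgroup.mem_top ⟨y, hy⟩),
            by simp [commutatorElement_def]⟩
        rw [h, Subgroup.mem_bot] at h1
        exact mul_inv_eq_iff_eq_mul.1 (mul_inv_eq_one.1 h1)
    have e2 : commutator X = Subgroup.center X := Subgroup.map_injective X.subtype_injective
      (by rw [hD, center_map]; exact hZeq.symm)
    have hc2 : Nat.card (Subgroup.center X) = 2 := by rw [← card_map_subtype, center_map, ← hZ, hZeq, hF2']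
    refine ⟨⟨⟨hX, e1, e2⟩, hc2⟩, ?_⟩
    obtain ⟨n, hn⟩ := IsPGroup.iff_card.1 hX
    rw [hn]
    by_contra hlt
    have hn4 : n ≤ 4 := by
      by_contra hc
      exact hlt (le_trans (by norm_num) (Nat.pow_le_pow_right two_pos (show 5 ≤ n by omega)))
    rcases (show n ≤ 3 ∨ n = 4 by omega) with h3 | rfl
    · have hAe : A = X := Subgroup.eq_of_le_of_card_ge hAX
        (by rw [hn, hA8]; exact (Nat.pow_le_pow_right two_pos h3).trans (le_of_eq (by norm_num)))
      exact hnab (hAe ▸ hA)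
    · have := central_of_sixteen hX (by rw [hn]; norm_num) hz1 hzc hcm hx hy hxy
      rw [← hZ, hZeq, hF2'] at this
      omega
  · right
    obtain ⟨w, hwZ, hwF⟩ := SetLike.not_le_iff_exists.1 hZF
    have hZne : Z ≠ X := fun he => hxy (Subgroup.mem_centralizer_iff.1 (he.ge hy).2 x hx)
    have hZn : ∀ k ∈ K, k ∈ Subgroup.normalizer (Z : Set S) := fun k hk => by
      rw [hZ, ← center_map]
      exact char_map_normalizer X (Subgroup.center X) (hKX k hk)
    have hwc : ∀ a ∈ X, a * w = w * a := fun a ha => Subgroup.mem_centralizer_iff.1 hwZ.2 a ha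
    have hKw : ∀ k ∈ K, k * w = w * k := by
      intro k hk
      by_cases hZc : IsCyclic Z
      · exact fix_cyclic (hX.to_le hZX) hZc (hkodd k hk) (hZn k hk) w hwZ
      · have h4 := (hsmall Z hZX hZne hZn).card_le le_rfl (hX.to_le hZX) (isMulCommutative_of fun a ha b hb =>
          Subgroup.mem_centralizer_iff.1 hb.2 a ha.1) hZc
        have hfd : ((frat X).subgroupOf Z).index = 2 := by
          have h1 := ((frat X).subgroupOf Z).card_mul_index
          rw [Nat.card_congr (Subgroup.subgroupOfEquivOfLe hFZ).toEquiv, hF2', h4] at h1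
          omega
        have hw' : k * w * k⁻¹ ∈ Z := (Subgroup.mem_normalizer_iff.1 (hZn k hk) w).1 hwZ
        have hm := (Subgroup.mul_mem_iff_of_index_two hfd (a := (⟨w, hwZ⟩ : Z)⁻¹) (b := ⟨k * w * k⁻¹, hw'⟩)).2
          ⟨fun h => absurd (Subgroup.mem_subgroupOf.1 ((Subgroup.inv_mem_iff _).1 h)) hwF, fun h => absurd
            ((Subgroup.mem_normalizer_iff.1 (normalizer_le_frat X (hKX k hk)) w).2 (Subgroup.mem_subgroupOf.1 h)) hwF⟩
        rw [Subgroup.mem_subgroupOf] at hm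
        have hm' : w⁻¹ * (k * w * k⁻¹) ∈ frat X := hm
        refine fix_of_fix (y := w⁻¹ * (k * w * k⁻¹)) (hkodd k hk) ?_ (by group) ?_
        · rcases hF _ hm' with e | e <;> rw [e]
          · exact ⟨0, by simp⟩
          · exact ⟨1, by rw [pow_one]; exact orderOf_eq_prime (by rw [pow_two]; exact hz2) hz1⟩
        · rcases hF _ hm' with e | e <;> rw [e]
          · simp
          · exact hkz k hk
    obtain ⟨Y, hYX, hwY, hFY, hYc, hYn⟩ := exists_invariant_index_two hX hKX hKodd hwZ.1 hwF hKw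
    have hYne : Y ≠ X := fun he => hwY (he.ge hwZ.1)
    have hsY := hsmall Y hYX hYne hYn
    have hzY := hFY hzF
    obtain ⟨a, ha, b, hb, hab⟩ : ∃ a ∈ Y, ∃ b ∈ Y, a * b ≠ b * a := by
      by_contra h
      push Not at h
      refine hnab (isMulCommutative_of fun u hu v hv => ?_)
      have split : ∀ u ∈ X, ∃ u' ∈ Y, u = u' ∨ u = w⁻¹ * u' := fun u hu => by
        by_cases hY' : u ∈ Y
        · exact ⟨u, hY', Or.inl rfl⟩
        · exact ⟨_, hYc u hu hY', Or.inr (inv_mul_cancel_left w u).symm⟩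
      obtain ⟨u', hu', eu⟩ := split u hu
      obtain ⟨v', hv', ev⟩ := split v hv
      have hc : Commute u' v' := h u' hu' v' hv'
      have hcu : Commute w⁻¹ u' := (show Commute u' w from hwc u' (hYX hu')).symm.inv_left
      have hcv : Commute w⁻¹ v' := (show Commute u' v' from hc) |> fun _ =>
        (show Commute v' w from hwc v' (hYX hv')).symm.inv_left
      rcases eu with rfl | rfl <;> rcases ev with rfl | rfl
      exacts [hc.eq, (hcu.symm.mul_right hc).eq, (hcv.mul_left hc).eq,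
        (((Commute.refl w⁻¹).mul_right hcv).mul_left (hcu.symm.mul_right hc)).eq]
    have hcmY : ∀ p ∈ Y, ∀ q ∈ Y, p * q * p⁻¹ * q⁻¹ ∈ ({1, z} : Set S) := fun p hp q hq =>
      hcm p (hYX hp) q (hYX hq)
    have hsqY : ∀ p ∈ Y, p * p ∈ ({1, z} : Set S) := fun p hp => hsq p (hYX hp)
    have hzcY : ∀ p ∈ Y, p * z = z * p := fun p hp => hzc p (hYX hp)
    have hY2 := hX.to_le hYX
    have h8 := hsY.card_eq_eight hY2 hzY hz1 hz2 hzcY hcmY hsqY ha hb hab
    have hkcY : ¬ ∀ p ∈ Y, k₀ * p = p * k₀ := by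
      intro h
      refine hkc fun u hu => ?_
      by_cases hu' : u ∈ Y
      · exact h u hu'
      · have h1 := h _ (hYc u hu hu')
        have h2 : Commute k₀ w := hKw k₀ hk₀
        have := h2.inv_right.mul_right (show Commute k₀ (w * u) from h1)
        rw [inv_mul_cancel_left] at this
        exact this.eq
    have hone := sq_eq_of_operator hY2 hz1 hz2 hzY hzcY hcmY hsqY h8 ha hb hab (hkodd k₀ hk₀) (hYn k₀ hk₀)
      (hkz k₀ hk₀) hkcY
    have hAb : AbCyc.AbCyclic Y := by
      intro B hB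
      by_contra hBnc
      have hB' : ¬ IsCyclic (B.map Y.subtype) := fun hc => hBnc (isCyclic_of_surjective
        (B.equivMapOfInjective Y.subtype Y.subtype_injective).symm
        (B.equivMapOfInjective Y.subtype Y.subtype_injective).symm.surjective)
      have hBY : B.map Y.subtype ≤ Y := Subgroup.map_subtype_le B
      have hBc : IsMulCommutative (B.map Y.subtype : Subgroup S) := by
        refine isMulCommutative_of ?_
        rintro _ ⟨p, hp, rfl⟩ _ ⟨q, hq, rfl⟩
        exact congrArg Y.subtype (congrArg Subtype.val (hB.is_comm.comm (⟨p, hp⟩ : B) ⟨q, hq⟩))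
      have h4 := hsY.card_le hBY (hY2.to_le hBY) hBc hB'
      have hsub : ((B.map Y.subtype : Subgroup S) : Set S) ⊆ {1, z} := by
        intro p hp
        by_contra hc
        simp only [Set.mem_insert_iff, Set.mem_singleton_iff, not_or] at hc
        have h1 := sq_eq_one_of_four h4 hB' p hp
        rw [hone p (hBY hp) hc.1 hc.2] at h1
        exact hz1 h1
      have h := Set.ncard_le_ncard hsub (Set.toFinite _)
      rw [← Nat.card_coe_set_eq, Set.ncard_pair (Ne.symm hz1)] at h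
      have h' : Nat.card (B.map Y.subtype : Subgroup S) ≤ 2 := h
      omega
    rcases FpfStruct.cyclic_or_quaternion hY2 hAb with hc | ⟨-, n, ⟨e⟩⟩
    · exact absurd (comm_of (haveI := hc; inferInstance) ha hb) hab
    have hn : n = 1 := by
      haveI : NeZero (2 ^ n) := ⟨by positivity⟩
      have h := Nat.card_congr e.toEquiv
      rw [h8, Nat.card_eq_fintype_card, QuaternionGroup.card] at h
      have : 2 ^ n = 2 ^ 1 := by rw [pow_one]; omega
      exact Nat.pow_right_injective le_rfl this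
    subst hn
    refine ⟨Y, 0, hYX, ?_, ⟨e⟩, ?_⟩
    · show (Y.subgroupOf X).index = 2
      refine Subgroup.index_eq_two_iff.2 ⟨⟨w, hwZ.1⟩, fun u => ?_⟩
      rw [xor_def, Subgroup.mem_subgroupOf, Subgroup.mem_subgroupOf, Subgroup.coe_mul]
      by_cases hu : (u : S) ∈ Y
      · refine Or.inr ⟨hu, fun h => hwY ?_⟩
        exact (Subgroup.mul_mem_cancel_left _ hu).1 h
      · exact Or.inl ⟨by show (u : S) * w ∈ Y; rw [hwc u u.2]; exact hYc u u.2 hu, hu⟩
    · refine le_antisymm (sup_le hYX inf_le_left) fun u hu => ?_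
      by_cases hu' : u ∈ Y
      · exact Subgroup.mem_sup_left hu'
      · have hwC : w ∈ X ⊓ Subgroup.centralizer (Y : Set S) := Subgroup.mem_inf.2 ⟨hwZ.1,
          Subgroup.mem_centralizer_iff.2 fun p hp => hwc p (hYX hp)⟩
        rw [← inv_mul_cancel_left w u]
        exact mul_mem (Subgroup.mem_sup_right (inv_mem hwC)) (Subgroup.mem_sup_left (hYc u hu hu'))

end Cfsg.Agent.SmallTwo
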