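/-
`G′ ≤ F(G)` for solvable groups of odd order from a condition on the action of `G′` on each `O_r(G)`;
narrowness from a small centraliser of an elementary abelian subgroup.
-/
import Cfsg.Agent.Lib.OddOrder.DerivedNilpotent
import Cfsg.Agent.Lib.OddOrder.NarrowGroup
import Cfsg.Agent.Lib.OddOrder.NarrowConverse

set_option autoImplicit false
set_option linter.style.haveILetI false
open Cfsg

namespace Cfsg.Agent.FGStruct.SmallCent

variable {G : Type*} [Group G] [Finite G]

open OddOrder

/-- `G′ ≤ F(G)` as soon as `G′` acts on every `O_r(G)` as an `r`-group. -/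
theorem commutator_le_fitting_of_act [Group.IsSolvable G] (hodd : Odd (Nat.card G))
    (h : ∀ r : ℕ, r.Prime → r ≠ 2 → ∀ x ∈ commutator G, ∃ k, MulAut.conjNormal (H := Cfsg.pCore r G) x ^ r ^ k = 1) :
    commutator G ≤ Cfsg.fittingSubgroup G := by
  set F := Cfsg.fittingSubgroup G with hF
  have hC : ∀ r : ℕ, r.Prime → ∀ x ∈ commutator G, (orderOf x).Coprime r →
      x ∈ Subgroup.centralizer (Cfsg.pCore r G : Set G) := by
    intro r hr x hx hxr
    haveI := Fact.mk hr
    haveI := FittingCores.pCore_normal (G := G) r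
    rcases eq_or_ne r 2 with rfl | hr2
    · have h1 : Cfsg.pCore 2 G = ⊥ := by
        obtain ⟨k, hk⟩ := IsPGroup.iff_card.1 (FittingCores.pCore_isPGroup (G := G) 2)
        rcases Nat.eq_zero_or_pos k with rfl | hk0
        · exact Subgroup.card_eq_one.1 (by simpa using hk)
        · exact absurd (even_iff_two_dvd.2 ((hk ▸ dvd_pow_self 2 hk0.ne').trans
            (Cfsg.pCore 2 G).card_subgroup_dvd_card)) (Nat.not_even_iff_odd.2 hodd)
      rw [h1]
      exact Subgroup.mem_centralizer_iff.2 fun y hy => by rw [Subgroup.mem_bot.1 hy, one_mul, mul_one]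
    set R := Cfsg.pCore r G with hR
    obtain ⟨k, hk⟩ := h r hr hr2 x hx
    have h1 : MulAut.conjNormal (H := R) x = 1 := by
      refine orderOf_eq_one_iff.1 (Nat.eq_one_of_dvd_coprimes (Nat.Coprime.pow_right k hxr)
        (orderOf_map_dvd _ x) (orderOf_dvd_of_pow_eq_one hk))
    refine Subgroup.mem_centralizer_iff.2 fun y hy => ?_
    have h2 := congrArg Subtype.val (DFunLike.congr_fun h1 ⟨y, hy⟩)
    rw [MulAut.conjNormal_apply, MulAut.one_apply] at h2
    calc y * x = x * y * x⁻¹ * x := by rw [h2]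
      _ = x * y := inv_mul_cancel_right _ _
  haveI := FittingCores.fitting_normal (G := G)
  rw [← Subgroup.subgroupOf_eq_top]
  refine FittingCores.eq_top_of_forall_sylow_le fun s hs => ?_
  obtain ⟨T⟩ : Nonempty (Sylow s (commutator G)) := inferInstance
  haveI := Fact.mk hs
  refine ⟨T, fun x hx => Subgroup.mem_subgroupOf.2 ?_⟩
  obtain ⟨j, hj⟩ := IsPGroup.iff_orderOf.1 T.isPGroup' ⟨x, hx⟩
  rw [Subgroup.orderOf_mk] at hj
  rw [← Subgroup.orderOf_coe] at hj
  -- the elements of `G'` centralizing every `O_r(G)` with `r ≠ s`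
  set K := ⨆ (r : Nat.Primes) (_ : (r : ℕ) ≠ s), Cfsg.pCore r G with hK
  haveI : K.Normal := by
    have := fun r : Nat.Primes => FittingCores.pCore_normal (G := G) r
    exact Subgroup.iSup_normal _
  set N := commutator G ⊓ Subgroup.centralizer (K : Set G) with hN
  haveI : N.Normal := inferInstance
  have hxN : (x : G) ∈ N := by
    refine ⟨x.2, ?_⟩
    have hle : K ≤ Subgroup.centralizer ({(x : G)} : Set G) := iSup₂_le fun r hne y hy =>
      Subgroup.mem_centralizer_singleton_iff.2
        (Subgroup.mem_centralizer_iff.1 (hC r r.2 x x.2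
          (hj ▸ Nat.Coprime.pow_left j ((Nat.coprime_primes hs r.2).2 (Ne.symm hne)))) y hy)
    exact Subgroup.mem_centralizer_iff.2 fun y hy => Subgroup.mem_centralizer_singleton_iff.1 (hle hy)
  suffices hnil : Group.IsNilpotent N from FittingCores.le_fitting inferInstance hnil hxN
  have hq : IsPGroup s (N ⧸ Subgroup.center N) := by
    intro n
    induction n using QuotientGroup.induction_on with | H n => ?_
    obtain ⟨u, v, huv, hu, hv, ⟨k, hk⟩, hvs⟩ := PBasic.exists_pPart_mul (p := s) (n : G)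
    refine ⟨k, ?_⟩
    rw [← QuotientGroup.mk_pow, QuotientGroup.eq_one_iff, Subgroup.mem_center_iff]
    intro m
    have hvN : v ∈ N := (Subgroup.zpowers_le.2 n.2) hv
    have hvF : v ∈ F := by
      refine FittingCores.centralizer_fitting_le (Subgroup.mem_centralizer_iff.2 fun y hy => ?_)
      have hle : F ≤ Subgroup.centralizer ({v} : Set G) := by
        rw [hF, FittingCores.fitting_eq_iSup_pCore]
        refine iSup_le fun r => fun y hy => Subgroup.mem_centralizer_singleton_iff.2 ?_
        by_cases hrs : (r : ℕ) = s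
        · exact Subgroup.mem_centralizer_iff.1 (hC r r.2 v hvN.1 (hrs.symm ▸ hvs)) y hy
        · exact Subgroup.mem_centralizer_iff.1 hvN.2 y ((le_iSup₂_of_le r hrs le_rfl : _ ≤ K) hy)
      exact Subgroup.mem_centralizer_singleton_iff.1 (hle hy)
    have hsup : F ≤ Cfsg.pCore s G ⊔ Subgroup.centralizer (N : Set G) := by
      rw [hF, FittingCores.fitting_eq_iSup_pCore]
      refine iSup_le fun r => ?_
      by_cases hrs : (r : ℕ) = s
      · rw [hrs]; exact le_sup_left
      · exact le_sup_of_le_right ((le_iSup₂_of_le r hrs le_rfl : _ ≤ K).trans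
          (Subgroup.le_centralizer_iff.1 inf_le_right))
    have hvC : v ∈ Subgroup.centralizer (N : Set G) := by
      rw [← QuotientGroup.eq_one_iff]
      set f := QuotientGroup.mk' (Subgroup.centralizer (N : Set G)) with hf
      refine PBasic.eq_one_of_isPGroup_of_coprime ((FittingCores.pCore_isPGroup (G := G) s).map f) ?_
        (Nat.Coprime.coprime_dvd_left (orderOf_map_dvd f v) hvs)
      have := Subgroup.mem_map_of_mem f (hsup hvF)
      rwa [Subgroup.map_sup, hf, QuotientGroup.map_mk'_self, sup_bot_eq] at this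
    refine Subtype.ext ?_
    have hcomm : u * v = v * u := by
      obtain ⟨a, rfl⟩ := Subgroup.mem_zpowers_iff.1 hu
      obtain ⟨b, rfl⟩ := Subgroup.mem_zpowers_iff.1 hv
      exact zpow_mul_comm _ a b
    have hnk : (n : G) ^ s ^ k = v ^ s ^ k := by
      rw [← huv, Commute.mul_pow hcomm, ← hk, pow_orderOf_eq_one, one_mul]
    push_cast
    rw [hnk]
    exact Subgroup.mem_centralizer_iff.1 (pow_mem hvC _) m m.2
  haveI := hq.isNilpotent
  exact Subgroup.isNilpotent_of_ker_le_center (QuotientGroup.mk' (Subgroup.center N))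
    (by rw [QuotientGroup.ker_mk'])

/-- An elementary abelian subgroup whose centralizer has rank at most two makes a `p`-group narrow. -/
theorem isNarrow_of_centralizer {R : Type*} [Group R] [Finite R] {p : ℕ} [Fact p.Prime] (hp2 : p ≠ 2)
    (hR : IsPGroup p R) {E : Subgroup R} (hE : IsElementaryAbelian p E)
    (hr : PRankLE p 2 ↥(Subgroup.centralizer (E : Set R))) : IsNarrow p R := by
  have hp := (Fact.out : p.Prime)
  by_cases hrk : PRankLE p 2 R
  · exact Or.inl hrk
  obtain ⟨A, hEA, hA⟩ := Finite.exists_le_maximal (p := fun A : Subgroup R => IsElementaryAbelian p A) hE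
  have hmax : ∀ B : Subgroup R, IsElementaryAbelian p B → A ≤ B → B = A := fun B hB hAB =>
    le_antisymm (hA.le_of_ge hB hAB) hAB
  obtain ⟨hAab, hAp⟩ := hA.1
  haveI := hAab
  have hAC : A ≤ Subgroup.centralizer (E : Set R) := fun a ha => Subgroup.mem_centralizer_iff.2 fun e he =>
    congrArg Subtype.val (mul_comm' (⟨e, hEA he⟩ : A) ⟨a, ha⟩)
  have hA2 : Nat.card A ≤ p ^ 2 := by
    have h := hr (A.subgroupOf _) ⟨⟨fun x y => Subtype.ext (Subtype.ext
        (show (x.1.1 : R) * y.1.1 = y.1.1 * x.1.1 from congrArg Subtype.val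
          (mul_comm' (⟨x.1.1, x.2⟩ : A) ⟨y.1.1, y.2⟩)))⟩⟩ fun x hx => Subtype.ext (hAp x.1 hx)
    rwa [Nat.card_congr (Subgroup.subgroupOfEquivOfLe hAC).toEquiv] at h
  obtain ⟨j, hj⟩ := IsPGroup.iff_card.1 (hR.to_subgroup A)
  rw [hj] at hA2
  have hj2 : j ≤ 2 := (Nat.pow_le_pow_iff_right hp.one_lt).1 hA2
  rcases Nat.lt_or_ge j 2 with hlt | hge
  · refine absurd ?_ hrk
    intro B hB hBp
    haveI := hB
    rcases subsingleton_or_nontrivial R with hs | hn
    · rw [Nat.card_of_subsingleton (1 : B)]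
      exact Nat.one_le_pow _ _ hp.pos
    haveI := hR.center_nontrivial
    obtain ⟨z, hz⟩ := exists_prime_orderOf_dvd_card' (G := Subgroup.center R) p (by
      obtain ⟨n, hn0, hn⟩ := (hR.to_subgroup (Subgroup.center R)).nontrivial_iff_card.1 inferInstance
      rw [hn]; exact dvd_pow_self p hn0.ne')
    have hzc : (z : R) ∈ Subgroup.centralizer (A : Set R) :=
      Subgroup.mem_centralizer_iff.2 fun y _ => Subgroup.mem_center_iff.1 z.2 y
    have hzp : (z : R) ^ p = 1 := by
      rw [← hz, ← Subgroup.orderOf_coe, pow_orderOf_eq_one]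
    have hzA := NarrowBasics.mem_of_commute hA.1 hmax hzc hzp
    have hAz : A = Subgroup.zpowers (z : R) := by
      refine (Subgroup.eq_of_le_of_card_ge (Subgroup.zpowers_le.2 hzA) ?_).symm
      rw [Nat.card_zpowers, Subgroup.orderOf_coe, hz, hj]
      exact (Nat.pow_le_pow_right hp.pos (show j ≤ 1 by omega)).trans (pow_one p).le
    have hBA : B ≤ A := fun b hb => NarrowBasics.mem_of_commute hA.1 hmax (by
        rw [hAz]
        refine Subgroup.mem_centralizer_iff.2 fun y hy => ?_
        obtain ⟨i, rfl⟩ := hy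
        exact (Subgroup.mem_center_iff.1 (Subgroup.zpow_mem _ z.2 i) b).symm)
      (hBp b hb)
    exact (Subgroup.card_le_of_le hBA).trans (hj ▸ Nat.pow_le_pow_right hp.pos hj2)
  · exact NarrowBasics.isNarrow_of_maximal_pair hp2 hR hA.1 (by rw [hj, le_antisymm hj2 hge]) hmax

end Cfsg.Agent.FGStruct.SmallCent
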