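import Cfsg.Agent.Lib.FGStruct.SmallQuat
import Cfsg.Agent.Lib.Solvable.Fitting
import Cfsg.Agent.Lib.LocalEven.Basic
import Cfsg.Prelude.Def_Transfer

/-!
Minimal solvable groups, in the 2-power-index sense, containing a noncyclic abelian group of order eight.
-/

set_option autoImplicit false
set_option linter.style.haveILetI false
open scoped commutatorElement

namespace Cfsg.Agent.SmallTwo

variable {S : Type*} [Group S] [Finite S]

theorem char_map_normalizer (X : Subgroup S) (H : Subgroup X) [hH : H.Characteristic] :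
    Subgroup.normalizer (X : Set S) ≤ Subgroup.normalizer (H.map X.subtype : Set S) := by
  intro g hg
  refine Subgroup.mem_normalizer_fintype ?_
  rintro _ ⟨w, hw, rfl⟩
  exact ⟨X.normalizerMonoidHom ⟨g, hg⟩ w, Subgroup.characteristic_iff_le_comap.1 hH _ hw, rfl⟩

/-- Elements with square in a subgroup of central type containing all commutators. -/
def sqSub (X D : Subgroup S) (hD : ∀ d ∈ D, ∀ x ∈ X, x * d = d * x)
    (hc : ∀ x ∈ X, ∀ y ∈ X, x * y * x⁻¹ * y⁻¹ ∈ D) : Subgroup S where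
  carrier := {x | x ∈ X ∧ x * x ∈ D}
  one_mem' := ⟨one_mem X, by simp⟩
  inv_mem' := fun {x} hx => ⟨inv_mem hx.1, by rw [← mul_inv_rev]; exact inv_mem hx.2⟩
  mul_mem' := fun {x y} hx hy => ⟨mul_mem hx.1 hy.1, by
    have h : x * y * (x * y) = (y * x * y⁻¹ * x⁻¹) * (x * x) * (y * y) := by
      calc x * y * (x * y) = x * (y * x * y⁻¹ * x⁻¹) * x * y * y := by group
        _ = (y * x * y⁻¹ * x⁻¹) * x * x * y * y := by rw [hD _ (hc y hy.1 x hx.1) x hx.1]
        _ = _ := by group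
    rw [h]
    exact mul_mem (mul_mem (hc y hy.1 x hx.1) hx.2) hy.2⟩

theorem mem_sqSub {X D : Subgroup S} {hD : ∀ d ∈ D, ∀ x ∈ X, x * d = d * x}
    {hc : ∀ x ∈ X, ∀ y ∈ X, x * y * x⁻¹ * y⁻¹ ∈ D} {x : S} :
    x ∈ sqSub X D hD hc ↔ x ∈ X ∧ x * x ∈ D := Iff.rfl

/-- An odd element centralizing a self-centralizing cyclic or small cyclic part contradicts faithfulness. -/
theorem not_cyclic_of_faithful {P : Subgroup S} (hP : IsPGroup 2 P) {k : S} (hk : Odd (orderOf k))
    (hkP : k ∈ Subgroup.normalizer (P : Set S)) (hkc : ¬ ∀ x ∈ P, k * x = x * k) : ¬ IsCyclic P :=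
  fun h => hkc (fix_cyclic hP h hk hkP)

/-- The 2-core of a minimal configuration is a Sylow 2-subgroup. -/
theorem sylow_le_core {O A : Subgroup S} [hOn : O.Normal] (hO2 : IsPGroup 2 O)
    (hCO : Subgroup.centralizer (O : Set S) ≤ O) (hs : Small O)
    (hA : IsMulCommutative A) (hAnc : ¬ IsCyclic A) (hA8 : Nat.card A = 8) {k : S} (hk : Odd (orderOf k))
    (hk1 : k ≠ 1) : False := by
  haveI : Fact (Nat.Prime 2) := ⟨Nat.prime_two⟩
  have hkO : k ∈ Subgroup.normalizer (O : Set S) := by rw [Subgroup.normalizer_eq_top]; trivial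
  have hkc : ¬ ∀ x ∈ O, k * x = x * k := by
    intro h
    obtain ⟨n, hn⟩ := IsPGroup.exists_orderOf_eq_pow hO2
      ⟨k, hCO (Subgroup.mem_centralizer_iff.2 fun w hw => (h w hw).symm)⟩
    rw [← Subgroup.orderOf_coe] at hn
    refine hk1 (orderOf_eq_one_iff.1 ?_)
    exact Nat.eq_one_of_dvd_coprimes ((Nat.coprime_two_right.2 hk).pow_right n) dvd_rfl (dvd_of_eq hn)
  have hne : O ≠ ⊥ := fun h => hkc fun x hx => by rw [h, Subgroup.mem_bot] at hx; simp [hx]
  have hFc := frat_central hO2 hk hkO hkc (hs.mono (frat_le O))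
    (Or.inr (hs.mono inf_le_left))
  have hsmall : Nat.card (frat O) ≤ 2 := by
    by_contra h
    rcases frat_cycOrFour hO2 (hs.mono (frat_le O)) with hc | ⟨h4, hnc⟩
    · obtain ⟨g, hg⟩ := hc.exists_generator
      obtain ⟨i, hi⟩ := IsPGroup.iff_card.1 (hO2.to_le (frat_le O))
      obtain ⟨j, rfl⟩ : ∃ j, i = j + 2 := ⟨i - 2, by
        by_contra hc
        have := Nat.pow_le_pow_right two_pos (show i ≤ 1 by omega)
        rw [← hi] at this; omega⟩
      have ho : orderOf ((g ^ 2 ^ j : frat O) : S) = 4 := by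
        rw [Subgroup.orderOf_coe, orderOf_pow' _ (pow_ne_zero _ two_ne_zero),
          orderOf_eq_card_of_forall_mem_zpowers hg, hi, Nat.gcd_eq_right (pow_dvd_pow 2 (by omega)),
          pow_add, Nat.mul_div_cancel_left _ (pow_pos two_pos j)]
        norm_num
      exact not_cyclic_of_faithful hO2 hk hkO hkc
        (hs.cyclic_of_central hO2 (frat_le O (SetLike.coe_mem _)) ho (hFc _ (SetLike.coe_mem _)))
    · exact frat_ne hne (hs.eq_of_four hO2 (frat_le O) h4 hnc hFc).symm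
  obtain ⟨T, hAT⟩ := (IsPGroup.of_card (show Nat.card A = 2 ^ 3 by rw [hA8]; norm_num)).exists_le_sylow
  have hOT : O ≤ (T : Subgroup S) := LEBasic.normal_le_sylow hO2 T
  have hTN : (T : Subgroup S) ≤ Subgroup.normalizer (O : Set S) := by rw [Subgroup.normalizer_eq_top]; exact le_top
  by_cases hab : IsMulCommutative O
  · have h4 := hs.card_le le_rfl hO2 hab (not_cyclic_of_faithful hO2 hk hkO hkc)
    obtain ⟨z, hzO, hz1, -, hzc⟩ := exists_central_of_normal T.isPGroup' hOT hTN hne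
    have h8 := card_le_eight T.isPGroup' h4 hzO hz1 hzc hTN (inf_le_right.trans hCO)
    have hAe : A = (T : Subgroup S) := Subgroup.eq_of_le_of_card_ge hAT (hA8 ▸ h8)
    have hAO : A ≤ O := fun a ha => hCO (Subgroup.mem_centralizer_iff.2 fun o ho =>
      comm_of hA (hAe.ge (hOT ho)) ha)
    have := Subgroup.card_le_of_le hAO
    omega
  · obtain ⟨i₀, hi₀, j₀, hj₀, hij₀⟩ : ∃ i ∈ O, ∃ j ∈ O, i * j ≠ j * i := by
      by_contra h
      push Not at h
      exact hab (isMulCommutative_of h)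
    obtain ⟨z, hzF, hz1, hz2, hzc⟩ := exists_central_of_normal hO2 (frat_le O)
      (Subgroup.le_normalizer.trans (normalizer_le_frat O)) (fun h => hij₀ (by
        have h1 := comm_mem_frat hO2 hi₀ hj₀
        rw [h, Subgroup.mem_bot] at h1
        exact mul_inv_eq_iff_eq_mul.1 (mul_inv_eq_one.1 h1)))
    have hF := eq_or_eq_of_card_two hzF hz1 hsmall
    have hcm : ∀ x ∈ O, ∀ y ∈ O, x * y * x⁻¹ * y⁻¹ ∈ ({1, z} : Set S) := fun x hx y hy =>
      hF _ (comm_mem_frat hO2 hx hy)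
    have hsq : ∀ x ∈ O, x * x ∈ ({1, z} : Set S) := fun x hx => hF _ (sq_mem_frat hO2 hx)
    have h8 := hs.card_eq_eight hO2 (frat_le O hzF) hz1 hz2 hzc hcm hsq hi₀ hj₀ hij₀
    have hkz : k * z = z * k := by
      rcases hF _ ((Subgroup.mem_normalizer_iff.1 (normalizer_le_frat O hkO) z).1 hzF) with h | h
      · exact (hz1 (conj_eq_one_iff.1 h)).elim
      · exact mul_inv_eq_iff_eq_mul.1 h
    have hone := sq_eq_of_operator hO2 hz1 hz2 (frat_le O hzF) hzc hcm hsq h8 hi₀ hj₀ hij₀ hk hkO hkz hkc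
    exact no_quaternion_core T.isPGroup' hOT hAT hTN hCO hA hAnc hA8 h8 (frat_le O hzF) hz1 hz2 hzc hcm hone
      hi₀ hj₀ hij₀

/-- The subgroup cut out of a normal 2-subgroup by an operator-invariant parity. -/
theorem exists_invariant_index_two {X K : Subgroup S} (hX : IsPGroup 2 X) (hKX : ∀ k ∈ K, k ∈ Subgroup.normalizer (X : Set S))
    (hKodd : Odd (Nat.card K)) {w : S} (hw : w ∈ X) (hwF : w ∉ frat X) (hKw : ∀ k ∈ K, k * w = w * k) :
    ∃ Y : Subgroup S, Y ≤ X ∧ w ∉ Y ∧ frat X ≤ Y ∧ (∀ x ∈ X, x ∉ Y → w * x ∈ Y) ∧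
      (∀ k ∈ K, k ∈ Subgroup.normalizer (Y : Set S)) := by
  classical
  haveI : Fact (Nat.Prime 2) := ⟨Nat.prime_two⟩
  letI := Fintype.ofFinite K
  obtain ⟨M, hM, hwM⟩ : ∃ M : Subgroup X, IsCoatom M ∧ (⟨w, hw⟩ : X) ∉ M := by
    by_contra h
    push Not at h
    refine hwF ⟨⟨w, hw⟩, ?_, rfl⟩
    simp only [frattini, Order.radical, SetLike.mem_coe, Subgroup.mem_iInf, Subtype.forall]
    exact fun M hM => h M hM
  haveI := MaximalCount.normal_of_frattini_le hX (frattini_le_coatom hM)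
  let χ : S → ZMod 2 := fun u => if ∀ hu : u ∈ X, (⟨u, hu⟩ : X) ∈ M then 0 else 1
  have hχ : ∀ u : X, χ u = if u ∈ M then 0 else 1 := fun u => by
    simp only [χ]
    exact if_congr ⟨fun h => h u.2, fun h _ => h⟩ rfl rfl
  have hχmul : ∀ u v, u ∈ X → v ∈ X → χ (u * v) = χ u + χ v := by
    intro u v hu hv
    have h1 := hχ ⟨u, hu⟩
    have h2 := hχ ⟨v, hv⟩
    have h3 := hχ (⟨u, hu⟩ * ⟨v, hv⟩)
    simp only [Subgroup.coe_mul] at h1 h2 h3
    rw [h1, h2, h3]
    by_cases hu' : (⟨u, hu⟩ : X) ∈ M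
    · rw [if_pos hu', zero_add]
      exact if_congr (Subgroup.mul_mem_cancel_left _ hu') rfl rfl
    · by_cases hv' : (⟨v, hv⟩ : X) ∈ M
      · rw [if_pos hv', add_zero]
        exact if_congr (Subgroup.mul_mem_cancel_right _ hv') rfl rfl
      · rw [if_neg hu', if_neg hv', if_pos ?_]
        · exact (show (0 : ZMod 2) = 1 + 1 from rfl)
        set a : X := ⟨u, hu⟩
        have htop : M ⊔ Subgroup.zpowers a = ⊤ := hM.2 _ (lt_of_le_of_ne le_sup_left fun e => hu'
          (e.ge (Subgroup.mem_sup_right (Subgroup.mem_zpowers a))))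
        obtain ⟨m, hm, t, ⟨i, rfl⟩, e⟩ := Subgroup.mem_sup_of_normal_left.1
          (show (⟨v, hv⟩ : X) ∈ M ⊔ Subgroup.zpowers a by rw [htop]; trivial)
        have ha2 : a ^ (2 : ℤ) ∈ M := by
          rw [show (2 : ℤ) = ((2 : ℕ) : ℤ) from rfl, zpow_natCast]
          exact frattini_le_coatom hM (PGroupBasics.pow_mem_frattini hX a)
        rcases Int.even_or_odd i with ⟨b, rfl⟩ | ⟨b, rfl⟩
        · refine (hv' ?_).elim
          rw [← e]
          exact mul_mem hm (show a ^ (b + b) ∈ M by rw [← two_mul, zpow_mul]; exact zpow_mem ha2 b)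
        · rw [← e, show a * (m * a ^ (2 * b + 1)) = (a * m * a⁻¹) * a ^ (2 * b + 2) by group,
            show 2 * b + 2 = 2 * (b + 1) by ring, zpow_mul]
          exact mul_mem (Subgroup.Normal.conj_mem inferInstance m hm a) (zpow_mem ha2 _)
  let f : S → ZMod 2 := fun x => ∑ k : K, χ ((k : S) * x * (k : S)⁻¹)
  have hconj : ∀ (k : K) x, x ∈ X → (k : S) * x * (k : S)⁻¹ ∈ X := fun k x hx =>
    (Subgroup.mem_normalizer_iff.1 (hKX k k.2) x).1 hx
  have hfmul : ∀ x y, x ∈ X → y ∈ X → f (x * y) = f x + f y := by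
    intro x y hx hy
    simp only [f, ← Finset.sum_add_distrib]
    refine Finset.sum_congr rfl fun k _ => ?_
    rw [← hχmul _ _ (hconj k x hx) (hconj k y hy)]
    congr 1; group
  have hfrat : ∀ y ∈ frat X, f y = 0 := by
    intro y hy
    refine Finset.sum_eq_zero fun k _ => ?_
    obtain ⟨v, hv, e⟩ := (Subgroup.mem_normalizer_iff.1 (normalizer_le_frat X (hKX k k.2)) y).1 hy
    rw [show (k : S) * y * (k : S)⁻¹ = (v : S) from e.symm, hχ, if_pos (frattini_le_coatom hM hv)]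
  have h1 : f 1 = 0 := hfrat 1 (one_mem _)
  have hfw : f w = 1 := by
    have : ∀ k : K, χ ((k : S) * w * (k : S)⁻¹) = 1 := fun k => by
      rw [mul_inv_eq_iff_eq_mul.2 (hKw k k.2), show (w : S) = ((⟨w, hw⟩ : X) : S) from rfl, hχ, if_neg hwM]
    simp only [f, this, Finset.sum_const, Finset.card_univ, nsmul_eq_mul, mul_one]
    rw [← Nat.card_eq_fintype_card, ZMod.natCast_eq_one_iff_odd.2 hKodd]
  let Y : Subgroup S :=
    { carrier := {x | x ∈ X ∧ f x = 0}
      one_mem' := ⟨one_mem X, h1⟩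
      mul_mem' := fun {x y} hx hy => ⟨mul_mem hx.1 hy.1, by rw [hfmul x y hx.1 hy.1, hx.2, hy.2, add_zero]⟩
      inv_mem' := fun {x} hx => ⟨inv_mem hx.1, by
        have := hfmul x⁻¹ x (inv_mem hx.1) hx.1
        rw [inv_mul_cancel, h1, hx.2, add_zero] at this
        exact this.symm⟩ }
  refine ⟨Y, fun x hx => hx.1, fun h => ?_, fun y hy => ⟨frat_le X hy, hfrat y hy⟩, fun x hx hxY => ?_, fun k hk => ?_⟩
  · rw [h.2] at hfw; exact zero_ne_one hfw
  · refine ⟨mul_mem hw hx, ?_⟩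
    rw [hfmul w x hw hx, hfw]
    rcases (show f x = 0 ∨ f x = 1 from (Fin.exists_fin_two (p := fun t => f x = t)).1 ⟨f x, rfl⟩) with e | e
    · exact absurd ⟨hx, e⟩ hxY
    · rw [e]; exact (show (1 : ZMod 2) + 1 = 0 from rfl)
  · refine Subgroup.mem_normalizer_fintype fun x hx => ⟨hconj ⟨k, hk⟩ x hx.1, ?_⟩
    rw [← hx.2]
    simp only [f]
    refine Fintype.sum_equiv (Equiv.mulRight (⟨k, hk⟩ : K)) _ _ fun g => ?_
    simp only [Equiv.coe_mulRight, Subgroup.coe_mul]
    congr 1; group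

end Cfsg.Agent.SmallTwo
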