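import Cfsg.Agent.Lib.FGStruct.SmallTwo

/-!
The structure theorem behind minimal solvable overgroups of a noncyclic abelian group of order eight.
-/

set_option autoImplicit false
set_option linter.style.haveILetI false
open scoped commutatorElement

namespace Cfsg.Agent.SmallTwo

variable {S : Type*} [Group S] [Finite S]

theorem fixes_power {k x : S} (hk : Odd (orderOf k)) (h : k * k * x * (k * k)⁻¹ = x) : k * x = x * k := by
  obtain ⟨m, hm⟩ := hk
  have hkm : k = (k * k) ^ (m + 1) := by
    rw [← pow_two, ← pow_mul, show 2 * (m + 1) = (2 * m + 1) + 1 by ring, ← hm, pow_succ, pow_orderOf_eq_one,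
      one_mul]
  have hc : Commute (k * k) x := mul_inv_eq_iff_eq_mul.1 h
  rw [hkm]
  exact (hc.pow_left _).eq

theorem card_le_eight {P V : Subgroup S} {z : S} (hP : IsPGroup 2 P) (hV4 : Nat.card V = 4) (hz : z ∈ V) (hz1 : z ≠ 1)
    (hzc : ∀ x ∈ P, x * z = z * x) (hN : P ≤ Subgroup.normalizer (V : Set S))
    (hC : P ⊓ Subgroup.centralizer (V : Set S) ≤ V) : Nat.card P ≤ 8 := by
  classical
  haveI : Fact (Nat.Prime 2) := ⟨Nat.prime_two⟩
  obtain ⟨u, hu, hu1, huz⟩ : ∃ u ∈ V, u ≠ 1 ∧ u ≠ z := by
    by_contra h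
    push Not at h
    have hsub : (V : Set S) ⊆ {1, z} := fun v hv => by
      by_cases hv1 : v = 1
      · exact Or.inl hv1
      · exact Or.inr (h v hv hv1)
    have := Set.ncard_le_ncard hsub (Set.toFinite _)
    rw [← Nat.card_coe_set_eq, Set.ncard_pair (Ne.symm hz1)] at this
    have h4' : Nat.card V ≤ 2 := this
    omega
  have hgen : Subgroup.closure {z, u} = V := by
    have hle : Subgroup.closure {z, u} ≤ V := (Subgroup.closure_le _).2 (Set.insert_subset hz (Set.singleton_subset_iff.2 hu))
    refine Subgroup.eq_of_le_of_card_ge hle ?_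
    have h1 : ({1, z, u} : Set S) ⊆ (Subgroup.closure {z, u} : Subgroup S) := by
      rintro w (rfl | rfl | rfl)
      exacts [one_mem _, Subgroup.subset_closure (Set.mem_insert _ _),
        Subgroup.subset_closure (Set.mem_insert_of_mem _ rfl)]
    have h2 := Set.ncard_le_ncard h1 (Set.toFinite _)
    rw [Set.ncard_insert_of_notMem (by simp [Ne.symm hz1, Ne.symm hu1]), Set.ncard_pair (Ne.symm huz),
      ← Nat.card_coe_set_eq] at h2
    have h2' : 3 ≤ Nat.card (Subgroup.closure {z, u} : Subgroup S) := h2
    have hd := Subgroup.card_dvd_of_le hle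
    rw [hV4] at hd ⊢
    have := Nat.le_of_dvd (by norm_num) hd
    interval_cases Nat.card (Subgroup.closure {z, u} : Subgroup S) <;> simp_all
  have hd : Nat.card P ≤ Nat.card V * Nat.card {w : V // (w : S) ≠ 1 ∧ (w : S) ≠ z} := by
    have himg : ∀ x : P, (x : S) * u * (x : S)⁻¹ ∈ V := fun x => (Subgroup.mem_normalizer_iff.1 (hN x.2) u).1 hu
    let img : P → {w : V // (w : S) ≠ 1 ∧ (w : S) ≠ z} := fun x =>
      ⟨⟨_, himg x⟩, fun e => hu1 (conj_eq_one_iff.1 e), fun e => huz (by
        have : u = (x : S)⁻¹ * z * x := by rw [← show (x : S) * u * (x : S)⁻¹ = z from e]; group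
        rw [this, mul_assoc, ← hzc x x.2, inv_mul_cancel_left])⟩
    let pick : {w : V // (w : S) ≠ 1 ∧ (w : S) ≠ z} → P := Function.invFun img
    have hdiff : ∀ x : P, ((pick (img x))⁻¹ * x : S) ∈ V := by
      intro x
      have he : (img (pick (img x)) : {w : V // (w : S) ≠ 1 ∧ (w : S) ≠ z}) = img x :=
        Function.invFun_eq ⟨x, rfl⟩
      set y := pick (img x)
      have he' : (y : S) * u * (y : S)⁻¹ = (x : S) * u * (x : S)⁻¹ := congrArg (fun w => ((w.1 : V) : S)) he
      refine hC (Subgroup.mem_inf.2 ⟨mul_mem (inv_mem (show (y : S) ∈ P from y.2)) x.2, ?_⟩)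
      rw [← hgen]
      show _ ∈ Subgroup.centralizer _
      rw [Subgroup.centralizer_closure, Subgroup.mem_centralizer_iff]
      rintro w (rfl | rfl)
      · exact (hzc _ (mul_mem (inv_mem (show (y : S) ∈ P from y.2)) x.2)).symm
      · show w * ((y : S)⁻¹ * x) = (y : S)⁻¹ * x * w
        calc w * ((y : S)⁻¹ * x) = (y : S)⁻¹ * ((y : S) * w * (y : S)⁻¹) * x := by group
          _ = (y : S)⁻¹ * ((x : S) * w * (x : S)⁻¹) * x := by rw [he']
          _ = _ := by group
    rw [← Nat.card_prod]
    refine Nat.card_le_card_of_injective (fun x : P => ((⟨_, hdiff x⟩ : V), img x)) fun a b h => ?_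
    obtain ⟨h1, h2⟩ := Prod.ext_iff.1 h
    have h1' : ((pick (img a) : P) : S)⁻¹ * a = ((pick (img b) : P) : S)⁻¹ * b := congrArg Subtype.val h1
    rw [show img a = img b from h2] at h1'
    exact Subtype.ext (mul_left_cancel h1')
  have h2 : Nat.card {w : V // (w : S) ≠ 1 ∧ (w : S) ≠ z} ≤ 2 := by
    letI := Fintype.ofFinite V
    rw [Nat.card_eq_fintype_card, Fintype.card_subtype]
    have hs : (Finset.univ.filter fun w : V => (w : S) ≠ 1 ∧ (w : S) ≠ z) ⊆
        Finset.univ \ {1, ⟨z, hz⟩} := by
      intro w hw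
      simp only [Finset.mem_filter, Finset.mem_univ, true_and, Finset.mem_sdiff, Finset.mem_insert,
        Finset.mem_singleton, not_or] at hw ⊢
      exact ⟨fun e => hw.1 (by rw [e]; rfl), fun e => hw.2 (by rw [e])⟩
    refine (Finset.card_le_card hs).trans ?_
    rw [Finset.card_sdiff_of_subset (Finset.subset_univ _), Finset.card_univ, ← Nat.card_eq_fintype_card, hV4,
      Finset.card_pair (fun e : (1 : V) = ⟨z, hz⟩ => hz1 (congrArg Subtype.val e).symm)]
  rw [hV4] at hd
  exact hd.trans (Nat.mul_le_mul_left 4 h2)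

theorem cyclic_of_two {P F : Subgroup S} (hF : F = frat P) {x : S} (hx : x ∈ P) (hxF : x ∉ F)
    (h : Nat.card P ≤ 2 * Nat.card F) : Subgroup.zpowers x = P := by
  set D := F ⊔ Subgroup.zpowers x with hD
  have hFP : F ≤ P := hF ▸ frat_le P
  have hDP : D ≤ P := sup_le hFP (Subgroup.zpowers_le.2 hx)
  have hlt : Nat.card F < Nat.card D := by
    refine lt_of_le_of_ne (Subgroup.card_le_of_le le_sup_left) fun e => hxF ?_
    rw [Subgroup.eq_of_le_of_card_ge (le_sup_left : F ≤ D) e.ge]
    exact Subgroup.mem_sup_right (Subgroup.mem_zpowers x)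
  obtain ⟨m, hm⟩ := Subgroup.card_dvd_of_le (le_sup_left : F ≤ D)
  have hm2 : 2 ≤ m := by
    by_contra hc
    interval_cases m <;> simp_all
  have hDeq : D = P := Subgroup.eq_of_le_of_card_ge hDP (by
    rw [hm]; exact h.trans (by rw [mul_comm]; exact Nat.mul_le_mul_left _ hm2))
  set Z := (Subgroup.zpowers x).subgroupOf P
  have htop : Z ⊔ frattini P = ⊤ := by
    refine Subgroup.map_injective P.subtype_injective ?_
    rw [Subgroup.map_sup, Subgroup.subgroupOf_map_subtype, inf_eq_left.2 (Subgroup.zpowers_le.2 hx),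
      ← MonoidHom.range_eq_map, Subgroup.range_subtype, sup_comm]
    show frat P ⊔ Subgroup.zpowers x = P
    rw [← hF]; exact hDeq
  exact le_antisymm (Subgroup.zpowers_le.2 hx) (Subgroup.subgroupOf_eq_top.1 (frattini_nongenerating htop))

theorem comm_of_zpowers {P : Subgroup S} {x : S} (h : Subgroup.zpowers x = P) :
    ∀ a ∈ P, ∀ b ∈ P, a * b = b * a := by
  rw [← h]
  rintro _ ⟨i, rfl⟩ _ ⟨j, rfl⟩
  exact ((Commute.refl x).zpow_zpow i j).eq

theorem central_of_card_le_two {P F : Subgroup S} (hP : IsPGroup 2 P) (hFP : F ≤ P)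
    (hN : P ≤ Subgroup.normalizer (F : Set S)) (h : Nat.card F ≤ 2) :
    ∀ f ∈ F, ∀ x ∈ P, x * f = f * x := by
  intro f hf x hx
  by_cases hb : F = ⊥
  · rw [hb, Subgroup.mem_bot] at hf; simp [hf]
  obtain ⟨z, hzF, hz1, -, hzc⟩ := exists_central_of_normal hP hFP hN hb
  have he : f = 1 ∨ f = z := by
    by_contra hc
    push Not at hc
    have hsub : ({1, z, f} : Set S) ⊆ (F : Set S) := by
      rintro w (rfl | rfl | rfl)
      exacts [one_mem _, hzF, hf]
    have := Set.ncard_le_ncard hsub (Set.toFinite _)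
    rw [Set.ncard_insert_of_notMem (by simp [Ne.symm hz1, Ne.symm hc.1]), Set.ncard_pair (Ne.symm hc.2),
      ← Nat.card_coe_set_eq] at this
    have h' : 3 ≤ Nat.card F := this
    omega
  rcases he with rfl | rfl
  · simp
  · exact hzc x hx

/-- With a nontrivial coprime operator a small Frattini subgroup is central. -/
theorem frat_central {P : Subgroup S} (hP : IsPGroup 2 P) {k : S} (hk : Odd (orderOf k))
    (hkP : k ∈ Subgroup.normalizer (P : Set S)) (hkc : ¬ ∀ x ∈ P, k * x = x * k) (hsF : Small (frat P))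
    (hsC : P ⊓ Subgroup.centralizer (frat P : Set S) = P ∨ Small (P ⊓ Subgroup.centralizer (frat P : Set S))) :
    ∀ f ∈ frat P, ∀ x ∈ P, x * f = f * x := by
  haveI : Fact (Nat.Prime 2) := ⟨Nat.prime_two⟩
  have hFP := frat_le P
  have hN : P ≤ Subgroup.normalizer (frat P : Set S) := Subgroup.le_normalizer.trans (normalizer_le_frat P)
  set F := frat P with hF
  set C := P ⊓ Subgroup.centralizer (F : Set S) with hC
  rcases hsC with hsC | hsC
  · exact fun f hf x hx => (Subgroup.mem_centralizer_iff.1 (hsC.ge hx).2 f hf).symm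
  by_cases h2 : Nat.card F ≤ 2
  · exact central_of_card_le_two hP hFP hN h2
  have hCF : ∀ f ∈ F, ∀ y ∈ C, y * f = f * y := fun f hf y hy => (Subgroup.mem_centralizer_iff.1 hy.2 f hf).symm
  have hCp : IsPGroup 2 C := hP.to_le inf_le_left
  have hkC : k ∈ Subgroup.normalizer (C : Set S) := by
    have h1 := normalizer_le_frat P hkP
    refine Subgroup.mem_normalizer_fintype fun w hw => ⟨(Subgroup.mem_normalizer_iff.1 hkP w).1 hw.1, ?_⟩
    refine Subgroup.mem_centralizer_iff.2 fun f hf => ?_
    have hf' : k⁻¹ * f * k ∈ F := by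
      have := (Subgroup.mem_normalizer_iff.1 (inv_mem h1) f).1 hf
      simpa using this
    have := Subgroup.mem_centralizer_iff.1 hw.2 _ hf'
    calc f * (k * w * k⁻¹) = k * ((k⁻¹ * f * k) * w) * k⁻¹ := by group
      _ = k * (w * (k⁻¹ * f * k)) * k⁻¹ := by rw [this]
      _ = _ := by group
  rcases frat_cycOrFour hP hsF with hFc | ⟨hF4, hFnc⟩
  · exfalso
    obtain ⟨g, hg⟩ := hFc.exists_generator
    obtain ⟨i, hi⟩ := IsPGroup.iff_card.1 (hP.to_le hFP)
    have hgi : orderOf g = 2 ^ i := (orderOf_eq_card_of_forall_mem_zpowers hg).trans hi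
    obtain ⟨j, rfl⟩ : ∃ j, i = j + 2 := ⟨i - 2, by
      by_contra hc
      have : i ≤ 1 := by omega
      have := Nat.pow_le_pow_right two_pos this
      rw [← hi] at this; omega⟩
    have hFab : ∀ a ∈ F, ∀ b ∈ F, a * b = b * a := fun a ha b hb =>
      comm_of (haveI := hFc; inferInstance) ha hb
    have hgC : ((g ^ 2 ^ j : F) : S) ∈ C :=
      ⟨hFP (SetLike.coe_mem _), Subgroup.mem_centralizer_iff.2 fun f hf => hFab f hf _ (SetLike.coe_mem _)⟩
    have ho : orderOf ((g ^ 2 ^ j : F) : S) = 4 := by
      rw [Subgroup.orderOf_coe, orderOf_pow' _ (pow_ne_zero _ two_ne_zero), hgi,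
        Nat.gcd_eq_right (pow_dvd_pow 2 (by omega)), pow_add, Nat.mul_div_cancel_left _ (pow_pos two_pos j)]
      norm_num
    have hCc := hsC.cyclic_of_central hCp hgC ho (fun y hy => hCF _ (SetLike.coe_mem _) y hy)
    refine hkc ?_
    refine RedundantSylow.fixes_of_self_centralizing hP (Nat.coprime_two_right.2 hk)
      (fun n hn => (Subgroup.mem_normalizer_iff.1 hkP n).1 hn) fun c hc hct => ?_
    refine fix_cyclic hCp hCc hk hkC c ⟨hc, Subgroup.mem_centralizer_iff.2 fun f hf => ?_⟩
    have hfC : f ∈ C := ⟨hFP hf, Subgroup.mem_centralizer_iff.2 fun e he => hFab e he f hf⟩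
    exact (hct f (hFP hf) (fix_cyclic hCp hCc hk hkC f hfC)).symm
  · have hFab : ∀ a ∈ F, ∀ b ∈ F, a * b = b * a := by
      intro a ha b hb
      have h1 := sq_eq_one_of_four hF4 hFnc
      have e1 : a⁻¹ = a := inv_eq_of_mul_eq_one_right (h1 a ha)
      have e2 : b⁻¹ = b := inv_eq_of_mul_eq_one_right (h1 b hb)
      have e3 := inv_eq_of_mul_eq_one_right (h1 _ (mul_mem ha hb))
      rw [mul_inv_rev, e1, e2] at e3
      exact e3.symm
    have hFC : F ≤ C := fun f hf => ⟨hFP hf, Subgroup.mem_centralizer_iff.2 fun e he => hFab e he f hf⟩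
    have hCeq : C = F := hsC.eq_of_four hCp hFC hF4 hFnc hCF
    obtain ⟨z, hzF, hz1, -, hzc⟩ := exists_central_of_normal hP hFP hN (fun hb => by
      rw [← hF, hb, Subgroup.card_bot] at hF4; norm_num at hF4)
    have h8 := card_le_eight hP hF4 hzF hz1 hzc hN hCeq.le
    by_cases hPF : P ≤ F
    · exact fun f hf x hx => hFab x (hPF hx) f hf
    · obtain ⟨x, hx, hxF⟩ := SetLike.not_le_iff_exists.1 hPF
      have hz := cyclic_of_two rfl hx hxF (by rw [← hF, hF4]; omega)
      exact fun f hf y hy => comm_of_zpowers hz y hy f (hFP hf)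

/-- A small nonabelian 2-group with Frattini subgroup of order two has order eight. -/
theorem Small.card_eq_eight {P : Subgroup S} (hs : Small P) (hP : IsPGroup 2 P) {z : S} (hzP : z ∈ P)
    (hz1 : z ≠ 1) (hz2 : z * z = 1) (hzc : ∀ x ∈ P, x * z = z * x)
    (hcm : ∀ x ∈ P, ∀ y ∈ P, x * y * x⁻¹ * y⁻¹ ∈ ({1, z} : Set S))
    (hsq : ∀ x ∈ P, x * x ∈ ({1, z} : Set S)) {i j : S} (hi : i ∈ P) (hj : j ∈ P) (hij : i * j ≠ j * i) :
    Nat.card P = 8 := by
  haveI : Fact (Nat.Prime 2) := ⟨Nat.prime_two⟩
  classical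
  set C := P ⊓ Subgroup.centralizer ({i} : Set S) with hC
  have hidx : Nat.card P ≤ 2 * Nat.card C := by
    have hmap : ∀ x : P, ((if (x : S) * i = i * x then (x : S) else j⁻¹ * x)) ∈ C := by
      intro x
      split
      · rename_i h; exact ⟨x.2, Subgroup.mem_centralizer_singleton_iff.2 h⟩
      · rename_i h
        refine Subgroup.mem_inf.2 ⟨mul_mem (inv_mem (show j ∈ P from hj)) x.2, Subgroup.mem_centralizer_singleton_iff.2 ?_⟩
        have hjc : j * i * j⁻¹ * i⁻¹ = z := by
          rcases hcm j hj i hi with e | e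
          · exact absurd (mul_inv_eq_iff_eq_mul.1 (mul_inv_eq_one.1 e)).symm hij
          · exact e
        have hxc : (x : S) * i * (x : S)⁻¹ * i⁻¹ = z := by
          rcases hcm x x.2 i hi with e | e
          · exact absurd (mul_inv_eq_iff_eq_mul.1 (mul_inv_eq_one.1 e)) h
          · exact e
        have e : j * i * j⁻¹ = (x : S) * i * (x : S)⁻¹ := mul_right_cancel (hjc.trans hxc.symm)
        calc j⁻¹ * x * i = j⁻¹ * ((x : S) * i * (x : S)⁻¹) * x := by group
          _ = j⁻¹ * (j * i * j⁻¹) * x := by rw [e]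
          _ = _ := by group
    have hinj : Function.Injective fun x : P => (decide ((x : S) * i = i * x), (⟨_, hmap x⟩ : C)) := by
      intro a b h
      obtain ⟨h1, h2⟩ := Prod.ext_iff.1 h
      have h2' := congrArg Subtype.val h2
      simp only [decide_eq_decide] at h1
      apply Subtype.ext
      simp only at h2'
      by_cases ha : (a : S) * i = i * a
      · rw [if_pos ha, if_pos (h1.1 ha)] at h2'; exact h2'
      · rw [if_neg ha, if_neg (fun hb => ha (h1.2 hb))] at h2'; exact mul_left_cancel h2'
    have := Nat.card_le_card_of_injective _ hinj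
    rwa [Nat.card_prod, Nat.card_eq_fintype_card (α := Bool), Fintype.card_bool] at this
  obtain ⟨n, hn⟩ := IsPGroup.iff_card.1 hP
  obtain ⟨m, hm⟩ := IsPGroup.iff_card.1 (hP.to_le (inf_le_left : C ≤ P))
  have hC4 : Nat.card C ≤ 4 := by
    by_contra hc
    push Not at hc
    set B := Subgroup.closure ({z, i} : Set S) with hB
    have hBc : ∀ a ∈ B, ∀ b ∈ B, a * b = b * a := comm_closure (by
      rintro a (rfl | rfl) b (rfl | rfl)
      exacts [rfl, (hzc _ hi).symm, hzc _ hi, rfl])
    have hiB : i ∈ B := Subgroup.subset_closure (Set.mem_insert_of_mem _ rfl)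
    have hBP : B ≤ P := (Subgroup.closure_le _).2 (Set.insert_subset hzP (Set.singleton_subset_iff.2 hi))
    have hBC : ∀ c ∈ C, ∀ b ∈ B, b * c = c * b := by
      intro c hc b hb
      have : B ≤ Subgroup.centralizer ({c} : Set S) := by
        refine (Subgroup.closure_le _).2 ?_
        rintro w (rfl | rfl)
        · exact Subgroup.mem_centralizer_singleton_iff.2 (hzc c hc.1).symm
        · exact Subgroup.mem_centralizer_singleton_iff.2 (Subgroup.mem_centralizer_singleton_iff.1 hc.2).symm
      exact Subgroup.mem_centralizer_singleton_iff.1 (this hb)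
    have key : ∀ c ∈ C, c ∈ B := by
      intro c hcC
      set D := B ⊔ Subgroup.zpowers c with hD
      have hDP : D ≤ P := sup_le hBP (Subgroup.zpowers_le.2 hcC.1)
      by_cases hnc : IsCyclic D
      · obtain ⟨g, hg⟩ := hnc.exists_generator
        have hiD : i ∈ D := Subgroup.mem_sup_left hiB
        obtain ⟨a, ha⟩ := Subgroup.mem_zpowers_iff.1 (hg ⟨i, hiD⟩)
        have ha' : (g : S) ^ a = i := congrArg Subtype.val ha
        rcases Int.even_or_odd a with ⟨b, rfl⟩ | ⟨b, rfl⟩
        · have : i ∈ Subgroup.zpowers z := by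
            rw [← ha', ← two_mul, zpow_mul]
            refine zpow_mem ?_ b
            rw [zpow_two]
            rcases hsq g (hDP g.2) with e | e <;> rw [e]
            exacts [one_mem _, Subgroup.mem_zpowers z]
          obtain ⟨t, rfl⟩ := this
          exact (hij ((show Commute j z from hzc j hj).zpow_right t).eq.symm).elim
        · have hz4 : ((g : S) * g) * ((g : S) * g) = 1 := by
            rcases hsq g (hDP g.2) with e | e <;> rw [e]
            exacts [one_mul 1, hz2]
          have hg4 : (g : S) ^ (4 : ℤ) = 1 := by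
            rw [show (4 : ℤ) = ((2 + 2 : ℕ) : ℤ) from rfl, zpow_natCast, pow_add, pow_two]
            exact hz4
          have hgi : (g : S) ∈ Subgroup.zpowers i := by
            refine Subgroup.mem_zpowers_iff.2 ⟨2 * b + 1, ?_⟩
            rw [← ha', ← zpow_mul, show (2 * b + 1) * (2 * b + 1) = 4 * (b * b + b) + 1 by ring,
              zpow_add, zpow_mul, hg4, one_zpow, one_mul, zpow_one]
          obtain ⟨t, ht⟩ := Subgroup.mem_zpowers_iff.1 (hg ⟨c, Subgroup.mem_sup_right (Subgroup.mem_zpowers c)⟩)
          have ht' : (g : S) ^ t = c := congrArg Subtype.val ht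
          rw [← ht']
          exact (Subgroup.zpowers_le.2 hiB) (zpow_mem hgi t)
      have h4 := hs.card_le hDP (hP.to_le hDP) (isMulCommutative_of (comm_sup_zpowers hBc fun b hb => hBC c hcC b hb)) hnc
      have hB4 : 4 ≤ Nat.card B := by
        have hsub : ({1, z, i} : Set S) ⊆ (B : Set S) := by
          rintro w (rfl | rfl | rfl)
          exacts [one_mem _, Subgroup.subset_closure (Set.mem_insert _ _), hiB]
        have hi1 : i ≠ 1 := fun e => hij (by simp [e])
        have hiz : i ≠ z := fun e => hij (by rw [e]; exact (hzc j hj).symm)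
        have h3 := Set.ncard_le_ncard hsub (Set.toFinite _)
        rw [Set.ncard_insert_of_notMem (by simp [Ne.symm hz1, Ne.symm hi1]), Set.ncard_pair (Ne.symm hiz),
          ← Nat.card_coe_set_eq] at h3
        have h3' : 3 ≤ Nat.card B := h3
        obtain ⟨t, ht⟩ := IsPGroup.iff_card.1 (hP.to_le hBP)
        rw [ht] at h3' ⊢
        rcases t with _ | _ | t
        · simp at h3'
        · simp at h3'
        · exact (Nat.pow_le_pow_right two_pos (show 2 ≤ t + 2 by omega))
      rw [Subgroup.eq_of_le_of_card_ge (le_sup_left : B ≤ D) (by rw [h4]; exact hB4)]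
      exact Subgroup.mem_sup_right (Subgroup.mem_zpowers c)
    have hCB : Nat.card C ≤ Nat.card B := Subgroup.card_le_of_le key
    have hBnc : ¬ IsCyclic B ∨ Nat.card B ≤ 4 := by
      by_cases hcy : IsCyclic B
      · right
        obtain ⟨g, hg⟩ := hcy.exists_generator
        rw [← orderOf_eq_card_of_forall_mem_zpowers hg]
        refine Nat.le_of_dvd (by norm_num) (orderOf_dvd_of_pow_eq_one (Subtype.ext ?_))
        show (g : S) ^ 4 = 1
        rw [show (4 : ℕ) = 2 + 2 from rfl, pow_add, pow_two]
        rcases hsq g (hBP g.2) with e | e <;> rw [e]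
        exacts [one_mul 1, hz2]
      · exact Or.inl hcy
    rcases hBnc with h | h
    · have := hs.card_le hBP (hP.to_le hBP) (isMulCommutative_of hBc) h
      omega
    · omega
  have hnab : ∀ d : ℕ, n ≤ d → d ≤ 2 → False := by
    intro d h1 h2
    haveI : Fact (Nat.Prime 2) := ⟨Nat.prime_two⟩
    have : IsMulCommutative P := by
      rcases (show n = 0 ∨ n = 1 ∨ n = 2 by omega) with rfl | rfl | rfl
      · rw [pow_zero] at hn
        haveI : Subsingleton P := (Nat.card_eq_one_iff_unique.1 hn).1
        exact ⟨⟨fun a b => Subsingleton.elim _ _⟩⟩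
      · rw [pow_one] at hn
        haveI := isCyclic_of_prime_card hn
        infer_instance
      · exact IsPGroup.isMulCommutative_of_card_eq_prime_sq hn
    exact hij (comm_of this hi hj)
  have h8 : Nat.card P ≤ 8 := by omega
  rw [hn] at h8 ⊢
  have : n ≤ 3 := (Nat.pow_le_pow_iff_right (by norm_num : 1 < 2)).1 (h8.trans (le_of_eq (by norm_num)))
  by_cases h : n = 3
  · rw [h]; norm_num
  · exact (hnab n le_rfl (by omega)).elim

/-- With a nontrivial coprime operator a group of order eight with centre of order two has one involution. -/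
theorem sq_eq_of_operator {P : Subgroup S} (hP : IsPGroup 2 P) {z : S}
    (hz1 : z ≠ 1) (hz2 : z * z = 1) (hzP : z ∈ P) (hzc : ∀ x ∈ P, x * z = z * x)
    (hcm : ∀ x ∈ P, ∀ y ∈ P, x * y * x⁻¹ * y⁻¹ ∈ ({1, z} : Set S))
    (hsq : ∀ x ∈ P, x * x ∈ ({1, z} : Set S)) (h8 : Nat.card P = 8) {a b : S} (ha : a ∈ P) (hb : b ∈ P) (hab : a * b ≠ b * a)
    {k : S} (hk : Odd (orderOf k)) (hkP : k ∈ Subgroup.normalizer (P : Set S)) (hkz : k * z = z * k)
    (hkc : ¬ ∀ x ∈ P, k * x = x * k) : ∀ x ∈ P, x ≠ 1 → x ≠ z → x * x = z := by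
  classical
  intro i hi hi1 hiz
  by_contra hne
  have hi2 : i * i = 1 := (hsq i hi).resolve_right hne
  have hmod : ∀ x ∈ P, ∀ c ∈ ({1, z} : Set S), k * x * k⁻¹ = x * c → k * x = x * k := by
    intro x hx c hc h
    refine fix_of_fix hk ?_ h ?_
    · rcases hc with rfl | rfl
      · exact ⟨0, by simp⟩
      · exact ⟨1, by rw [pow_one]; exact orderOf_eq_prime (hp := ⟨Nat.prime_two⟩) (by rw [pow_two]; exact hz2) hz1⟩
    · rcases hc with rfl | rfl
      · simp
      · exact hkz
  have hcover : ∀ x y : S, x ∈ P → y ∈ P → x ∉ ({1, z} : Set S) → y ∉ ({x, x * z, 1, z} : Set S) →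
      ∀ w ∈ P, ∃ c ∈ ({1, z} : Set S), w = c ∨ w = x * c ∨ w = y * c ∨ w = x * y * c := by
    intro x y hx hy hx' hy' w hw
    simp only [Set.mem_insert_iff, Set.mem_singleton_iff, not_or] at hx' hy'
    obtain ⟨hy1, hy2, hy3, hy4⟩ := hy'
    let f : Fin 2 × Fin 2 × Fin 2 → P := fun t =>
      ⟨(if t.1 = 0 then 1 else x) * (if t.2.1 = 0 then 1 else y) * (if t.2.2 = 0 then 1 else z),
        mul_mem (mul_mem (by split <;> [exact one_mem P; exact hx]) (by split <;> [exact one_mem P; exact hy]))
          (by split <;> [exact one_mem P; exact hzP])⟩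
    have hyz : ∀ c ∈ ({1, z} : Set S), y ≠ c ∧ x * y ≠ c ∧ x ≠ c := by
      intro c hc
      have hxi : x⁻¹ = x ∨ x⁻¹ = x * z := by
        rcases hsq x hx with e | e
        · exact Or.inl (inv_eq_of_mul_eq_one_right e)
        · exact Or.inr (inv_eq_of_mul_eq_one_right (by rw [← mul_assoc, e, hz2]))
      rcases hc with rfl | rfl
      · refine ⟨hy3, fun e => ?_, hx'.1⟩
        have : y = x⁻¹ := (inv_eq_of_mul_eq_one_right e).symm
        rcases hxi with h | h <;> rw [h] at this <;> [exact hy1 this; exact hy2 this]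
      · refine ⟨hy4, fun e => ?_, hx'.2⟩
        have : y = x⁻¹ * c := by rw [← e, inv_mul_cancel_left]
        rcases hxi with h | h <;> rw [h] at this
        · exact hy2 this
        · rw [mul_assoc, hz2, mul_one] at this; exact hy1 this
    have hzy : y * z = z * y := hzc y hy
    have hinj : Function.Injective f := by
      rintro ⟨a, b, c⟩ ⟨a', b', c'⟩ h
      have h' := congrArg Subtype.val h
      have hzi : z⁻¹ = z := inv_eq_of_mul_eq_one_right hz2
      have h1 := hyz 1 (Or.inl rfl)
      have h2 := hyz z (Or.inr rfl)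
      fin_cases a <;> fin_cases b <;> fin_cases c <;> fin_cases a' <;> fin_cases b' <;> fin_cases c' <;>
        simp [f, mul_assoc] at h' ⊢
      all_goals
        first
        | exact hz1 h'
        | exact hz1 h'.symm
        | exact h1.1 h'
        | exact h1.1 h'.symm
        | exact h1.2.1 h'
        | exact h1.2.1 h'.symm
        | exact h1.2.2 h'
        | exact h1.2.2 h'.symm
        | exact h2.1 h'
        | exact h2.1 h'.symm
        | exact h2.2.1 h'
        | exact h2.2.1 h'.symm
        | exact h2.2.2 h'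
        | exact h2.2.2 h'.symm
        | exact hy1 h'
        | exact hy1 h'.symm
        | exact hy2 h'
        | exact hy2 h'.symm
        | (have h'' := congrArg (fun t => t * z) h'
           simp only [mul_assoc, hz2, mul_one, one_mul] at h''
           first
           | exact h1.1 h''
           | exact h1.1 h''.symm
           | exact h1.2.1 h''
           | exact h1.2.1 h''.symm
           | exact h1.2.2 h''
           | exact h1.2.2 h''.symm
           | exact h2.1 h''
           | exact h2.1 h''.symm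
           | exact h2.2.1 h''
           | exact h2.2.1 h''.symm
           | exact h2.2.2 h''
           | exact h2.2.2 h''.symm
           | exact hy1 h''
           | exact hy1 h''.symm
           | exact hy2 h''
           | exact hy2 h''.symm)
        | (simp only [hzy, ← mul_assoc, mul_left_inj, mul_eq_right, left_eq_mul, right_eq_mul] at h'
           first
           | exact hx'.2 h'
           | exact hx'.2 h'.symm
           | exact hx'.2 (by rw [eq_inv_of_mul_eq_one_left h', hzi]))
    have hbij := (Nat.bijective_iff_injective_and_card f).2 ⟨hinj, by rw [h8]; simp⟩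
    obtain ⟨⟨a, b, c⟩, habc⟩ := hbij.2 ⟨w, hw⟩
    have hw' := congrArg Subtype.val habc
    refine ⟨if c = 0 then 1 else z, by split <;> simp, ?_⟩
    fin_cases a <;> fin_cases b <;> simp [f] at hw' ⊢ <;> simp [← hw', mul_assoc]
  have hS : i ∉ ({1, z} : Set S) := by simp [hi1, hiz]
  have hnofix : ∀ x ∈ P, x ∉ ({1, z} : Set S) → k * x ≠ x * k := by
    intro x hx hx' hfx
    apply hkc
    obtain ⟨y, hy, hy'⟩ : ∃ y ∈ P, y ∉ ({x, x * z, 1, z} : Set S) := by
      by_contra hc
      push Not at hc
      have h1 := Set.ncard_le_ncard (show (P : Set S) ⊆ {x, x * z, 1, z} from hc) (Set.toFinite _)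
      have h2 : ({x, x * z, 1, z} : Set S).ncard ≤ 4 := by
        refine (Set.ncard_insert_le _ _).trans (Nat.add_le_add_right ((Set.ncard_insert_le _ _).trans
          (Nat.add_le_add_right ((Set.ncard_insert_le _ _).trans (Nat.add_le_add_right (Set.ncard_singleton z).le 1)) 1)) 1)
      rw [← Nat.card_coe_set_eq] at h1
      have h1' : Nat.card P ≤ 4 := le_trans h1 h2
      omega
    have hky : k * y = y * k := by
      obtain ⟨c, hc, h⟩ := hcover x y hx hy hx' hy' _ ((Subgroup.mem_normalizer_iff.1 hkP y).1 hy)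
      rcases h with h | h | h | h
      · exfalso
        have : y = c := by
          have hcc : k⁻¹ * c * k = c := by
            rcases hc with rfl | rfl
            · simp
            · rw [mul_assoc, ← hkz, inv_mul_cancel_left]
          rw [← hcc, ← h]; group
        simp only [Set.mem_insert_iff, Set.mem_singleton_iff, not_or] at hy'
        rcases hc with rfl | rfl
        exacts [hy'.2.2.1 this, hy'.2.2.2 this]
      · exfalso
        have : y = x * c := by
          have hcc : k⁻¹ * (x * c) * k = x * c := by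
            rw [mul_assoc, show x * c * k = k * (x * c) from ?_, inv_mul_cancel_left]
            rcases hc with rfl | rfl
            · simpa using hfx.symm
            · rw [mul_assoc, ← hkz, ← mul_assoc, ← hfx, mul_assoc]
          rw [← hcc, ← h]; group
        simp only [Set.mem_insert_iff, Set.mem_singleton_iff, not_or] at hy'
        rcases hc with rfl | rfl
        exacts [hy'.1 (by simpa using this), hy'.2.1 this]
      · exact hmod y hy c hc h
      · have hxk : k * x * k⁻¹ = x := mul_inv_eq_iff_eq_mul.2 hfx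
        have hkc' : k * c * k⁻¹ = c := by
          rcases hc with rfl | rfl
          · simp
          · exact mul_inv_eq_iff_eq_mul.2 hkz
        have h2 : k * k * y * (k * k)⁻¹ = y * (x * x) := by
          have hcc : c * c = 1 := by rcases hc with rfl | rfl <;> [exact one_mul 1; exact hz2]
          have hcc' : ∀ w ∈ P, w * c = c * w := by
            intro w hw
            rcases hc with rfl | rfl
            · simp
            · exact hzc w hw
          have hxxc : x * x * y = y * (x * x) := by
            rcases hsq x hx with e | e <;> rw [e]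
            · simp
            · exact (hzc y hy).symm
          calc k * k * y * (k * k)⁻¹ = k * (k * y * k⁻¹) * k⁻¹ := by group
            _ = k * (x * y * c) * k⁻¹ := by rw [h]
            _ = (k * x * k⁻¹) * (k * y * k⁻¹) * (k * c * k⁻¹) := by group
            _ = x * (x * y * c) * c := by rw [hxk, h, hkc']
            _ = x * x * y * (c * c) := by group
            _ = y * (x * x) := by rw [hcc, mul_one, hxxc]
        have hkk : Odd (orderOf (k * k)) := by
          rw [← pow_two]
          exact Odd.of_dvd_nat hk (orderOf_pow_dvd _)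
        have h4 := fix_of_fix hkk (y := x * x) ?_ h2 ?_
        · exact fixes_power hk (mul_inv_eq_iff_eq_mul.2 h4)
        · rcases hsq x hx with e | e <;> rw [e]
          · exact ⟨0, by simp⟩
          · exact ⟨1, by rw [pow_one]; exact orderOf_eq_prime (hp := ⟨Nat.prime_two⟩) (by rw [pow_two]; exact hz2) hz1⟩
        · rcases hsq x hx with e | e <;> rw [e]
          · simp
          · exact ((show Commute k z from hkz).mul_left (show Commute k z from hkz)).eq
    intro w hw
    obtain ⟨c, hc, h⟩ := hcover x y hx hy hx' hy' w hw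
    have hc' : Commute k c := by rcases hc with rfl | rfl <;> [exact Commute.one_right k; exact hkz]
    rcases h with rfl | rfl | rfl | rfl
    exacts [hc'.eq, ((show Commute k x from hfx).mul_right hc').eq, ((show Commute k y from hky).mul_right hc').eq,
      (((show Commute k x from hfx).mul_right (show Commute k y from hky)).mul_right hc').eq]
  set i' := k * i * k⁻¹ with hi'
  have hi'P : i' ∈ P := (Subgroup.mem_normalizer_iff.1 hkP i).1 hi
  have hi'2 : i' * i' = 1 := by rw [hi', show k * i * k⁻¹ * (k * i * k⁻¹) = k * (i * i) * k⁻¹ by group, hi2]; group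
  have hkci : ∀ c ∈ ({1, z} : Set S), k⁻¹ * c * k = c := by
    intro c hc
    rcases hc with rfl | rfl
    · simp
    · rw [mul_assoc, ← hkz, inv_mul_cancel_left]
  have hi'new : i' ∉ ({i, i * z, 1, z} : Set S) := by
    simp only [Set.mem_insert_iff, Set.mem_singleton_iff, not_or]
    refine ⟨fun e => hnofix i hi hS (hmod i hi 1 (Or.inl rfl) (by rw [mul_one]; exact e)),
      fun e => hnofix i hi hS (hmod i hi z (Or.inr rfl) e), fun e => hi1 (conj_eq_one_iff.1 e), fun e => ?_⟩
    refine hiz ?_
    calc i = k⁻¹ * (k * i * k⁻¹) * k := by group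
      _ = k⁻¹ * z * k := by rw [← hi', e]
      _ = z := hkci z (Or.inr rfl)
  set i'' := k * i' * k⁻¹ with hi''
  have hi''P : i'' ∈ P := (Subgroup.mem_normalizer_iff.1 hkP i').1 hi'P
  have hi''2 : i'' * i'' = 1 := by rw [hi'', show k * i' * k⁻¹ * (k * i' * k⁻¹) = k * (i' * i') * k⁻¹ by group, hi'2]; group
  obtain ⟨c, hc, h⟩ := hcover i i' hi hi'P hS hi'new i'' hi''P
  have hcc : c * c = 1 := by rcases hc with rfl | rfl <;> [exact one_mul 1; exact hz2]
  have hcw : ∀ w ∈ P, c * w = w * c := by
    intro w hw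
    rcases hc with rfl | rfl
    · simp
    · exact (hzc w hw).symm
  simp only [Set.mem_insert_iff, Set.mem_singleton_iff, not_or] at hi'new
  rcases h with h | h | h | h
  · have : i' = c := by
      calc i' = k⁻¹ * i'' * k := by rw [hi'']; group
        _ = c := by rw [h]; exact hkci c hc
    rcases hc with rfl | rfl
    exacts [hi'new.2.2.1 this, hi'new.2.2.2 this]
  · have h2 : k * k * i * (k * k)⁻¹ = i * c := by rw [← h, hi'', hi']; group
    have hkk : Odd (orderOf (k * k)) := by
      rw [← pow_two]
      exact Odd.of_dvd_nat hk (orderOf_pow_dvd _)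
    refine hnofix i hi hS (fixes_power hk (mul_inv_eq_iff_eq_mul.2 (fix_of_fix hkk ?_ h2 ?_)))
    · rcases hc with rfl | rfl
      · exact ⟨0, by simp⟩
      · exact ⟨1, by rw [pow_one]; exact orderOf_eq_prime (hp := ⟨Nat.prime_two⟩) (by rw [pow_two]; exact hz2) hz1⟩
    · rcases hc with rfl | rfl
      · simp
      · exact ((show Commute k c from hkz).mul_left (show Commute k c from hkz)).eq
  · exact hnofix i' hi'P (by simp [hi'new.2.2.1, hi'new.2.2.2]) (hmod i' hi'P c hc h)
  · have hii : (i * i') * (i * i') = 1 := by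
      have e : i'' * i'' = (i * i') * (i * i') * (c * c) := by
        rw [h]
        calc i * i' * c * (i * i' * c) = i * i' * (c * (i * i')) * c := by group
          _ = i * i' * ((i * i') * c) * c := by rw [hcw _ (mul_mem hi hi'P)]
          _ = _ := by group
      rw [hi''2, hcc, mul_one] at e
      exact e.symm
    have hcomm : i * i' = i' * i := by
      have := inv_eq_of_mul_eq_one_right hii
      rw [mul_inv_rev, inv_eq_of_mul_eq_one_right hi2, inv_eq_of_mul_eq_one_right hi'2] at this
      exact this.symm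
    refine hab ?_
    have hgen : P ≤ Subgroup.closure ({z, i, i'} : Set S) := by
      intro w hw
      obtain ⟨c, hc, h⟩ := hcover i i' hi hi'P hS (by simp [hi'new]) w hw
      have hcm : c ∈ Subgroup.closure ({z, i, i'} : Set S) := by
        rcases hc with rfl | rfl
        · exact one_mem _
        · exact Subgroup.subset_closure (by simp)
      have him : i ∈ Subgroup.closure ({z, i, i'} : Set S) := Subgroup.subset_closure (by simp)
      have hi'm : i' ∈ Subgroup.closure ({z, i, i'} : Set S) := Subgroup.subset_closure (by simp)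
      rcases h with rfl | rfl | rfl | rfl
      exacts [hcm, mul_mem him hcm, mul_mem hi'm hcm, mul_mem (mul_mem him hi'm) hcm]
    refine comm_closure ?_ a (hgen ha) b (hgen hb)
    rintro u (rfl | rfl | rfl) v (rfl | rfl | rfl)
    exacts [rfl, (hzc _ hi).symm, (hzc _ hi'P).symm, hzc _ hi, rfl, hcomm, hzc _ hi'P, hcomm.symm, rfl]

end Cfsg.Agent.SmallTwo
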