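import Cfsg.Agent.Lib.Solvable.Coprime
import Cfsg.Agent.Lib.Solvable.FixedPointFree
import Cfsg.Agent.Lib.Solvable.Hall
import Cfsg.Agent.Lib.LocalEven.Frattini
import Cfsg.Agent.Lib.FGStruct.MaximalCount
import Cfsg.Agent.Lib.FGStruct.RedundantSylow
import Cfsg.Agent.Lib.Solvable.NilpotentFrattini

/-!
2-groups without a noncyclic abelian subgroup of order eight, with a coprime operator.
-/

set_option autoImplicit false
set_option linter.style.haveILetI false
open scoped commutatorElement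

namespace Cfsg.Agent.SmallTwo

variable {S : Type*} [Group S] [Finite S]

/-- No noncyclic abelian subgroup of order eight inside `P`. -/
def Small (P : Subgroup S) : Prop :=
  ¬ ∃ A : Subgroup S, A ≤ P ∧ IsMulCommutative A ∧ ¬ IsCyclic A ∧ Nat.card A = 8

theorem Small.mono {P Q : Subgroup S} (h : Small P) (hQ : Q ≤ P) : Small Q :=
  fun ⟨A, hA, hr⟩ => h ⟨A, hA.trans hQ, hr⟩

theorem not_isCyclic_of_four {V : Subgroup S} (h : ∀ v ∈ V, v * v = 1) (h4 : 2 < Nat.card V) :
    ¬ IsCyclic V := by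
  intro hc
  obtain ⟨g, hg⟩ := hc.exists_generator
  have h1 := orderOf_eq_card_of_forall_mem_zpowers hg
  have h2 : orderOf g ∣ 2 := orderOf_dvd_of_pow_eq_one (Subtype.ext (by rw [pow_two]; exact h g g.2))
  have := Nat.le_of_dvd (by norm_num) h2
  omega

theorem sq_eq_one_of_four {V : Subgroup S} (h4 : Nat.card V = 4) (hnc : ¬ IsCyclic V) :
    ∀ v ∈ V, v * v = 1 := by
  intro v hv
  have hd : orderOf (⟨v, hv⟩ : V) ∣ 2 ^ 2 := by
    rw [show (2 : ℕ) ^ 2 = Nat.card V from h4.symm]; exact orderOf_dvd_natCard _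
  obtain ⟨i, hi, e⟩ := (Nat.dvd_prime_pow Nat.prime_two).1 hd
  interval_cases i
  · rw [pow_zero, orderOf_eq_one_iff] at e
    have : v = 1 := congrArg Subtype.val e
    simp [this]
  · have := pow_orderOf_eq_one (⟨v, hv⟩ : V)
    rw [e, pow_one, pow_two] at this
    exact congrArg Subtype.val this
  · exact absurd (isCyclic_of_orderOf_eq_card (⟨v, hv⟩ : V) (by rw [e, h4]; rfl)) hnc

theorem comm_closure {s : Set S} (h : ∀ a ∈ s, ∀ b ∈ s, a * b = b * a) :
    ∀ a ∈ Subgroup.closure s, ∀ b ∈ Subgroup.closure s, a * b = b * a := by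
  haveI := Subgroup.isMulCommutative_closure h
  exact fun a ha b hb => congrArg Subtype.val (IsMulCommutative.is_comm.comm
    (⟨a, ha⟩ : Subgroup.closure s) ⟨b, hb⟩)

theorem comm_sup_zpowers {B : Subgroup S} (hB : ∀ a ∈ B, ∀ b ∈ B, a * b = b * a) {x : S}
    (hx : ∀ a ∈ B, a * x = x * a) :
    ∀ a ∈ B ⊔ Subgroup.zpowers x, ∀ b ∈ B ⊔ Subgroup.zpowers x, a * b = b * a := by
  have he : B ⊔ Subgroup.zpowers x = Subgroup.closure ((B : Set S) ∪ {x}) := by
    rw [Subgroup.closure_union, Subgroup.closure_eq, ← Subgroup.zpowers_eq_closure]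
  rw [he]
  refine comm_closure ?_
  rintro a (ha | rfl) b (hb | rfl)
  exacts [hB a ha b hb, hx a ha, (hx b hb).symm, rfl]

theorem isMulCommutative_of {B : Subgroup S} (h : ∀ a ∈ B, ∀ b ∈ B, a * b = b * a) : IsMulCommutative B :=
  ⟨⟨fun a b => Subtype.ext (h a a.2 b b.2)⟩⟩

theorem comm_of {B : Subgroup S} (h : IsMulCommutative B) {a b : S} (ha : a ∈ B) (hb : b ∈ B) :
    a * b = b * a :=
  congrArg Subtype.val (h.is_comm.comm (⟨a, ha⟩ : B) ⟨b, hb⟩)

theorem Small.card_le {P B : Subgroup S} (hP : Small P) (hBP : B ≤ P) (hB2 : IsPGroup 2 B)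
    (hBc : IsMulCommutative B) (hnc : ¬ IsCyclic B) : Nat.card B = 4 := by
  haveI : Fact (Nat.Prime 2) := ⟨Nat.prime_two⟩
  obtain ⟨k, hk⟩ := IsPGroup.iff_card.1 hB2
  obtain ⟨q, E, hq, hE, hEe⟩ := CoprimeAct.exists_elementary_of_not_isCyclic (H := B) hnc
  have hq2 : q = 2 := by
    have h1 : q ∣ 2 ^ k := hk ▸ (dvd_pow_self q two_ne_zero).trans (hE ▸ Subgroup.card_subgroup_dvd_card E)
    exact (Nat.prime_dvd_prime_iff_eq hq Nat.prime_two).1 (hq.dvd_of_dvd_pow h1)
  subst hq2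
  have h4 : 4 ∣ Nat.card B := by
    rw [show (4 : ℕ) = 2 ^ 2 from rfl, ← hE]; exact Subgroup.card_subgroup_dvd_card E
  by_contra hne
  have h8 : 2 ^ 3 ∣ Nat.card B := by
    rw [hk] at h4 hne ⊢
    refine pow_dvd_pow 2 ?_
    by_contra hc
    interval_cases k <;> simp_all
  obtain ⟨C, hC, hEC⟩ := Sylow.exists_subgroup_card_pow_prime_le 2 h8 E hE (by norm_num)
  refine hP ⟨C.map B.subtype, (Subgroup.map_subtype_le C).trans hBP, ?_, fun hc => ?_, ?_⟩
  · exact isMulCommutative_of fun a ha b hb =>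
      comm_of hBc (Subgroup.map_subtype_le C ha) (Subgroup.map_subtype_le C hb)
  · have hcE : IsCyclic (E.map B.subtype) :=
      isCyclic_of_injective (Subgroup.inclusion (Subgroup.map_mono hEC)) (Subgroup.inclusion_injective _)
    refine not_isCyclic_of_four ?_ ?_ hcE
    · rintro _ ⟨e, he, rfl⟩
      have := congrArg (fun w : E => ((w : B) : S)) (hEe ⟨e, he⟩)
      simpa [pow_two] using this
    · rw [Subgroup.card_map_of_injective B.subtype_injective, hE]; norm_num
  · rw [Subgroup.card_map_of_injective B.subtype_injective, hC]; norm_num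

/-- A small group with a central element of order four is cyclic. -/
theorem Small.cyclic_of_central {P : Subgroup S} (hP : Small P) (hP2 : IsPGroup 2 P) {x : S}
    (hx : x ∈ P) (hx4 : orderOf x = 4) (hc : ∀ y ∈ P, y * x = x * y) : IsCyclic P := by
  haveI : Fact (Nat.Prime 2) := ⟨Nat.prime_two⟩
  have hab : AbCyc.AbCyclic P := by
    intro B hB
    set B' := B.map P.subtype with hB'
    have hBP : B' ≤ P := Subgroup.map_subtype_le B
    have hBc : ∀ a ∈ B', ∀ b ∈ B', a * b = b * a := by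
      rintro _ ⟨a, ha, rfl⟩ _ ⟨b, hb, rfl⟩
      exact congrArg P.subtype (congrArg Subtype.val (hB.is_comm.comm (⟨a, ha⟩ : B) ⟨b, hb⟩))
    set D := B' ⊔ Subgroup.zpowers x with hD
    have hDP : D ≤ P := sup_le hBP (Subgroup.zpowers_le.2 hx)
    have hDc : IsCyclic D := by
      by_contra hnc
      have h4 := hP.card_le hDP (hP2.to_le hDP)
        (isMulCommutative_of (comm_sup_zpowers hBc fun a ha => hc a (hBP ha))) hnc
      have he : Subgroup.zpowers x = D := Subgroup.eq_of_le_of_card_ge le_sup_right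
        (by rw [Nat.card_zpowers, hx4, h4])
      exact hnc (he ▸ inferInstance)
    have : IsCyclic B' := isCyclic_of_injective (Subgroup.inclusion (le_sup_left : B' ≤ D))
      (Subgroup.inclusion_injective _)
    exact isCyclic_of_surjective (B.equivMapOfInjective P.subtype P.subtype_injective).symm
      (B.equivMapOfInjective P.subtype P.subtype_injective).symm.surjective
  rcases FpfStruct.cyclic_or_quaternion hP2 hab with h | ⟨-, n, ⟨e⟩⟩
  · exact h
  rcases n with _ | n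
  · refine isCyclic_of_orderOf_eq_card (⟨x, hx⟩ : P) ?_
    rw [Nat.card_congr e.toEquiv, Nat.card_eq_fintype_card, QuaternionGroup.card, ← Subgroup.orderOf_coe]
    simpa using hx4
  exfalso
  have hc' : ∀ q : QuaternionGroup (2 ^ (n + 1)), q * e ⟨x, hx⟩ = e ⟨x, hx⟩ * q := by
    intro q
    obtain ⟨w, rfl⟩ := e.surjective q
    rw [← map_mul, ← map_mul]
    exact congrArg e (Subtype.ext (hc w w.2))
  have ho : orderOf (e ⟨x, hx⟩) = 4 := by
    rw [e.orderOf_eq, ← Subgroup.orderOf_coe]; exact hx4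
  generalize e ⟨x, hx⟩ = q at hc' ho
  have hN2 : 2 ≤ 2 ^ (n + 1) := by
    rw [pow_succ]; exact Nat.le_mul_of_pos_left 2 (pow_pos (by norm_num) n)
  rcases q with i | i
  · have h1 := hc' (QuaternionGroup.xa 0)
    rw [QuaternionGroup.xa_mul_a, QuaternionGroup.a_mul_xa, QuaternionGroup.xa.injEq] at h1
    have h2 : (QuaternionGroup.a i : QuaternionGroup (2 ^ (n + 1))) ^ 2 = 1 := by
      rw [pow_two, QuaternionGroup.a_mul_a, QuaternionGroup.one_def, QuaternionGroup.a.injEq]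
      calc i + i = (0 + i) - (0 - i) := by ring
        _ = 0 := by rw [h1, sub_self]
    have := orderOf_dvd_of_pow_eq_one h2
    rw [ho] at this
    norm_num at this
  · have h1 := hc' (QuaternionGroup.a 1)
    rw [QuaternionGroup.xa_mul_a, QuaternionGroup.a_mul_xa, QuaternionGroup.xa.injEq] at h1
    have h2 : ((2 : ℕ) : ZMod (2 * 2 ^ (n + 1))) = 0 := by
      push_cast
      calc (2 : ZMod (2 * 2 ^ (n + 1))) = (i + 1) - (i - 1) := by ring
        _ = 0 := by rw [← h1, sub_self]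
    rw [ZMod.natCast_eq_zero_iff] at h2
    have := Nat.le_of_dvd (by norm_num) h2
    omega

/-- A small group with a central four-group is that four-group. -/
theorem Small.eq_of_four {P V : Subgroup S} (hP : Small P) (hP2 : IsPGroup 2 P) (hV : V ≤ P)
    (h4 : Nat.card V = 4) (hnc : ¬ IsCyclic V) (hc : ∀ v ∈ V, ∀ y ∈ P, y * v = v * y) : P = V := by
  refine le_antisymm (fun y hy => ?_) hV
  set D := V ⊔ Subgroup.zpowers y with hD
  have hDP : D ≤ P := sup_le hV (Subgroup.zpowers_le.2 hy)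
  have hVc : ∀ a ∈ V, ∀ b ∈ V, a * b = b * a := fun a ha b hb => (hc b hb a (hV ha))
  have h := hP.card_le hDP (hP2.to_le hDP)
    (isMulCommutative_of (comm_sup_zpowers hVc fun a ha => (hc a ha y hy).symm))
    (fun hcyc => hnc (isCyclic_of_injective (Subgroup.inclusion (le_sup_left : V ≤ D))
      (Subgroup.inclusion_injective _)))
  rw [Subgroup.eq_of_le_of_card_ge (le_sup_left : V ≤ D) (by rw [h, h4])]
  exact Subgroup.mem_sup_right (Subgroup.mem_zpowers y)

/-- The Frattini subgroup of `X` inside `S`. -/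
def frat (X : Subgroup S) : Subgroup S := (frattini X).map X.subtype

theorem frat_le (X : Subgroup S) : frat X ≤ X := Subgroup.map_subtype_le _

omit [Finite S] in
theorem sq_mem_frat {X : Subgroup S} [Finite X] (hX : IsPGroup 2 X) {x : S} (hx : x ∈ X) : x * x ∈ frat X := by
  haveI : Fact (Nat.Prime 2) := ⟨Nat.prime_two⟩
  exact ⟨(⟨x, hx⟩ : X) ^ 2, PGroupBasics.pow_mem_frattini hX _, by simp [pow_two]⟩

theorem comm_mem_frat {X : Subgroup S} (hX : IsPGroup 2 X) {x y : S} (hx : x ∈ X) (hy : y ∈ X) :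
    x * y * x⁻¹ * y⁻¹ ∈ frat X := by
  haveI : Fact (Nat.Prime 2) := ⟨Nat.prime_two⟩
  exact ⟨_, MaximalCount.comm_mem_frattini hX (⟨x, hx⟩ : X) ⟨y, hy⟩, by simp⟩

theorem frat_le_of {X N : Subgroup S} (hc : ∀ x ∈ X, ∀ y ∈ X, x * y * x⁻¹ * y⁻¹ ∈ N)
    (hp : ∀ x ∈ X, x * x ∈ N) : frat X ≤ N := by
  haveI : Fact (Nat.Prime 2) := ⟨Nat.prime_two⟩
  rintro _ ⟨w, hw, rfl⟩
  have h := LEFrattini.frattini_le (p := 2) (N := N.subgroupOf X)
    (fun a b => by
      rw [Subgroup.mem_subgroupOf, commutatorElement_def]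
      exact hc a a.2 b b.2)
    (fun a => by
      rw [Subgroup.mem_subgroupOf, pow_two]
      exact hp a a.2) hw
  exact h

theorem frat_ne {X : Subgroup S} (hne : X ≠ ⊥) : frat X ≠ X := by
  intro h
  haveI : Nontrivial X := (Subgroup.nontrivial_iff_ne_bot _).2 hne
  obtain ⟨M, hM, -⟩ := IsCoatomic.eq_top_or_exists_le_coatom (⊥ : Subgroup X) |>.resolve_left bot_ne_top
  refine hM.1 (top_le_iff.1 (le_trans (fun w _ => ?_) (frattini_le_coatom hM)))
  have hw : (w : S) ∈ frat X := h.ge w.2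
  obtain ⟨v, hv, e⟩ := hw
  rwa [← X.subtype_injective e]

theorem normalizer_le_frat (X : Subgroup S) :
    Subgroup.normalizer (X : Set S) ≤ Subgroup.normalizer (frat X : Set S) := by
  intro g hg
  refine Subgroup.mem_normalizer_fintype ?_
  rintro _ ⟨w, hw, rfl⟩
  refine ⟨X.normalizerMonoidHom ⟨g, hg⟩ w, ?_, rfl⟩
  exact Subgroup.characteristic_iff_le_comap.1 (inferInstance : (frattini X).Characteristic) _ hw

/-- A subgroup of a small shape: cyclic or a four-group. -/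
def CycOrFour (F : Subgroup S) : Prop :=
  IsCyclic F ∨ (Nat.card F = 4 ∧ ¬ IsCyclic F)

theorem exists_central_of_normal {X N : Subgroup S} (hX : IsPGroup 2 X) (hNX : N ≤ X)
    (hN : X ≤ Subgroup.normalizer (N : Set S)) (hne : N ≠ ⊥) :
    ∃ z ∈ N, z ≠ 1 ∧ z * z = 1 ∧ ∀ x ∈ X, x * z = z * x := by
  haveI : Fact (Nat.Prime 2) := ⟨Nat.prime_two⟩
  haveI := IsPGroup.isNilpotent hX
  haveI := Subgroup.normal_subgroupOf_of_le_normalizer hN
  have hne' : N.subgroupOf X ≠ ⊥ := by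
    rw [Ne, Subgroup.subgroupOf_eq_bot, disjoint_iff, inf_eq_left.2 hNX]
    exact hne
  obtain ⟨w, hw⟩ := Subgroup.ne_bot_iff_exists_ne_one.1 (SolvStruct.inf_center_ne_bot hne')
  obtain ⟨k, hk⟩ := IsPGroup.exists_orderOf_eq_pow hX (w : X)
  have hk0 : k ≠ 0 := fun h => hw (Subtype.ext (orderOf_eq_one_iff.1 (by rw [hk, h, pow_zero])))
  obtain ⟨j, rfl⟩ : ∃ j, k = j + 1 := ⟨k - 1, by omega⟩
  set v := (w : X) ^ 2 ^ j with hv
  have hvo : orderOf v = 2 := by
    rw [hv, orderOf_pow' _ (pow_ne_zero _ two_ne_zero), hk,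
      Nat.gcd_eq_right (pow_dvd_pow 2 (Nat.le_succ j)), pow_succ,
      Nat.mul_div_cancel_left _ (pow_pos two_pos j)]
  have hmem := Subgroup.pow_mem (N.subgroupOf X ⊓ Subgroup.center X) w.2 (2 ^ j)
  refine ⟨(v : S), hmem.1, fun h => ?_, ?_, fun x hx => ?_⟩
  · rw [← Subgroup.orderOf_coe, h, orderOf_one] at hvo
    norm_num at hvo
  · have := pow_orderOf_eq_one v
    rw [hvo, pow_two] at this
    exact congrArg Subtype.val this
  · exact congrArg Subtype.val (Subgroup.mem_center_iff.1 hmem.2 (⟨x, hx⟩ : X))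

/-- A normal subgroup of a 2-group of order at least four contains a normal subgroup of order four. -/
theorem exists_four {X N : Subgroup S} (hX : IsPGroup 2 X) (hNX : N ≤ X)
    (hN : X ≤ Subgroup.normalizer (N : Set S)) (h4 : 4 ≤ Nat.card N) :
    ∃ B : Subgroup S, B ≤ N ∧ Nat.card B = 4 ∧ X ≤ Subgroup.normalizer (B : Set S) ∧
      ∃ z ∈ B, z ≠ 1 ∧ z * z = 1 ∧ (∀ x ∈ X, x * z = z * x) ∧
        ∀ b ∈ B, ∀ x ∈ X, x * b * x⁻¹ * b⁻¹ ∈ Subgroup.zpowers z := by
  haveI : Fact (Nat.Prime 2) := ⟨Nat.prime_two⟩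
  obtain ⟨z, hzN, hz1, hz2, hzc⟩ := exists_central_of_normal hX hNX hN
    (fun h => by rw [h, Subgroup.card_bot] at h4; omega)
  set z' : X := ⟨z, hNX hzN⟩
  haveI : (Subgroup.zpowers z').Normal := ⟨fun a ha g => by
    obtain ⟨j, rfl⟩ := ha
    have hc : Commute g z' := Subtype.ext (hzc g g.2)
    rw [(hc.zpow_right j).eq, mul_inv_cancel_right]
    exact ⟨j, rfl⟩⟩
  set π := QuotientGroup.mk' (Subgroup.zpowers z')
  haveI := Subgroup.normal_subgroupOf_of_le_normalizer hN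
  haveI : ((N.subgroupOf X).map π).Normal := Subgroup.Normal.map inferInstance _ (QuotientGroup.mk'_surjective _)
  have hQ : IsPGroup 2 (X ⧸ Subgroup.zpowers z') := hX.to_quotient _
  haveI := IsPGroup.isNilpotent hQ
  have hzo : orderOf z' = 2 :=
    orderOf_eq_prime (Subtype.ext (by rw [pow_two]; exact hz2)) (fun h => hz1 (congrArg Subtype.val h))
  have hne : (N.subgroupOf X).map π ≠ ⊥ := by
    intro h
    rw [Subgroup.map_eq_bot_iff, QuotientGroup.ker_mk'] at h
    have h1 := Subgroup.card_le_of_le h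
    rw [Nat.card_congr (Subgroup.subgroupOfEquivOfLe hNX).toEquiv, Nat.card_zpowers, hzo] at h1
    omega
  obtain ⟨w, hw⟩ := Subgroup.ne_bot_iff_exists_ne_one.1 (SolvStruct.inf_center_ne_bot hne)
  obtain ⟨k, hk⟩ := IsPGroup.exists_orderOf_eq_pow hQ (w : X ⧸ Subgroup.zpowers z')
  have hk0 : k ≠ 0 := fun h => hw (Subtype.ext (orderOf_eq_one_iff.1 (by rw [hk, h, pow_zero])))
  obtain ⟨j, rfl⟩ : ∃ j, k = j + 1 := ⟨k - 1, by omega⟩
  set v := (w : X ⧸ Subgroup.zpowers z') ^ 2 ^ j with hv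
  have hvo : orderOf v = 2 := by
    rw [hv, orderOf_pow' _ (pow_ne_zero _ two_ne_zero), hk,
      Nat.gcd_eq_right (pow_dvd_pow 2 (Nat.le_succ j)), pow_succ,
      Nat.mul_div_cancel_left _ (pow_pos two_pos j)]
  have hvm := Subgroup.pow_mem (((N.subgroupOf X).map π) ⊓ Subgroup.center _) w.2 (2 ^ j)
  set B' := (Subgroup.zpowers v).comap π with hB'
  have hcard : Nat.card B' = 4 := by
    rw [hB', HallSolv.card_comap_mk, Nat.card_zpowers, Nat.card_zpowers, hzo, hvo]
  have hB'N : B' ≤ N.subgroupOf X := by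
    intro b hb
    obtain ⟨a, ha, e⟩ := Subgroup.zpowers_le.2 hvm.1 hb
    rw [QuotientGroup.mk'_apply, QuotientGroup.mk'_apply, QuotientGroup.eq] at e
    rw [show b = a * (a⁻¹ * b) by group]
    exact mul_mem ha ((Subgroup.zpowers_le.2 (show z' ∈ N.subgroupOf X from hzN)) e)
  have hzB' : z' ∈ B' := by
    show π z' ∈ Subgroup.zpowers v
    rw [show π z' = 1 from (QuotientGroup.eq_one_iff z').2 (Subgroup.mem_zpowers z')]
    exact one_mem _
  have hconj : ∀ b ∈ B', ∀ g : X, g * b * g⁻¹ * b⁻¹ ∈ Subgroup.zpowers z' := by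
    intro b hb g
    obtain ⟨i, hi⟩ := Subgroup.mem_zpowers_iff.1 hb
    refine (QuotientGroup.eq_one_iff _).1 ?_
    show π (g * b * g⁻¹ * b⁻¹) = 1
    have hvc : Commute (π g) v := Subgroup.mem_center_iff.1 hvm.2 (π g)
    rw [map_mul, map_mul, map_mul, map_inv, map_inv, ← hi, (hvc.zpow_right i).eq,
      mul_inv_cancel_right, mul_inv_cancel]
  refine ⟨B'.map X.subtype, ?_, ?_, ?_, z, ⟨z', hzB', rfl⟩, hz1, hz2, hzc, ?_⟩
  · rintro _ ⟨b, hb, rfl⟩; exact hB'N hb
  · rw [Subgroup.card_map_of_injective X.subtype_injective, hcard]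
  · intro g hg
    refine Subgroup.mem_normalizer_fintype ?_
    rintro _ ⟨b, hb, rfl⟩
    refine ⟨⟨g, hg⟩ * b * ⟨g, hg⟩⁻¹, ?_, rfl⟩
    rw [show (⟨g, hg⟩ : X) * b * ⟨g, hg⟩⁻¹ = ⟨g, hg⟩ * b * ⟨g, hg⟩⁻¹ * b⁻¹ * b by group]
    exact mul_mem (Subgroup.zpowers_le.2 hzB' (hconj b hb ⟨g, hg⟩)) hb
  · rintro _ ⟨b, hb, rfl⟩ x hx
    obtain ⟨i, hi⟩ := Subgroup.mem_zpowers_iff.1 (hconj b hb ⟨x, hx⟩)
    exact Subgroup.mem_zpowers_iff.2 ⟨i, by simpa using congrArg Subtype.val hi⟩

/-- The Frattini subgroup centralizes a normal subgroup of order four. -/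
theorem frat_centralizes {X B : Subgroup S} {z : S} (hz2 : z * z = 1)
    (hzc : ∀ x ∈ X, x * z = z * x) (hc : ∀ b ∈ B, ∀ x ∈ X, x * b * x⁻¹ * b⁻¹ ∈ Subgroup.zpowers z) :
    frat X ≤ Subgroup.centralizer (B : Set S) := by
  have hz : ∀ c ∈ Subgroup.zpowers z, c * c = 1 ∧ ∀ x ∈ X, x * c = c * x := by
    rintro _ ⟨j, rfl⟩
    refine ⟨?_, fun x hx => ((show Commute x z from hzc x hx).zpow_right j).eq⟩
    rw [← (Commute.refl z).mul_zpow, hz2, one_zpow]
  have hrep : ∀ b ∈ B, ∀ x ∈ X, ∃ c ∈ Subgroup.zpowers z, x * b * x⁻¹ = c * b := fun b hb x hx =>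
    ⟨_, hc b hb x hx, by group⟩
  refine frat_le_of (fun x hx y hy => Subgroup.mem_centralizer_iff.2 fun b hb => ?_)
    (fun x hx => Subgroup.mem_centralizer_iff.2 fun b hb => ?_)
  · obtain ⟨c, hc1, hxb⟩ := hrep b hb x hx
    obtain ⟨d, hd1, hyb⟩ := hrep b hb y hy
    have hc' : c⁻¹ = c := inv_eq_of_mul_eq_one_right (hz c hc1).1
    have hd' : d⁻¹ = d := inv_eq_of_mul_eq_one_right (hz d hd1).1
    have hcd : c * d = d * c := by
      obtain ⟨i, rfl⟩ := hc1
      obtain ⟨k, rfl⟩ := hd1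
      exact ((Commute.refl z).zpow_zpow i k).eq
    have hxi : x⁻¹ * b * x = c * b := by
      have e : b = c * (x⁻¹ * b * x) := by
        calc b = x⁻¹ * (x * b * x⁻¹) * x := by group
          _ = (x⁻¹ * c) * b * x := by rw [hxb]; group
          _ = (c * x⁻¹) * b * x := by rw [(hz c hc1).2 x⁻¹ (inv_mem hx)]
          _ = _ := by group
      calc x⁻¹ * b * x = c⁻¹ * (c * (x⁻¹ * b * x)) := by group
        _ = c * b := by rw [← e, hc']
    have hyi : y⁻¹ * b * y = d * b := by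
      have e : b = d * (y⁻¹ * b * y) := by
        calc b = y⁻¹ * (y * b * y⁻¹) * y := by group
          _ = (y⁻¹ * d) * b * y := by rw [hyb]; group
          _ = (d * y⁻¹) * b * y := by rw [(hz d hd1).2 y⁻¹ (inv_mem hy)]
          _ = _ := by group
      calc y⁻¹ * b * y = d⁻¹ * (d * (y⁻¹ * b * y)) := by group
        _ = d * b := by rw [← e, hd']
    symm
    rw [← mul_inv_eq_iff_eq_mul]
    calc x * y * x⁻¹ * y⁻¹ * b * (x * y * x⁻¹ * y⁻¹)⁻¹
        = x * (y * (x⁻¹ * (y⁻¹ * b * y) * x) * y⁻¹) * x⁻¹ := by group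
      _ = x * (y * (d * (c * b)) * y⁻¹) * x⁻¹ := by
          rw [hyi, show x⁻¹ * (d * b) * x = x⁻¹ * d * b * x by group, (hz d hd1).2 x⁻¹ (inv_mem hx),
            show d * x⁻¹ * b * x = d * (x⁻¹ * b * x) by group, hxi]
      _ = x * (d * (c * (d * b))) * x⁻¹ := by
          rw [show y * (d * (c * b)) * y⁻¹ = (y * d) * c * b * y⁻¹ by group, (hz d hd1).2 y hy,
            show d * y * c * b * y⁻¹ = d * ((y * c) * b * y⁻¹) by group, (hz c hc1).2 y hy,
            show c * y * b * y⁻¹ = c * (y * b * y⁻¹) by group, hyb]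
      _ = x * (c * b) * x⁻¹ := by
          rw [show d * (c * (d * b)) = (c * d) * d * b by rw [hcd]; group,
            mul_assoc c d d, (hz d hd1).1, mul_one]
      _ = c * (x * b * x⁻¹) := by rw [← mul_assoc x c b, (hz c hc1).2 x hx]; group
      _ = b := by rw [hxb, ← mul_assoc, (hz c hc1).1, one_mul]
  · obtain ⟨c, hc1, hxb⟩ := hrep b hb x hx
    symm
    rw [← mul_inv_eq_iff_eq_mul]
    calc x * x * b * (x * x)⁻¹ = x * (x * b * x⁻¹) * x⁻¹ := by group
      _ = (x * c) * b * x⁻¹ := by rw [hxb]; group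
      _ = c * (x * b * x⁻¹) := by rw [(hz c hc1).2 x hx]; group
      _ = b := by rw [hxb, ← mul_assoc, (hz c hc1).1, one_mul]

/-- A small Frattini subgroup is cyclic or a four-group. -/
theorem frat_cycOrFour {X : Subgroup S} (hX : IsPGroup 2 X) (hs : Small (frat X)) :
    CycOrFour (frat X) := by
  haveI : Fact (Nat.Prime 2) := ⟨Nat.prime_two⟩
  set F := frat X with hF
  by_cases h4 : 4 ≤ Nat.card F
  · obtain ⟨B, hBF, hB4, -, z, -, -, hz2, hzc, hc⟩ := exists_four hX (frat_le X)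
      (Subgroup.le_normalizer.trans (normalizer_le_frat X)) h4
    have hcent := frat_centralizes hz2 hzc hc
    have hcc : ∀ b ∈ B, ∀ y ∈ F, y * b = b * y := fun b hb y hy =>
      (Subgroup.mem_centralizer_iff.1 (hcent hy) b hb).symm
    by_cases hBc : IsCyclic B
    · obtain ⟨g, hg⟩ := hBc.exists_generator
      have hgo : orderOf (g : S) = 4 := by
        rw [Subgroup.orderOf_coe, orderOf_eq_card_of_forall_mem_zpowers hg, hB4]
      exact Or.inl (hs.cyclic_of_central (hX.to_le (frat_le X)) (hBF g.2) hgo fun y hy => hcc g g.2 y hy)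
    · exact Or.inr ⟨by rw [hs.eq_of_four (hX.to_le (frat_le X)) hBF hB4 hBc hcc, hB4],
        by rw [hs.eq_of_four (hX.to_le (frat_le X)) hBF hB4 hBc hcc]; exact hBc⟩
  · left
    obtain ⟨k, hk⟩ := IsPGroup.iff_card.1 (hX.to_le (frat_le X))
    have : k ≤ 1 := by
      by_contra hc
      have := Nat.pow_le_pow_right two_pos (show 2 ≤ k by omega)
      rw [hk] at h4
      exact h4 this
    interval_cases k
    · rw [pow_zero] at hk
      haveI : Subsingleton F := (Nat.card_eq_one_iff_unique.1 hk).1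
      exact isCyclic_of_subsingleton
    · rw [pow_one] at hk
      exact isCyclic_of_prime_card hk

/-- An element of odd order moving `x` by something it fixes centralizes `x`. -/
theorem fix_of_fix {k x y : S} (hk : Odd (orderOf k)) (hy2 : ∃ i : ℕ, orderOf y = 2 ^ i)
    (hx : k * x * k⁻¹ = x * y) (hy : k * y = y * k) : k * x = x * k := by
  have hit : ∀ i : ℕ, k ^ i * x * (k ^ i)⁻¹ = x * y ^ i := by
    intro i
    induction i with
    | zero => simp
    | succ i ih =>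
      have h3 : k * y ^ i * k⁻¹ = y ^ i := by
        rw [((show Commute k y from hy).pow_right i).eq, mul_inv_cancel_right]
      calc k ^ (i + 1) * x * (k ^ (i + 1))⁻¹ = k * (k ^ i * x * (k ^ i)⁻¹) * k⁻¹ := by rw [pow_succ']; group
        _ = (k * x * k⁻¹) * (k * y ^ i * k⁻¹) := by rw [ih]; group
        _ = x * y * y ^ i := by rw [h3, hx]
        _ = x * y ^ (i + 1) := by rw [pow_succ', mul_assoc]
  have h1 := hit (orderOf k)
  rw [pow_orderOf_eq_one, one_mul, inv_one, mul_one, left_eq_mul] at h1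
  obtain ⟨i, hi⟩ := hy2
  have h2 : orderOf y = 1 := Nat.eq_one_of_dvd_coprimes
    ((Nat.coprime_two_right.2 hk).pow_right i) (orderOf_dvd_of_pow_eq_one h1) (dvd_of_eq hi)
  rw [orderOf_eq_one_iff.1 h2, mul_one, mul_inv_eq_iff_eq_mul] at hx
  exact hx

/-- An element of odd order normalizing a cyclic 2-group centralizes it. -/
theorem fix_cyclic {C : Subgroup S} (hC : IsPGroup 2 C) (hcyc : IsCyclic C) {k : S}
    (hk : Odd (orderOf k)) (hkC : k ∈ Subgroup.normalizer (C : Set S)) : ∀ c ∈ C, k * c = c * k := by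
  haveI : Fact (Nat.Prime 2) := ⟨Nat.prime_two⟩
  intro c hc
  obtain ⟨n, hn⟩ := IsPGroup.iff_card.1 hC
  set φ := C.normalizerMonoidHom ⟨k, hkC⟩ with hφ
  have h1 : orderOf φ ∣ orderOf k := by
    rw [← Subgroup.orderOf_mk k hkC]
    exact orderOf_map_dvd _ _
  have h2 : orderOf φ ∣ 2 ^ (n - 1) := by
    refine (orderOf_dvd_natCard φ).trans (dvd_of_eq ?_)
    rw [IsCyclic.card_mulAut, hn]
    rcases n with _ | n
    · simp
    · rw [Nat.totient_prime_pow_succ Nat.prime_two]; simp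
  have h3 : orderOf φ = 1 :=
    Nat.eq_one_of_dvd_coprimes ((Nat.coprime_two_right.2 hk).pow_right _) h1 h2
  have h4 := DFunLike.congr_fun (orderOf_eq_one_iff.1 h3) (⟨c, hc⟩ : C)
  have h5 : k * c * k⁻¹ = c := congrArg Subtype.val h4
  exact mul_inv_eq_iff_eq_mul.1 h5

end Cfsg.Agent.SmallTwo
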