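import Cfsg.Agent.Lib.Char.Complete
import Mathlib.GroupTheory.Frattini
import Mathlib.GroupTheory.Sylow
import Mathlib.LinearAlgebra.Matrix.Kronecker

/-!
The number of square roots as a combination of irreducible characters with integer coefficients,
and divisibility of the number of solutions of `x ^ 2 = 1` in 2-groups.
-/

set_option autoImplicit false
set_option linter.style.haveILetI false

namespace Cfsg.Agent.SquareCount

open scoped ComplexConjugate Kronecker
open Cfsg.Agent

universe u

variable {G : Type u} [Group G]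

lemma exists_trace_nat {ι : Type*} [Fintype ι] [DecidableEq ι] {M : Matrix ι ι ℂ}
    (hM : IsIdempotentElem M) : ∃ n : ℕ, M.trace = n := by
  have h : IsIdempotentElem (Matrix.toLin' M) := by
    rw [IsIdempotentElem, Module.End.mul_eq_comp, ← Matrix.toLin'_mul, hM]
  rw [← Matrix.trace_toLin'_eq]
  exact ⟨_, (LinearMap.IsIdempotentElem.isProj_range _ h).trace⟩

/-- `(1 / |G|) ∑ χ (x ^ 2)` is an integer for every character `χ`. -/
theorem exists_int_sum_sq [Fintype G] {χ : G → ℂ} (h : Cfsg.IsCharacter G χ) :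
    ∃ z : ℤ, (Nat.card G : ℂ)⁻¹ * ∑ x : G, χ (x * x) = z := by
  classical
  obtain ⟨n, ρ, rfl⟩ := h
  let A : G → Matrix (Fin n) (Fin n) ℂ := fun g => LinearMap.toMatrix' (ρ g)
  have hA : ∀ g h, A (g * h) = A g * A h := fun g h => by
    simp [A, map_mul, LinearMap.toMatrix'_comp, Module.End.mul_eq_comp]
  let M : G → Matrix (Fin n × Fin n) (Fin n × Fin n) ℂ := fun g => A g ⊗ₖ A g
  have hM : ∀ g h, M (g * h) = M g * M h := fun g h => by
    simp [M, hA, Matrix.mul_kronecker_mul]
  let P : Matrix (Fin n × Fin n) (Fin n × Fin n) ℂ := (1 : Matrix _ _ ℂ).submatrix Prod.swap id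
  have hPmul : ∀ X : Matrix (Fin n × Fin n) (Fin n × Fin n) ℂ, P * X = X.submatrix Prod.swap id := by
    intro X; ext i j; simp [P, Matrix.mul_apply, Matrix.one_apply]
  have hmulP : ∀ X : Matrix (Fin n × Fin n) (Fin n × Fin n) ℂ, X * P = X.submatrix id Prod.swap := by
    intro X; ext i j
    simp only [P, Matrix.mul_apply, Matrix.one_apply, Matrix.submatrix_apply, id]
    rw [Finset.sum_eq_single j.swap] <;>
      · intros
        simp_all [Prod.swap_eq_iff_eq_swap]
  have hcomm : ∀ g, M g * P = P * M g := by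
    intro g; rw [hmulP, hPmul]; ext i j
    simp [M, mul_comm]
  have hPP : P * P = 1 := by
    rw [hPmul]; ext i j; simp [P, Matrix.one_apply]
  have htr : ∀ g, (M g * P).trace = ρ.character (g * g) := by
    intro g
    have h1 : ρ.character (g * g) = (A (g * g)).trace := by
      rw [Representation.character, LinearMap.trace_eq_matrix_trace ℂ (Pi.basisFun ℂ (Fin n)),
        LinearMap.toMatrix_eq_toMatrix']
    rw [h1, hA, hmulP]
    simp [Matrix.trace, M, Matrix.mul_apply, Fintype.sum_prod_type]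
  have hne : (Nat.card G : ℂ) ≠ 0 := Nat.cast_ne_zero.2 Nat.card_pos.ne'
  set E := (Nat.card G : ℂ)⁻¹ • ∑ g : G, M g with hE
  have hME : ∀ g, M g * E = E := by
    intro g
    rw [hE, Matrix.mul_smul, Finset.mul_sum]
    congr 1
    simp only [← hM]
    exact Equiv.sum_comp (Equiv.mulLeft g) M
  have hEE : E * E = E := by
    nth_rw 1 [hE]
    rw [Matrix.smul_mul, Finset.sum_mul]
    simp only [hME]
    rw [Finset.sum_const, Finset.card_univ, ← Nat.card_eq_fintype_card, ← Nat.cast_smul_eq_nsmul ℂ,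
      smul_smul, inv_mul_cancel₀ hne, one_smul]
  have hEP : E * P = P * E := by
    rw [hE, Matrix.smul_mul, Matrix.mul_smul, Finset.sum_mul, Finset.mul_sum]
    simp only [hcomm]
  have hEF : IsIdempotentElem ((2 : ℂ)⁻¹ • (E + E * P)) := by
    have h1 : (E + E * P) * (E + E * P) = (2 : ℂ) • (E + E * P) := by
      have e1 : E * (E * P) = E * P := by rw [← mul_assoc, hEE]
      have e2 : E * P * E = E * P := by rw [mul_assoc, ← hEP, ← mul_assoc, hEE]
      have e3 : E * P * (E * P) = E := by
        rw [← mul_assoc, e2, mul_assoc, hPP, mul_one]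
      rw [add_mul, mul_add, mul_add, hEE, e1, e2, e3, two_smul]
      abel
    rw [IsIdempotentElem, Matrix.smul_mul, Matrix.mul_smul, h1, smul_smul, smul_smul]
    norm_num
  obtain ⟨a, ha⟩ := exists_trace_nat hEE
  obtain ⟨b, hb⟩ := exists_trace_nat hEF
  refine ⟨2 * (b : ℤ) - a, ?_⟩
  have hEPtr : (E * P).trace = (Nat.card G : ℂ)⁻¹ * ∑ x : G, ρ.character (x * x) := by
    rw [hE, Matrix.smul_mul, Matrix.trace_smul, smul_eq_mul, Finset.sum_mul, Matrix.trace_sum]
    simp only [htr]
  rw [← hEPtr]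
  rw [Matrix.trace_smul, Matrix.trace_add, ha, smul_eq_mul] at hb
  push_cast
  linear_combination 2 * hb

lemma norm_units_of_sq {z : ℂˣ} (h : z * z = 1) : (z : ℂ) * conj (z : ℂ) = 1 := by
  have h' : (z : ℂ) * z = 1 := by rw [← Units.val_mul, h, Units.val_one]
  rcases mul_self_eq_one_iff.1 h' with e | e <;> simp [e]

/-- In a finite 2-group every square lies in the Frattini subgroup. -/
lemma mul_self_mem_frattini [Finite G] (hG : IsPGroup 2 G) (x : G) : x * x ∈ frattini G := by
  haveI : Fact (Nat.Prime 2) := ⟨Nat.prime_two⟩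
  haveI : Group.IsNilpotent G := hG.isNilpotent
  simp only [frattini, Order.radical, Subgroup.mem_iInf]
  intro M hM
  haveI : M.Normal := Subgroup.NormalizerCondition.normal_of_coatom M Group.normalizerCondition_of_isNilpotent hM
  obtain ⟨m, hm⟩ := IsPGroup.iff_card.1 (hG.to_quotient M)
  rcases Nat.eq_zero_or_pos m with h0 | hpos
  · exfalso
    exact hM.1 (Subgroup.index_eq_one.1 (by rw [Subgroup.index_eq_card, hm, h0, pow_zero]))
  obtain ⟨y, hy⟩ := exists_prime_orderOf_dvd_card' (G := G ⧸ M) 2 (by rw [hm]; exact dvd_pow_self _ hpos.ne')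
  set K := (Subgroup.zpowers y).comap (QuotientGroup.mk' M) with hK
  have hMK : M ≤ K := fun z hz => by simp [hK, (QuotientGroup.eq_one_iff z).2 hz]
  have hKtop : K = ⊤ := by
    refine hM.2 K (lt_of_le_of_ne hMK fun e => ?_)
    obtain ⟨z, rfl⟩ := QuotientGroup.mk'_surjective M y
    have : z ∈ K := Subgroup.mem_zpowers _
    rw [← e] at this
    have h1 : (QuotientGroup.mk' M z) = 1 := (QuotientGroup.eq_one_iff z).2 this
    rw [h1, orderOf_one] at hy
    norm_num at hy
  have h2 : M.index = 2 := by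
    have htop : Subgroup.zpowers y = ⊤ :=
      Subgroup.comap_injective (QuotientGroup.mk'_surjective M) (by rw [← hK, hKtop, Subgroup.comap_top])
    rw [Subgroup.index_eq_card, ← Subgroup.card_top, ← htop, Nat.card_zpowers, hy]
  exact Subgroup.mul_self_mem_of_index_two h2 x

/-- Main divisibility, given that the irreducible degrees are powers of two. -/
theorem dvd_card_sq_one [Finite G] (hG : IsPGroup 2 G) (k : ℕ)
    (hgen : 2 ^ (2 * k + 1) ≤ Nat.card (G ⧸ frattini G))
    (hdeg : ∀ χ : Cfsg.IrrCharacter G, ∃ j : ℕ, (χ : G → ℂ) 1 = ((2 ^ j : ℕ) : ℂ)) :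
    2 ^ (k + 1) ∣ Nat.card {x : G // x ^ 2 = 1} := by
  classical
  haveI : Fintype G := Fintype.ofFinite G
  haveI : Fact (Nat.Prime 2) := ⟨Nat.prime_two⟩
  choose deg hdeg using hdeg
  let f : G → ℂ := fun g => ((Finset.univ.filter fun x : G => x * x = g).card : ℂ)
  have hf : Cfsg.IsClassFunction G f := by
    intro g h
    simp only [f, Nat.cast_inj]
    refine Finset.card_equiv ((MulAut.conj h⁻¹).toEquiv) fun x => ?_
    simp only [Finset.mem_filter, Finset.mem_univ, true_and, MulEquiv.toEquiv_eq_coe, EquivLike.coe_coe,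
      MulAut.conj_apply, inv_inv]
    constructor <;> intro e
    · rw [show h⁻¹ * x * h * (h⁻¹ * x * h) = h⁻¹ * (x * x) * h by group, e]; group
    · rw [show x * x = h * (h⁻¹ * x * h * (h⁻¹ * x * h)) * h⁻¹ by group, e]
  have hinner : ∀ ψ : Cfsg.IrrCharacter G, Cfsg.classInner f ψ =
      (Nat.card G : ℂ)⁻¹ * ∑ x : G, conj ((ψ : G → ℂ) (x * x)) := by
    intro ψ
    simp only [Cfsg.classInner, f, Finset.natCast_card_filter, Finset.sum_mul, ite_mul, one_mul, zero_mul]
    rw [Finset.sum_comm]
    simp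
  have hν : ∀ ψ : Cfsg.IrrCharacter G, ∃ z : ℤ, Cfsg.classInner f ψ = z := by
    intro ψ
    rw [hinner]
    exact exists_int_sum_sq (Char.IsCharacter.conj (Char.IsIrrCharacter.isCharacter ψ.2))
  choose ν hν using hν
  have hmain : (Nat.card {x : G // x ^ 2 = 1} : ℤ) = ∑ ψ : Cfsg.IrrCharacter G, ν ψ * (2 ^ deg ψ : ℕ) := by
    have h1 := congrFun (Char.classFunction_eq_sum hf) 1
    simp only [Finset.sum_apply, Pi.smul_apply, smul_eq_mul, hν, hdeg] at h1
    have h2 : f 1 = (Nat.card {x : G // x ^ 2 = 1} : ℂ) := by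
      simp only [f, Nat.cast_inj]
      rw [Nat.card_eq_fintype_card, Fintype.card_subtype]
      simp only [pow_two]
    rw [h2] at h1
    exact_mod_cast h1
  -- the group of real linear characters
  let L : Subgroup (G →* ℂˣ) :=
    { carrier := {l | ∀ g, l g * l g = 1}
      mul_mem' := fun {a b} ha hb g => by
        rw [MonoidHom.mul_apply, mul_mul_mul_comm, ha g, hb g, mul_one]
      one_mem' := fun g => by simp
      inv_mem' := fun {a} ha g => by
        rw [MonoidHom.inv_apply, ← mul_inv, ha g, inv_one] }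
  haveI : Finite (G →* ℂˣ) :=
    Finite.of_injective (fun l => (⟨_, Char.isIrrCharacter_linear l⟩ : Cfsg.IrrCharacter G))
      fun a b hab => MonoidHom.ext fun g => Units.ext (congrFun (congrArg Subtype.val hab) g)
  have hL2 : IsPGroup 2 L := fun l => ⟨1, by
    ext g
    simp only [pow_one, pow_two]
    exact congrArg Units.val (l.2 g)⟩
  have hLcard : 2 ^ (2 * k + 1) ≤ Nat.card L := by
    have hQ2 : ∀ q : G ⧸ frattini G, q * q = 1 := fun q => by
      induction q using QuotientGroup.induction_on with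
      | H x => rw [← QuotientGroup.mk_mul, QuotientGroup.eq_one_iff]; exact mul_self_mem_frattini hG x
    letI : CommGroup (G ⧸ frattini G) :=
      { (inferInstance : Group (G ⧸ frattini G)) with
        mul_comm := fun a b => by
          have ha := inv_eq_of_mul_eq_one_right (hQ2 a)
          have hb := inv_eq_of_mul_eq_one_right (hQ2 b)
          have hab := inv_eq_of_mul_eq_one_right (hQ2 (a * b))
          rw [mul_inv_rev, ha, hb] at hab
          exact hab.symm }
    haveI : NeZero (Monoid.exponent (G ⧸ frattini G) : ℂ) :=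
      ⟨Nat.cast_ne_zero.mpr Monoid.exponent_ne_zero_of_finite⟩
    refine hgen.trans ?_
    rw [← CommGroup.card_monoidHom_of_hasEnoughRootsOfUnity (G ⧸ frattini G) ℂ]
    let e : (G ⧸ frattini G →* ℂˣ) → L := fun l => ⟨l.comp (QuotientGroup.mk' _), fun g => by
      simp only [MonoidHom.comp_apply, QuotientGroup.mk'_apply, ← map_mul, hQ2, map_one]⟩
    exact Nat.card_le_card_of_injective e fun a b hab => by
      refine MonoidHom.ext fun q => ?_
      induction q using QuotientGroup.induction_on with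
      | H x => exact DFunLike.congr_fun (congrArg Subtype.val hab) x
  -- the action on irreducible characters
  have hirr : ∀ (l : L) (ψ : Cfsg.IrrCharacter G),
      Cfsg.IsIrrCharacter G (fun g => ((l : G →* ℂˣ) g : ℂ) * (ψ : G → ℂ) g) := by
    intro l ψ
    refine Char.IsCharacter.isIrr_of_norm_one
      (Char.IsCharacter.mul (Char.IsIrrCharacter.isCharacter (Char.isIrrCharacter_linear (l : G →* ℂˣ)))
        (Char.IsIrrCharacter.isCharacter ψ.2)) ?_
    rw [← Char.classInner_self_irr ψ.2]
    simp only [Cfsg.classInner]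
    congr 1
    refine Finset.sum_congr rfl fun g _ => ?_
    rw [map_mul, mul_mul_mul_comm, norm_units_of_sq (l.2 g), one_mul]
  letI : MulAction L (Cfsg.IrrCharacter G) :=
    { smul := fun l ψ => ⟨_, hirr l ψ⟩
      one_smul := fun ψ => Subtype.ext (funext fun g => by
        change ((1 : G →* ℂˣ) g : ℂ) * (ψ : G → ℂ) g = _
        simp)
      mul_smul := fun l l' ψ => Subtype.ext (funext fun g => by
        change (((l * l' : L) : G →* ℂˣ) g : ℂ) * (ψ : G → ℂ) g =
          ((l : G →* ℂˣ) g : ℂ) * (((l' : G →* ℂˣ) g : ℂ) * (ψ : G → ℂ) g)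
        simp [mul_assoc]) }
  have hsmul : ∀ (l : L) (ψ : Cfsg.IrrCharacter G) (g : G),
      ((l • ψ : Cfsg.IrrCharacter G) : G → ℂ) g = ((l : G →* ℂˣ) g : ℂ) * (ψ : G → ℂ) g :=
    fun _ _ _ => rfl
  have hνinv : ∀ (l : L) ψ, ν (l • ψ) = ν ψ := by
    intro l ψ
    have h : Cfsg.classInner f ↑(l • ψ) = Cfsg.classInner f ↑ψ := by
      rw [hinner, hinner]
      simp only [hsmul, map_mul (l : G →* ℂˣ), l.2 _, Units.val_one, one_mul]
    rw [hν, hν] at h
    exact_mod_cast h
  have hdinv : ∀ (l : L) ψ, deg (l • ψ) = deg ψ := by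
    intro l ψ
    have h := hsmul l ψ 1
    rw [map_one, Units.val_one, one_mul, hdeg, hdeg, Nat.cast_inj] at h
    exact Nat.pow_right_injective le_rfl h
  -- the stabiliser bound
  have hstab : ∀ ψ : Cfsg.IrrCharacter G,
      Nat.card (MulAction.stabilizer L ψ) ≤ 2 ^ (2 * deg ψ) := by
    intro ψ
    set T : G → ℂ := fun g => (ψ : G → ℂ) g * conj ((ψ : G → ℂ) g) with hT
    have hTc : Cfsg.IsCharacter G T :=
      Char.IsCharacter.mul (Char.IsIrrCharacter.isCharacter ψ.2)
        (Char.IsCharacter.conj (Char.IsIrrCharacter.isCharacter ψ.2))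
    obtain ⟨m, hm⟩ := Char.IsCharacter.exists_decomp hTc
    letI : Fintype (MulAction.stabilizer L ψ) := Fintype.ofFinite _
    let ι : MulAction.stabilizer L ψ → Cfsg.IrrCharacter G := fun l =>
      ⟨_, Char.isIrrCharacter_linear ((l : L) : G →* ℂˣ)⟩
    have hι : Function.Injective ι := fun a b hab =>
      Subtype.ext (Subtype.ext (MonoidHom.ext fun g => Units.ext (congrFun (congrArg Subtype.val hab) g)))
    have hm1 : ∀ l, m (ι l) = 1 := by
      intro l
      have h1 : Cfsg.classInner T (ι l) = 1 := by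
        rw [← Char.classInner_self_irr ψ.2]
        simp only [Cfsg.classInner, hT, ι]
        congr 1
        refine Finset.sum_congr rfl fun g _ => ?_
        have h2 : (((l : L) : G →* ℂˣ) g : ℂ) * (ψ : G → ℂ) g = (ψ : G → ℂ) g := by
          rw [← hsmul]; rw [show (l : L) • ψ = ψ from l.2]
        rw [mul_assoc, ← map_mul, mul_comm ((ψ : G → ℂ) g) (((l : L) : G →* ℂˣ) g : ℂ), h2]
      rw [hm, Char.classInner_combination] at h1
      exact_mod_cast h1
    have hTone : T 1 = ((2 ^ (2 * deg ψ) : ℕ) : ℂ) := by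
      simp only [hT, hdeg, map_natCast]
      push_cast
      rw [← pow_add, two_mul]
    have hsum : (2 ^ (2 * deg ψ) : ℕ) = ∑ φ, m φ * 2 ^ deg φ := by
      have := congrFun hm 1
      rw [hTone] at this
      simp only [Finset.sum_apply, Pi.smul_apply, smul_eq_mul, hdeg] at this
      exact_mod_cast this
    rw [hsum]
    calc Nat.card (MulAction.stabilizer L ψ) = (Finset.univ.image ι).card := by
          rw [Finset.card_image_of_injective _ hι, Finset.card_univ, Nat.card_eq_fintype_card]
      _ = ∑ φ ∈ Finset.univ.image ι, 1 := by simp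
      _ ≤ ∑ φ ∈ Finset.univ.image ι, m φ * 2 ^ deg φ := Finset.sum_le_sum fun φ hφ => by
          obtain ⟨l, -, rfl⟩ := Finset.mem_image.1 hφ
          rw [hm1, one_mul]; exact Nat.one_le_two_pow
      _ ≤ _ := Finset.sum_le_sum_of_subset (Finset.subset_univ _)
  -- conclusion
  suffices ((2 ^ (k + 1) : ℕ) : ℤ) ∣ Nat.card {x : G // x ^ 2 = 1} by exact Int.natCast_dvd_natCast.1 this
  rw [hmain, ← Finset.sum_fiberwise Finset.univ (Quotient.mk (MulAction.orbitRel L (Cfsg.IrrCharacter G)))]
  refine Finset.dvd_sum fun c _ => ?_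
  obtain ⟨ψ, rfl⟩ := Quotient.exists_rep c
  have hfilter : Finset.univ.filter
      (fun φ => Quotient.mk (MulAction.orbitRel L (Cfsg.IrrCharacter G)) φ = Quotient.mk _ ψ) =
      Finset.univ.filter (fun φ => φ ∈ MulAction.orbit L ψ) := by
    refine Finset.filter_congr fun φ _ => ?_
    rw [Quotient.eq]; rfl
  rw [hfilter, Finset.sum_congr rfl (g := fun _ => ν ψ * (2 ^ deg ψ : ℕ)) ?_]
  swap
  · intro φ hφ
    obtain ⟨l, rfl⟩ := (Finset.mem_filter.1 hφ).2
    rw [hνinv, hdinv]
  rw [Finset.sum_const, nsmul_eq_mul]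
  have hcard : (Finset.univ.filter (fun φ => φ ∈ MulAction.orbit L ψ)).card *
      Nat.card (MulAction.stabilizer L ψ) = Nat.card L := by
    rw [← Fintype.card_subtype, ← Nat.card_eq_fintype_card, ← Nat.card_prod]
    exact Nat.card_congr (MulAction.orbitProdStabilizerEquivGroup L ψ)
  obtain ⟨D, hD⟩ := IsPGroup.iff_card.1 hL2
  obtain ⟨s, hs⟩ := IsPGroup.iff_card.1 (hL2.to_subgroup (MulAction.stabilizer L ψ))
  rw [hD] at hcard hLcard
  rw [hs] at hcard
  have hs' := hstab ψ
  rw [hs] at hs'
  have hs2 : s ≤ 2 * deg ψ := (Nat.pow_le_pow_iff_right Nat.one_lt_two).1 hs'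
  have hD2 : 2 * k + 1 ≤ D := (Nat.pow_le_pow_iff_right Nat.one_lt_two).1 hLcard
  have hsD : s ≤ D := (Nat.pow_dvd_pow_iff_le_right Nat.one_lt_two).1 ⟨_, (mul_comm _ _).trans hcard |>.symm⟩
  have horb : (Finset.univ.filter (fun φ => φ ∈ MulAction.orbit L ψ)).card = 2 ^ (D - s) := by
    rw [← Nat.pow_sub_mul_pow 2 hsD] at hcard
    exact Nat.eq_of_mul_eq_mul_right (by positivity) hcard
  rw [horb, mul_left_comm, ← Nat.cast_mul, ← pow_add]
  exact Dvd.dvd.mul_left (Int.natCast_dvd_natCast.2 (pow_dvd_pow 2 (by omega))) _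

end Cfsg.Agent.SquareCount
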