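import Mathlib.GroupTheory.Sylow

/-!
# TI Sylow subgroups: the condition holds for every Sylow subgroup
-/

set_option autoImplicit false
set_option linter.style.haveILetI false

open scoped Pointwise

namespace Cfsg.Agent.SylowTI

variable {G : Type*} [Group G] [Finite G] {p : ℕ} [Fact p.Prime]

/-- If one Sylow subgroup is TI then every element moving a non-trivial element of a Sylow subgroup
into that subgroup normalises it. -/
theorem mem_normalizer (P : Sylow p G)
    (hTI : ∀ g : G, g ∉ Subgroup.normalizer ((P : Subgroup G) : Set G) →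
      (P : Subgroup G) ⊓ (MulAut.conj g • (P : Subgroup G)) = ⊥)
    (P₁ : Sylow p G) {g v : G} (hv : v ∈ (P₁ : Subgroup G)) (hv1 : v ≠ 1)
    (hgv : g * v * g⁻¹ ∈ (P₁ : Subgroup G)) :
    g ∈ Subgroup.normalizer ((P₁ : Subgroup G) : Set G) := by
  obtain ⟨y, hy⟩ := MulAction.exists_smul_eq G P P₁
  have hiff : ∀ w : G, w ∈ (P₁ : Subgroup G) ↔ y⁻¹ * w * y ∈ (P : Subgroup G) := by
    intro w
    rw [← hy, Sylow.coe_subgroup_smul, Subgroup.mem_pointwise_smul_iff_inv_smul_mem]
    simp [MulAut.smul_def, mul_assoc]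
  set h := y⁻¹ * g * y with hh
  have hN : h ∈ Subgroup.normalizer ((P : Subgroup G) : Set G) := by
    by_contra hcon
    have hmem : h * (y⁻¹ * v * y) * h⁻¹ ∈ (P : Subgroup G) ⊓ (MulAut.conj h • (P : Subgroup G)) := by
      refine Subgroup.mem_inf.2 ⟨?_, ?_⟩
      · have := (hiff _).1 hgv
        rw [hh]
        simpa [mul_assoc] using this
      · exact Subgroup.smul_mem_pointwise_smul _ (MulAut.conj h) _ ((hiff v).1 hv)
    rw [hTI h hcon, Subgroup.mem_bot] at hmem
    exact hv1 (conj_eq_one_iff.1 (show y⁻¹ * v * y⁻¹⁻¹ = 1 by rw [inv_inv]; exact conj_eq_one_iff.1 hmem))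
  rw [Subgroup.mem_normalizer_iff]
  intro w
  rw [hiff, hiff, Subgroup.mem_normalizer_iff.1 hN]
  rw [show h * (y⁻¹ * w * y) * h⁻¹ = y⁻¹ * (g * w * g⁻¹) * y by rw [hh]; group]

end Cfsg.Agent.SylowTI
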