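import Mathlib
import Cfsg.Prelude.Def_Solvable
import Cfsg.Agent.S4115
import Cfsg.Agent.S4116
import Cfsg.Agent.Lib.CharP.AxB
import Cfsg.Agent.Lib.Solvable.FixedPointFree

/-!
A TI-subgroup `H` that is Hall in its normalizer, in a group that is separable for the primes of
`H`, with `O` the largest normal subgroup of order prime to `|H|`.
-/

set_option autoImplicit false
set_option linter.style.haveILetI false

open scoped Pointwise

namespace Cfsg.Agent.TISep

variable {G : Type*} [Group G] [Finite G]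

/-- The separability hypothesis. -/
def Separable (H : Subgroup G) : Prop :=
  ∃ (n : ℕ) (M : Fin (n + 1) → Subgroup G), M 0 = ⊥ ∧ M (Fin.last n) = ⊤ ∧ Monotone M ∧
    (∀ i, (M i).Normal) ∧
    ∀ i : Fin n, (∀ q : ℕ, q.Prime → q ∣ (M i.castSucc).relIndex (M i.succ) → q ∣ Nat.card H) ∨
      ((M i.castSucc).relIndex (M i.succ)).Coprime (Nat.card H)

/-- The largest normal subgroup of order prime to `|H|`. -/
def core (H : Subgroup G) : Subgroup G :=
  sSup {K : Subgroup G | K.Normal ∧ (Nat.card K).Coprime (Nat.card H)}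

theorem core_normal (H : Subgroup G) : (core H).Normal :=
  Subgroup.sSup_normal _ fun _ h => h.1

theorem core_coprime (H : Subgroup G) : (Nat.card (core H)).Coprime (Nat.card H) :=
  AxB.sSup_induction_normal (fun K => (Nat.card K).Coprime (Nat.card H)) (by simp)
    (fun A B _ hBn hA hB => Nat.Coprime.coprime_dvd_left
      (@AxB.card_sup_dvd G _ _ A B hBn) (hA.mul_left hB)) _ fun _ h => h

theorem isTI_subgroupOf (H T : Subgroup G) (hTI : Cfsg.IsTISubset (H : Set G)) (h : H ≤ T) :
    Cfsg.IsTISubset ((H.subgroupOf T : Subgroup T) : Set T) := by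
  intro a ha x hx hax
  refine Subtype.ext (hTI (a : G) (fun hN => ha ?_) x hx hax)
  have : a ∈ Subgroup.normalizer ((H.subgroupOf T : Subgroup T) : Set T) := by
    rw [← Subgroup.subgroupOf_normalizer_eq h]
    exact hN
  exact this

/-- An element conjugating a nontrivial element of `H` into `HO` lies in `O N(H)`. -/
theorem mem_sup_normalizer (H O : Subgroup G) [hOn : O.Normal] (hTI : Cfsg.IsTISubset (H : Set G))
    (hcop : (Nat.card O).Coprime (Nat.card H)) (hH : (Nat.card H).Coprime H.index) {g h : G}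
    (hh : h ∈ H) (hh1 : h ≠ 1) (hg : g * h * g⁻¹ ∈ H ⊔ O) :
    g ∈ O ⊔ Subgroup.normalizer (H : Set G) := by
  set T := H ⊔ O with hT
  have hHT : H ≤ T := le_sup_left
  have hidx : (H.subgroupOf T).index ∣ H.index := by
    rw [← Subgroup.relIndex]
    exact Subgroup.relIndex_dvd_index_of_le hHT
  obtain ⟨a, ha⟩ := S4116.result (H.subgroupOf T)
    (by rw [Nat.card_congr (Subgroup.subgroupOfEquivOfLe hHT).toEquiv]
        exact hH.coprime_dvd_right hidx)
    (isTI_subgroupOf H T hTI hHT) (Subgroup.zpowers ⟨g * h * g⁻¹, hg⟩) (by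
      intro q _ hqd
      rw [Nat.card_zpowers, Subgroup.orderOf_mk] at hqd
      rw [Nat.card_congr (Subgroup.subgroupOfEquivOfLe hHT).toEquiv]
      refine hqd.trans ?_
      rw [show orderOf (g * h * g⁻¹) = orderOf h from
        orderOf_injective (MulAut.conj g).toMonoidHom (MulAut.conj g).injective h]
      exact Subgroup.orderOf_dvd_natCard H hh)
  obtain ⟨z, hz, hze⟩ := ha (Subgroup.mem_zpowers _)
  have hze' : (a : G) * (z : G) * (a : G)⁻¹ = g * h * g⁻¹ := congrArg Subtype.val hze
  have hconj : ((a : G)⁻¹ * g) * h * ((a : G)⁻¹ * g)⁻¹ = (z : G) := by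
    rw [show ((a : G)⁻¹ * g) * h * ((a : G)⁻¹ * g)⁻¹ = (a : G)⁻¹ * (g * h * g⁻¹) * a by group,
      ← hze']
    group
  have hN : (a : G)⁻¹ * g ∈ Subgroup.normalizer (H : Set G) := by
    by_contra hN
    exact hh1 (hTI _ hN h hh (hconj ▸ hz))
  have haO : (a : G) ∈ O ⊔ Subgroup.normalizer (H : Set G) :=
    (sup_le (Subgroup.le_normalizer.trans le_sup_right) le_sup_left : T ≤ _) a.2
  have := mul_mem haO (le_sup_right (α := Subgroup G) hN)
  rwa [mul_inv_cancel_left] at this

theorem structure_core (H : Subgroup G) (hTI : Cfsg.IsTISubset (H : Set G)) (hnn : ¬ H.Normal)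
    (hHall : (Nat.card H).Coprime (H.subgroupOf (Subgroup.normalizer (H : Set G))).index)
    (hsep : Separable H) :
    core H ⊔ Subgroup.normalizer (H : Set G) = ⊤ ∧ (core H ⊔ H).Normal ∧
      ¬ core H ≤ Subgroup.normalizer (H : Set G) := by
  classical
  set O := core H with hO
  haveI hOn : O.Normal := core_normal H
  have hcop : (Nat.card O).Coprime (Nat.card H) := core_coprime H
  have hH := S4115.coprime_index H hTI hHall
  set N := Subgroup.normalizer (H : Set G) with hN
  obtain ⟨n, M, hM0, hMl, -, hMn, hMs⟩ := hsep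
  have hO1 : O ≠ ⊤ := by
    intro h
    refine hnn ?_
    have h1 := hcop
    rw [h, Subgroup.card_top] at h1
    have h2 : Nat.card H = 1 := Nat.eq_one_of_dvd_coprimes h1 (Subgroup.card_subgroup_dvd_card H) dvd_rfl
    rw [Subgroup.card_eq_one.1 h2]
    infer_instance
  -- a normal subgroup over `O` that is a `π`-group modulo `O`
  obtain ⟨i, hi, hi'⟩ : ∃ i : Fin n, M i.castSucc ≤ O ∧ ¬ M i.succ ≤ O := by
    by_contra hno
    push Not at hno
    have : ∀ j : Fin (n + 1), M j ≤ O := by
      intro j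
      induction j using Fin.induction with
      | zero => rw [hM0]; exact bot_le
      | succ j ih => exact hno j ih
    exact hO1 (top_le_iff.1 (hMl ▸ this (Fin.last n)))
  have hπ : ∀ q : ℕ, q.Prime → q ∣ (M i.castSucc).relIndex (M i.succ) → q ∣ Nat.card H := by
    refine (hMs i).resolve_right fun hc => hi' (le_sSup ⟨hMn _, ?_⟩)
    have h1 := Subgroup.relIndex_mul_relIndex ⊥ (M i.castSucc ⊓ M i.succ) (M i.succ) bot_le inf_le_right
    rw [Subgroup.relIndex_bot_left, Subgroup.relIndex_bot_left, Subgroup.inf_relIndex_right] at h1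
    rw [← h1]
    exact Nat.Coprime.mul_left
      (hcop.coprime_dvd_left (Subgroup.card_dvd_of_le (inf_le_left.trans hi))) hc
  set f := QuotientGroup.mk' O with hf
  set K := (M i.succ).map f with hK
  have hKker : f.ker = O := QuotientGroup.ker_mk' O
  obtain ⟨k, hkM, hkO⟩ := SetLike.not_le_iff_exists.1 hi'
  have hKd : Nat.card K ∣ (M i.castSucc).relIndex (M i.succ) := by
    refine dvd_trans ?_ (Subgroup.relIndex_dvd_of_le_left (M i.succ) hi)
    rw [hK, ← Subgroup.relIndex_bot_left, ← Subgroup.map_bot f, Subgroup.relIndex_map_map, bot_sup_eq,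
      hKker]
    rw [Subgroup.relIndex_sup_right]
  set Hb := H.map f with hHb
  have hHbc : Nat.card Hb = Nat.card H := by
    rw [hHb]
    refine Nat.card_congr (MulEquiv.ofBijective (f.subgroupMap H)
      ⟨?_, MonoidHom.subgroupMap_surjective f H⟩).toEquiv.symm
    rw [← MonoidHom.ker_eq_bot_iff, Subgroup.eq_bot_iff_forall]
    rintro ⟨x, hx⟩ hxk
    have h1 : x ∈ O ⊓ H := ⟨(QuotientGroup.eq_one_iff x).1 (congrArg Subtype.val hxk), hx⟩
    rw [Subgroup.inf_eq_bot_of_coprime hcop, Subgroup.mem_bot] at h1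
    exact Subtype.ext h1
  have hKH : K ≤ Hb := by
    haveI : K.Normal := (hMn i.succ).map f (QuotientGroup.mk'_surjective O)
    set J := Hb ⊔ K with hJ
    have h1 : Hb.relIndex J ∣ Hb.index := Subgroup.relIndex_dvd_index_of_le le_sup_left
    have h2 : Nat.card J ∣ Nat.card Hb * Nat.card K := AxB.card_sup_dvd Hb K
    have h3 : Nat.card Hb * Hb.relIndex J = Nat.card J := by
      have := Subgroup.relIndex_mul_relIndex ⊥ Hb J bot_le le_sup_left
      rwa [Subgroup.relIndex_bot_left, Subgroup.relIndex_bot_left] at this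
    rw [← h3] at h2
    have h4 : Hb.relIndex J ∣ Nat.card K := Nat.dvd_of_mul_dvd_mul_left Nat.card_pos h2
    have h5 : Hb.index ∣ H.index :=
      Subgroup.index_map_dvd H (QuotientGroup.mk'_surjective O)
    have h6 : Hb.relIndex J = 1 := by
      by_contra hne
      obtain ⟨q, hq, hqd⟩ := Nat.exists_prime_and_dvd hne
      exact hq.not_dvd_one (hH.gcd_eq_one ▸
        Nat.dvd_gcd (hπ q hq ((hqd.trans h4).trans hKd)) ((hqd.trans h1).trans h5))
    exact le_sup_right.trans (Subgroup.relIndex_eq_one.1 h6)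
  haveI hMin : (M i.succ).Normal := hMn _
  have htop : O ⊔ N = ⊤ := by
    rw [eq_top_iff]
    intro g _
    obtain ⟨h, hh, hhk⟩ := hKH ⟨k, hkM, rfl⟩
    have hh1 : h ≠ 1 := by
      rintro rfl
      exact hkO ((QuotientGroup.eq_one_iff k).1 ((map_one f).symm.trans hhk).symm)
    refine mem_sup_normalizer H O hTI hcop hH hh hh1 ?_
    obtain ⟨h', hh', hh'k⟩ := hKH ⟨g * k * g⁻¹, hMin.conj_mem k hkM g, rfl⟩
    have h1 : f (g * h * g⁻¹) = f h' := by
      rw [hh'k, map_mul, map_mul, map_mul, map_mul, hhk]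
    have h2 : h'⁻¹ * (g * h * g⁻¹) ∈ O := QuotientGroup.eq.1 h1.symm
    have := mul_mem (le_sup_left (α := Subgroup G) hh') (le_sup_right (α := Subgroup G) (a := H) h2)
    rwa [mul_inv_cancel_left] at this
  refine ⟨htop, ?_, fun hle => hnn (Subgroup.normalizer_eq_top_iff.1 ?_)⟩
  · refine Subgroup.normalizer_eq_top_iff.1 (top_le_iff.1 (htop.ge.trans (sup_le ?_ ?_)))
    · exact le_sup_left.trans Subgroup.le_normalizer
    · intro g hg
      have hm : (O ⊔ H).map (MulAut.conj g).toMonoidHom = O ⊔ H := by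
        rw [Subgroup.map_sup]
        congr 1
        · exact Subgroup.Normal.map_conj_eq O g
        · refine Subgroup.eq_of_le_of_card_ge ?_ (Subgroup.card_map_of_injective (MulAut.conj g).injective).ge
          rintro _ ⟨x, hx, rfl⟩
          exact (Subgroup.mem_normalizer_iff.1 hg x).1 hx
      rw [Subgroup.mem_normalizer_iff]
      intro x
      constructor
      · exact fun hx => hm.le ⟨x, hx, rfl⟩
      · intro hx
        obtain ⟨y, hy, hyx⟩ := hm.ge hx
        exact (MulAut.conj g).injective hyx ▸ hy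
  · rw [← htop, sup_eq_right.2 hle]

omit [Finite G] in
theorem centralizer_inf_le (H : Subgroup G) (hTI : Cfsg.IsTISubset (H : Set G)) {h : G}
    (hh : h ∈ H) (hh1 : h ≠ 1) :
    Subgroup.centralizer ({h} : Set G) ≤ Subgroup.normalizer (H : Set G) := by
  intro c hc
  by_contra hcN
  refine hh1 (hTI c hcN h hh ?_)
  rw [Subgroup.mem_centralizer_singleton_iff.1 hc, mul_inv_cancel_right]
  exact hh

/-- The abelian subgroups of `H` are cyclic. -/
theorem abCyclic (H : Subgroup G) (hTI : Cfsg.IsTISubset (H : Set G)) (hnn : ¬ H.Normal)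
    (hHall : (Nat.card H).Coprime (H.subgroupOf (Subgroup.normalizer (H : Set G))).index)
    (hsep : Separable H) : AbCyc.AbCyclic H := by
  intro A hA
  by_contra hnc
  haveI := hA
  set A' := A.map H.subtype with hA'
  haveI : IsMulCommutative A' := ⟨⟨by
    rintro ⟨_, a, ha, rfl⟩ ⟨_, b, hb, rfl⟩
    refine Subtype.ext ?_
    show (a : G) * b = b * a
    exact congrArg (fun z : A => ((z : H) : G)) (mul_comm' (⟨a, ha⟩ : A) ⟨b, hb⟩)⟩⟩
  have hnc' : ¬ IsCyclic A' := fun h => hnc
    ((A.equivMapOfInjective H.subtype H.subtype_injective).isCyclic.2 h)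
  haveI := core_normal H
  refine (structure_core H hTI hnn hHall hsep).2.2 ?_
  refine (CoprimeAct.generated_by_centralizers (K := core H) hnc'
    (by rw [Subgroup.normalizer_eq_top]; exact le_top)
    ((core_coprime H).symm.coprime_dvd_left (Subgroup.card_dvd_of_le (Subgroup.map_subtype_le _)))).ge.trans ?_
  exact iSup₂_le fun a ha =>
    inf_le_right.trans (centralizer_inf_le H hTI (Subgroup.map_subtype_le _ ha.1) ha.2)

end Cfsg.Agent.TISep
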