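import Cfsg.Agent.Lib.FGStruct.FpfPrimitive
import Cfsg.Agent.Lib.Solvable.Fitting
import Cfsg.Agent.Lib.Char.Burnside
import Cfsg.Prelude.Def_Transfer
import Mathlib.GroupTheory.SemidirectProduct
import Mathlib.GroupTheory.Sylow
import Mathlib.GroupTheory.PGroup

/-!
Groups whose automorphism group has three orbits.
-/

set_option autoImplicit false
set_option linter.style.haveILetI false

namespace Cfsg.Agent.ThreeOrbits

open Cfsg Polynomial

variable {G : Type*} [Group G]

section Conj

variable {p : ℕ} [Fact p.Prime] (P : Subgroup G) [P.Normal] [IsMulCommutative P]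

open scoped IsMulCommutative

/-- Conjugation of `G` on an abelian normal subgroup, as linear maps. -/
def conjEnd [Module (ZMod p) (Additive P)] : G →* Module.End (ZMod p) (Additive P) where
  toFun g := AddMonoidHom.toZModLinearMap p
    (MonoidHom.toAdditive (MulAut.conjNormal (H := P) g).toMonoidHom)
  map_one' := LinearMap.ext fun v => by
    apply Additive.toMul.injective
    apply Subtype.ext
    simp
  map_mul' a b := LinearMap.ext fun v => by
    apply Additive.toMul.injective
    apply Subtype.ext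
    simp [mul_assoc]

lemma conjEnd_apply [Module (ZMod p) (Additive P)] (g : G) (v : Additive P) :
    ((Additive.toMul (conjEnd (p := p) P g v) : P) : G) = g * ((Additive.toMul v : P) : G) * g⁻¹ := rfl

lemma eq_zero_iff (v : Additive P) : v = 0 ↔ ((Additive.toMul v : P) : G) = 1 := by
  rw [← Subgroup.coe_one P, ← Subtype.ext_iff]
  exact Iff.rfl

lemma conjEnd_eq_one [Module (ZMod p) (Additive P)] {u : G} (hu : u ∈ P) : conjEnd (p := p) P u = 1 := by
  refine LinearMap.ext fun v => ?_
  apply Additive.toMul.injective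
  apply Subtype.ext
  rw [conjEnd_apply]
  have := congrArg Subtype.val (mul_comm' (⟨u, hu⟩ : P) (Additive.toMul v))
  simp only [Subgroup.coe_mul] at this
  rw [this, mul_inv_cancel_right]
  rfl

lemma sum_eq_zero [Module (ZMod p) (Additive P)] {q : ℕ} {g : G} (hgq : g ^ q = 1)
    (hfree : ∀ u ∈ P, g * u = u * g → u = 1) (v : Additive P) :
    ∑ k ∈ Finset.range q, (conjEnd (p := p) P g ^ k) v = 0 := by
  set T := conjEnd (p := p) P g
  set s := ∑ k ∈ Finset.range q, (T ^ k) v with hs
  have hfix : T s = s := by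
    have hq : (T ^ q) v = v := by rw [← map_pow, hgq, map_one]; rfl
    have h1 := Finset.sum_range_succ' (fun k => (T ^ k) v) q
    rw [Finset.sum_range_succ, hq] at h1
    simp only [pow_zero, Module.End.one_apply, add_left_inj] at h1
    rw [hs, map_sum]
    conv_rhs => rw [h1]
    exact Finset.sum_congr rfl fun k _ => by rw [pow_succ', Module.End.mul_apply]
  rw [eq_zero_iff]
  refine hfree _ (Additive.toMul s).2 ?_
  have := congrArg (fun w : Additive P => ((Additive.toMul w : P) : G)) hfix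
  simp only [T, conjEnd_apply] at this
  exact mul_inv_eq_iff_eq_mul.1 this

/-- A group of type `(q, q)` has no fixed-point-free action. -/
lemma eq_zero_of_two [Module (ZMod p) (Additive P)] {q : ℕ} (hq : q.Prime) (hpq : p ≠ q)
    {a b : G} (hab : Commute a b)
    (hsum : ∀ j < q, ∀ v : Additive P,
      ∑ k ∈ Finset.range q, (conjEnd (p := p) P (a * b ^ j) ^ k) v = 0)
    (hsumb : ∀ v : Additive P, ∑ k ∈ Finset.range q, (conjEnd (p := p) P b ^ k) v = 0)
    (v : Additive P) : v = 0 := by
  set A := conjEnd (p := p) P a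
  set B := conjEnd (p := p) P b
  have h0 : ∑ j ∈ Finset.range q, ∑ i ∈ Finset.range q, ((A * B ^ j) ^ i) v = 0 := by
    refine Finset.sum_eq_zero fun j hj => ?_
    rw [← map_pow, ← map_mul]
    exact hsum j (Finset.mem_range.1 hj) v
  rw [Finset.sum_comm] at h0
  have hpow : ∀ i j, ((A * B ^ j) ^ i) v = (A ^ i) (((B ^ i) ^ j) v) := by
    intro i j
    rw [((hab.map (conjEnd (p := p) P)).pow_right j).mul_pow, Module.End.mul_apply, ← pow_mul,
      ← pow_mul, mul_comm]
  rw [Finset.sum_eq_single_of_mem 0 (Finset.mem_range.2 hq.pos)] at h0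
  · simp only [pow_zero, Module.End.one_apply, Finset.sum_const, Finset.card_range] at h0
    rw [← Nat.cast_smul_eq_nsmul (ZMod p)] at h0
    refine (smul_eq_zero.1 h0).resolve_left fun h => hpq ?_
    exact (Nat.prime_dvd_prime_iff_eq Fact.out hq).1 ((ZMod.natCast_eq_zero_iff q p).1 h)
  · intro i hi hi0
    simp only [hpow]
    rw [← map_sum]
    have hperm : ∑ j ∈ Finset.range q, ((B ^ i) ^ j) v = ∑ j ∈ Finset.range q, (B ^ j) v := by
      have hBq : B ^ q = 1 := by
        refine LinearMap.ext fun w => ?_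
        have h1 := Finset.sum_range_succ' (fun k => (B ^ k) w) q
        have h2 : ∑ k ∈ Finset.range q, (B ^ (k + 1)) w = 0 := by
          calc _ = B (∑ k ∈ Finset.range q, (B ^ k) w) := by
                rw [map_sum]
                exact Finset.sum_congr rfl fun k _ => by rw [pow_succ', Module.End.mul_apply]
            _ = 0 := by rw [hsumb w, map_zero]
        rw [Finset.sum_range_succ, hsumb w, h2, zero_add, zero_add, pow_zero] at h1
        exact h1
      have hiq : i < q := Finset.mem_range.1 hi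
      have hiz : (i : ZMod q) ≠ 0 := fun h =>
        absurd (Nat.le_of_dvd (by omega) ((ZMod.natCast_eq_zero_iff i q).1 h)) (by omega)
      haveI := Fact.mk hq
      refine Finset.sum_bij (fun j _ => ((i : ZMod q) * (j : ZMod q)).val) (fun j _ =>
        Finset.mem_range.2 (ZMod.val_lt _)) ?_ ?_ ?_
      · intro j₁ h₁ j₂ h₂ h
        have := mul_left_cancel₀ hiz (ZMod.val_injective q h)
        rwa [ZMod.natCast_eq_natCast_iff', Nat.mod_eq_of_lt (Finset.mem_range.1 h₁),
          Nat.mod_eq_of_lt (Finset.mem_range.1 h₂)] at this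
      · intro j hj
        refine ⟨((i : ZMod q)⁻¹ * j).val, Finset.mem_range.2 (ZMod.val_lt _), ?_⟩
        rw [ZMod.natCast_zmod_val, mul_inv_cancel_left₀ hiz, ZMod.val_natCast,
          Nat.mod_eq_of_lt (Finset.mem_range.1 hj)]
      · intro j _
        rw [← Nat.cast_mul, ZMod.val_natCast, ← pow_mul, ← pow_eq_pow_mod _ hBq]
    rw [hperm, hsumb, map_zero]

end Conj

lemma rel_iff (g h : G) :
    Quotient.mk (MulAction.orbitRel (MulAut G) G) g = Quotient.mk _ h ↔ ∃ α : MulAut G, α h = g := by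
  rw [Quotient.eq]
  exact MulAction.orbitRel_apply

lemma orderOf_aut (α : MulAut G) (g : G) : orderOf (α g) = orderOf g :=
  MulEquiv.orderOf_eq α g

lemma orderOf_mul_prime {g u : G} {p q : ℕ} (hp : p.Prime) (hq : q.Prime) (hpq : p ≠ q)
    (hc : g * u = u * g) (hg : orderOf g = q) (hu : orderOf u = p) : orderOf (g * u) = q * p := by
  rw [(show Commute g u from hc).orderOf_mul_eq_mul_orderOf_of_coprime, hg, hu]
  rw [hg, hu]
  exact (Nat.coprime_primes hq hp).2 hpq.symm

lemma exists_decomp {P : Subgroup G} [P.Normal] {x : G} [Finite G]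
    (hc : Subgroup.IsComplement' P (Subgroup.zpowers x)) (g : G) :
    ∃ u ∈ P, ∃ i : ℕ, g = u * x ^ i := by
  obtain ⟨⟨u, z⟩, h⟩ := hc.2 g
  obtain ⟨i, hi⟩ := mem_powers_iff_mem_zpowers.2 z.2
  exact ⟨u, u.2, i, by rw [← h]; simp only [hi]⟩

open scoped IsMulCommutative in
theorem forward_aux₂ [Finite G] {p q : ℕ} [hp : Fact p.Prime] [hq : Fact q.Prime] (hpq : p ≠ q)
    (hdq : q ∣ Nat.card G)
    (hord : ∀ g : G, g = 1 ∨ orderOf g = p ∨ orderOf g = q)
    (hsame : ∀ g h : G, orderOf g = orderOf h → ∃ α : MulAut G, α g = h)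
    (P : Subgroup G) [hPn : P.Normal] [hcomm : IsMulCommutative P] [Module (ZMod p) (Additive P)]
    [Nontrivial P] (hcore : P ≠ ⊥) (hPp : IsPGroup p P) (hPexp : ∀ a ∈ P, a ^ p = 1)
    (hinP : ∀ g ∈ P, g = 1 ∨ orderOf g = p)
    (hα : ∀ (α : MulAut G) {g : G}, g ∈ P → α g ∈ P)
    (hmemP : ∀ g : G, orderOf g = p → g ∈ P)
    (hsyl : ∀ S : Sylow p G, (S : Subgroup G) = P) :
    ∃ (p q n : ℕ) (_ : Fact p.Prime) (_ : Fact q.Prime), p ≠ q ∧ 1 ≤ n ∧ Nat.card G = p ^ n * q ∧
      (∀ P : Sylow p G, (P : Subgroup G).Normal ∧ Cfsg.IsElementaryAbelian p (P : Subgroup G)) ∧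
      orderOf (p : ZMod q) = q - 1 ∧
      ∀ x y : G, orderOf x = q → orderOf y = p → x * y * x⁻¹ ≠ y := by
  classical
  have hfree : ∀ g : G, orderOf g = q → ∀ u ∈ P, g * u = u * g → u = 1 := by
    intro g hg u hu hc
    rcases hinP u hu with h | h
    · exact h
    · exfalso
      have h2 := orderOf_mul_prime hp.out hq.out hpq hc hg h
      rcases hord (g * u) with h1 | h1 | h1
      · rw [h1, orderOf_one] at h2
        have := hq.out.one_lt; have := hp.out.one_lt
        nlinarith
      · rw [h1] at h2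
        exact hpq ((Nat.prime_dvd_prime_iff_eq hq.out hp.out).1 ⟨p, h2⟩).symm
      · rw [h1] at h2
        exact hpq ((Nat.prime_dvd_prime_iff_eq hp.out hq.out).1 (Dvd.intro_left q h2.symm))
  have hsum : ∀ g : G, orderOf g = q → ∀ v : Additive P,
      ∑ k ∈ Finset.range q, (conjEnd (p := p) P g ^ k) v = 0 :=
    fun g hg v => sum_eq_zero P (hg ▸ pow_orderOf_eq_one g) (hfree g hg) v
  -- the Sylow subgroups for `q` have order `q`
  obtain ⟨Q⟩ : Nonempty (Sylow q G) := inferInstance
  have hQexp : ∀ g ∈ (Q : Subgroup G), g = 1 ∨ orderOf g = q := by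
    intro g hg
    rcases hord g with h | h | h
    · exact Or.inl h
    · obtain ⟨k, hk⟩ := IsPGroup.iff_orderOf.1 Q.2 ⟨g, hg⟩
      rw [← Subgroup.orderOf_coe, h] at hk
      exact absurd ((Nat.prime_dvd_prime_iff_eq hp.out hq.out).1
        (hp.out.dvd_of_dvd_pow (hk ▸ dvd_rfl : p ∣ q ^ k))) hpq
    · exact Or.inr h
  have hQ : Nat.card (Q : Subgroup G) = q := by
    obtain ⟨m, hm⟩ := IsPGroup.iff_card.1 Q.2
    have hm1 : 1 ≤ m := by
      by_contra h
      rw [show m = 0 by omega, pow_zero] at hm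
      have := Q.dvd_card_of_dvd_card hdq
      rw [hm, Nat.dvd_one] at this
      exact hq.out.ne_one this
    rcases (show m = 1 ∨ 2 ≤ m by omega) with rfl | hm2
    · rw [hm, pow_one]
    exfalso
    obtain ⟨E, hE⟩ := Sylow.exists_subgroup_card_pow_prime q
      (hm ▸ pow_dvd_pow q hm2 : q ^ 2 ∣ Nat.card (Q : Subgroup G))
    have hEc := IsPGroup.isMulCommutative_of_card_eq_prime_sq hE
    obtain ⟨a, ha1⟩ : ∃ a : E, a ≠ 1 := by
      haveI : Nontrivial E := Finite.one_lt_card_iff_nontrivial.1 (by rw [hE]; nlinarith [hq.out.one_lt])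
      exact exists_ne 1
    have horder : ∀ e : E, e ≠ 1 → orderOf ((e : (Q : Subgroup G)) : G) = q := fun e he =>
      (hQexp _ (e : (Q : Subgroup G)).2).resolve_left fun h => he (Subtype.ext (Subtype.ext h))
    have haq : orderOf a = q := by
      rw [← Subgroup.orderOf_coe, ← Subgroup.orderOf_coe]; exact horder a ha1
    obtain ⟨b, hb⟩ : ∃ b : E, b ∉ Subgroup.zpowers a := by
      by_contra! h
      have : Nat.card E ≤ q := by
        rw [← Subgroup.card_top (G := E), ← (eq_top_iff.2 fun b _ => h b), Nat.card_zpowers, haq]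
      rw [hE] at this
      nlinarith [hq.out.one_lt]
    have hb1 : b ≠ 1 := fun h => hb (h ▸ Subgroup.one_mem _)
    have hbq : orderOf b = q := by
      rw [← Subgroup.orderOf_coe, ← Subgroup.orderOf_coe]; exact horder b hb1
    have hne : ∀ j < q, a * b ^ j ≠ 1 := by
      intro j hj h
      rcases Nat.eq_zero_or_pos j with rfl | hj0
      · exact ha1 (by simpa using h)
      apply hb
      obtain ⟨k, hk⟩ := exists_pow_eq_self_of_coprime (x := b) (n := j) (by
        rw [hbq, Nat.coprime_comm, hq.out.coprime_iff_not_dvd]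
        exact fun hd => absurd (Nat.le_of_dvd hj0 hd) (by omega))
      rw [← hk, eq_inv_of_mul_eq_one_right h]
      exact Subgroup.pow_mem _ (Subgroup.inv_mem _ (Subgroup.mem_zpowers a)) k
    obtain ⟨v, hv⟩ := exists_ne (0 : Additive P)
    refine hv (eq_zero_of_two (p := p) P hq.out hpq (a := ((a : (Q : Subgroup G)) : G))
      (b := ((b : (Q : Subgroup G)) : G)) ?_ ?_ (hsum _ (horder b hb1)) v)
    · exact congrArg (fun e : E => ((e : (Q : Subgroup G)) : G)) (mul_comm' a b)
    · intro j hj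
      refine hsum _ ?_
      simpa using horder _ (hne j hj)
  -- the order of the group
  obtain ⟨n, hn⟩ := IsPGroup.iff_card.1 hPp
  have hn1 : 1 ≤ n := by
    by_contra h
    rw [show n = 0 by omega, pow_zero] at hn
    exact hcore (Subgroup.card_eq_one.1 hn)
  obtain ⟨S⟩ : Nonempty (Sylow p G) := inferInstance
  have hGcard : Nat.card G = p ^ n * q := by
    have hidx : ¬ p ∣ P.index := hsyl S ▸ S.not_dvd_index
    have hprimes : ∀ r, r.Prime → r ∣ P.index → r = q := by
      intro r hr hrd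
      haveI := Fact.mk hr
      obtain ⟨g, hg⟩ := exists_prime_orderOf_dvd_card' (G := G) r (hrd.trans P.index_dvd_card)
      rcases hord g with h | h | h
      · rw [h, orderOf_one] at hg; exact absurd hg.symm hr.ne_one
      · exact absurd (h ▸ hg ▸ hrd : p ∣ P.index) hidx
      · exact hg ▸ h
    have hi : P.index = q ^ P.index.primeFactorsList.length :=
      Nat.eq_prime_pow_of_unique_prime_dvd Subgroup.index_ne_zero_of_finite
        (fun {d} hd hdd => hprimes d hd hdd)
    have hfac : (Nat.card G).factorization q = 1 := by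
      have := Q.card_eq_multiplicity
      rw [hQ] at this
      exact ((pow_right_injective₀ hq.out.pos hq.out.ne_one) (this.symm.trans (pow_one q).symm))
    rw [← Subgroup.card_mul_index P, hn, hi]
    congr 1
    rw [← Subgroup.card_mul_index P, hn, hi, Nat.factorization_mul (pow_pos hp.out.pos n).ne'
      (pow_pos hq.out.pos _).ne', Finsupp.add_apply, hp.out.factorization_pow, hq.out.factorization_pow,
      Finsupp.single_eq_of_ne hpq.symm, Finsupp.single_eq_same, zero_add] at hfac
    rw [hfac, pow_one]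
  refine ⟨p, q, n, hp, hq, hpq, hn1, hGcard, fun T => ?_, ?_, fun x y hx hy h => ?_⟩
  · rw [hsyl T]; exact ⟨hPn, hcomm, hPexp⟩
  · obtain ⟨x, hx⟩ := exists_prime_orderOf_dvd_card' (G := G) q hdq
    have hcompl : Subgroup.IsComplement' P (Subgroup.zpowers x) :=
      Subgroup.isComplement'_of_coprime (by rw [hn, Nat.card_zpowers, hx, hGcard])
        (by rw [hn, Nat.card_zpowers, hx]; exact ((Nat.coprime_primes hp.out hq.out).2 hpq).pow_left n)
    set T := conjEnd (p := p) P x with hT
    obtain ⟨v₀, hv₀⟩ := exists_ne (0 : Additive P)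
    have hT1 : T ≠ 1 := by
      intro h
      apply hv₀
      rw [eq_zero_iff]
      refine hfree x hx _ (Additive.toMul v₀).2 ?_
      have := congrArg (fun w : Additive P => ((Additive.toMul w : P) : G)) (LinearMap.congr_fun h v₀)
      simp only [hT, conjEnd_apply, Module.End.one_apply] at this
      exact mul_inv_eq_iff_eq_mul.1 this
    have hres : ∀ α : MulAut G, ∀ i : ℕ, (∃ u ∈ P, α x = u * x ^ i) →
        ∃ β : Additive P →ₗ[ZMod p] Additive P, Function.Bijective β ∧ β ∘ₗ T = (T ^ i) ∘ₗ β ∧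
          ∀ v, ((Additive.toMul (β v) : P) : G) = α ((Additive.toMul v : P) : G) := by
      rintro α i ⟨u, hu, hαx⟩
      let β : Additive P →ₗ[ZMod p] Additive P := AddMonoidHom.toZModLinearMap p
        (MonoidHom.toAdditive ((α.toMonoidHom.comp P.subtype).codRestrict P fun w => hα α w.2))
      have hβ : ∀ v, ((Additive.toMul (β v) : P) : G) = α ((Additive.toMul v : P) : G) := fun v => rfl
      have hinj : Function.Injective β := by
        intro v w h
        apply Additive.toMul.injective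
        apply Subtype.ext
        apply α.injective
        rw [← hβ, ← hβ, h]
      refine ⟨β, ⟨hinj, Finite.injective_iff_surjective.1 hinj⟩, LinearMap.ext fun v => ?_, hβ⟩
      rw [LinearMap.comp_apply, LinearMap.comp_apply, hT, ← map_pow,
        show conjEnd (p := p) P (x ^ i) = conjEnd (p := p) P (α x) by
          rw [hαx, map_mul, conjEnd_eq_one P hu, one_mul]]
      apply Additive.toMul.injective
      apply Subtype.ext
      rw [hβ, conjEnd_apply, conjEnd_apply, hβ, map_mul, map_mul, map_inv]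
    refine FpfPrim.orderOf_eq hpq T hT1 (hsum x hx) (fun v w hv hw => ?_) (fun i hi => ?_)
    · have hv' : orderOf ((Additive.toMul v : P) : G) = p :=
        (hinP _ (Additive.toMul v).2).resolve_left fun h => hv ((eq_zero_iff P v).2 h)
      have hw' : orderOf ((Additive.toMul w : P) : G) = p :=
        (hinP _ (Additive.toMul w).2).resolve_left fun h => hw ((eq_zero_iff P w).2 h)
      obtain ⟨α, hαv⟩ := hsame _ _ (hv'.trans hw'.symm)
      obtain ⟨u, hu, i, hi⟩ := exists_decomp hcompl (α x)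
      obtain ⟨β, hbij, hcm, hβ⟩ := hres α i ⟨u, hu, hi⟩
      exact ⟨β, i, hbij.1, hcm, Additive.toMul.injective (Subtype.ext ((hβ v).trans hαv))⟩
    · obtain ⟨α, hαx⟩ := hsame x (x ^ i) (by
        rw [Nat.Coprime.orderOf_pow]
        rw [hx]
        exact hq.out.coprime_iff_not_dvd.2 hi)
      obtain ⟨β, hbij, hcm, -⟩ := hres α i ⟨1, P.one_mem, by rw [one_mul, hαx]⟩
      exact ⟨β, hbij, hcm⟩
  · have := hfree x hx y (hmemP y hy) (mul_inv_eq_iff_eq_mul.1 h)
    rw [this, orderOf_one] at hy
    exact hp.out.ne_one hy.symm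

open scoped IsMulCommutative in
theorem forward_aux [Finite G] {p q : ℕ} [hp : Fact p.Prime] [hq : Fact q.Prime] (hpq : p ≠ q)
    (hdq : q ∣ Nat.card G)
    (hord : ∀ g : G, g = 1 ∨ orderOf g = p ∨ orderOf g = q)
    (hsame : ∀ g h : G, orderOf g = orderOf h → ∃ α : MulAut G, α g = h)
    (hcore : Cfsg.pCore p G ≠ ⊥) :
    ∃ (p q n : ℕ) (_ : Fact p.Prime) (_ : Fact q.Prime), p ≠ q ∧ 1 ≤ n ∧ Nat.card G = p ^ n * q ∧
      (∀ P : Sylow p G, (P : Subgroup G).Normal ∧ Cfsg.IsElementaryAbelian p (P : Subgroup G)) ∧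
      orderOf (p : ZMod q) = q - 1 ∧
      ∀ x y : G, orderOf x = q → orderOf y = p → x * y * x⁻¹ ≠ y := by
  classical
  set P := Cfsg.pCore p G with hP
  haveI hPn : P.Normal := FittingCores.pCore_normal p
  haveI := FittingCores.pCore_characteristic (G := G) p
  have hPp : IsPGroup p P := FittingCores.pCore_isPGroup p
  have hinP : ∀ g ∈ P, g = 1 ∨ orderOf g = p := by
    intro g hg
    rcases hord g with h | h | h
    · exact Or.inl h
    · exact Or.inr h
    · obtain ⟨k, hk⟩ := IsPGroup.iff_orderOf.1 hPp ⟨g, hg⟩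
      rw [← Subgroup.orderOf_coe, h] at hk
      exact absurd ((Nat.prime_dvd_prime_iff_eq hq.out hp.out).1
        (hq.out.dvd_of_dvd_pow (hk ▸ dvd_rfl : q ∣ p ^ k))) hpq.symm
  obtain ⟨⟨z₀, hz₀⟩, hz₀1⟩ := (Subgroup.nontrivial_iff_exists_ne_one P).1
    (P.nontrivial_iff_ne_bot.2 hcore) |> fun ⟨z, hz, hz1⟩ => (⟨⟨z, hz⟩, hz1⟩ : ∃ z : P, (z : G) ≠ 1)
  have hα : ∀ (α : MulAut G) {g : G}, g ∈ P → α g ∈ P := by
    intro α g hg
    have := Subgroup.characteristic_iff_map_eq.1 ‹P.Characteristic› α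
    exact this ▸ Subgroup.mem_map_of_mem _ hg
  have hmemP : ∀ g : G, orderOf g = p → g ∈ P := by
    intro g hg
    obtain ⟨α, rfl⟩ := hsame z₀ g (((hinP z₀ hz₀).resolve_left hz₀1).trans hg.symm)
    exact hα α hz₀
  have hsyl : ∀ S : Sylow p G, (S : Subgroup G) = P := by
    intro S
    refine le_antisymm (fun g hg => ?_) (FittingCores.pCore_le_sylow S)
    rcases hord g with h | h | h
    · rw [h]; exact P.one_mem
    · exact hmemP g h
    · obtain ⟨k, hk⟩ := IsPGroup.iff_orderOf.1 S.2 ⟨g, hg⟩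
      rw [← Subgroup.orderOf_coe, h] at hk
      exact absurd ((Nat.prime_dvd_prime_iff_eq hq.out hp.out).1
        (hq.out.dvd_of_dvd_pow (hk ▸ dvd_rfl : q ∣ p ^ k))) hpq.symm
  haveI hPnt : Nontrivial P := P.nontrivial_iff_ne_bot.2 hcore
  haveI hcomm : IsMulCommutative P := by
    haveI := hPp.center_nontrivial
    obtain ⟨z, hz1⟩ := exists_ne (1 : Subgroup.center P)
    refine ⟨⟨fun a b => ?_⟩⟩
    by_cases ha1 : a = 1
    · simp [ha1]
    have hz : orderOf ((z : P) : G) = p := (hinP _ (z : P).2).resolve_left fun h =>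
      hz1 (Subtype.ext (Subtype.ext h))
    have ha : orderOf (a : G) = p := (hinP _ a.2).resolve_left fun h => ha1 (Subtype.ext h)
    obtain ⟨α, hαz⟩ := hsame _ _ (hz.trans ha.symm)
    have hb : (α.symm : MulAut G) (b : G) ∈ P := hα α.symm b.2
    have := congrArg Subtype.val (Subgroup.mem_center_iff.1 z.2 ⟨_, hb⟩)
    simp only [Subgroup.coe_mul] at this
    have := congrArg α this
    rw [map_mul, map_mul, MulEquiv.apply_symm_apply, hαz] at this
    exact Subtype.ext this.symm
  have hPexp : ∀ a ∈ P, a ^ p = 1 := by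
    intro a ha
    rcases hinP a ha with h | h
    · simp [h]
    · exact h ▸ pow_orderOf_eq_one a
  have hmod : ∀ v : Additive P, p • v = 0 := fun v => by
    apply Additive.toMul.injective
    rw [toMul_nsmul, toMul_zero]
    exact Subtype.ext (by simpa using hPexp _ (Additive.toMul v).2)
  letI : Module (ZMod p) (Additive P) := AddCommGroup.zmodModule hmod
  exact forward_aux₂ hpq hdq hord hsame P hcore hPp hPexp hinP hα hmemP hsyl

theorem forward [Finite G] (hnpp : ¬ IsPrimePow (Nat.card G)) (hnt : Nat.card G ≠ 1)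
    (h3 : Nat.card (MulAction.orbitRel.Quotient (MulAut G) G) = 3) :
    ∃ (p q n : ℕ) (_ : Fact p.Prime) (_ : Fact q.Prime), p ≠ q ∧ 1 ≤ n ∧ Nat.card G = p ^ n * q ∧
      (∀ P : Sylow p G, (P : Subgroup G).Normal ∧ Cfsg.IsElementaryAbelian p (P : Subgroup G)) ∧
      orderOf (p : ZMod q) = q - 1 ∧
      ∀ x y : G, orderOf x = q → orderOf y = p → x * y * x⁻¹ ≠ y := by
  classical
  obtain ⟨p, hp, hpd⟩ := Nat.exists_prime_and_dvd hnt
  obtain ⟨q, hq, hqd, hpq⟩ : ∃ q, q.Prime ∧ q ∣ Nat.card G ∧ p ≠ q := by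
    by_contra! h
    apply hnpp
    rw [isPrimePow_nat_iff]
    refine ⟨p, (Nat.card G).primeFactorsList.length, hp, ?_, (Nat.eq_prime_pow_of_unique_prime_dvd
      Nat.card_pos.ne' fun {d} hd hdd => (h d hd hdd).symm).symm⟩
    rw [List.length_pos_iff]
    intro h0
    have := (Nat.primeFactorsList_eq_nil _).1 h0
    have := Nat.card_pos (α := G)
    omega
  haveI := Fact.mk hp; haveI := Fact.mk hq
  obtain ⟨a, ha⟩ := exists_prime_orderOf_dvd_card' (G := G) p hpd
  obtain ⟨b, hb⟩ := exists_prime_orderOf_dvd_card' (G := G) q hqd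
  let f : Fin 3 → MulAction.orbitRel.Quotient (MulAut G) G := ![Quotient.mk _ 1, Quotient.mk _ a, Quotient.mk _ b]
  have hne : ∀ g h : G, orderOf g ≠ orderOf h →
      (Quotient.mk _ g : MulAction.orbitRel.Quotient (MulAut G) G) ≠ Quotient.mk _ h := by
    intro g h hgh he
    obtain ⟨α, rfl⟩ := (rel_iff g h).1 he
    exact hgh (orderOf_aut α h)
  have h1a : orderOf (1 : G) ≠ orderOf a := by rw [orderOf_one, ha]; exact hp.ne_one.symm
  have h1b : orderOf (1 : G) ≠ orderOf b := by rw [orderOf_one, hb]; exact hq.ne_one.symm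
  have hab : orderOf a ≠ orderOf b := by rw [ha, hb]; exact hpq
  have hf : Function.Injective f := by
    intro i j hij
    fin_cases i <;> fin_cases j <;> first
      | rfl
      | exact absurd hij (hne _ _ h1a)
      | exact absurd hij.symm (hne _ _ h1a)
      | exact absurd hij (hne _ _ h1b)
      | exact absurd hij.symm (hne _ _ h1b)
      | exact absurd hij (hne _ _ hab)
      | exact absurd hij.symm (hne _ _ hab)
  have hsurj := (hf.bijective_of_nat_card_le (by rw [h3, Nat.card_fin])).2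
  have hrep : ∀ g : G, g = 1 ∨ (∃ α : MulAut G, α a = g) ∨ ∃ α : MulAut G, α b = g := by
    intro g
    obtain ⟨i, hi⟩ := hsurj (Quotient.mk _ g)
    fin_cases i
    · obtain ⟨α, hα⟩ := (rel_iff 1 g).1 hi
      exact Or.inl ((map_eq_one_iff α α.injective).1 hα)
    · exact Or.inr (Or.inl ((rel_iff g a).1 hi.symm))
    · exact Or.inr (Or.inr ((rel_iff g b).1 hi.symm))
  have hord : ∀ g : G, g = 1 ∨ orderOf g = p ∨ orderOf g = q := by
    intro g
    rcases hrep g with h | ⟨α, rfl⟩ | ⟨α, rfl⟩
    · exact Or.inl h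
    · exact Or.inr (Or.inl ((orderOf_aut α a).trans ha))
    · exact Or.inr (Or.inr ((orderOf_aut α b).trans hb))
  have hsame : ∀ g h : G, orderOf g = orderOf h → ∃ α : MulAut G, α g = h := by
    intro g h hgh
    rcases hrep g with rfl | ⟨α, rfl⟩ | ⟨α, rfl⟩
    · rw [orderOf_one] at hgh
      exact ⟨1, (orderOf_eq_one_iff.1 hgh.symm).symm⟩
    all_goals
      rcases hrep h with rfl | ⟨β, rfl⟩ | ⟨β, rfl⟩
      · exfalso
        rw [orderOf_one, orderOf_aut, orderOf_eq_one_iff] at hgh
        simp [hgh] at ha hb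
        first
          | exact hp.ne_one ha.symm
          | exact hq.ne_one hb.symm
      all_goals
        first
          | (refine ⟨α.symm.trans β, ?_⟩; simp; done)
          | (exfalso; rw [orderOf_aut, orderOf_aut, ha, hb] at hgh; exact hpq hgh)
          | (exfalso; rw [orderOf_aut, orderOf_aut, hb, ha] at hgh; exact hpq hgh.symm)
  have hcard : ∃ i j, Nat.card G = p ^ i * q ^ j := by
    refine ⟨(Nat.card G).factorization p, (Nat.card G).factorization q,
      Nat.eq_of_factorization_eq Nat.card_pos.ne'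
        (Nat.mul_ne_zero (pow_pos hp.pos _).ne' (pow_pos hq.pos _).ne') fun r => ?_⟩
    rw [Nat.factorization_mul (pow_pos hp.pos _).ne' (pow_pos hq.pos _).ne', Finsupp.add_apply,
      hp.factorization_pow, hq.factorization_pow]
    by_cases hrp : r = p
    · subst hrp
      rw [Finsupp.single_eq_same, Finsupp.single_eq_of_ne hpq, add_zero]
    by_cases hrq : r = q
    · subst hrq
      rw [Finsupp.single_eq_same, Finsupp.single_eq_of_ne hpq.symm, zero_add]
    rw [Finsupp.single_eq_of_ne hrp, Finsupp.single_eq_of_ne hrq, add_zero, Nat.factorization_eq_zero_iff]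
    by_contra! hh
    obtain ⟨hr, hrd, -⟩ := hh
    haveI := Fact.mk hr
    obtain ⟨g, hg⟩ := exists_prime_orderOf_dvd_card' (G := G) r hrd
    rcases hord g with h | h | h
    · rw [h, orderOf_one] at hg; exact hr.ne_one hg.symm
    · exact hrp (hg.symm.trans h)
    · exact hrq (hg.symm.trans h)
  haveI : Group.IsSolvable G := Char.isSolvable_of_card_pq p q hp hq (Nat.card G) G rfl hcard
  haveI : Nontrivial G := Finite.one_lt_card_iff_nontrivial.1 (by have := Nat.card_pos (α := G); omega)
  obtain ⟨r, hr⟩ : ∃ r : Nat.Primes, Cfsg.pCore (r : ℕ) G ≠ ⊥ := by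
    by_contra! h
    exact FittingCores.fitting_ne_bot (G := G) (by rw [FittingCores.fitting_eq_iSup_pCore]; simp [h])
  obtain ⟨g, hg, hg1⟩ := (Subgroup.nontrivial_iff_exists_ne_one _).1 (Subgroup.nontrivial_iff_ne_bot _ |>.2 hr)
  haveI := Fact.mk r.2
  obtain ⟨k, hk⟩ := IsPGroup.iff_orderOf.1 (FittingCores.pCore_isPGroup (G := G) (r : ℕ)) ⟨g, hg⟩
  rw [← Subgroup.orderOf_coe] at hk
  rcases (hord g).resolve_left hg1 with h | h
  · have : p = (r : ℕ) := (Nat.prime_dvd_prime_iff_eq hp r.2).1 (hp.dvd_of_dvd_pow (h ▸ hk ▸ dvd_rfl : p ∣ (r : ℕ) ^ k))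
    exact forward_aux hpq hqd hord hsame (this ▸ hr)
  · have : q = (r : ℕ) := (Nat.prime_dvd_prime_iff_eq hq r.2).1 (hq.dvd_of_dvd_pow (h ▸ hk ▸ dvd_rfl : q ∣ (r : ℕ) ^ k))
    exact forward_aux hpq.symm hpd (fun g => (hord g).imp_right Or.symm) hsame (this ▸ hr)

/-- An automorphism from compatible automorphisms of two complementary factors. -/
lemma exists_extend [Finite G] {P Q : Subgroup G} [P.Normal] (hc : Subgroup.IsComplement' P Q)
    (fn : P ≃* P) (fg : Q ≃* Q)
    (h : ∀ (a : Q) (v : P), (fn ⟨(a : G) * v * (a : G)⁻¹, ‹P.Normal›.conj_mem v v.2 a⟩ : G) =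
      (fg a : G) * (fn v : G) * (fg a : G)⁻¹) :
    ∃ Φ : MulAut G, (∀ u : P, Φ u = (fn u : G)) ∧ ∀ a : Q, Φ a = (fg a : G) := by
  let E : P × Q ≃ G := Equiv.ofBijective _ hc
  let F : G → G := fun g => (fn (E.symm g).1 : G) * (fg (E.symm g).2 : G)
  have hkey : ∀ (u : P) (a : Q), F ((u : G) * a) = (fn u : G) * (fg a : G) := by
    intro u a
    have : E.symm ((u : G) * a) = (u, a) := E.symm_apply_eq.2 rfl
    simp only [F, this]
  have hmul : ∀ g k, F (g * k) = F g * F k := by
    intro g k
    obtain ⟨⟨u, a⟩, rfl⟩ := E.surjective g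
    obtain ⟨⟨v, b⟩, rfl⟩ := E.surjective k
    change F ((u : G) * a * ((v : G) * b)) = F ((u : G) * a) * F ((v : G) * b)
    let v' : P := ⟨(a : G) * v * (a : G)⁻¹, ‹P.Normal›.conj_mem v v.2 a⟩
    have e : (u : G) * a * ((v : G) * b) = ((u * v' : P) : G) * ((a * b : Q) : G) := by
      simp only [v', Subgroup.coe_mul]
      group
    rw [e, hkey, hkey, hkey, map_mul, map_mul, Subgroup.coe_mul, Subgroup.coe_mul]
    simp only [v', h]
    group
  let f : G →* G := MonoidHom.mk' F hmul
  have hinj : Function.Injective f := by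
    intro g k hgk
    obtain ⟨⟨u, a⟩, rfl⟩ := E.surjective g
    obtain ⟨⟨v, b⟩, rfl⟩ := E.surjective k
    have h1 : E (fn u, fg a) = E (fn v, fg b) :=
      (hkey u a).symm.trans (hgk.trans (hkey v b))
    obtain ⟨e1, e2⟩ := Prod.mk.injEq .. ▸ E.injective h1
    rw [fn.injective e1, fg.injective e2]
  refine ⟨MulEquiv.ofBijective f ⟨hinj, Finite.injective_iff_surjective.1 hinj⟩, fun u => ?_, fun a => ?_⟩
  · have := hkey u 1
    rw [OneMemClass.coe_one, mul_one, map_one, OneMemClass.coe_one, mul_one] at this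
    exact this
  · have := hkey 1 a
    rw [OneMemClass.coe_one, one_mul, map_one, OneMemClass.coe_one, one_mul] at this
    exact this

open scoped IsMulCommutative in
theorem backward_aux [Finite G] {p q n : ℕ} [hp : Fact p.Prime] [hq : Fact q.Prime] (hpq : p ≠ q)
    (hn : 1 ≤ n) (hcard : Nat.card G = p ^ n * q) (hord : orderOf (p : ZMod q) = q - 1)
    (hfpf : ∀ x y : G, orderOf x = q → orderOf y = p → x * y * x⁻¹ ≠ y)
    (P : Subgroup G) [hPn : P.Normal] [IsMulCommutative P] [Module (ZMod p) (Additive P)]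
    (hPexp : ∀ a ∈ P, a ^ p = 1) (hPcard : Nat.card P = p ^ n)
    (hmemP : ∀ g : G, (∃ k : ℕ, g ^ p ^ k = 1) → g ∈ P) :
    Nat.card (MulAction.orbitRel.Quotient (MulAut G) G) = 3 := by
  classical
  have hcop : Nat.Coprime (p ^ n) q := ((Nat.coprime_primes hp.out hq.out).2 hpq).pow_left n
  obtain ⟨x, hx⟩ := exists_prime_orderOf_dvd_card' (G := G) q (hcard ▸ dvd_mul_left q _)
  have hcompl : Subgroup.IsComplement' P (Subgroup.zpowers x) :=
    Subgroup.isComplement'_of_coprime (by rw [hPcard, Nat.card_zpowers, hx, hcard])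
      (by rw [hPcard, Nat.card_zpowers, hx]; exact hcop)
  have hordP : ∀ u ∈ P, u ≠ 1 → orderOf u = p := fun u hu h1 => orderOf_eq_prime (hPexp u hu) h1
  have hfree : ∀ g : G, orderOf g = q → ∀ u ∈ P, g * u = u * g → u = 1 := by
    intro g hg u hu hc
    by_contra h1
    exact hfpf g u hg (hordP u hu h1) (by rw [hc]; group)
  have hcases : ∀ g : G, g = 1 ∨ (g ∈ P ∧ orderOf g = p) ∨ orderOf g = q := by
    intro g
    have hd : orderOf g ∣ p ^ n * q := hcard ▸ orderOf_dvd_natCard g
    by_cases hqd : q ∣ orderOf g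
    · by_cases hpd : p ∣ orderOf g
      · exfalso
        have h0 := (orderOf_pos g).ne'
        refine hfpf (g ^ (orderOf g / q)) (g ^ (orderOf g / p))
          (orderOf_pow_orderOf_div h0 hqd) (orderOf_pow_orderOf_div h0 hpd) ?_
        rw [(Commute.pow_pow_self g _ _).eq, mul_inv_cancel_right]
      · right; right
        have hco : Nat.Coprime (orderOf g) (p ^ n) :=
          ((hp.out.coprime_iff_not_dvd.2 hpd).symm).pow_right n
        exact Nat.dvd_antisymm (hco.dvd_of_dvd_mul_left hd) hqd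
    · have hco : Nat.Coprime (orderOf g) q := (hq.out.coprime_iff_not_dvd.2 hqd).symm
      have hg : g ∈ P := hmemP g ⟨n, orderOf_dvd_iff_pow_eq_one.1 (hco.dvd_of_dvd_mul_right hd)⟩
      by_cases h1 : g = 1
      · exact Or.inl h1
      · exact Or.inr (Or.inl ⟨hg, hordP g hg h1⟩)
  set T := conjEnd (p := p) P x with hT
  have hsum := sum_eq_zero (p := p) P (hx ▸ pow_orderOf_eq_one x) (hfree x hx)
  obtain ⟨htrans, hconj⟩ := FpfPrim.exists_auto hpq hord T hsum
  have hext : ∀ (β : Additive P ≃+ Additive P) (i : ℕ), ¬ q ∣ i → (∀ v, β (T v) = (T ^ i) (β v)) →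
      ∃ Φ : MulAut G, (∀ v, Φ ((Additive.toMul v : P) : G) = ((Additive.toMul (β v) : P) : G)) ∧
        Φ x = x ^ i := by
    intro β i hi hβ
    have hβm : ∀ (m : ℕ) v, β ((T ^ m) v) = (T ^ (i * m)) (β v) := by
      intro m
      induction m with
      | zero => intro v; simp
      | succ m ih =>
        intro v
        rw [pow_succ, Module.End.mul_apply, ih, hβ, ← Module.End.mul_apply, ← pow_add, Nat.mul_succ]
    have hco : (Nat.card (Subgroup.zpowers x)).Coprime i := by
      rw [Nat.card_zpowers, hx]; exact hq.out.coprime_iff_not_dvd.2 hi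
    let fn : P ≃* P := MulEquiv.mk' (Additive.ofMul.trans (β.toEquiv.trans Additive.toMul)) fun a b =>
      congrArg Additive.toMul (map_add β (Additive.ofMul a) (Additive.ofMul b))
    let fg : Subgroup.zpowers x ≃* Subgroup.zpowers x :=
      MulEquiv.mk' (powCoprime hco) fun a b => (show Commute a b from mul_comm' a b).mul_pow i
    obtain ⟨Φ, h1, h2⟩ := exists_extend hcompl fn fg (by
      intro a v
      obtain ⟨m, hm⟩ := mem_powers_iff_mem_zpowers.2 a.2
      have := congrArg (fun w : Additive P => ((Additive.toMul w : P) : G)) (hβm m (Additive.ofMul v))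
      simp only [hT, ← map_pow] at this
      change ((Additive.toMul (β (Additive.ofMul ⟨(a : G) * v * (a : G)⁻¹, _⟩)) : P) : G) =
        ((a ^ i : Subgroup.zpowers x) : G) * ((Additive.toMul (β (Additive.ofMul v)) : P) : G) *
          ((a ^ i : Subgroup.zpowers x) : G)⁻¹
      rw [SubmonoidClass.coe_pow]
      simp only [← hm] at this ⊢
      rw [← pow_mul, mul_comm m i]
      rw [conjEnd_apply] at this
      rw [← this]
      congr 3)
    exact ⟨Φ, fun v => h1 (Additive.toMul v), h2 ⟨x, Subgroup.mem_zpowers x⟩⟩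
  have hPne : ∃ y, y ∈ P ∧ orderOf y = p := by
    haveI : Nontrivial P := Finite.one_lt_card_iff_nontrivial.1
      (hPcard ▸ one_lt_pow₀ hp.out.one_lt (by omega))
    obtain ⟨y, hy⟩ := exists_ne (1 : P)
    exact ⟨y, y.2, hordP y y.2 fun h => hy (Subtype.ext h)⟩
  obtain ⟨y, hyP, hy⟩ := hPne
  have hrelp : ∀ g ∈ P, g ≠ 1 → ∃ α : MulAut G, α y = g := by
    intro g hg hg1
    have hv : (Additive.ofMul (⟨y, hyP⟩ : P)) ≠ 0 := fun h => hp.out.ne_one (by
      rw [← hy, show y = 1 from congrArg (fun w : Additive P => ((Additive.toMul w : P) : G)) h, orderOf_one])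
    have hw : (Additive.ofMul (⟨g, hg⟩ : P)) ≠ 0 := fun h =>
      hg1 (congrArg (fun w : Additive P => ((Additive.toMul w : P) : G)) h)
    obtain ⟨β, hβ, hβv⟩ := htrans _ _ hv hw
    obtain ⟨Φ, hΦ, -⟩ := hext β 1 hq.out.not_dvd_one (by simpa using hβ)
    refine ⟨Φ, ?_⟩
    have := hΦ (Additive.ofMul (⟨y, hyP⟩ : P))
    rw [hβv] at this
    exact this
  have hrelq : ∀ g : G, orderOf g = q → ∃ α : MulAut G, α x = g := by
    intro g hg
    obtain ⟨u, hu, i, rfl⟩ := exists_decomp hcompl g
    have hi : ¬ q ∣ i := by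
      intro hd
      rw [(orderOf_dvd_iff_pow_eq_one.1 (hx ▸ hd) : x ^ i = 1), mul_one] at hg
      by_cases h1 : u = 1
      · rw [h1, orderOf_one] at hg; exact hq.out.ne_one hg.symm
      · exact hpq ((hordP u hu h1).symm.trans hg)
    obtain ⟨β, hβ⟩ := hconj i hi
    obtain ⟨Φ, -, hΦx⟩ := hext β i hi hβ
    have hzo : orderOf (x ^ i) = q := by
      rw [Nat.Coprime.orderOf_pow]
      · exact hx
      · rw [hx]; exact hq.out.coprime_iff_not_dvd.2 hi
    let δ : P → P := fun w => ⟨(w : G) * (x ^ i) * (w : G)⁻¹ * (x ^ i)⁻¹, by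
      rw [mul_assoc (w : G), mul_assoc (w : G)]
      exact P.mul_mem w.2 (hPn.conj_mem _ (P.inv_mem w.2) _)⟩
    have hδ : Function.Injective δ := by
      intro a b h
      have h' : (a : G) * (x ^ i) * (a : G)⁻¹ = (b : G) * (x ^ i) * (b : G)⁻¹ :=
        mul_right_cancel (congrArg Subtype.val h)
      have hc : x ^ i * ((b : G)⁻¹ * a) = ((b : G)⁻¹ * a) * x ^ i := by
        calc x ^ i * ((b : G)⁻¹ * a) = (b : G)⁻¹ * ((b : G) * x ^ i * (b : G)⁻¹) * a := by group
          _ = (b : G)⁻¹ * ((a : G) * x ^ i * (a : G)⁻¹) * a := by rw [h']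
          _ = ((b : G)⁻¹ * a) * x ^ i := by group
      have := hfree _ hzo _ (P.mul_mem (P.inv_mem b.2) a.2) hc
      exact Subtype.ext (inv_mul_eq_one.1 this).symm
    obtain ⟨w, hw⟩ := (Finite.injective_iff_surjective.1 hδ) ⟨u, hu⟩
    refine ⟨Φ.trans (MulAut.conj (w : G)), ?_⟩
    rw [MulEquiv.trans_apply, hΦx, MulAut.conj_apply]
    exact mul_inv_eq_iff_eq_mul.1 (congrArg Subtype.val hw)
  let f : Fin 3 → MulAction.orbitRel.Quotient (MulAut G) G :=
    ![Quotient.mk _ 1, Quotient.mk _ y, Quotient.mk _ x]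
  have hbij : Function.Bijective f := by
    constructor
    · intro i j hij
      fin_cases i <;> fin_cases j <;>
        first
          | rfl
          | (obtain ⟨α, hα⟩ := (rel_iff _ _).1 hij
             have := congrArg orderOf hα
             simp only [orderOf_aut, orderOf_one, hx, hy] at this
             first
               | exact absurd this hp.out.ne_one
               | exact absurd this.symm hp.out.ne_one
               | exact absurd this hq.out.ne_one
               | exact absurd this.symm hq.out.ne_one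
               | exact absurd this hpq
               | exact absurd this.symm hpq)
    · intro c
      obtain ⟨g, rfl⟩ := Quotient.exists_rep c
      rcases hcases g with rfl | ⟨hg, hgp⟩ | hgq
      · exact ⟨0, rfl⟩
      · obtain ⟨α, rfl⟩ := hrelp g hg (fun h => hp.out.ne_one (by rw [← hgp, h, orderOf_one]))
        exact ⟨1, ((rel_iff _ _).2 ⟨α, rfl⟩).symm⟩
      · obtain ⟨α, rfl⟩ := hrelq g hgq
        exact ⟨2, ((rel_iff _ _).2 ⟨α, rfl⟩).symm⟩
  rw [← Nat.card_eq_of_bijective f hbij, Nat.card_fin]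

open scoped IsMulCommutative in
theorem backward [Finite G] {p q n : ℕ} [hp : Fact p.Prime] [hq : Fact q.Prime] (hpq : p ≠ q)
    (hn : 1 ≤ n) (hcard : Nat.card G = p ^ n * q)
    (hP : ∀ P : Sylow p G, (P : Subgroup G).Normal ∧ Cfsg.IsElementaryAbelian p (P : Subgroup G))
    (hord : orderOf (p : ZMod q) = q - 1)
    (hfpf : ∀ x y : G, orderOf x = q → orderOf y = p → x * y * x⁻¹ ≠ y) :
    Nat.card (MulAction.orbitRel.Quotient (MulAut G) G) = 3 := by
  obtain ⟨S⟩ : Nonempty (Sylow p G) := inferInstance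
  obtain ⟨hSn, hSc, hSe⟩ := hP S
  haveI := hSn
  haveI := hSc
  have hmod : ∀ v : Additive (S : Subgroup G), p • v = 0 := fun v => by
    apply Additive.toMul.injective
    rw [toMul_nsmul, toMul_zero]
    exact Subtype.ext (by simpa using hSe _ (Additive.toMul v).2)
  letI : Module (ZMod p) (Additive (S : Subgroup G)) := AddCommGroup.zmodModule hmod
  refine backward_aux hpq hn hcard hord hfpf (S : Subgroup G) hSe ?_ ?_
  · rw [S.card_eq_multiplicity, hcard, Nat.factorization_mul (pow_pos hp.out.pos n).ne' hq.out.pos.ne',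
      Finsupp.add_apply, hp.out.factorization_pow, hq.out.factorization,
      Finsupp.single_eq_same, Finsupp.single_eq_of_ne hpq, add_zero]
  · rintro g ⟨k, hk⟩
    have hg : IsPGroup p (Subgroup.zpowers g) := by
      obtain ⟨j, -, hj⟩ := (Nat.dvd_prime_pow hp.out).1 (orderOf_dvd_of_pow_eq_one hk)
      exact IsPGroup.of_card (n := j) (by rw [Nat.card_zpowers, hj])
    obtain ⟨S', hS'⟩ := hg.exists_le_sylow
    letI := Sylow.unique_of_normal S hSn
    exact (Subsingleton.elim S' S) ▸ hS' (Subgroup.mem_zpowers g)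

end Cfsg.Agent.ThreeOrbits
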