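import Cfsg.Agent.Lib.Transfer.Basic
import Cfsg.Agent.Lib.Solvable.Basic

/-!
# Real elements with centraliser containing a Sylow 2-subgroup; real odd elements in solvable groups
-/

set_option autoImplicit false
set_option linter.style.haveILetI false

open scoped Pointwise

universe u

namespace Cfsg.Agent.TwoCentral

/-- The 2-part of an inverting element inverts. -/
theorem exists_two_inverting {G : Type u} [Group G] [Finite G] {x g : G} (hg : g * x * g⁻¹ = x⁻¹) :
    ∃ (u : G) (k : ℕ), u * x * u⁻¹ = x⁻¹ ∧ orderOf u = 2 ^ k := by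
  haveI : Fact (Nat.Prime 2) := ⟨Nat.prime_two⟩
  obtain ⟨u, v, huv, -, hv, ⟨k, hk⟩, hvo⟩ := PBasic.exists_pPart_mul (p := 2) g
  obtain ⟨i, hi⟩ := Subgroup.mem_zpowers_iff.1 hv
  have h3 : g * x⁻¹ * g⁻¹ = x := by
    have := congrArg (·⁻¹) hg
    simpa [mul_assoc] using this
  have h2 : Commute (g * g) x := by
    show g * g * x = x * (g * g)
    calc g * g * x = g * (g * x * g⁻¹) * g := by group
      _ = g * x⁻¹ * g := by rw [hg]
      _ = g * x⁻¹ * g⁻¹ * (g * g) := by group
      _ = x * (g * g) := by rw [h3]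
  have hv2 : Commute (v * v) x := by
    have : v * v = (g * g) ^ i := by rw [← hi, (Commute.refl g).mul_zpow]
    rw [this]; exact h2.zpow_left i
  have hvx : Commute v x := by
    obtain ⟨j, hj⟩ := exists_pow_eq_self_of_coprime (x := v) (n := 2) hvo.symm
    rw [← hj, sq]; exact hv2.pow_left j
  refine ⟨u, k, ?_, hk⟩
  rw [← hg, ← huv]
  calc u * x * u⁻¹ = u * (v * x * v⁻¹) * u⁻¹ := by rw [hvx.eq, mul_inv_cancel_right]
    _ = u * v * x * (u * v)⁻¹ := by group

/-- A real element centralised by a Sylow 2-subgroup squares to one. -/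
theorem mul_self_eq_one {G : Type u} [Group G] [Finite G] (S : Sylow 2 G) {x : G}
    (hxS : ∀ s ∈ (S : Subgroup G), x * s = s * x) (hx : IsConj x x⁻¹) : x * x = 1 := by
  haveI : Fact (Nat.Prime 2) := ⟨Nat.prime_two⟩
  obtain ⟨g, hg⟩ := isConj_iff.1 hx
  obtain ⟨u, k, hu, hk⟩ := exists_two_inverting hg
  set C := Subgroup.centralizer ({x} : Set G) with hC
  set N := Subgroup.normalizer (C : Set G) with hN
  have e : ∀ h : G, h ∈ C ↔ Commute h x := fun h => by
    rw [hC, Subgroup.mem_centralizer_iff]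
    exact ⟨fun h' => (h' x rfl).symm, fun h' y hy => by rw [Set.mem_singleton_iff.1 hy]; exact h'.symm⟩
  have huN : u ∈ N := by
    rw [hN, Subgroup.mem_normalizer_iff]
    intro h
    rw [e, e]
    have h1 : Commute h x ↔ Commute (u * h * u⁻¹) (u * x * u⁻¹) := (Commute.conj_iff u).symm
    rw [h1, hu, Commute.inv_right_iff]
  have hSC : (S : Subgroup G) ≤ C := fun s hs => (e s).2 (hxS s hs).symm
  have hSN : (S : Subgroup G) ≤ N := hSC.trans Subgroup.le_normalizer
  have hpu : IsPGroup 2 (Subgroup.zpowers (⟨u, huN⟩ : N)) :=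
    IsPGroup.of_card (n := k) (by rw [Nat.card_zpowers, Subgroup.orderOf_mk, hk])
  obtain ⟨T, hT⟩ := hpu.exists_le_sylow
  obtain ⟨n, hn⟩ := MulAction.exists_smul_eq N (S.subtype hSN) T
  have huT : (⟨u, huN⟩ : N) ∈ ((n • S.subtype hSN : Sylow 2 N) : Subgroup N) :=
    hn ▸ hT (Subgroup.mem_zpowers _)
  rw [Sylow.coe_subgroup_smul, Subgroup.mem_pointwise_smul_iff_inv_smul_mem] at huT
  have huT' : (n : G)⁻¹ * u * (n : G) ∈ (S : Subgroup G) := by
    simpa [MulAut.smul_def, Subgroup.mem_subgroupOf, Sylow.subtype, Sylow.comapOfInjective,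
      Sylow.comapOfKerIsPGroup, mul_assoc] using huT
  have huC : u ∈ C := by
    have := (Subgroup.mem_normalizer_iff.1 n.2 _).1 (hSC huT')
    simpa [mul_assoc] using this
  have hxx : x = x⁻¹ := by
    rw [← hu, ← Subgroup.mem_centralizer_iff.1 huC x rfl, mul_inv_cancel_right]
  nth_rw 2 [hxx]
  rw [mul_inv_cancel]

/-- In a solvable group no non-trivial odd element normalising a Sylow 2-subgroup is real. -/
theorem not_isConj_inv : ∀ (n : ℕ) (G : Type u) [Group G] [Finite G] [Group.IsSolvable G],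
    Nat.card G = n → ∀ (S : Sylow 2 G) (x : G), x ≠ 1 → Odd (orderOf x) →
      x ∈ Subgroup.normalizer ((S : Subgroup G) : Set G) → ¬ IsConj x x⁻¹ := by
  intro n
  induction n using Nat.strong_induction_on with
  | _ n ih =>
    intro G _ _ _ hn S x hx hodd hnorm hconj
    haveI : Fact (Nat.Prime 2) := ⟨Nat.prime_two⟩
    haveI : Nontrivial G := ⟨⟨x, 1, hx⟩⟩
    obtain ⟨N, q, hq, hNn, hN1, -, hNc, hNexp, hNq, -⟩ :=
      SolvBasic.exists_minimal_normal_abelian (N := (⊤ : Subgroup G)) inferInstance top_ne_bot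
    haveI := hNn
    set π := QuotientGroup.mk' N
    by_cases hxN : x ∈ N
    swap
    · have hlt : Nat.card (G ⧸ N) < n := by
        rw [← hn, Subgroup.card_eq_card_quotient_mul_card_subgroup N]
        have h1 : 1 < Nat.card N := by
          rw [Finite.one_lt_card_iff_nontrivial, Subgroup.nontrivial_iff_ne_bot]; exact hN1
        have h2 : 0 < Nat.card (G ⧸ N) := Nat.card_pos
        nlinarith
      haveI : Group.IsSolvable (G ⧸ N) :=
        Group.isSolvable_of_surjective (QuotientGroup.mk'_surjective N)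
      refine ih (Nat.card (G ⧸ N)) hlt (G ⧸ N) rfl (S.mapSurjective (QuotientGroup.mk'_surjective N))
        (π x) ?_ ?_ ?_ ?_
      · exact fun h => hxN ((QuotientGroup.eq_one_iff x).1 h)
      · exact hodd.of_dvd_nat (orderOf_map_dvd π x)
      · exact Subgroup.le_normalizer_map π (Subgroup.mem_map_of_mem π hnorm)
      · rw [← map_inv]; exact MonoidHom.map_isConj π hconj
    -- now `x ∈ N`, a group of odd order
    have hq2 : q ≠ 2 := by
      intro h
      subst h
      have h1 : orderOf x ∣ 2 := orderOf_dvd_of_pow_eq_one (hNexp x hxN)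
      rcases (Nat.dvd_prime Nat.prime_two).1 h1 with h2 | h2
      · exact hx (orderOf_eq_one_iff.1 h2)
      · rw [h2] at hodd; exact absurd hodd (by decide)
    haveI := Fact.mk hq
    have hdis : Disjoint N (S : Subgroup G) := IsPGroup.disjoint_of_ne q 2 hq2 _ _ hNq S.isPGroup'
    have hc : ∀ s ∈ (S : Subgroup G), x * s = s * x := by
      intro s hs
      have h1 : x * s * x⁻¹ * s⁻¹ ∈ N := by
        rw [mul_assoc, mul_assoc, ← mul_assoc s]
        exact N.mul_mem hxN (hNn.conj_mem _ (N.inv_mem hxN) s)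
      have h2 : x * s * x⁻¹ * s⁻¹ ∈ (S : Subgroup G) :=
        Subgroup.mul_mem _ ((Subgroup.mem_normalizer_iff.1 hnorm s).1 hs) (Subgroup.inv_mem _ hs)
      have h3 := Subgroup.disjoint_def.1 hdis h1 h2
      exact mul_inv_eq_iff_eq_mul.1 (mul_inv_eq_one.1 h3)
    have h4 : orderOf x ∣ 2 := orderOf_dvd_of_pow_eq_one (by rw [sq]; exact mul_self_eq_one S hc hconj)
    rcases (Nat.dvd_prime Nat.prime_two).1 h4 with h5 | h5
    · exact hx (orderOf_eq_one_iff.1 h5)
    · rw [h5] at hodd; exact absurd hodd (by decide)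

end Cfsg.Agent.TwoCentral
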