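import Mathlib.NumberTheory.Bertrand
import Mathlib.Data.Nat.Size

/-!
Two primes `p, q` in `[m / 2, m]` at distance at least four, a strengthening of Bertrand's postulate.
-/

set_option autoImplicit false

namespace Cfsg.Agent.TwoPrimes

open Nat Finset

lemma eight_mul_le_two_pow {t : ℕ} (ht : 7 ≤ t) : 8 * t ≤ 2 ^ (t - 1) := by
  induction t, ht using Nat.le_induction with
  | base => norm_num
  | succ n hn ih =>
    obtain ⟨k, rfl⟩ : ∃ k, n = k + 1 := ⟨n - 1, by omega⟩
    simp only [Nat.add_sub_cancel] at ih ⊢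
    rw [pow_succ]; omega

lemma main_inequality {n : ℕ} (hn : 2048 ≤ n) :
    n * (2 * n) ^ 2 * (2 * n) ^ sqrt (2 * n) * 4 ^ (2 * n / 3) ≤ 4 ^ n := by
  set s := sqrt (2 * n) with hs
  have hs64 : 64 ≤ s := by rw [hs, Nat.le_sqrt]; omega
  have hs2 : s * s ≤ 2 * n := Nat.sqrt_le _
  have hlt : 2 * n < (s + 1) * (s + 1) := Nat.lt_succ_sqrt _
  set t := Nat.size s with ht
  have hst : s < 2 ^ t := Nat.lt_size_self s
  have ht7 : 7 ≤ t := Nat.lt_size.2 (by norm_num; omega)
  have ht8 : 8 * t ≤ s := by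
    refine (eight_mul_le_two_pow ht7).trans ?_
    rw [← Nat.lt_size]; omega
  have h2n : 2 * n ≤ 4 ^ t := by
    calc 2 * n ≤ (s + 1) * (s + 1) := hlt.le
      _ ≤ 2 ^ t * 2 ^ t := Nat.mul_le_mul hst hst
      _ = 4 ^ t := by rw [← mul_pow]; norm_num
  have hexp : t * (s + 3) + 2 * n / 3 ≤ n := by
    have h6 : 6 * t * (s + 3) ≤ 2 * n := by nlinarith
    have h3 : 3 * (t * (s + 3)) ≤ n := by linarith
    omega
  calc n * (2 * n) ^ 2 * (2 * n) ^ s * 4 ^ (2 * n / 3)
      ≤ (2 * n) * (2 * n) ^ 2 * (2 * n) ^ s * 4 ^ (2 * n / 3) := by gcongr; omega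
    _ = (2 * n) ^ (s + 3) * 4 ^ (2 * n / 3) := by ring
    _ ≤ (4 ^ t) ^ (s + 3) * 4 ^ (2 * n / 3) := by gcongr
    _ ≤ 4 ^ n := by
      rw [← pow_mul, ← pow_add]
      exact Nat.pow_le_pow_right (by norm_num) hexp

lemma centralBinom_le_of_few_primes (n : ℕ) (n_large : 2 < n)
    (few : #({p ∈ Ioc n (2 * n) | p.Prime}) ≤ 2) :
    centralBinom n ≤ (2 * n) ^ sqrt (2 * n) * 4 ^ (2 * n / 3) * (2 * n) ^ 2 := by
  have n_pos : 0 < n := (Nat.zero_le _).trans_lt n_large
  have n2_pos : 1 ≤ 2 * n := mul_pos (zero_lt_two' ℕ) n_pos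
  let f x := x ^ n.centralBinom.factorization x
  have hbound : ∀ p, f p ≤ 2 * n := fun p => pow_factorization_choose_le (by omega)
  have hprod : centralBinom n = (∏ x ∈ range (2 * n / 3 + 1), f x) * ∏ x ∈ Ico (2 * n / 3 + 1) (2 * n + 1), f x := by
    rw [Finset.prod_range_mul_prod_Ico _ (by omega)]
    exact (n.prod_pow_factorization_centralBinom).symm
  have htail : ∏ x ∈ Ico (2 * n / 3 + 1) (2 * n + 1), f x ≤ (2 * n) ^ 2 := by
    rw [← Finset.prod_subset (s₁ := {p ∈ Ioc n (2 * n) | p.Prime})]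
    · refine (Finset.prod_le_prod' fun p _ => hbound p).trans ?_
      rw [Finset.prod_const]
      exact Nat.pow_le_pow_right n2_pos few
    · intro p hp
      simp only [mem_filter, mem_Ioc] at hp
      simp only [mem_Ico]
      omega
    · intro p hp hnp
      simp only [mem_filter, mem_Ioc, mem_Ico, not_and] at hp hnp
      simp only [f]
      by_cases hpp : p.Prime
      · have hle : p ≤ n := by
          by_contra hlt
          exact hnp ⟨by omega, by omega⟩ hpp
        rw [factorization_centralBinom_of_two_mul_self_lt_three_mul n_large hle (by omega), Nat.pow_zero]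
      · rw [factorization_eq_zero_of_not_prime n.centralBinom hpp, Nat.pow_zero]
  rw [hprod]
  refine Nat.mul_le_mul ?_ htail
  let S := {p ∈ Finset.range (2 * n / 3 + 1) | Nat.Prime p}
  have : ∏ x ∈ S, f x = ∏ x ∈ Finset.range (2 * n / 3 + 1), f x := by
    refine Finset.prod_filter_of_ne fun p _ h => ?_
    contrapose h; dsimp only [f]
    rw [factorization_eq_zero_of_not_prime n.centralBinom h, _root_.pow_zero]
  rw [← this, ← Finset.prod_filter_mul_prod_filter_not S (· ≤ sqrt (2 * n))]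
  apply Nat.mul_le_mul
  · refine (Finset.prod_le_prod' fun p _ => hbound p).trans ?_
    have : (Finset.Icc 1 (sqrt (2 * n))).card = sqrt (2 * n) := by rw [card_Icc, Nat.add_sub_cancel]
    rw [Finset.prod_const]
    refine pow_right_mono₀ n2_pos ((Finset.card_le_card fun x hx => ?_).trans this.le)
    obtain ⟨h1, h2⟩ := Finset.mem_filter.1 hx
    exact Finset.mem_Icc.mpr ⟨(Finset.mem_filter.1 h1).2.one_lt.le, h2⟩
  · refine le_trans ?_ (primorial_le_four_pow (2 * n / 3))
    refine (Finset.prod_le_prod' fun p hp => (?_ : f p ≤ p)).trans ?_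
    · obtain ⟨h1, h2⟩ := Finset.mem_filter.1 hp
      refine (pow_right_mono₀ (Finset.mem_filter.1 h1).2.one_lt.le ?_).trans (pow_one p).le
      exact Nat.factorization_choose_le_one (sqrt_lt'.mp <| not_le.1 h2)
    refine Finset.prod_le_prod_of_subset_of_one_le' (Finset.filter_subset _ _) ?_
    exact fun p hp _ => (Finset.mem_filter.1 hp).2.one_lt.le

lemma exists_three_primes {n : ℕ} (hn : 2048 ≤ n) :
    2 < #({p ∈ Ioc n (2 * n) | p.Prime}) := by
  by_contra hfew
  push Not at hfew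
  have h1 := Nat.four_pow_lt_mul_centralBinom n (by omega)
  have h2 := Nat.mul_le_mul_left n (centralBinom_le_of_few_primes n (by omega) hfew)
  have h3 := main_inequality hn
  have h4 : n * ((2 * n) ^ sqrt (2 * n) * 4 ^ (2 * n / 3) * (2 * n) ^ 2) =
      n * (2 * n) ^ 2 * (2 * n) ^ sqrt (2 * n) * 4 ^ (2 * n / 3) := by ring
  omega

/-- The possible shapes of the pair of primes. -/
def GoodPair (m p q : ℕ) : Prop :=
  p.Prime ∧ q.Prime ∧ p < q ∧ q ≤ m ∧ m ≤ 2 * p ∧
    ((p + 3 ≤ q ∧ (m < 2 * p ∨ q + 3 ≤ 2 * p)) ∨ (p = 3 ∧ q = 5) ∨ (p = 5 ∧ q = 7) ∨ (p = 11 ∧ q = 13))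

lemma step {m p q : ℕ} (a b : ℕ) (ha : a.Prime) (hb : b.Prime) (hab : a + 3 ≤ b) (hq : b ≤ p)
    (hcov : q ≤ 2 * a) (h1 : p ≤ m) (h2 : m < q) : ∃ x y, GoodPair m x y :=
  ⟨a, b, ha, hb, by omega, by omega, by omega, Or.inl ⟨hab, Or.inl (by omega)⟩⟩

theorem exists_goodPair (m : ℕ) (hm : 5 ≤ m) : ∃ p q, GoodPair m p q := by
  by_cases hbig : 4766 ≤ m
  · set n := m / 2 with hn
    obtain ⟨a, b, c, ha, hb, hc, hab, hac, hbc⟩ :=
      Finset.two_lt_card_iff.1 (exists_three_primes (n := n) (by omega))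
    simp only [mem_filter, mem_Ioc] at ha hb hc
    have odd : ∀ z, z.Prime → n < z → z % 2 = 1 := fun z hz hlt => by
      rcases hz.eq_two_or_odd with h | h
      · omega
      · exact h
    have oa := odd a ha.2 ha.1.1
    have ob := odd b hb.2 hb.1.1
    have oc := odd c hc.2 hc.1.1
    have hpair : ∀ x y, (n < x ∧ x ≤ 2 * n) → x.Prime → (n < y ∧ y ≤ 2 * n) → y.Prime → x + 3 ≤ y →
        ∃ p q, GoodPair m p q := fun x y hx hxp hy hyp hxy =>
      ⟨x, y, hxp, hyp, by omega, by omega, by omega, Or.inl ⟨hxy, Or.inl (by omega)⟩⟩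
    rcases (show a + 3 ≤ b ∨ a + 3 ≤ c ∨ b + 3 ≤ a ∨ b + 3 ≤ c ∨ c + 3 ≤ a ∨ c + 3 ≤ b by omega)
      with h | h | h | h | h | h
    · exact hpair a b ha.1 ha.2 hb.1 hb.2 h
    · exact hpair a c ha.1 ha.2 hc.1 hc.2 h
    · exact hpair b a hb.1 hb.2 ha.1 ha.2 h
    · exact hpair b c hb.1 hb.2 hc.1 hc.2 h
    · exact hpair c a hc.1 hc.2 ha.1 ha.2 h
    · exact hpair c b hc.1 hc.2 hb.1 hb.2 h
  by_cases h7 : m < 7
  · exact ⟨3, 5, by norm_num, by norm_num, by omega, by omega, by omega, Or.inr (Or.inl ⟨rfl, rfl⟩)⟩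
  by_cases h11 : m < 11
  · exact ⟨5, 7, by norm_num, by norm_num, by omega, by omega, by omega, Or.inr (Or.inr (Or.inl ⟨rfl, rfl⟩))⟩
  by_cases h15 : m < 15
  · exact ⟨7, 11, by norm_num, by norm_num, by omega, by omega, by omega,
      Or.inl ⟨by omega, by omega⟩⟩
  by_cases h17 : m < 17
  · exact ⟨11, 13, by norm_num, by norm_num, by omega, by omega, by omega, Or.inr (Or.inr (Or.inr ⟨rfl, rfl⟩))⟩
  by_cases c1 : m < 22
  · exact step (p := 17) (q := 22) 11 17 (by norm_num) (by norm_num) (by omega) (by omega) (by omega) (by omega) c1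
  by_cases c2 : m < 26
  · exact step (p := 19) (q := 26) 13 19 (by norm_num) (by norm_num) (by omega) (by omega) (by omega) (by omega) c2
  by_cases c3 : m < 34
  · exact step (p := 23) (q := 34) 17 23 (by norm_num) (by norm_num) (by omega) (by omega) (by omega) (by omega) c3
  by_cases c4 : m < 46
  · exact step (p := 31) (q := 46) 23 31 (by norm_num) (by norm_num) (by omega) (by omega) (by omega) (by omega) c4
  by_cases c5 : m < 58
  · exact step (p := 37) (q := 58) 29 37 (by norm_num) (by norm_num) (by omega) (by omega) (by omega) (by omega) c5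
  by_cases c6 : m < 94
  · exact step (p := 53) (q := 94) 47 53 (by norm_num) (by norm_num) (by omega) (by omega) (by omega) (by omega) c6
  by_cases c7 : m < 166
  · exact step (p := 89) (q := 166) 83 89 (by norm_num) (by norm_num) (by omega) (by omega) (by omega) (by omega) c7
  by_cases c8 : m < 314
  · exact step (p := 163) (q := 314) 157 163 (by norm_num) (by norm_num) (by omega) (by omega) (by omega) (by omega) c8
  by_cases c9 : m < 614
  · exact step (p := 311) (q := 614) 307 311 (by norm_num) (by norm_num) (by omega) (by omega) (by omega) (by omega) c9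
  by_cases c10 : m < 1214
  · exact step (p := 613) (q := 1214) 607 613 (by norm_num) (by norm_num) (by omega) (by omega) (by omega) (by omega) c10
  by_cases c11 : m < 2402
  · exact step (p := 1213) (q := 2402) 1201 1213 (by norm_num) (by norm_num) (by omega) (by omega) (by omega) (by omega) c11
  · exact step (p := 2389) (q := 4766) 2383 2389 (by norm_num) (by norm_num) (by omega) (by omega) (by omega) (by omega) (by omega)

end Cfsg.Agent.TwoPrimes
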