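import Cfsg.Agent.Lib.Perm.Modules
import Mathlib

/-!
Fixed points of a 2-group on a module in characteristic two, counted by orbits on the weights of an abelian
normal subgroup of odd exponent on which a further operator acts without fixed weights.
-/

set_option autoImplicit false
set_option linter.style.haveILetI false

namespace Cfsg.Agent.WeightFixed

open Module

variable {S : Type*} [Group S] {K : Type*} [Field K] {V : Type*} [AddCommGroup V] [Module K V]
  (R : Representation K S V) (A : Subgroup S)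

/-- The common eigenspace for a function on the abelian subgroup. -/
def W (χ : A → K) : Submodule K V := ⨅ a : A, Module.End.eigenspace (R a) (χ a)

theorem mem_W {χ : A → K} {v : V} : v ∈ W R A χ ↔ ∀ a : A, R a v = χ a • v := by
  simp [W, Submodule.mem_iInf, Module.End.mem_eigenspace_iff]

theorem indep (hA : ∀ a ∈ A, ∀ b ∈ A, a * b = b * a) : iSupIndep (W R A) := by
  refine (Module.End.independent_iInf_maxGenEigenspace_of_forall_mapsTo (fun a : A => R a)
    fun i j φ => ?_).mono fun χ => iInf_mono fun a => Module.End.genEigenspace_le_maximal _ _ 1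
  exact Module.End.mapsTo_maxGenEigenspace_of_comm
    (show Commute (R j) (R i) from (show Commute (j : S) i from hA j j.2 i i.2).map R) φ

/-- The sum of the eigenspaces over a set of functions. -/
def U (O : Set (A → K)) : Submodule K V := ⨆ χ ∈ O, W R A χ

theorem U_mono {O O' : Set (A → K)} (h : O ⊆ O') : U R A O ≤ U R A O' := biSup_mono fun _ hc => h hc

theorem U_disjoint (hA : ∀ a ∈ A, ∀ b ∈ A, a * b = b * a) {O O' : Set (A → K)} (h : Disjoint O O') :
    Disjoint (U R A O) (U R A O') := (indep R A hA).disjoint_biSup_biSup h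

theorem U_inf (hA : ∀ a ∈ A, ∀ b ∈ A, a * b = b * a) (O O' : Set (A → K)) :
    U R A O ⊓ U R A O' ≤ U R A (O ∩ O') := by
  have h1 : U R A O = U R A (O ∩ O') ⊔ U R A (O \ O') := by
    rw [U, U, U, ← iSup_union, Set.inter_union_sdiff]
  rw [h1, sup_inf_assoc_of_le _ (U_mono R A Set.inter_subset_right)]
  refine sup_le le_rfl ?_
  rw [(U_disjoint R A hA (Set.disjoint_sdiff_left)).eq_bot]
  exact bot_le

variable [A.Normal]

/-- Conjugation on functions on the normal subgroup. -/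
def act (s : S) (χ : A → K) : A → K :=
  fun a => χ ⟨s⁻¹ * a * s, by simpa using Subgroup.Normal.conj_mem (H := A) inferInstance _ a.2 s⁻¹⟩

theorem act_mul (s t : S) (χ : A → K) : act A (s * t) χ = act A s (act A t χ) := by
  funext a
  exact congrArg χ (Subtype.ext (by simp [mul_assoc]))

theorem act_one (χ : A → K) : act A (1 : S) χ = χ := by
  funext a
  exact congrArg χ (Subtype.ext (by simp))

theorem map_mem_W (s : S) {χ : A → K} {v : V} (hv : v ∈ W R A χ) : R s v ∈ W R A (act A s χ) := by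
  rw [mem_W] at hv ⊢
  intro a
  have h : R (s⁻¹ * a * s) v = act A s χ a • v :=
    hv ⟨s⁻¹ * a * s, by simpa using Subgroup.Normal.conj_mem (H := A) inferInstance _ a.2 s⁻¹⟩
  calc R (a : S) (R s v) = R s (R (s⁻¹ * a * s) v) := by
        rw [← Module.End.mul_apply, ← map_mul, ← Module.End.mul_apply, ← map_mul]
        congr 2; group
    _ = _ := by rw [h, map_smul]

theorem map_mem_U (s : S) {O : Set (A → K)} {v : V} (hv : v ∈ U R A O) :
    R s v ∈ U R A (act A s '' O) := by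
  have h : U R A O ≤ (U R A (act A s '' O)).comap (R s) := by
    refine iSup₂_le fun χ hχ w hw => ?_
    exact Submodule.mem_iSup_of_mem (act A s χ)
      (Submodule.mem_iSup_of_mem ⟨χ, hχ, rfl⟩ (map_mem_W R A s hw))
  exact h hv

/-- The orbit of a function under a subgroup. -/
def orb (P : Subgroup S) (χ : A → K) : Set (A → K) := {ψ | ∃ s ∈ P, ψ = act A s χ}

theorem self_mem_orb (P : Subgroup S) (χ : A → K) : χ ∈ orb A P χ := ⟨1, one_mem P, (act_one A χ).symm⟩

theorem orb_eq (P : Subgroup S) {χ ψ : A → K} (h : ψ ∈ orb A P χ) : orb A P ψ = orb A P χ := by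
  obtain ⟨s, hs, rfl⟩ := h
  ext φ
  constructor
  · rintro ⟨t, ht, rfl⟩
    exact ⟨t * s, mul_mem ht hs, (act_mul A t s χ).symm⟩
  · rintro ⟨t, ht, rfl⟩
    exact ⟨t * s⁻¹, mul_mem ht (inv_mem hs), by rw [← act_mul, inv_mul_cancel_right]⟩

theorem act_image_orb (P : Subgroup S) (χ : A → K) {s : S} (hs : s ∈ P) :
    act A s '' orb A P χ = orb A P χ := by
  ext φ
  constructor
  · rintro ⟨_, ⟨t, ht, rfl⟩, rfl⟩
    exact ⟨s * t, mul_mem hs ht, (act_mul A s t χ).symm⟩
  · rintro ⟨t, ht, rfl⟩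
    exact ⟨_, ⟨s⁻¹ * t, mul_mem (inv_mem hs) ht, rfl⟩, by rw [← act_mul, mul_inv_cancel_left]⟩

theorem orb_finite [Finite S] (P : Subgroup S) (χ : A → K) : (orb A P χ).Finite := by
  refine ((Set.finite_univ (α := S)).image fun s => act A s χ).subset ?_
  rintro _ ⟨s, -, rfl⟩
  exact ⟨s, trivial, rfl⟩

theorem orb_card [Finite S] (P : Subgroup S) (χ : A → K) : (orb A P χ).ncard ∣ Nat.card P := by
  letI : MulAction P (A → K) :=
    { smul := fun s ψ => act A (s : S) ψ
      one_smul := fun ψ => act_one A ψ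
      mul_smul := fun s t ψ => act_mul A (s : S) t ψ }
  have h : orb A P χ = MulAction.orbit P χ := by
    ext ψ
    exact ⟨fun ⟨s, hs, e⟩ => ⟨⟨s, hs⟩, e.symm⟩, fun ⟨s, e⟩ => ⟨s, s.2, e.symm⟩⟩
  rw [h, ← Nat.card_coe_set_eq, Nat.card_congr (MulAction.orbitEquivQuotientStabilizer P χ)]
  exact (MulAction.stabilizer P χ).index_dvd_card

/-- The fixed vectors of a subgroup. -/
def Fix (P : Subgroup S) : Submodule K V := ⨅ s : P, Module.End.eigenspace (R s) 1

theorem mem_Fix {P : Subgroup S} {v : V} : v ∈ Fix R P ↔ ∀ s ∈ P, R s v = v := by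
  simp [Fix, Submodule.mem_iInf, Module.End.mem_eigenspace_iff]

variable {R A}

theorem exists_fixed [Finite S] [CharP K 2] {P : Subgroup S} (hP : IsPGroup 2 P) {χ : A → K} {v : V}
    (hv : v ∈ W R A χ) (hv0 : v ≠ 0) :
    ∃ w ∈ U R A (orb A P χ), w ≠ 0 ∧ w ∈ Fix R P := by
  haveI : Fact (Nat.Prime 2) := ⟨Nat.prime_two⟩
  obtain ⟨w, hwU, hw0, hw⟩ := PermModules.exists_fixed_vector (p := 2) hP (R.comp P.subtype)
    (U R A (orb A P χ))
    (fun g u hu => by
      have h := map_mem_U R A (g : S) hu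
      rwa [act_image_orb A P χ g.2] at h)
    (show v ∈ U R A (orb A P χ) from
      Submodule.mem_iSup_of_mem χ (Submodule.mem_iSup_of_mem (self_mem_orb A P χ) hv)) hv0
  exact ⟨w, hwU, hw0, (mem_Fix R).2 fun s hs => hw ⟨s, hs⟩⟩

theorem orb_subset [Finite S] (hA : ∀ a ∈ A, ∀ b ∈ A, a * b = b * a) {P : Subgroup S} {χ : A → K} {w : V}
    (hw : w ∈ U R A (orb A P χ)) (hw0 : w ≠ 0) (hfix : w ∈ Fix R P) {J : Set (A → K)} (hJ : w ∈ U R A J) :
    orb A P χ ⊆ J := by
  intro ψ hψ
  by_contra hψJ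
  have h0 : w ∈ U R A (orb A P χ \ {ψ}) := by
    refine U_mono R A ?_ (U_inf R A hA _ _ (Submodule.mem_inf.2 ⟨hw, hJ⟩))
    exact fun φ hφ => ⟨hφ.1, fun e => hψJ (Set.mem_singleton_iff.1 e ▸ hφ.2)⟩
  have hall : ∀ φ ∈ orb A P χ, w ∈ U R A (orb A P χ \ {φ}) := by
    intro φ hφ
    rw [← orb_eq A P hψ] at hφ
    obtain ⟨s, hs, rfl⟩ := hφ
    have h := map_mem_U R A s h0
    rw [(mem_Fix R).1 hfix s hs] at h
    refine U_mono R A ?_ h
    rintro _ ⟨φ', hφ', rfl⟩
    refine ⟨act_image_orb A P χ hs ▸ Set.mem_image_of_mem _ hφ'.1, fun e => hφ'.2 ?_⟩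
    have e' := congrArg (act A s⁻¹) (Set.mem_singleton_iff.1 e)
    simpa [← act_mul, act_one] using e'
  have key : ∀ F : Finset (A → K), (↑F ⊆ orb A P χ) → w ∈ U R A (orb A P χ \ ↑F) := by
    classical
    intro F
    induction F using Finset.induction_on with
    | empty => intro _; simpa using hw
    | insert φ F _ ih =>
      intro hF
      rw [Finset.coe_insert, Set.insert_subset_iff] at hF
      refine U_mono R A ?_ (U_inf R A hA _ _ (Submodule.mem_inf.2 ⟨hall φ hF.1, ih hF.2⟩))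
      rw [Finset.coe_insert]
      rintro η ⟨⟨hη, h1⟩, -, h2⟩
      exact ⟨hη, fun h => h.elim (fun e => h1 e) h2⟩
  by_cases hfin : (orb A P χ).Finite
  · have h := key hfin.toFinset (by simp)
    rw [Set.Finite.coe_toFinset, Set.sdiff_self, U] at h
    simp at h
    exact hw0 h
  · exact hfin (Set.finite_range (fun s : P => act A (s : S) χ) |>.subset fun φ ⟨s, hs, e⟩ => ⟨⟨s, hs⟩, e.symm⟩)

theorem exists_weight [FiniteDimensional K V] [IsAlgClosed K] (hA : ∀ a ∈ A, ∀ b ∈ A, a * b = b * a) {p : ℕ}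
    (hpK : (p : K) ≠ 0) {a₀ : A} (hp : (a₀ : S) ^ p = 1) (ha₀ : R (a₀ : S) ≠ 1) :
    ∃ (χ : A → K) (v : V), v ≠ 0 ∧ v ∈ W R A χ ∧ χ a₀ ≠ 1 := by
  obtain ⟨u, hu⟩ : ∃ u, R (a₀ : S) u ≠ u := by
    by_contra h
    push Not at h
    exact ha₀ (LinearMap.ext h)
  set T := R (a₀ : S)
  set N : Submodule K V := LinearMap.ker (∑ i ∈ Finset.range p, T ^ i)
  have hTN : ∀ v ∈ N, T v ∈ N := by
    intro v hv
    rw [LinearMap.mem_ker] at hv ⊢
    have hc : Commute (∑ i ∈ Finset.range p, T ^ i) T :=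
      Commute.sum_left _ _ _ fun i _ => (Commute.refl T).pow_left i
    rw [← Module.End.mul_apply, hc.eq, Module.End.mul_apply, hv, map_zero]
  have huN : T u - u ∈ N := by
    rw [LinearMap.mem_ker]
    have h := geom_sum_mul T p
    rw [← map_pow, hp, map_one, sub_self] at h
    have h2 := LinearMap.congr_fun h u
    simpa [Module.End.mul_apply] using h2
  haveI : Nontrivial N := ⟨⟨⟨_, huN⟩, 0, fun e => hu (sub_eq_zero.1 (congrArg Subtype.val e))⟩⟩
  obtain ⟨μ, hμ⟩ := Module.End.exists_eigenvalue (T.restrict hTN)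
  obtain ⟨w, hw⟩ := hμ.exists_hasEigenvector
  have hTw : T (w : V) = μ • (w : V) := congrArg Subtype.val hw.apply_eq_smul
  have hw0 : (w : V) ≠ 0 := fun e => hw.2 (Subtype.ext e)
  have hμ1 : μ ≠ 1 := by
    intro e
    rw [e, one_smul] at hTw
    have h := LinearMap.mem_ker.1 w.2
    have hpw : ∀ i : ℕ, (T ^ i) (w : V) = w := fun i => by
      induction i with
      | zero => rfl
      | succ i ih => rw [pow_succ', Module.End.mul_apply, ih, hTw]
    rw [LinearMap.sum_apply] at h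
    simp only [hpw, Finset.sum_const, Finset.card_range] at h
    rw [← Nat.cast_smul_eq_nsmul K] at h
    exact (smul_eq_zero.1 h).elim hpK hw0
  have main : ∀ n : ℕ, ∀ M : Submodule K V, Module.finrank K M ≤ n → M ≠ ⊥ → (∀ a : A, ∀ v ∈ M, R a v ∈ M) →
      ∃ (χ : A → K) (v : V), v ∈ M ∧ v ≠ 0 ∧ v ∈ W R A χ := by
    intro n
    induction n with
    | zero =>
      intro M h hne _
      exact absurd (Submodule.finrank_eq_zero.1 (Nat.le_zero.1 h)) hne
    | succ n ih =>
      intro M h hne hinv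
      by_cases hsc : ∀ a : A, ∃ c : K, ∀ v ∈ M, R a v = c • v
      · choose c hc using hsc
        obtain ⟨v, hv, hv0⟩ := M.exists_mem_ne_zero_of_ne_bot hne
        exact ⟨c, v, hv, hv0, (mem_W R A).2 fun a => hc a v hv⟩
      push Not at hsc
      obtain ⟨a, ha⟩ := hsc
      haveI : Nontrivial M := Submodule.nontrivial_iff_ne_bot.2 hne
      obtain ⟨c, hc⟩ := Module.End.exists_eigenvalue ((R (a : S)).restrict (hinv a))
      obtain ⟨v, hv⟩ := hc.exists_hasEigenvector
      set M' := M ⊓ Module.End.eigenspace (R (a : S)) c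
      have hlt : M' < M := by
        refine lt_of_le_of_ne inf_le_left fun e => ?_
        obtain ⟨m, hm, hm'⟩ := ha c
        exact hm' (Module.End.mem_eigenspace_iff.1 (e.ge hm).2)
      obtain ⟨χ, u, hu', hu0, huW⟩ := ih M' (by have := Submodule.finrank_lt_finrank_of_lt hlt; omega)
        (Submodule.ne_bot_iff _ |>.2 ⟨v, Submodule.mem_inf.2 ⟨v.2, Module.End.mem_eigenspace_iff.2
          (congrArg Subtype.val hv.apply_eq_smul)⟩, fun e => hv.2 (Subtype.ext e)⟩)
        (fun b m hm => Submodule.mem_inf.2 ⟨hinv b m hm.1, Module.End.mem_eigenspace_iff.2 (by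
          rw [← Module.End.mul_apply, ← map_mul, hA a a.2 b b.2, map_mul, Module.End.mul_apply,
            Module.End.mem_eigenspace_iff.1 hm.2, map_smul])⟩)
      exact ⟨χ, u, hu'.1, hu0, huW⟩
  obtain ⟨χ, v, hv, hv0, hvW⟩ := main _ (Module.End.eigenspace T μ) le_rfl
    (Submodule.ne_bot_iff _ |>.2 ⟨w, Module.End.mem_eigenspace_iff.2 hTw, hw0⟩)
    (fun b m hm => Module.End.mem_eigenspace_iff.2 (by
      rw [← Module.End.mul_apply, ← map_mul, hA a₀ a₀.2 b b.2, map_mul, Module.End.mul_apply,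
        Module.End.mem_eigenspace_iff.1 hm, map_smul]))
  refine ⟨χ, v, hv0, hvW, fun e => hμ1 ?_⟩
  have h1 := (mem_W R A).1 hvW a₀
  have h2 : R (a₀ : S) v = μ • v := Module.End.mem_eigenspace_iff.1 hv
  rw [h2, e] at h1
  exact smul_left_injective K hv0 h1

theorem weight_mul {χ : A → K} {v : V} (hv : v ∈ W R A χ) (hv0 : v ≠ 0) (a b : A) : χ (a * b) = χ a * χ b := by
  have h := (mem_W R A).1 hv (a * b)
  rw [Subgroup.coe_mul, map_mul, Module.End.mul_apply, (mem_W R A).1 hv b, map_smul, (mem_W R A).1 hv a,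
    smul_smul] at h
  rw [smul_left_injective K hv0 h.symm, mul_comm]

/-- Two orbits give two fixed vectors, and the extra operator cannot keep a plane of them. -/
theorem main [Finite S] [CharP K 2] [FiniteDimensional K V] [IsAlgClosed K]
    (hA : ∀ a ∈ A, ∀ b ∈ A, a * b = b * a) {p : ℕ} (hpK : (p : K) ≠ 0) {a₀ : A} (hp : (a₀ : S) ^ p = 1)
    (ha₀ : R (a₀ : S) ≠ 1) {P : Subgroup S} (hP : IsPGroup 2 P) {q : ℕ} [Fact q.Prime] (hq2 : q ≠ 2) {x : S}
    (hxq : x ^ q = 1)
    (hfree : ∀ χ : A → K, (∀ a b : A, χ (a * b) = χ a * χ b) → χ 1 = 1 → act A x χ = χ → ∀ a, χ a = 1) :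
    2 ≤ Module.finrank K (Fix R P) ∧
      (Module.finrank K (Fix R P) ≤ 2 → ¬ ∀ v ∈ Fix R P, R x v ∈ Fix R P) := by
  classical
  haveI : Fact (Nat.Prime 2) := ⟨Nat.prime_two⟩
  obtain ⟨χ, v, hv0, hv, hχ⟩ := exists_weight hA hpK hp ha₀
  set Ω : Set (A → K) := {ψ | ((∀ a b : A, ψ (a * b) = ψ a * ψ b) ∧ ψ 1 = 1) ∧ (∃ a, ψ a ≠ 1)} with hΩ
  have hactΩ : ∀ s ψ, ψ ∈ Ω → act A s ψ ∈ Ω := by
    intro s ψ hψ
    refine ⟨⟨fun a b => ?_, ?_⟩, ?_⟩
    · rw [act, act, act, ← hψ.1.1]
      exact congrArg ψ (Subtype.ext (by simp; group))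
    · rw [act]
      convert hψ.1.2 using 2
      exact Subtype.ext (by simp)
    · obtain ⟨a, ha⟩ := hψ.2
      refine ⟨⟨s * a * s⁻¹, Subgroup.Normal.conj_mem inferInstance _ a.2 s⟩, ?_⟩
      rw [act]
      convert ha using 2
      exact Subtype.ext (by simp [mul_assoc])
  have hχΩ : χ ∈ Ω := ⟨⟨weight_mul hv hv0, smul_left_injective K hv0 (show χ 1 • v = (1 : K) • v by
    rw [← (mem_W R A).1 hv 1, Subgroup.coe_one, map_one, Module.End.one_apply, one_smul])⟩, a₀, hχ⟩
  have hO : ∀ ψ ∈ Ω, act A x '' orb A P ψ ≠ orb A P ψ := by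
    intro ψ hψ he
    haveI := (orb_finite A P ψ).fintype
    let σ : Equiv.Perm (orb A P ψ) := Equiv.ofBijective
      (fun φ => ⟨act A x φ, he.le ⟨φ, φ.2, rfl⟩⟩) (Finite.injective_iff_bijective.1 fun φ φ' e => by
        have e' := congrArg (fun η => act A x⁻¹ η) (congrArg Subtype.val e)
        simp only [← act_mul, inv_mul_cancel, act_one] at e'
        exact Subtype.ext e')
    have hpow : ∀ (n : ℕ) φ, (((σ ^ n) φ : orb A P ψ) : A → K) = act A (x ^ n) φ := by
      intro n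
      induction n with
      | zero => intro φ; rw [pow_zero, pow_zero, act_one]; rfl
      | succ n ih => intro φ; rw [pow_succ', Equiv.Perm.mul_apply, pow_succ', act_mul, ← ih]; rfl
    have hσ : σ ^ q ^ 1 = 1 := by
      rw [pow_one]
      exact Equiv.ext fun φ => Subtype.ext (by rw [hpow, hxq, act_one]; rfl)
    obtain ⟨n, hn⟩ := IsPGroup.iff_card.1 hP
    obtain ⟨i, -, hi⟩ := (Nat.dvd_prime_pow Nat.prime_two).1 (hn ▸ orb_card A P ψ)
    obtain ⟨φ, hφ⟩ := Equiv.Perm.exists_fixed_point_of_prime (p := q) (fun h => by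
      rw [← Nat.card_eq_fintype_card, Nat.card_coe_set_eq, hi] at h
      exact hq2 ((Nat.prime_dvd_prime_iff_eq Fact.out Nat.prime_two).1
        ((Fact.out : q.Prime).dvd_of_dvd_pow h))) hσ
    obtain ⟨s, hs, e⟩ := φ.2
    have hφΩ : (φ : A → K) ∈ Ω := e ▸ hactΩ s ψ hψ
    obtain ⟨a, ha⟩ := hφΩ.2
    exact ha (hfree _ hφΩ.1.1 hφΩ.1.2 (congrArg Subtype.val hφ) a)
  obtain ⟨ψ, hψx, hψn⟩ : ∃ ψ ∈ act A x '' orb A P χ, ψ ∉ orb A P χ := by
    refine Set.not_subset.1 fun h => hO χ hχΩ (Set.eq_of_subset_of_ncard_le h ?_ (orb_finite A P χ))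
    rw [Set.ncard_image_of_injective]
    intro φ φ' e
    simpa [← act_mul, act_one] using congrArg (act A x⁻¹) e
  obtain ⟨η, ⟨s, hs, rfl⟩, rfl⟩ := hψx
  set χ' := act A x (act A s χ) with hχ'
  have hχ'Ω : χ' ∈ Ω := hactΩ x _ (hactΩ s χ hχΩ)
  have hdisj : Disjoint (orb A P χ) (orb A P χ') := Set.disjoint_left.2 fun φ h1 h2 => by
    refine hψn ?_
    rw [← orb_eq A P h1, orb_eq A P h2]
    exact self_mem_orb A P χ'
  have hv' : R x (R s v) ∈ W R A χ' := map_mem_W R A x (map_mem_W R A s hv)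
  have hv'0 : R x (R s v) ≠ 0 := fun e => hv0 (by
    have h := congrArg (R (s⁻¹ * x⁻¹)) e
    rw [map_zero, ← Module.End.mul_apply, ← map_mul, ← Module.End.mul_apply, ← map_mul,
      show s⁻¹ * x⁻¹ * x * s = 1 by group, map_one, Module.End.one_apply] at h
    exact h)
  obtain ⟨w₁, hw₁U, hw₁0, hw₁F⟩ := exists_fixed hP hv hv0
  obtain ⟨w₂, hw₂U, hw₂0, hw₂F⟩ := exists_fixed hP hv' hv'0
  have hUd := U_disjoint R A hA hdisj
  have hli : LinearIndependent K ![w₁, w₂] := by
    refine LinearIndependent.pair_iff.2 fun a b e => ?_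
    have h1 : a • w₁ = 0 := by
      refine Submodule.mem_bot K |>.1 (hUd.le_bot ⟨Submodule.smul_mem _ a hw₁U, ?_⟩)
      rw [eq_neg_of_add_eq_zero_left e]
      exact neg_mem (Submodule.smul_mem _ b hw₂U)
    rw [h1, zero_add] at e
    exact ⟨(smul_eq_zero.1 h1).resolve_right hw₁0, (smul_eq_zero.1 e).resolve_right hw₂0⟩
  set L := Submodule.span K (Set.range ![w₁, w₂]) with hL
  have hLF : L ≤ Fix R P := by
    rw [hL, Submodule.span_le]
    rintro _ ⟨i, rfl⟩
    fin_cases i
    exacts [hw₁F, hw₂F]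
  have hL2 : Module.finrank K L = 2 := by rw [hL, finrank_span_eq_card hli, Fintype.card_fin]
  refine ⟨hL2 ▸ Submodule.finrank_mono hLF, fun h2 hinv => ?_⟩
  have hLeq : L = Fix R P := Submodule.eq_of_le_of_finrank_le hLF (by rw [hL2]; exact h2)
  have split : ∀ w ∈ Fix R P, w ≠ 0 → ∀ J : Set (A → K), w ∈ U R A J →
      orb A P χ ⊆ J ∨ orb A P χ' ⊆ J := by
    intro w hw hw0 J hJ
    rw [← hLeq, hL, Matrix.range_cons, Matrix.range_cons, Matrix.range_empty, Set.union_empty,
      Set.singleton_union, Submodule.mem_span_pair] at hw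
    obtain ⟨a, b, rfl⟩ := hw
    have hU' : a • w₁ + b • w₂ ∈ U R A (orb A P χ ∪ orb A P χ') := add_mem
      (Submodule.smul_mem _ a (U_mono R A Set.subset_union_left hw₁U))
      (Submodule.smul_mem _ b (U_mono R A Set.subset_union_right hw₂U))
    have hJ' := U_inf R A hA _ _ (Submodule.mem_inf.2 ⟨hU', hJ⟩)
    rw [U, Set.union_inter_distrib_right, iSup_union] at hJ'
    obtain ⟨u₁, hu₁, u₂, hu₂, e⟩ := Submodule.mem_sup.1 hJ'
    have hu₁O : u₁ ∈ U R A (orb A P χ) := U_mono R A Set.inter_subset_left hu₁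
    have hu₂O : u₂ ∈ U R A (orb A P χ') := U_mono R A Set.inter_subset_left hu₂
    have he : u₁ = a • w₁ := by
      refine sub_eq_zero.1 (Submodule.mem_bot K |>.1 (hUd.le_bot ⟨sub_mem hu₁O (Submodule.smul_mem _ a hw₁U), ?_⟩))
      rw [show u₁ - a • w₁ = b • w₂ - u₂ by
        rw [sub_eq_sub_iff_add_eq_add]; rw [e, add_comm]]
      exact sub_mem (Submodule.smul_mem _ b hw₂U) hu₂O
    have he2 : u₂ = b • w₂ := by rwa [he, add_right_inj] at e
    by_cases ha : a = 0
    · refine Or.inr (orb_subset hA hu₂O (fun h => hw0 ?_) (he2 ▸ Submodule.smul_mem _ b hw₂F)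
        (U_mono R A Set.inter_subset_right hu₂))
      rw [ha, zero_smul, zero_add, ← he2, h]
    · exact Or.inl (orb_subset hA hu₁O (he ▸ smul_ne_zero ha hw₁0) (he ▸ Submodule.smul_mem _ a hw₁F)
        (U_mono R A Set.inter_subset_right hu₁))
  have hinj : Function.Injective (act A x : (A → K) → (A → K)) := fun φ φ' e => by
    simpa [← act_mul, act_one] using congrArg (act A x⁻¹) e
  have hne0 : ∀ w : V, w ≠ 0 → R x w ≠ 0 := fun w hw e => hw (by
    have h := congrArg (R x⁻¹) e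
    rwa [map_zero, ← Module.End.mul_apply, ← map_mul, inv_mul_cancel, map_one, Module.End.one_apply] at h)
  have hnot : ∀ ψ ∈ Ω, ¬ orb A P ψ ⊆ act A x '' orb A P ψ := fun ψ hψ h => hO ψ hψ
    (Set.eq_of_subset_of_ncard_le h (Set.ncard_image_of_injective _ hinj).le
      ((orb_finite A P ψ).image _)).symm
  have h12 : orb A P χ' ⊆ act A x '' orb A P χ :=
    (split _ (hinv w₁ hw₁F) (hne0 _ hw₁0) _ (map_mem_U R A x hw₁U)).resolve_left (hnot χ hχΩ)
  have h21 : orb A P χ ⊆ act A x '' orb A P χ' :=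
    (split _ (hinv w₂ hw₂F) (hne0 _ hw₂0) _ (map_mem_U R A x hw₂U)).resolve_right (hnot χ' hχ'Ω)
  have hc : (orb A P χ).ncard = (orb A P χ').ncard := le_antisymm
    ((Set.ncard_le_ncard h21 ((orb_finite A P χ').image _)).trans (Set.ncard_image_of_injective _ hinj).le)
    ((Set.ncard_le_ncard h12 ((orb_finite A P χ).image _)).trans (Set.ncard_image_of_injective _ hinj).le)
  have e12 : act A x '' orb A P χ = orb A P χ' :=
    (Set.eq_of_subset_of_ncard_le h12 ((Set.ncard_image_of_injective _ hinj).trans hc).le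
      ((orb_finite A P χ).image _)).symm
  have e21 : act A x '' orb A P χ' = orb A P χ :=
    (Set.eq_of_subset_of_ncard_le h21 ((Set.ncard_image_of_injective _ hinj).trans hc.symm).le
      ((orb_finite A P χ').image _)).symm
  have h2x : ∀ n : ℕ, act A (x ^ (2 * n)) '' orb A P χ = orb A P χ := by
    intro n
    induction n with
    | zero => rw [mul_zero, pow_zero]; simp [act_one]
    | succ n ih =>
      rw [show 2 * (n + 1) = 2 + 2 * n by ring, pow_add,
        show act A (x ^ 2 * x ^ (2 * n)) = act A x ∘ act A x ∘ act A (K := K) (x ^ (2 * n)) from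
          funext fun φ => by simp only [Function.comp_apply, ← act_mul, ← mul_assoc, pow_two],
        Set.image_comp, Set.image_comp, ih, e12, e21]
  obtain ⟨k, hk⟩ := (Fact.out : q.Prime).odd_of_ne_two hq2
  have h := h2x (k + 1)
  rw [show 2 * (k + 1) = q + 1 by omega, pow_succ, hxq, one_mul] at h
  exact hO χ hχΩ h

end Cfsg.Agent.WeightFixed
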